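import Groth.Agent.H9.KrullAkizuki
import Mathlib.RingTheory.DedekindDomain.IntegralClosure
import Mathlib.RingTheory.KrullDimension.Basic
import Mathlib.RingTheory.Ideal.GoingUp

set_option autoImplicit false
universe u

namespace Groth.Agent.H38

/-- An integral extension of domains of a domain of dimension at most one has dimension at most
one. -/
theorem krullDimLE_one_of_isIntegral (R S : Type*) [CommRing R] [IsDomain R] [CommRing S]
    [IsDomain S] [Algebra R S] [Algebra.IsIntegral R S] [Ring.KrullDimLE 1 R] :
    Ring.KrullDimLE 1 S := by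
  rw [Ring.krullDimLE_one_iff_of_noZeroDivisors]
  intro P hP hPprime
  have hp : P.comap (algebraMap R S) ≠ ⊥ := fun h => hP (Ideal.eq_bot_of_comap_eq_bot h)
  have hpmax : (P.comap (algebraMap R S)).IsMaximal :=
    Ideal.IsPrime.isMaximal_of_ne_bot (Ideal.comap_isPrime _ _) hp
  exact Ideal.isMaximal_of_isIntegral_of_isMaximal_comap P hpmax

/-- Clearing denominators in a span over the fraction field. -/
theorem exists_smul_mem_span (R K L : Type*) [CommRing R] [IsDomain R] [Field K] [Algebra R K]
    [IsFractionRing R K] [Field L] [Algebra K L] [Algebra R L] [IsScalarTower R K L]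
    (t : Set L) {x : L} (hx : x ∈ Submodule.span K t) :
    ∃ d : R, d ≠ 0 ∧ d • x ∈ Submodule.span R t := by
  induction hx using Submodule.span_induction with
  | mem x hx => exact ⟨1, one_ne_zero, by rw [one_smul]; exact Submodule.subset_span hx⟩
  | zero => exact ⟨1, one_ne_zero, by rw [smul_zero]; exact Submodule.zero_mem _⟩
  | add x y _ _ hx hy =>
    obtain ⟨d, hd, hdx⟩ := hx
    obtain ⟨e, he, hey⟩ := hy
    refine ⟨d * e, mul_ne_zero hd he, ?_⟩
    rw [smul_add]
    refine Submodule.add_mem _ ?_ ?_
    · rw [mul_comm, mul_smul]; exact Submodule.smul_mem _ _ hdx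
    · rw [mul_smul]; exact Submodule.smul_mem _ _ hey
  | smul k x _ hx =>
    obtain ⟨d, hd, hdx⟩ := hx
    obtain ⟨r, s, hs, rfl⟩ := IsFractionRing.div_surjective (A := R) k
    have hs0 : s ≠ 0 := nonZeroDivisors.ne_zero hs
    have hsK : algebraMap R K s ≠ 0 := by
      simpa using (IsFractionRing.injective R K).ne hs0
    refine ⟨s * d, mul_ne_zero hs0 hd, ?_⟩
    have : (s * d) • ((algebraMap R K r / algebraMap R K s) • x) = r • (d • x) := by
      rw [← algebraMap_smul K (s * d), ← algebraMap_smul K r, ← algebraMap_smul K d, smul_smul,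
        smul_smul, map_mul]
      congr 1
      field_simp
    rw [this]
    exact Submodule.smul_mem _ _ hdx

open Groth.Agent.H9

/-- The key step: a subalgebra `AL` of a finite extension `L` of `K = Frac R` contains a
finite integral `R`-subalgebra `R'` such that every element of `AL` has a nonzero `R`-multiple
in `R'`. -/
theorem exists_finite_integral_subalgebra (R K L : Type u) [CommRing R] [IsDomain R]
    [Field K] [Field L] [Algebra R K] [IsFractionRing R K] [Algebra K L] [FiniteDimensional K L]
    [Algebra R L] [IsScalarTower R K L] (AL : Subalgebra R L) :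
    ∃ R' : Subalgebra R L, R' ≤ AL ∧ R'.toSubmodule.FG ∧ Algebra.IsIntegral R R' ∧
      ∀ a ∈ AL, ∃ d : R, d ≠ 0 ∧ d • a ∈ R' := by
  classical
  have hfg : (Submodule.span K (AL : Set L)).FG := IsNoetherian.noetherian _
  obtain ⟨t, htS, hspan⟩ := (Submodule.fg_span_iff_fg_span_finset_subset (AL : Set L)).mp hfg
  obtain ⟨y, hy0, hy⟩ := exists_integral_multiples R K t
  let t' : Finset L := t.image (fun x => y • x)
  have ht'int : ∀ x ∈ (t' : Set L), IsIntegral R x := by
    intro x hx
    simp only [t', Finset.coe_image, Set.mem_image] at hx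
    obtain ⟨z, hz, rfl⟩ := hx
    exact hy z hz
  have ht'AL : (t' : Set L) ⊆ AL := by
    intro x hx
    simp only [t', Finset.coe_image, Set.mem_image] at hx
    obtain ⟨z, hz, rfl⟩ := hx
    exact AL.smul_mem (htS hz) y
  refine ⟨Algebra.adjoin R (t' : Set L), Algebra.adjoin_le ht'AL,
    fg_adjoin_of_finite t'.finite_toSet ht'int, ?_, ?_⟩
  · rw [← le_integralClosure_iff_isIntegral]
    exact Algebra.adjoin_le ht'int
  · intro a ha
    have ha' : a ∈ Submodule.span K (t : Set L) := hspan ▸ Submodule.subset_span ha
    obtain ⟨d, hd, hda⟩ := exists_smul_mem_span R K L (t : Set L) ha'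
    refine ⟨y * d, mul_ne_zero hy0 hd, ?_⟩
    rw [mul_smul]
    have h1 : y • d • a ∈ Submodule.span R (t' : Set L) := by
      have h2 := Submodule.mem_map_of_mem (f := LinearMap.lsmul R L y) hda
      rw [Submodule.map_span] at h2
      rw [smul_comm]
      simpa [t'] using h2
    exact Algebra.span_le_adjoin R _ h1


/-- A model of a subalgebra of a finite extension as a ring between a finite integral
subalgebra and its fraction field. -/
theorem exists_KA_model (R K L : Type u) [CommRing R] [IsDomain R]
    [IsNoetherianRing R] [Ring.KrullDimLE 1 R]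
    [Field K] [Field L] [Algebra R K] [IsFractionRing R K] [Algebra K L] [FiniteDimensional K L]
    [Algebra R L] [IsScalarTower R K L] (AL : Subalgebra R L) :
    ∃ (R' : Subalgebra R L) (hR'AL : R' ≤ AL) (_ : Module.Finite R R') (_ : IsNoetherianRing R')
      (_ : Ring.KrullDimLE 1 R') (T : Subalgebra R' (FractionRing R')) (f : T →+* AL),
      Function.Bijective f ∧ ∀ r : R', f (algebraMap R' T r) = Subalgebra.inclusion hR'AL r := by
  obtain ⟨R', hR'AL, hfg, hint, hden⟩ := exists_finite_integral_subalgebra R K L AL
  have hRL : Function.Injective (algebraMap R L) := by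
    rw [IsScalarTower.algebraMap_eq R K L]
    exact (algebraMap K L).injective.comp (IsFractionRing.injective R K)
  have hfin : Module.Finite R R' := (Module.Finite.iff_fg (N := R'.toSubmodule)).mpr hfg
  have hnoeth : IsNoetherianRing R' :=
    isNoetherian_of_tower R (isNoetherian_of_isNoetherianRing_of_finite R R')
  have hdim : Ring.KrullDimLE 1 R' := krullDimLE_one_of_isIntegral R R'
  have hinj : Function.Injective (algebraMap R' L) := Subtype.val_injective
  let φ : FractionRing R' →+* L := IsFractionRing.lift hinj
  have hφ : ∀ r : R', φ (algebraMap R' (FractionRing R') r) = (r : L) := fun r =>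
    IsFractionRing.lift_algebraMap hinj r
  let T : Subalgebra R' (FractionRing R') :=
    { (AL.toSubring.comap φ) with
      algebraMap_mem' := fun r => by
        change φ (algebraMap R' (FractionRing R') r) ∈ AL
        rw [hφ]
        exact hR'AL r.2 }
  let f : T →+* AL := RingHom.codRestrict (φ.comp (T.val : T →+* FractionRing R')) AL
    (fun x => x.2)
  refine ⟨R', hR'AL, hfin, hnoeth, hdim, T, f, ⟨?_, ?_⟩, ?_⟩
  · intro x y hxy
    apply Subtype.ext
    apply φ.injective
    exact congrArg Subtype.val hxy
  · rintro ⟨a, ha⟩
    obtain ⟨d, hd, hda⟩ := hden a ha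
    have hdL : algebraMap R L d ≠ 0 := by
      simpa using hRL.ne hd
    let x : FractionRing R' := algebraMap R' (FractionRing R') ⟨d • a, hda⟩ /
      algebraMap R' (FractionRing R') (algebraMap R R' d)
    have hx : φ x = a := by
      simp only [x, map_div₀, hφ]
      change d • a / algebraMap R L d = a
      rw [Algebra.smul_def]
      field_simp
    have hxT : x ∈ T := by
      change φ x ∈ AL
      rw [hx]; exact ha
    exact ⟨⟨x, hxT⟩, Subtype.ext hx⟩
  · intro r
    apply Subtype.ext
    exact hφ r

/-- **Krull–Akizuki** for finite extensions: a ring between a one-dimensional Noetherian domain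
`R` and a finite extension `L` of its fraction field is Noetherian. -/
theorem isNoetherianRing_subalgebra_of_finite_ext (R K L : Type u) [CommRing R] [IsDomain R]
    [IsNoetherianRing R] [Ring.KrullDimLE 1 R]
    [Field K] [Field L] [Algebra R K] [IsFractionRing R K] [Algebra K L] [FiniteDimensional K L]
    [Algebra R L] [IsScalarTower R K L] (AL : Subalgebra R L) : IsNoetherianRing AL := by
  obtain ⟨R', hR'AL, hfin, hnoeth, hdim, T, f, hf, -⟩ := exists_KA_model R K L AL
  have hT : IsNoetherianRing T := KA.isNoetherianRing T
  exact isNoetherianRing_of_surjective T AL f hf.2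

/-- The quotient of a ring between `R` and a finite extension of `Frac R` by a nonzero element
of `R` is a finite `R`-module. -/
theorem finite_quotient_of_finite_ext (R K L : Type u) [CommRing R] [IsDomain R]
    [IsNoetherianRing R] [Ring.KrullDimLE 1 R]
    [Field K] [Field L] [Algebra R K] [IsFractionRing R K] [Algebra K L] [FiniteDimensional K L]
    [Algebra R L] [IsScalarTower R K L] (AL : Subalgebra R L) (a : R) (ha : a ≠ 0) :
    Module.Finite R (AL ⧸ Ideal.span {algebraMap R AL a}) := by
  obtain ⟨R', hR'AL, hfin, hnoeth, hdim, T, f, hf, hfR'⟩ := exists_KA_model R K L AL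
  have hRL : Function.Injective (algebraMap R L) := by
    rw [IsScalarTower.algebraMap_eq R K L]
    exact (algebraMap K L).injective.comp (IsFractionRing.injective R K)
  have ha' : algebraMap R R' a ≠ 0 := by
    intro h
    apply ha
    apply hRL
    rw [map_zero]
    exact congrArg Subtype.val h
  have hTfin := KA.finite_quotient T (algebraMap R R' a) ha'
  let _ : Algebra R' AL := (Subalgebra.inclusion hR'AL).toRingHom.toAlgebra
  have : IsScalarTower R R' AL := IsScalarTower.of_algebraMap_eq fun r => rfl
  let fa : T →ₐ[R'] AL := { f with commutes' := hfR' }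
  let I' : Ideal T := Ideal.span {algebraMap R' T (algebraMap R R' a)}
  let I : Ideal AL := Ideal.span {algebraMap R AL a}
  have hII' : I' ≤ I.comap fa := by
    rw [Ideal.span_le, Set.singleton_subset_iff]
    change fa (algebraMap R' T (algebraMap R R' a)) ∈ I
    rw [fa.commutes]
    exact Ideal.subset_span rfl
  let g : T ⧸ I' →ₐ[R'] AL ⧸ I := Ideal.quotientMapₐ I fa hII'
  have hg : Function.Surjective g :=
    Ideal.quotientMap_surjective (f := (fa : T →+* AL)) (H := hII') hf.2
  have h1 : Module.Finite R' (AL ⧸ I) := Module.Finite.of_surjective g.toLinearMap hg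
  exact Module.Finite.trans R' (AL ⧸ I)


end Groth.Agent.H38
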