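import Mathlib
import Groth.Prelude.Def_Found

set_option autoImplicit false
universe u

namespace Groth.Agent.H38

/-- For an N-2 domain `R` with fraction field `F`, the integral closure of `R` in any finite
extension `K` of `F` is finite. -/
theorem finite_integralClosure_of_isN2_of_finite (R : Type u) [CommRing R] [IsDomain R]
    (F : Type u) [Field F] [Algebra R F] [IsFractionRing R F]
    (K : Type u) [Field K] [Algebra F K] [Algebra R K] [IsScalarTower R F K]
    [FiniteDimensional F K] (h : CAlg.IsN2 R) :
    Module.Finite R (integralClosure R K) := by
  have hinjF : Function.Injective (algebraMap R F) := IsFractionRing.injective R F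
  have hinj : Function.Injective (algebraMap R K) := by
    rw [IsScalarTower.algebraMap_eq R F K]
    exact (algebraMap F K).injective.comp hinjF
  haveI : FaithfulSMul R K := (faithfulSMul_iff_algebraMap_injective R K).mpr hinj
  haveI : FaithfulSMul R F := (faithfulSMul_iff_algebraMap_injective R F).mpr hinjF
  letI : Algebra (FractionRing R) K := FractionRing.liftAlgebra R K
  haveI : IsScalarTower R (FractionRing R) K := FractionRing.isScalarTower_liftAlgebra R K
  letI : Algebra (FractionRing R) F := FractionRing.liftAlgebra R F
  haveI : IsScalarTower R (FractionRing R) F := FractionRing.isScalarTower_liftAlgebra R F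
  haveI : IsScalarTower (FractionRing R) F K := .of_algebraMap_eq' (by
    apply IsLocalization.ringHom_ext (nonZeroDivisors R)
    ext r
    simp only [RingHom.comp_apply]
    rw [← IsScalarTower.algebraMap_apply R (FractionRing R) K,
      ← IsScalarTower.algebraMap_apply R (FractionRing R) F,
      ← IsScalarTower.algebraMap_apply R F K])
  have hsurj : Function.Surjective (algebraMap (FractionRing R) F) := by
    intro y
    obtain ⟨⟨a, s⟩, hy⟩ := IsLocalization.surj (nonZeroDivisors R) y
    have hs : algebraMap R F (s : R) ≠ 0 := by
      intro h0
      have := hinjF (h0.trans (map_zero _).symm)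
      exact nonZeroDivisors.coe_ne_zero s this
    refine ⟨algebraMap R (FractionRing R) a / algebraMap R (FractionRing R) (s : R), ?_⟩
    rw [map_div₀, ← IsScalarTower.algebraMap_apply, ← IsScalarTower.algebraMap_apply]
    rw [div_eq_iff hs]
    exact hy.symm
  haveI : Module.Finite (FractionRing R) F :=
    Module.Finite.of_surjective (Algebra.linearMap (FractionRing R) F) hsurj
  haveI : FiniteDimensional (FractionRing R) K := Module.Finite.trans F K
  exact h K inferInstance

end Groth.Agent.H38
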