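import Mathlib

/-!
# The algebraic closure of a field in a finitely generated field extension is finite
-/

set_option autoImplicit false
universe u v

open MvPolynomial

namespace Groth.Agent.H38.AlgClosureFG

open scoped IntermediateField.algebraAdjoinAdjoin in
/-- If `x` is algebraically independent over `F`, any `F`-linearly independent family of elements
algebraic over `F` is linearly independent over `F(x)`. -/
theorem linearIndependent_adjoin_of_isAlgebraic {F L : Type*} [Field F] [Field L] [Algebra F L]
    {σ : Type*} {x : σ → L} (hx : AlgebraicIndependent F x)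
    {ι : Type*} [Fintype ι] (b : ι → L) (hb : ∀ i, IsAlgebraic F (b i))
    (hli : LinearIndependent F b) :
    LinearIndependent (IntermediateField.adjoin F (Set.range x)) b := by
  classical
  rw [← LinearIndependent.iff_fractionRing (Algebra.adjoin F (Set.range x))
    (IntermediateField.adjoin F (Set.range x))]
  rw [Fintype.linearIndependent_iff]
  intro g hg
  -- polynomials representing the coefficients
  let G : ι → MvPolynomial σ F := fun i => hx.repr (g i)
  have hG : ∀ i, aeval x (G i) = (g i : L) := fun i => hx.aeval_repr (g i)
  -- the finite extension generated by the `b i`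
  let K₁ : IntermediateField F L := IntermediateField.adjoin F (Set.range b)
  haveI : Algebra.IsAlgebraic F K₁ :=
    IntermediateField.isAlgebraic_adjoin (by
      rintro _ ⟨i, rfl⟩
      exact (hb i).isIntegral)
  have hxK₁ : AlgebraicIndependent K₁ x := hx.extendScalars K₁
  let b' : ι → K₁ := fun i => ⟨b i, IntermediateField.subset_adjoin F _ ⟨i, rfl⟩⟩
  let P : MvPolynomial σ K₁ := ∑ i, C (b' i) * MvPolynomial.map (algebraMap F K₁) (G i)
  have hP : aeval x P = 0 := by
    simp only [P, map_sum, map_mul, aeval_C, MvPolynomial.aeval_map_algebraMap, hG]
    rw [← hg]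
    refine Finset.sum_congr rfl (fun i _ => ?_)
    change b i * (g i : L) = (g i : L) * b i
    ring
  have hP0 : P = 0 := hxK₁.eq_zero_of_aeval_eq_zero P hP
  have hcoef : ∀ μ : σ →₀ ℕ, ∀ i, coeff μ (G i) = 0 := by
    intro μ
    have h1 : coeff μ P = 0 := by rw [hP0]; rfl
    have h2 : ∑ i, (coeff μ (G i)) • b i = 0 := by
      have h3 := congrArg (algebraMap K₁ L) h1
      simp only [P, coeff_sum, coeff_C_mul, coeff_map, map_sum, map_mul, map_zero] at h3
      rw [← h3]
      refine Finset.sum_congr rfl (fun i _ => ?_)
      rw [Algebra.smul_def, mul_comm, ← IsScalarTower.algebraMap_apply F K₁ L]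
      rfl
    exact Fintype.linearIndependent_iff.mp hli _ h2
  intro i
  have hGi : G i = 0 := by
    ext μ
    rw [hcoef μ i]; rfl
  have : (g i : L) = 0 := by rw [← hG, hGi, map_zero]
  exact Subtype.ext this


/-- The algebraic closure of `F` in a finitely generated field extension `L` is finite over
`F`. -/
theorem finiteDimensional_algebraicClosure (F L : Type*) [Field F] [Field L] [Algebra F L]
    [Algebra.EssFiniteType F L] : FiniteDimensional F (algebraicClosure F L) := by
  classical
  -- a finite transcendence basis
  have ⟨s, hs⟩ := IntermediateField.fg_top F L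
  have : Algebra.IsAlgebraic (Algebra.adjoin F (s : Set L)) L := by
    rw [← IntermediateField.isAlgebraic_adjoin_iff_top, hs, Algebra.isAlgebraic_iff_isIntegral]
    refine Algebra.isIntegral_of_surjective IntermediateField.topEquiv.surjective
  have ⟨t, hts, ht⟩ := exists_isTranscendenceBasis_subset (R := F) (s : Set L)
  set x : t → L := ((↑) : t → L) with hxdef
  haveI : Algebra.IsAlgebraic (IntermediateField.adjoin F (Set.range x)) L :=
    ht.isAlgebraic_field
  haveI : Algebra.EssFiniteType (IntermediateField.adjoin F (Set.range x)) L :=
    Algebra.EssFiniteType.of_comp F _ L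
  haveI : Module.Finite (IntermediateField.adjoin F (Set.range x)) L :=
    Algebra.finite_of_essFiniteType_of_isAlgebraic
  -- bound the rank
  have hrank : Module.rank F (algebraicClosure F L) ≤
      (Module.finrank (IntermediateField.adjoin F (Set.range x)) L : ℕ) := by
    apply rank_le
    intro S hS
    have h1 : LinearIndependent F (fun i : S => (((i : algebraicClosure F L)) : L)) :=
      hS.map' (algebraicClosure F L).val.toLinearMap
        (LinearMap.ker_eq_bot.mpr Subtype.val_injective)
    have h2 := linearIndependent_adjoin_of_isAlgebraic ht.1
      (fun i : S => (((i : algebraicClosure F L)) : L))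
      (fun i => mem_algebraicClosure_iff.mp (i : algebraicClosure F L).2) h1
    have h3 := h2.fintype_card_le_finrank
    simpa using h3
  have hlt : Module.rank F (algebraicClosure F L) < Cardinal.aleph0 :=
    lt_of_le_of_lt hrank Cardinal.natCast_lt_aleph0
  haveI := IsNoetherian.iff_rank_lt_aleph0.mpr hlt
  infer_instance

end Groth.Agent.H38.AlgClosureFG
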