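import Mathlib
import Groth.Prelude.Def_Found
import Groth.Agent.H38.AlgClosureFG
import Groth.Agent.H38.N2FracExt

/-!
# Integral closures over Nagata rings in reduced algebras
-/

set_option autoImplicit false
universe u

namespace Groth.Agent.H38.NagataIC

open Groth.Agent.H38.AlgClosureFG

/-- For an N-2 domain `R` with fraction field `F`, the integral closure of `R` in any finitely
generated field extension `L` of `F` is finite. -/
theorem finite_integralClosure_of_isN2_of_essFiniteType (R : Type u) [CommRing R] [IsDomain R]
    (F : Type u) [Field F] [Algebra R F] [IsFractionRing R F]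
    (L : Type u) [Field L] [Algebra F L] [Algebra R L] [IsScalarTower R F L]
    [Algebra.EssFiniteType F L] (h : CAlg.IsN2 R) :
    Module.Finite R (integralClosure R L) := by
  haveI : FiniteDimensional F (algebraicClosure F L) := finiteDimensional_algebraicClosure F L
  haveI : IsScalarTower R (algebraicClosure F L) L := IsScalarTower.of_algebraMap_eq (fun _ => rfl)
  have h1 : Module.Finite R (integralClosure R (algebraicClosure F L)) :=
    Groth.Agent.H38.finite_integralClosure_of_isN2_of_finite R F (algebraicClosure F L) h
  let l : integralClosure R (algebraicClosure F L) →ₗ[R] integralClosure R L :=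
    { toFun := fun z => ⟨((z : algebraicClosure F L) : L),
        z.2.map (IsScalarTower.toAlgHom R (algebraicClosure F L) L)⟩
      map_add' := fun _ _ => rfl
      map_smul' := fun _ _ => rfl }
  have hl : Function.Surjective l := by
    rintro ⟨y, hy⟩
    have hyF : IsIntegral F y := hy.tower_top
    have hyK : y ∈ algebraicClosure F L := mem_algebraicClosure_iff'.mpr hyF
    have hy' : IsIntegral R (⟨y, hyK⟩ : algebraicClosure F L) :=
      (isIntegral_algHom_iff (IsScalarTower.toAlgHom R (algebraicClosure F L) L)
        (algebraMap (algebraicClosure F L) L).injective).mp hy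
    exact ⟨⟨⟨y, hyK⟩, hy'⟩, rfl⟩
  exact Module.Finite.of_surjective l hl

/-- The integral closure does not change along a surjection of base rings. -/
theorem finite_integralClosure_of_surjective {A A' L : Type*} [CommRing A] [CommRing A']
    [Algebra A A'] (hsurj : Function.Surjective (algebraMap A A')) [CommRing L] [Algebra A' L]
    [Algebra A L] [IsScalarTower A A' L] (h : Module.Finite A' (integralClosure A' L)) :
    Module.Finite A (integralClosure A L) := by
  haveI : Module.Finite A A' := Module.Finite.of_surjective (Algebra.linearMap A A') hsurj
  haveI : Algebra.IsIntegral A A' := Algebra.isIntegral_of_surjective hsurj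
  haveI : Module.Finite A (integralClosure A' L) := Module.Finite.trans A' _
  let l : integralClosure A' L →ₗ[A] integralClosure A L :=
    { toFun := fun z => ⟨(z : L), isIntegral_trans _ z.2⟩
      map_add' := fun _ _ => rfl
      map_smul' := fun _ _ => rfl }
  have hl : Function.Surjective l := by
    rintro ⟨y, hy⟩
    exact ⟨⟨y, hy.tower_top⟩, rfl⟩
  exact Module.Finite.of_surjective l hl


/-- Let `A` be a Noetherian ring and `B` a reduced `A`-algebra with finitely many minimal
primes. If for each minimal prime `q` there is a field `L` and a ring map `ψ : B → L` with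
kernel inside `q` such that the integral closure of `A` in `L` is finite, then the integral
closure of `A` in `B` is finite. -/
theorem finite_integralClosure_of_minimalPrimes {A B : Type u} [CommRing A] [IsNoetherianRing A]
    [CommRing B] [IsReduced B] [Algebra A B] (hfin : (minimalPrimes B).Finite)
    (h : ∀ q ∈ minimalPrimes B, ∃ (L : Type u) (_ : Field L) (ψ : B →+* L),
      RingHom.ker ψ ≤ q ∧
        letI := (ψ.comp (algebraMap A B)).toAlgebra
        Module.Finite A (integralClosure A L)) :
    Module.Finite A (integralClosure A B) := by
  classical
  haveI : Finite {q // q ∈ minimalPrimes B} := hfin.to_subtype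
  have h' : ∀ q : {q // q ∈ minimalPrimes B}, ∃ (L : Type u) (_ : Field L) (ψ : B →+* L),
      RingHom.ker ψ ≤ q.1 ∧
        letI := (ψ.comp (algebraMap A B)).toAlgebra
        Module.Finite A (integralClosure A L) := fun q => h q.1 q.2
  choose L instF ψ hker hfinL using h'
  letI algL : ∀ q, Algebra A (L q) := fun q => ((ψ q).comp (algebraMap A B)).toAlgebra
  haveI : ∀ q, Module.Finite A (integralClosure A (L q)) := hfinL
  let ψa : ∀ q, B →ₐ[A] L q := fun q => { ψ q with commutes' := fun _ => rfl }
  let l : integralClosure A B →ₗ[A] (∀ q, integralClosure A (L q)) :=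
    { toFun := fun b q => ⟨ψ q (b : B), b.2.map (ψa q)⟩
      map_add' := fun b b' => by
        funext q
        apply Subtype.ext
        exact map_add (ψ q) _ _
      map_smul' := fun a b => by
        funext q
        apply Subtype.ext
        exact map_smul (ψa q) a (b : B) }
  have hinj : Function.Injective l := by
    intro b b' hbb'
    have h1 : ∀ q : {q // q ∈ minimalPrimes B}, (b : B) - (b' : B) ∈ q.1 := by
      intro q
      apply hker q
      rw [RingHom.mem_ker, map_sub, sub_eq_zero]
      exact congrArg Subtype.val (congrFun hbb' q)
    have h2 : (b : B) - (b' : B) ∈ sInf (minimalPrimes B) := by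
      rw [Ideal.mem_sInf]
      intro q hq
      exact h1 ⟨q, hq⟩
    have h3 : sInf (minimalPrimes B) = ⊥ := by
      have := Ideal.sInf_minimalPrimes (I := (⊥ : Ideal B))
      rw [show (⊥ : Ideal B).minimalPrimes = minimalPrimes B from rfl] at this
      rw [this]
      exact nilradical_eq_zero B
    rw [h3, Ideal.mem_bot, sub_eq_zero] at h2
    exact Subtype.ext h2
  exact Module.Finite.of_injective l hinj

end Groth.Agent.H38.NagataIC
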