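import Mathlib.FieldTheory.Galois.Basic
import Mathlib.FieldTheory.PurelyInseparable.PerfectClosure
import Mathlib.FieldTheory.Normal.Closure
import Mathlib.RingTheory.DedekindDomain.IntegralClosure

set_option autoImplicit false
universe u

namespace Groth.Agent.H38

open IntermediateField

/-- A finite normal extension is separable over the fixed field of its automorphism group, which
is purely inseparable over the base. -/
theorem exists_pinsep_sep (K N : Type*) [Field K] [Field N] [Algebra K N]
    [FiniteDimensional K N] [Normal K N] :
    ∃ P : IntermediateField K N, IsPurelyInseparable K P ∧ Algebra.IsSeparable P N := by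
  classical
  let P : IntermediateField K N := fixedField (⊤ : Subgroup Gal(N/K))
  have hgal : IsGalois P N := IsGalois.of_fixed_field N (⊤ : Subgroup Gal(N/K))
  refine ⟨P, ?_, inferInstance⟩
  rw [← le_perfectClosure_iff]
  intro x hx
  rw [mem_perfectClosure_iff_natSepDegree_eq_one]
  have hsplit : ((minpoly K x).map (algebraMap K N)).Splits := Normal.splits inferInstance x
  rw [Polynomial.natSepDegree_eq_of_splits _ hsplit]
  have halg : IsAlgebraic K x := Algebra.IsAlgebraic.isAlgebraic x
  have hroots : ((minpoly K x).aroots N).toFinset = {x} := by
    ext r
    rw [Multiset.mem_toFinset, Polynomial.mem_aroots, Finset.mem_singleton]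
    constructor
    · rintro ⟨_, hr⟩
      obtain ⟨σ, hσ⟩ := minpoly.exists_algEquiv_of_root' halg hr
      have hfix : σ x = x := (mem_fixedField_iff (⊤ : Subgroup Gal(N/K)) x).mp hx σ
        (Subgroup.mem_top _)
      rw [← hσ, hfix]
    · rintro rfl
      exact ⟨minpoly.ne_zero halg.isIntegral, minpoly.aeval K r⟩
  rw [hroots, Finset.card_singleton]

end Groth.Agent.H38

namespace Groth.Agent.H38

/-- Finiteness of the integral closure passes up a finite separable extension. -/
theorem finite_integralClosure_of_separable_over
    (A : Type u) [CommRing A] [IsDomain A] [IsNoetherianRing A]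
    (K P N : Type u) [Field K] [Field P] [Field N]
    [Algebra A K] [IsFractionRing A K]
    [Algebra K P] [Algebra A P] [IsScalarTower A K P] [FiniteDimensional K P]
    [Algebra P N] [Algebra A N] [IsScalarTower A P N] [FiniteDimensional P N]
    [Algebra.IsSeparable P N]
    (hfin : Module.Finite A (integralClosure A P)) :
    Module.Finite A (integralClosure A N) := by
  have hD1 : IsNoetherianRing (integralClosure A P) := IsNoetherianRing.of_finite A _
  have hD2 : IsIntegrallyClosed (integralClosure A P) :=
    integralClosure.isIntegrallyClosedOfFiniteExtension K
  have hD3 : IsFractionRing (integralClosure A P) P :=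
    integralClosure.isFractionRing_of_finite_extension K P
  have hC : Module.Finite (integralClosure A P) (integralClosure (integralClosure A P) N) :=
    IsIntegralClosure.finite (integralClosure A P) P N _
  have hC' : Module.Finite A (integralClosure (integralClosure A P) N) :=
    Module.Finite.trans (integralClosure A P) _
  let ι : integralClosure A N →ₗ[A] integralClosure (integralClosure A P) N :=
    { toFun := fun x => ⟨x.1, x.2.tower_top⟩
      map_add' := fun x y => rfl
      map_smul' := fun a x => rfl }
  have hι : Function.Injective ι := fun x y hxy => Subtype.ext
    (congrArg (fun z : integralClosure (integralClosure A P) N => (z : N)) hxy)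
  exact Module.Finite.of_injective ι hι

end Groth.Agent.H38
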