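import Mathlib
import Groth.Prelude.Def_Found

/-!
# Finiteness of integral closures via a finite normal model

Abstract lemmas used to show that polynomial rings over N-1 / N-2 domains are N-1 / N-2.
-/

set_option autoImplicit false
universe u

open Polynomial

namespace Groth.Agent.H38.PolyN2

/-- Let `A` be a Noetherian ring, `L` a field over `A`, embedded (via `ι`) in a field `Ω`.
If `B` is an integrally closed domain, finite over `A` via `α`, embedded in `Ω` via `β`
compatibly, and every element of `ι L` is a fraction of elements of `β B`, then the integral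
closure of `A` in `L` is a finite `A`-module. -/
theorem finite_integralClosure_of_normal_model
    {A L Ω B : Type*} [CommRing A] [IsNoetherianRing A] [Field L] [Algebra A L] [Field Ω]
    [CommRing B] [IsDomain B] [IsIntegrallyClosed B]
    (ι : L →+* Ω) (α : A →+* B) (β : B →+* Ω) (hβ : Function.Injective β)
    (hα : α.Finite) (hcomm : β.comp α = ι.comp (algebraMap A L))
    (hfrac : ∀ y : L, ∃ b₁ b₂ : B, b₂ ≠ 0 ∧ ι y * β b₂ = β b₁) :
    Module.Finite A (integralClosure A L) := by
  letI : Algebra A B := α.toAlgebra
  letI : Algebra B Ω := β.toAlgebra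
  letI : Algebra L Ω := ι.toAlgebra
  letI : Algebra A Ω := (β.comp α).toAlgebra
  haveI : IsScalarTower A B Ω := IsScalarTower.of_algebraMap_eq (fun _ => rfl)
  haveI : IsScalarTower A L Ω := IsScalarTower.of_algebraMap_eq (fun a => by
    change (β.comp α) a = ι (algebraMap A L a)
    rw [hcomm]; rfl)
  haveI : Module.Finite A B := hα
  have hinjB : Function.Injective (algebraMap B Ω) := hβ
  haveI : FaithfulSMul B Ω := (faithfulSMul_iff_algebraMap_injective B Ω).mpr hinjB
  -- every integral element lands in `β B`
  have key : ∀ y : L, IsIntegral A y → ∃ b : B, β b = ι y := by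
    intro y hy
    have h1 : IsIntegral A (algebraMap L Ω y) := hy.map (IsScalarTower.toAlgHom A L Ω)
    have h2 : IsIntegral B (algebraMap L Ω y) := h1.tower_top
    obtain ⟨b₁, b₂, hb₂, hb⟩ := hfrac y
    let γ : FractionRing B →ₐ[B] Ω :=
      IsFractionRing.liftAlgHom (g := Algebra.ofId B Ω) hinjB
    let w : FractionRing B := algebraMap B (FractionRing B) b₁ / algebraMap B (FractionRing B) b₂
    have hb₂' : β b₂ ≠ 0 := fun h => hb₂ (hβ (by rw [h, map_zero]))
    have hγw : γ w = algebraMap L Ω y := by
      have e1 : γ (algebraMap B (FractionRing B) b₁) = β b₁ := by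
        rw [AlgHom.commutes]; rfl
      have e2 : γ (algebraMap B (FractionRing B) b₂) = β b₂ := by
        rw [AlgHom.commutes]; rfl
      change γ (algebraMap B (FractionRing B) b₁ / algebraMap B (FractionRing B) b₂) = ι y
      rw [map_div₀, e1, e2, div_eq_iff hb₂', hb]
    have h3 : IsIntegral B w := by
      rw [← hγw] at h2
      exact (isIntegral_algHom_iff γ γ.injective).mp h2
    obtain ⟨b, hb'⟩ := IsIntegrallyClosed.isIntegral_iff.mp h3
    refine ⟨b, ?_⟩
    have : γ (algebraMap B (FractionRing B) b) = β b := by
      rw [AlgHom.commutes]; rfl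
    rw [← this, hb', hγw]; rfl
  let ιₗ : L →ₗ[A] Ω := (IsScalarTower.toAlgHom A L Ω).toLinearMap
  let βₗ : B →ₗ[A] Ω := (IsScalarTower.toAlgHom A B Ω).toLinearMap
  have hle : (integralClosure A L).toSubmodule.map ιₗ ≤ LinearMap.range βₗ := by
    rintro _ ⟨y, hy, rfl⟩
    obtain ⟨b, hb⟩ := key y hy
    exact ⟨b, hb⟩
  have hfg : (LinearMap.range βₗ).FG := by
    rw [LinearMap.range_eq_map]
    exact (Module.Finite.fg_top).map βₗ
  haveI : IsNoetherian A (LinearMap.range βₗ) := isNoetherian_of_fg_of_noetherian _ hfg
  have hfg' : ((integralClosure A L).toSubmodule.map ιₗ).FG :=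
    isNoetherian_submodule.mp inferInstance _ hle
  have hinj : Function.Injective ιₗ := (algebraMap L Ω).injective
  have hfg'' : (integralClosure A L).toSubmodule.FG :=
    Submodule.fg_of_fg_map_injective ιₗ hinj hfg'
  exact Module.Finite.iff_fg.mpr hfg''


/-- If `A` is a Noetherian domain admitting an injective finite ring map to an integrally
closed domain, then `A` is N-1. -/
theorem isN1_of_finite_injective_normal {A B : Type u} [CommRing A] [IsDomain A]
    [IsNoetherianRing A] [CommRing B] [IsDomain B] [IsIntegrallyClosed B]
    (α : A →+* B) (hα : α.Finite) (hinj : Function.Injective α) : CAlg.IsN1 A := by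
  have hinj' : Function.Injective ((algebraMap B (FractionRing B)).comp α) :=
    (IsFractionRing.injective B (FractionRing B)).comp hinj
  let ι : FractionRing A →+* FractionRing B := IsFractionRing.lift hinj'
  refine finite_integralClosure_of_normal_model (A := A) (L := FractionRing A)
    (Ω := FractionRing B) (B := B) ι α (algebraMap B (FractionRing B))
    (IsFractionRing.injective B (FractionRing B)) hα ?_ ?_
  · ext a
    simp only [RingHom.comp_apply]
    exact (IsFractionRing.lift_algebraMap hinj' a).symm
  · intro y
    obtain ⟨a, s, hs, rfl⟩ := IsFractionRing.div_surjective (A := A) y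
    refine ⟨α a, α s, ?_, ?_⟩
    · intro h
      have : s = 0 := hinj (by rw [h, map_zero])
      exact nonZeroDivisors.ne_zero hs this
    · have hs0 : algebraMap A (FractionRing A) s ≠ 0 := by
        intro h
        exact nonZeroDivisors.ne_zero hs
          ((IsFractionRing.injective A (FractionRing A)) (by rw [h, map_zero]))
      have e1 : ∀ a : A, ι (algebraMap A (FractionRing A) a) = algebraMap B (FractionRing B) (α a) :=
        fun a => IsFractionRing.lift_algebraMap hinj' a
      rw [map_div₀, e1, e1]
      have : algebraMap B (FractionRing B) (α s) ≠ 0 := by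
        rw [← e1]; exact (map_ne_zero ι).mpr hs0
      field_simp

/-- The map `R[X] → S[X]`, `r ↦ r`, `X ↦ X ^ q`. -/
noncomputable def polyMap (R S : Type*) [CommRing R] [CommRing S] [Algebra R S] (q : ℕ) :
    R[X] →+* S[X] :=
  Polynomial.eval₂RingHom ((Polynomial.C : S →+* S[X]).comp (algebraMap R S))
    ((Polynomial.X : S[X]) ^ q)

@[simp] theorem polyMap_C {R S : Type*} [CommRing R] [CommRing S] [Algebra R S] (q : ℕ) (r : R) :
    polyMap R S q (C r) = C (algebraMap R S r) := by
  simp [polyMap]

@[simp] theorem polyMap_X {R S : Type*} [CommRing R] [CommRing S] [Algebra R S] (q : ℕ) :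
    polyMap R S q X = X ^ q := by
  simp [polyMap]

theorem polyMap_one {R S : Type*} [CommRing R] [CommRing S] [Algebra R S] :
    polyMap R S 1 = Polynomial.mapRingHom (algebraMap R S) := by
  apply Polynomial.ringHom_ext
  · intro r; simp
  · simp

/-- The map `R[X] → S[X]`, `r ↦ r`, `X ↦ X ^ q` is finite when `S` is finite over `R` and
`0 < q`. -/
theorem finite_polyMap {R S : Type*} [CommRing R] [CommRing S] [Algebra R S] [Module.Finite R S]
    (q : ℕ) (hq : 0 < q) : (polyMap R S q).Finite := by
  set α : R[X] →+* S[X] := polyMap R S q with hαdef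
  have hαC : ∀ r : R, α (C r) = C (algebraMap R S r) := fun r => polyMap_C q r
  have hαX : α X = X ^ q := polyMap_X q
  apply RingHom.IsIntegral.to_finite
  · -- integrality
    letI : Algebra R[X] S[X] := α.toAlgebra
    haveI : IsScalarTower R R[X] S[X] := IsScalarTower.of_algebraMap_eq (fun r => by
      change algebraMap R S[X] r = α (C r)
      rw [hαC]; rfl)
    intro b
    change IsIntegral R[X] b
    have hX : IsIntegral R[X] (X : S[X]) := by
      refine IsIntegral.of_pow hq ?_
      rw [← hαX]
      exact isIntegral_algebraMap
    have hC : ∀ c : S, IsIntegral R[X] (C c : S[X]) := fun c => by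
      have h1 : IsIntegral R c := Algebra.IsIntegral.isIntegral c
      have h2 : IsIntegral R (C c : S[X]) := h1.map (CAlgHom (R := R))
      exact h2.tower_top
    induction b using Polynomial.induction_on' with
    | add p r hp hr => exact hp.add hr
    | monomial n c =>
      rw [← C_mul_X_pow_eq_monomial]
      exact (hC c).mul (hX.pow n)
  · -- finite type
    apply RingHom.FiniteType.of_comp_finiteType (f := (C : R →+* R[X]))
    have : α.comp C = algebraMap R S[X] := by
      ext r
      simp only [RingHom.comp_apply, hαC]; rfl
    rw [this, RingHom.finiteType_algebraMap]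
    infer_instance

end Groth.Agent.H38.PolyN2
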