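import Mathlib
import Groth.Prelude.Def_Found
import Groth.Agent.H38.PolyN2A

/-!
# Polynomial rings over N-1 domains are N-1; normal finite models inside a big field
-/

set_option autoImplicit false
universe u

open Polynomial

namespace Groth.Agent.H38.PolyN2

/-- A polynomial ring over a Noetherian N-1 domain is N-1. -/
theorem isN1_polynomial (R : Type u) [CommRing R] [IsDomain R] [IsNoetherianRing R]
    (h : CAlg.IsN1 R) : CAlg.IsN1 R[X] := by
  haveI : Module.Finite R (integralClosure R (FractionRing R)) := h
  haveI : IsIntegrallyClosed (integralClosure R (FractionRing R)) :=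
    integralClosure.isIntegrallyClosedOfFiniteExtension (FractionRing R)
  have hinj : Function.Injective (algebraMap R (integralClosure R (FractionRing R))) := by
    intro a b hab
    apply IsFractionRing.injective R (FractionRing R)
    have := congrArg (algebraMap (integralClosure R (FractionRing R)) (FractionRing R)) hab
    simpa [← IsScalarTower.algebraMap_apply] using this
  have hα := finite_polyMap (R := R) (S := integralClosure R (FractionRing R)) 1 Nat.one_pos
  refine isN1_of_finite_injective_normal _ hα ?_
  rw [polyMap_one]
  exact Polynomial.map_injective _ hinj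


/-- **Finite normal model.** Let `R` be a Noetherian N-2 domain, `Ω` a field over
`K = Frac R`, `t : Ω` transcendental over `R`, `s` a finite set of elements of `Ω` integral
over `R`, and `0 < q`. Then there is an integrally closed domain `B`, finite over `R[X]` via a
map `α`, embedded in `Ω` via `β`, with `β (α r) = r`, `β (α X) = t ^ q`, and with `t` and the
elements of `s` in the image of `β`. -/
theorem exists_normal_model (R : Type u) [CommRing R] [IsDomain R] [IsNoetherianRing R]
    (hR : CAlg.IsN2 R)
    (Ω : Type u) [Field Ω] [Algebra R Ω] [Algebra (FractionRing R) Ω]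
    [IsScalarTower R (FractionRing R) Ω]
    (t : Ω) (ht : Transcendental R t)
    (s : Finset Ω) (hs : ∀ z ∈ s, IsIntegral R z) (q : ℕ) (hq : 0 < q) :
    ∃ (B : Type u) (_ : CommRing B) (_ : IsDomain B) (_ : IsIntegrallyClosed B)
      (α : R[X] →+* B) (β : B →+* Ω),
      Function.Injective β ∧ α.Finite ∧
      (∀ r : R, β (α (C r)) = algebraMap R Ω r) ∧ β (α X) = t ^ q ∧
      t ∈ β.range ∧ ∀ z ∈ s, z ∈ β.range := by
  classical
  let K' : IntermediateField (FractionRing R) Ω :=
    IntermediateField.adjoin (FractionRing R) (s : Set Ω)
  haveI : FiniteDimensional (FractionRing R) K' :=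
    IntermediateField.finiteDimensional_adjoin (fun z hz => (hs z hz).tower_top)
  haveI hfin : Module.Finite R (integralClosure R K') := hR K' inferInstance
  haveI : IsScalarTower R K' Ω := IsScalarTower.of_algebraMap_eq (fun _ => rfl)
  haveI : IsIntegrallyClosed (integralClosure R K') :=
    integralClosure.isIntegrallyClosedOfFiniteExtension (FractionRing R)
  let φ : integralClosure R K' →+* Ω :=
    (algebraMap K' Ω).comp (algebraMap (integralClosure R K') K')
  have hφinj : Function.Injective φ :=
    (algebraMap K' Ω).injective.comp Subtype.val_injective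
  let β : (integralClosure R K')[X] →+* Ω := Polynomial.eval₂RingHom φ t
  have htK : Transcendental (FractionRing R) t := by
    intro halg
    exact ht ((IsFractionRing.isAlgebraic_iff R (FractionRing R) Ω).mpr halg)
  have htK' : Transcendental K' t := htK.extendScalars K'
  have hβinj : Function.Injective β := by
    rw [injective_iff_map_eq_zero]
    intro b hb
    have h1 : Polynomial.aeval t (b.map (algebraMap (integralClosure R K') K')) = 0 := by
      rw [Polynomial.aeval_def, Polynomial.eval₂_map]
      exact hb
    have h2 := (transcendental_iff_injective.mp htK')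
    have h3 : b.map (algebraMap (integralClosure R K') K') = 0 := by
      apply h2
      rw [h1, map_zero]
    exact (Polynomial.map_eq_zero_iff Subtype.val_injective).mp h3
  refine ⟨(integralClosure R K')[X], inferInstance, inferInstance, inferInstance,
    polyMap R (integralClosure R K') q, β, hβinj, finite_polyMap q hq, ?_, ?_, ?_, ?_⟩
  · intro r
    rw [polyMap_C]
    change Polynomial.eval₂ φ t (C _) = _
    rw [Polynomial.eval₂_C]
    change algebraMap K' Ω (algebraMap (integralClosure R K') K' (algebraMap R _ r)) = _
    rw [← IsScalarTower.algebraMap_apply R (integralClosure R K') K',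
      ← IsScalarTower.algebraMap_apply R K' Ω]
  · rw [polyMap_X]
    change Polynomial.eval₂ φ t (X ^ q) = _
    rw [Polynomial.eval₂_X_pow]
  · exact ⟨X, Polynomial.eval₂_X _ _⟩
  · intro z hz
    have hzK' : z ∈ K' := IntermediateField.subset_adjoin _ _ hz
    have hint : IsIntegral R (⟨z, hzK'⟩ : K') := by
      have := hs z hz
      exact (isIntegral_algHom_iff ((IsScalarTower.toAlgHom R K' Ω)) (algebraMap K' Ω).injective).mp
        this
    refine ⟨C ⟨⟨z, hzK'⟩, hint⟩, ?_⟩
    change Polynomial.eval₂ φ t (C _) = _
    rw [Polynomial.eval₂_C]
    rfl

end Groth.Agent.H38.PolyN2
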