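import Mathlib
import Groth.Prelude.Def_Found
import Groth.Agent.H38.PolyN2B

/-!
# Polynomial rings over N-2 domains: integral closure in purely inseparable extensions

We use a "Frobenius-twisted copy" `Tw E p n` of the fraction field `E` of `R[X]`: it is the
field `E` again, but regarded as an extension of `E` through the `n`-fold Frobenius. It
contains `p ^ n`-th roots of all elements of `E`.
-/

set_option autoImplicit false
universe u

open Polynomial

namespace Groth.Agent.H38.PolyN2

/-- Twisted copy of a field `E`: as a field it is `E`, but it is an `E`-algebra through the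
`n`-fold Frobenius. -/
def Tw (E : Type u) (_p _n : ℕ) : Type u := E

namespace Tw

variable {E : Type u} [Field E] (p n : ℕ)

noncomputable instance : Field (Tw E p n) := inferInstanceAs (Field E)

/-- The identity copy `E ≃+* Tw E p n`. -/
def mk : E ≃+* Tw E p n := RingEquiv.refl E

variable [ExpChar E p]

noncomputable instance instAlgebra {S : Type*} [CommSemiring S] [Algebra S E] :
    Algebra S (Tw E p n) :=
  (((mk p n : E ≃+* Tw E p n) : E →+* Tw E p n).comp
    ((iterateFrobenius E p n).comp (algebraMap S E))).toAlgebra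

theorem algebraMap_apply {S : Type*} [CommSemiring S] [Algebra S E] (s : S) :
    algebraMap S (Tw E p n) s = mk p n ((algebraMap S E s) ^ p ^ n) := rfl

theorem algebraMap_injective_of {S : Type*} [CommSemiring S] [Algebra S E]
    (h : Function.Injective (algebraMap S E)) :
    Function.Injective (algebraMap S (Tw E p n)) :=
  ((mk p n).injective.comp (iterateFrobenius E p n).injective).comp h

instance {S S' : Type*} [CommSemiring S] [CommSemiring S'] [Algebra S S'] [Algebra S E]
    [Algebra S' E] [IsScalarTower S S' E] : IsScalarTower S S' (Tw E p n) :=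
  .of_algebraMap_eq (fun s => by
    rw [algebraMap_apply, algebraMap_apply, IsScalarTower.algebraMap_apply S S' E])

end Tw


attribute [local instance] FractionRing.liftAlgebra FractionRing.isScalarTower_liftAlgebra in
/-- Let `R` be a Noetherian N-2 domain and `E` the fraction field of `R[X]`. For every finite
purely inseparable extension `L` of `E`, the integral closure of `R[X]` in `L` is finite
over `R[X]`. -/
theorem finite_integralClosure_of_purelyInseparable_aux (R : Type u) [CommRing R] [IsDomain R]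
    [IsNoetherianRing R] (hR : CAlg.IsN2 R)
    (E : Type u) [Field E] [Algebra R[X] E] [IsFractionRing R[X] E] [Algebra R E]
    [IsScalarTower R R[X] E]
    (L : Type u) [Field L] [Algebra R[X] L] [Algebra E L] [IsScalarTower R[X] E L]
    [FiniteDimensional E L] [IsPurelyInseparable E L] :
    Module.Finite R[X] (integralClosure R[X] L) := by
  classical
  obtain ⟨p, hp⟩ := ExpChar.exists E
  haveI := hp
  have hinjAE : Function.Injective (algebraMap R[X] E) := IsFractionRing.injective R[X] E
  have hinjRE : Function.Injective (algebraMap R E) := by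
    rw [IsScalarTower.algebraMap_eq R R[X] E]
    exact hinjAE.comp Polynomial.C_injective
  haveI : FaithfulSMul R E := (faithfulSMul_iff_algebraMap_injective R E).mpr hinjRE
  have hq : 0 < p ^ IsPurelyInseparable.exponent E L :=
    expChar_pow_pos E p (IsPurelyInseparable.exponent E L)
  set n := IsPurelyInseparable.exponent E L with hn
  let Φ : L →+* E := IsPurelyInseparable.iterateFrobenius E L p (le_refl n)
  have hΦ : ∀ e : E, Φ (algebraMap E L e) = e ^ p ^ n := fun e =>
    IsPurelyInseparable.iterateFrobenius_algebraMap L p (le_refl n) e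
  let κ : E ≃+* Tw E p n := Tw.mk p n
  let ι : L →+* Tw E p n := (κ : E →+* Tw E p n).comp Φ
  let t : Tw E p n := κ (algebraMap R[X] E X)
  have ht_pow : t ^ p ^ n = algebraMap R[X] (Tw E p n) X := by
    rw [Tw.algebraMap_apply, map_pow]
  have hinjAΩ : Function.Injective (algebraMap R[X] (Tw E p n)) :=
    Tw.algebraMap_injective_of p n hinjAE
  have ht : Transcendental R t := by
    have h1 : Transcendental R (algebraMap R[X] (Tw E p n) X) :=
      (transcendental_algebraMap_iff hinjAΩ).mpr (Polynomial.transcendental_X R)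
    intro halg
    exact h1 (ht_pow ▸ halg.pow _)
  -- generators and their denominators
  let b := Module.finBasis E L
  have hfr : ∀ i, ∃ a s : R[X], s ≠ 0 ∧
      Φ (b i) * algebraMap R[X] E s = algebraMap R[X] E a := by
    intro i
    obtain ⟨a, s, hs, h⟩ := IsFractionRing.div_surjective (A := R[X]) (Φ (b i))
    have hs0 : s ≠ 0 := nonZeroDivisors.ne_zero hs
    refine ⟨a, s, hs0, ?_⟩
    have : algebraMap R[X] E s ≠ 0 := fun h0 => hs0 (hinjAE (by rw [h0, map_zero]))
    rw [← h, div_mul_cancel₀ _ this]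
  choose a s hs0 has using hfr
  let S : Finset R := Finset.univ.biUnion (fun i => (a i).coeffs ∪ (s i).coeffs)
  let sΩ : Finset (Tw E p n) := S.image (fun r => κ (algebraMap R E r))
  have hκpow : ∀ r : R, (κ (algebraMap R E r)) ^ p ^ n = algebraMap R (Tw E p n) r := by
    intro r
    rw [Tw.algebraMap_apply, map_pow]
  have hsΩ : ∀ z ∈ sΩ, IsIntegral R z := by
    intro z hz
    obtain ⟨r, -, rfl⟩ := Finset.mem_image.mp hz
    refine IsIntegral.of_pow hq ?_
    rw [hκpow]
    exact isIntegral_algebraMap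
  obtain ⟨B, _, _, _, α, β, hβinj, hαfin, hβαC, hβαX, htβ, hsβ⟩ :=
    exists_normal_model R hR (Tw E p n) t ht sΩ hsΩ (p ^ n) hq
  have hι : ∀ a : R[X], ι (algebraMap R[X] L a) = algebraMap R[X] (Tw E p n) a := by
    intro a
    change κ (Φ (algebraMap R[X] L a)) = _
    rw [IsScalarTower.algebraMap_apply R[X] E L, hΦ, Tw.algebraMap_apply]
  have hιE : ∀ e : E, ι (algebraMap E L e) = algebraMap E (Tw E p n) e := by
    intro e
    change κ (Φ (algebraMap E L e)) = _
    rw [hΦ, Tw.algebraMap_apply]
    rfl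
  have hcomm : β.comp α = ι.comp (algebraMap R[X] L) := by
    apply Polynomial.ringHom_ext
    · intro r
      simp only [RingHom.comp_apply]
      rw [hβαC, hι, IsScalarTower.algebraMap_apply R R[X] (Tw E p n)]
      rfl
    · simp only [RingHom.comp_apply]
      rw [hβαX, hι, ht_pow]
  have hβα : ∀ a : R[X], β (α a) = algebraMap R[X] (Tw E p n) a := by
    intro a
    rw [← hι]
    exact congrFun (congrArg DFunLike.coe hcomm) a
  -- fractions
  let Pf : Tw E p n → Prop := fun z => ∃ b₁ b₂ : B, b₂ ≠ 0 ∧ z * β b₂ = β b₁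
  have Pf_zero : Pf 0 := ⟨0, 1, one_ne_zero, by simp⟩
  have Pf_add : ∀ z₁ z₂, Pf z₁ → Pf z₂ → Pf (z₁ + z₂) := by
    rintro z₁ z₂ ⟨b₁, b₂, hb₂, h₁⟩ ⟨c₁, c₂, hc₂, h₂⟩
    refine ⟨b₁ * c₂ + c₁ * b₂, b₂ * c₂, mul_ne_zero hb₂ hc₂, ?_⟩
    simp only [map_mul, map_add]
    rw [← h₁, ← h₂]; ring
  have Pf_mul : ∀ z₁ z₂, Pf z₁ → Pf z₂ → Pf (z₁ * z₂) := by
    rintro z₁ z₂ ⟨b₁, b₂, hb₂, h₁⟩ ⟨c₁, c₂, hc₂, h₂⟩
    refine ⟨b₁ * c₁, b₂ * c₂, mul_ne_zero hb₂ hc₂, ?_⟩
    simp only [map_mul]
    rw [← h₁, ← h₂]; ring
  have Pf_E : ∀ e : E, Pf (algebraMap E (Tw E p n) e) := by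
    intro e
    obtain ⟨a', s', hs', h⟩ := IsFractionRing.div_surjective (A := R[X]) e
    have hs0' : s' ≠ 0 := nonZeroDivisors.ne_zero hs'
    have hsE : algebraMap R[X] E s' ≠ 0 := fun h0 => hs0' (hinjAE (by rw [h0, map_zero]))
    refine ⟨α a', α s', ?_, ?_⟩
    · intro h0
      have : algebraMap R[X] (Tw E p n) s' = 0 := by rw [← hβα, h0, map_zero]
      exact hs0' (hinjAΩ (by rw [this, map_zero]))
    · rw [hβα, hβα, IsScalarTower.algebraMap_apply R[X] E (Tw E p n),
        IsScalarTower.algebraMap_apply R[X] E (Tw E p n) a', ← map_mul, ← h,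
        div_mul_cancel₀ _ hsE]
  have hcoef : ∀ a' : R[X], (∀ k ∈ a'.support, a'.coeff k ∈ S) →
      κ (algebraMap R[X] E a') ∈ β.range := by
    intro a' h
    have e1 : κ (algebraMap R[X] E a') =
        ∑ k ∈ a'.support, κ (algebraMap R E (a'.coeff k)) * t ^ k := by
      conv_lhs => rw [a'.as_sum_support_C_mul_X_pow]
      simp only [map_sum, map_mul, map_pow]
      refine Finset.sum_congr rfl (fun k _ => ?_)
      congr 2
      rw [IsScalarTower.algebraMap_apply R R[X] E]
      rfl
    rw [e1]
    refine Subring.sum_mem _ (fun k hk => Subring.mul_mem _ ?_ (Subring.pow_mem _ htβ k))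
    exact hsβ _ (Finset.mem_image.mpr ⟨_, h k hk, rfl⟩)
  have hS_a : ∀ i, ∀ k ∈ (a i).support, (a i).coeff k ∈ S := by
    intro i k hk
    refine Finset.mem_biUnion.mpr ⟨i, Finset.mem_univ _, Finset.mem_union_left _ ?_⟩
    exact Polynomial.coeff_mem_coeffs (Polynomial.mem_support_iff.mp hk)
  have hS_s : ∀ i, ∀ k ∈ (s i).support, (s i).coeff k ∈ S := by
    intro i k hk
    refine Finset.mem_biUnion.mpr ⟨i, Finset.mem_univ _, Finset.mem_union_right _ ?_⟩
    exact Polynomial.coeff_mem_coeffs (Polynomial.mem_support_iff.mp hk)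
  have Pf_b : ∀ i, Pf (ι (b i)) := by
    intro i
    obtain ⟨b₁, hb₁⟩ := hcoef (a i) (hS_a i)
    obtain ⟨b₂, hb₂⟩ := hcoef (s i) (hS_s i)
    refine ⟨b₁, b₂, ?_, ?_⟩
    · intro h0
      rw [h0, map_zero] at hb₂
      have : algebraMap R[X] E (s i) = 0 := κ.injective (by rw [← hb₂, map_zero])
      exact hs0 i (hinjAE (by rw [this, map_zero]))
    · rw [hb₁, hb₂]
      change κ (Φ (b i)) * _ = _
      rw [← map_mul, has i]
  have hfrac : ∀ y : L, Pf (ι y) := by
    intro y
    rw [← b.sum_repr y, map_sum]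
    refine Finset.sum_induction _ Pf Pf_add Pf_zero (fun i _ => ?_)
    rw [Algebra.smul_def, map_mul, hιE]
    exact Pf_mul _ _ (Pf_E _) (Pf_b i)
  exact finite_integralClosure_of_normal_model ι α β hβinj hαfin hcomm hfrac

end Groth.Agent.H38.PolyN2
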