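import Mathlib
import Groth.Prelude.Def_Found
import Groth.Agent.H38.PolyN2C
import Groth.Agent.S4562

/-!
# Polynomial rings over Noetherian N-2 domains are N-2
-/

set_option autoImplicit false
universe u

open Polynomial

namespace Groth.Agent.H38.PolyN2

/-- A polynomial ring over a Noetherian N-2 domain is N-2. -/
theorem isN2_polynomial (R : Type u) [CommRing R] [IsDomain R] [IsNoetherianRing R]
    (h : CAlg.IsN2 R) : CAlg.IsN2 R[X] := by
  refine Groth.Agent.S4562.result R[X] ?_
  intro K' _ _ _ _ hfd hpi
  haveI := hfd
  haveI := hpi
  exact finite_integralClosure_of_purelyInseparable_aux R h (FractionRing R[X]) K'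

end Groth.Agent.H38.PolyN2
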