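import Mathlib
import Groth.Prelude.Def_Found
import Groth.Agent.H38.PolyN2D
import Groth.Agent.H47.N2Equiv

/-!
# Fields are universally Japanese; finite type algebras over a field are Nagata
-/

set_option autoImplicit false
universe u

open Polynomial

namespace Groth.Agent.H38.FieldNagata

open Groth.Agent.H38.PolyN2

/-- A field is N-2. -/
theorem isN2_field (k : Type u) [Field k] : CAlg.IsN2 k := by
  intro L _ _ _ _ hfd
  have hsurj : Function.Surjective (algebraMap k (FractionRing k)) :=
    (IsFractionRing.surjective_iff_isField (R := k) (K := FractionRing k)).mpr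
      (Field.toIsField k)
  haveI : Module.Finite k (FractionRing k) :=
    Module.Finite.of_surjective (Algebra.linearMap k (FractionRing k)) hsurj
  haveI : Module.Finite k L := Module.Finite.trans (FractionRing k) L
  haveI : IsNoetherian k L := inferInstance
  exact Module.Finite.iff_fg.mpr (IsNoetherian.noetherian (integralClosure k L).toSubmodule)

/-- Polynomial rings in finitely many variables over a Noetherian N-2 domain are N-2. -/
theorem isN2_mvPolynomial_fin (R : Type u) [CommRing R] [IsDomain R] [IsNoetherianRing R]
    (h : CAlg.IsN2 R) : ∀ n : ℕ, CAlg.IsN2 (MvPolynomial (Fin n) R)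
  | 0 => Groth.Agent.H47.isN2_of_ringEquiv (MvPolynomial.isEmptyRingEquiv R (Fin 0)).symm h
  | n + 1 =>
    Groth.Agent.H47.isN2_of_ringEquiv (MvPolynomial.finSuccEquiv R n).symm.toRingEquiv
      (isN2_polynomial _ (isN2_mvPolynomial_fin R h n))

/-- A domain finite over an N-2 domain (injectively) is N-2. -/
theorem isN2_of_finite_injective {R S : Type u} [CommRing R] [IsDomain R] [CommRing S]
    [IsDomain S] [Algebra R S] [Module.Finite R S] [FaithfulSMul R S] (hR : CAlg.IsN2 R) :
    CAlg.IsN2 S := by
  intro L _ _ _ _ hfd
  letI : Algebra R L := ((algebraMap S L).comp (algebraMap R S)).toAlgebra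
  haveI : IsScalarTower R S L := .of_algebraMap_eq (fun _ => rfl)
  have hinjSL : Function.Injective (algebraMap S L) := by
    rw [IsScalarTower.algebraMap_eq S (FractionRing S) L]
    exact (algebraMap (FractionRing S) L).injective.comp (IsFractionRing.injective S _)
  haveI : FaithfulSMul R L := (faithfulSMul_iff_algebraMap_injective R L).mpr
    (hinjSL.comp (FaithfulSMul.algebraMap_injective R S))
  haveI : FaithfulSMul R (FractionRing S) := (faithfulSMul_iff_algebraMap_injective R _).mpr (by
    rw [IsScalarTower.algebraMap_eq R S (FractionRing S)]
    exact (IsFractionRing.injective S _).comp (FaithfulSMul.algebraMap_injective R S))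
  letI : Algebra (FractionRing R) L := FractionRing.liftAlgebra R L
  haveI : IsScalarTower R (FractionRing R) L := FractionRing.isScalarTower_liftAlgebra R L
  letI : Algebra (FractionRing R) (FractionRing S) := FractionRing.liftAlgebra R (FractionRing S)
  haveI : IsScalarTower R (FractionRing R) (FractionRing S) :=
    FractionRing.isScalarTower_liftAlgebra R (FractionRing S)
  haveI : IsScalarTower R (FractionRing S) L := .of_algebraMap_eq (fun r => by
    rw [IsScalarTower.algebraMap_apply R S L, IsScalarTower.algebraMap_apply R S (FractionRing S),
      ← IsScalarTower.algebraMap_apply S (FractionRing S) L])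
  haveI : IsScalarTower (FractionRing R) (FractionRing S) L := .of_algebraMap_eq' (by
    apply IsLocalization.ringHom_ext (nonZeroDivisors R)
    ext r
    simp only [RingHom.comp_apply]
    rw [← IsScalarTower.algebraMap_apply R (FractionRing R) L,
      ← IsScalarTower.algebraMap_apply R (FractionRing R) (FractionRing S),
      ← IsScalarTower.algebraMap_apply R (FractionRing S) L])
  haveI : Algebra.IsAlgebraic R S := inferInstance
  haveI : Module.Finite (FractionRing R) (FractionRing S) :=
    .of_isLocalization R S (nonZeroDivisors R)
  haveI : FiniteDimensional (FractionRing R) L := Module.Finite.trans (FractionRing S) L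
  have h1 : Module.Finite R (integralClosure R L) := hR L inferInstance
  haveI : Algebra.IsIntegral R S := inferInstance
  let l : integralClosure R L →ₗ[R] integralClosure S L :=
    { toFun := fun x => ⟨x.1, x.2.tower_top⟩
      map_add' := fun _ _ => rfl
      map_smul' := fun r x => by
        apply Subtype.ext
        change r • (x : L) = r • (x : L)
        rfl }
  have hl : Function.Surjective l := by
    rintro ⟨y, hy⟩
    exact ⟨⟨y, isIntegral_trans y hy⟩, rfl⟩
  haveI : Module.Finite R (integralClosure S L) := Module.Finite.of_surjective l hl
  exact Module.Finite.of_restrictScalars_finite R S _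

/-- A domain of finite type over a field is N-2. -/
theorem isN2_of_finiteType_field (k : Type u) [Field k] (S : Type u) [CommRing S] [IsDomain S]
    [Algebra k S] [Algebra.FiniteType k S] : CAlg.IsN2 S := by
  obtain ⟨s, g, hinj, hfin⟩ := exists_finite_inj_algHom_of_fg k S
  letI : Algebra (MvPolynomial (Fin s) k) S := g.toRingHom.toAlgebra
  haveI : Module.Finite (MvPolynomial (Fin s) k) S := hfin
  haveI : FaithfulSMul (MvPolynomial (Fin s) k) S :=
    (faithfulSMul_iff_algebraMap_injective _ _).mpr hinj
  exact isN2_of_finite_injective (isN2_mvPolynomial_fin k (isN2_field k) s)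

/-- A field is universally Japanese. -/
theorem isUniversallyJapanese_field (k : Type u) [Field k] : CAlg.IsUniversallyJapanese k :=
  fun S _ _ _ hft => by
    haveI := hft
    exact isN2_of_finiteType_field k S

/-- A finite type algebra over a field is a Nagata ring. -/
theorem isNagata_of_finiteType_field (k : Type u) [Field k] (A : Type u) [CommRing A]
    [Algebra k A] [Algebra.FiniteType k A] : CAlg.IsNagata A := by
  refine ⟨Algebra.FiniteType.isNoetherianRing k A, fun p _ => ?_⟩
  haveI : Algebra.FiniteType k (A ⧸ p) :=
    Algebra.FiniteType.of_surjective (Ideal.Quotient.mkₐ k p) (Ideal.Quotient.mkₐ_surjective k p)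
  exact isN2_of_finiteType_field k (A ⧸ p)

end Groth.Agent.H38.FieldNagata
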