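import Mathlib
import Groth.Prelude.Def_Found

set_option autoImplicit false
universe u

namespace Groth.Agent.H38

/-- For an N-2 domain `R`, the integral closure of `R` in any fraction field of `R` is finite. -/
theorem finite_integralClosure_of_isN2 (R : Type u) [CommRing R] [IsDomain R] (K : Type u)
    [Field K] [Algebra R K] [IsFractionRing R K] (h : CAlg.IsN2 R) :
    Module.Finite R (integralClosure R K) := by
  have hfaith : FaithfulSMul R K := (faithfulSMul_iff_algebraMap_injective R K).mpr
    (IsFractionRing.injective R K)
  letI := FractionRing.liftAlgebra R K
  have hsurj : Function.Surjective (algebraMap (FractionRing R) K) := by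
    intro y
    obtain ⟨⟨a, s⟩, hy⟩ := IsLocalization.surj (nonZeroDivisors R) y
    have hs : algebraMap R K (s : R) ≠ 0 := by
      intro h0
      have := (IsFractionRing.injective R K) (h0.trans (map_zero _).symm)
      exact nonZeroDivisors.coe_ne_zero s this
    refine ⟨algebraMap R (FractionRing R) a / algebraMap R (FractionRing R) (s : R), ?_⟩
    rw [map_div₀, ← IsScalarTower.algebraMap_apply, ← IsScalarTower.algebraMap_apply]
    rw [div_eq_iff hs]
    exact hy.symm
  have hfin : FiniteDimensional (FractionRing R) K :=
    Module.Finite.of_surjective (Algebra.linearMap (FractionRing R) K) hsurj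
  exact h K hfin

end Groth.Agent.H38
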