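import Groth.Agent.H38.BranchSum
import Mathlib.RingTheory.Ideal.MinimalPrime.Basic

set_option autoImplicit false
universe u

open scoped nonZeroDivisors

namespace Groth.Agent.H38

variable (A : Type u) [CommRing A]

theorem minimalPrimes_nilradical : (nilradical A).minimalPrimes = minimalPrimes A := by
  rw [nilradical, Ideal.radical_minimalPrimes]
  rfl

theorem comap_mem_minimalPrimes (P : MinPrime (CAlg2.red A)) :
    P.1.asIdeal.comap (Ideal.Quotient.mk (nilradical A)) ∈ minimalPrimes A := by
  rw [← minimalPrimes_nilradical, Ideal.minimalPrimes_eq_comap]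
  exact ⟨P.1.asIdeal, P.2, rfl⟩

/-- The minimal primes of the reduction correspond to the minimal primes. -/
def minPrimeRedMap : MinPrime (CAlg2.red A) → ↥(minimalPrimes A) := fun P =>
  ⟨P.1.asIdeal.comap (Ideal.Quotient.mk (nilradical A)), comap_mem_minimalPrimes A P⟩

theorem minPrimeRedMap_bijective : Function.Bijective (minPrimeRedMap A) := by
  constructor
  · intro P Q h
    have h1 : P.1.asIdeal.comap (Ideal.Quotient.mk (nilradical A)) =
        Q.1.asIdeal.comap (Ideal.Quotient.mk (nilradical A)) := congrArg Subtype.val h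
    have h2 := Ideal.comap_injective_of_surjective _ Ideal.Quotient.mk_surjective h1
    exact Subtype.ext (PrimeSpectrum.ext h2)
  · rintro ⟨p, hp⟩
    rw [← minimalPrimes_nilradical, Ideal.minimalPrimes_eq_comap] at hp
    obtain ⟨P, hP, rfl⟩ := hp
    exact ⟨⟨⟨P, hP.1.1⟩, hP⟩, rfl⟩

/-- The minimal primes of the reduction correspond to the minimal primes. -/
noncomputable def minPrimeRedEquiv : MinPrime (CAlg2.red A) ≃ ↥(minimalPrimes A) :=
  Equiv.ofBijective _ (minPrimeRedMap_bijective A)

theorem finite_minPrime_red (h : (minimalPrimes A).Finite) : Finite (MinPrime (CAlg2.red A)) := by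
  have : Finite ↥(minimalPrimes A) := h.to_subtype
  exact Finite.of_equiv _ (minPrimeRedEquiv A).symm

variable {A}

/-- The quotient of the reduction by a minimal prime is the reduction of the quotient of `A` by
the corresponding minimal prime. -/
noncomputable def redQuotEquiv (P : MinPrime (CAlg2.red A)) :
    CAlg2.red (A ⧸ (minPrimeRedMap A P).1) ≃+* (CAlg2.red A) ⧸ P.1.asIdeal := by
  haveI : (minPrimeRedMap A P).1.IsPrime := (minPrimeRedMap A P).2.1.1
  let f : A →+* (CAlg2.red A) ⧸ P.1.asIdeal :=
    (Ideal.Quotient.mk P.1.asIdeal).comp (Ideal.Quotient.mk (nilradical A))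
  have hf : Function.Surjective f :=
    Ideal.Quotient.mk_surjective.comp Ideal.Quotient.mk_surjective
  have hker : (minPrimeRedMap A P).1 = RingHom.ker f := by
    change P.1.asIdeal.comap (Ideal.Quotient.mk (nilradical A)) = RingHom.ker f
    rw [← RingHom.comap_ker, Ideal.mk_ker]
  exact (redEquiv (A := A ⧸ (minPrimeRedMap A P).1)).symm.trans
    ((Ideal.quotEquivOfEq hker).trans (RingHom.quotientKerEquivOfSurjective hf))

end Groth.Agent.H38
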