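import Groth.Agent.H38.TotalFrac2

set_option autoImplicit false
universe u

open scoped nonZeroDivisors

namespace Groth.Agent.H38

variable {A : Type u} [CommRing A]

/-- The normalization of `A/p`, as an `A`-subalgebra of the fraction field. -/
abbrev BB (p : MinPrime A) : Subalgebra A (KK p) :=
  (integralClosure (A ⧸ p.1.asIdeal) (KK p)).restrictScalars A

instance (p : MinPrime A) : IsDomain (BB p) := inferInstance

instance (p : MinPrime A) : IsIntegrallyClosed (BB p) :=
  (integralClosure.isIntegrallyClosedOfFiniteExtension (R := A ⧸ p.1.asIdeal) (KK p) (L := KK p) :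
    IsIntegrallyClosed ↥(integralClosure (A ⧸ p.1.asIdeal) (KK p)))

theorem isIntegral_quot_iff (p : MinPrime A) (x : KK p) :
    IsIntegral (A ⧸ p.1.asIdeal) x ↔ IsIntegral A x := by
  constructor
  · intro h
    have : Algebra.IsIntegral A (A ⧸ p.1.asIdeal) :=
      Algebra.isIntegral_of_surjective Ideal.Quotient.mk_surjective
    exact isIntegral_trans x h
  · intro h
    exact h.tower_top

theorem mem_BB_iff (p : MinPrime A) (x : KK p) : x ∈ BB p ↔ IsIntegral A x := by
  rw [Subalgebra.mem_restrictScalars, mem_integralClosure_iff, isIntegral_quot_iff]

/-- The comparison map from the integral closure in the total ring of fractions to the product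
of the normalizations of the components. -/
noncomputable def toBProd :
    integralClosure A (FractionRing A) →ₐ[A] (∀ p : MinPrime A, BB p) :=
  AlgHom.pi fun p =>
    ((toKK p).comp (integralClosure A (FractionRing A)).val).codRestrict (BB p) fun x =>
      (mem_BB_iff p _).mpr (x.2.map (toKK p))

theorem toBProd_apply_coe (x : integralClosure A (FractionRing A)) (p : MinPrime A) :
    ((toBProd x p : BB p) : KK p) = toKK p (x : FractionRing A) := rfl

theorem toBProd_injective [IsReduced A] : Function.Injective (toBProd (A := A)) := by
  intro x y hxy
  apply Subtype.ext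
  apply toKProd_injective
  funext p
  rw [toKProd_apply, toKProd_apply, ← toBProd_apply_coe, ← toBProd_apply_coe, hxy]

theorem toBProd_surjective [IsReduced A] [Finite (MinPrime A)] :
    Function.Surjective (toBProd (A := A)) := by
  intro y
  let z : ∀ p : MinPrime A, KK p := fun p => (y p : KK p)
  have hz : IsIntegral A z := isIntegral_pi z fun p => (mem_BB_iff p _).mp (y p).2
  have hx : IsIntegral A (totalFracEquiv.symm z) := hz.map totalFracEquiv.symm
  refine ⟨⟨totalFracEquiv.symm z, hx⟩, ?_⟩
  funext p
  apply Subtype.ext
  rw [toBProd_apply_coe]
  change toKK p (totalFracEquiv.symm z) = z p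
  rw [← toKProd_apply, ← totalFracEquiv_apply, AlgEquiv.apply_symm_apply]

/-- The integral closure in the total ring of fractions is the product of the normalizations
of the components. -/
noncomputable def BEquiv [IsReduced A] [Finite (MinPrime A)] :
    integralClosure A (FractionRing A) ≃ₐ[A] (∀ p : MinPrime A, BB p) :=
  AlgEquiv.ofBijective toBProd ⟨toBProd_injective, toBProd_surjective⟩

theorem BEquiv_apply [IsReduced A] [Finite (MinPrime A)]
    (x : integralClosure A (FractionRing A)) : BEquiv x = toBProd x := rfl

/-- All localizations of the integral closure in the total ring of fractions are integrally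
closed domains. -/
theorem localization_integralClosure [IsReduced A] [Finite (MinPrime A)]
    (P : PrimeSpectrum (integralClosure A (FractionRing A))) :
    IsDomain (Localization.AtPrime P.asIdeal) ∧
      IsIntegrallyClosed (Localization.AtPrime P.asIdeal) := by
  exact localization_isDomain_isIntegrallyClosed_of_equiv
    (BEquiv (A := A)).toRingEquiv
    (pi_localization_isDomain_isIntegrallyClosed (fun p : MinPrime A => BB p)) P

/-- Finiteness of the integral closure from finiteness of the normalizations of components. -/
theorem finite_integralClosure [IsReduced A] [Finite (MinPrime A)]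
    (h : ∀ p : MinPrime A, Module.Finite (A ⧸ p.1.asIdeal)
      (integralClosure (A ⧸ p.1.asIdeal) (KK p))) :
    Module.Finite A (integralClosure A (FractionRing A)) := by
  have h1 : ∀ p : MinPrime A, Module.Finite A (BB p) := by
    intro p
    have := h p
    exact (Module.Finite.trans (A ⧸ p.1.asIdeal) (integralClosure (A ⧸ p.1.asIdeal) (KK p)) :
      Module.Finite A ↥(integralClosure (A ⧸ p.1.asIdeal) (KK p)))
  exact Module.Finite.equiv (BEquiv (A := A)).symm.toLinearEquiv

end Groth.Agent.H38
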