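import Groth.Agent.H38.BranchSum2
import Mathlib.RingTheory.Ideal.GoingUp

set_option autoImplicit false
universe u

open scoped nonZeroDivisors

namespace Groth.Agent.H38

variable (A : Type u) [CommRing A] [IsLocalRing A]

set_option linter.unusedSectionVars false

/-- Ring homomorphisms from the normalization to the algebraic closure of the residue field,
over `A`. -/
abbrev ClosureHom : Type u :=
  {τ : CAlg2.normRed A →+* AlgebraicClosure (IsLocalRing.ResidueField A) //
    τ.comp (algebraMap A (CAlg2.normRed A)) = Brnch.toClosure A}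

theorem toResidue_eq (m' : MaximalSpectrum (CAlg2.normRed A)) :
    Brnch.toResidue A m' =
      (Ideal.Quotient.mk m'.asIdeal).comp (algebraMap A (CAlg2.normRed A)) := by
  rw [algebraMap_normRed_eq]
  rfl

/-- The map from pairs (maximal ideal, embedding) to homomorphisms. -/
noncomputable def sigmaEmbToHom : (Σ m' : MaximalSpectrum (CAlg2.normRed A), Brnch.Emb A m') → ClosureHom A :=
  fun x => ⟨(embHom x.2).comp (Ideal.Quotient.mk x.1.asIdeal), by
    rw [RingHom.comp_assoc, ← toResidue_eq, embHom_comp]⟩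

theorem ker_sigmaEmbToHom (x : Σ m' : MaximalSpectrum (CAlg2.normRed A), Brnch.Emb A m') :
    RingHom.ker (sigmaEmbToHom A x).1 = x.1.asIdeal := by
  symm
  apply x.1.isMaximal.eq_of_le (RingHom.ker_ne_top _)
  intro b hb
  rw [RingHom.mem_ker]
  change embHom x.2 (Ideal.Quotient.mk x.1.asIdeal b) = 0
  rw [Ideal.Quotient.eq_zero_iff_mem.mpr hb, map_zero]

theorem sigmaEmbToHom_injective : Function.Injective (sigmaEmbToHom A) := by
  rintro ⟨m1, σ1⟩ ⟨m2, σ2⟩ h
  have hm : m1 = m2 := by
    apply MaximalSpectrum.ext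
    rw [← ker_sigmaEmbToHom A ⟨m1, σ1⟩, ← ker_sigmaEmbToHom A ⟨m2, σ2⟩, h]
  subst hm
  congr 1
  apply embHom_injective
  apply Ideal.Quotient.ringHom_ext
  exact congrArg Subtype.val h

instance isIntegral_normRed : Algebra.IsIntegral A (CAlg2.normRed A) := by
  have h1 : Algebra.IsIntegral A (CAlg2.red A) :=
    Algebra.isIntegral_of_surjective Ideal.Quotient.mk_surjective
  have h2 : Algebra.IsIntegral (CAlg2.red A) (CAlg2.normRed A) := inferInstance
  exact Algebra.IsIntegral.trans (CAlg2.red A)

theorem ker_toClosure : RingHom.ker (Brnch.toClosure A) = IsLocalRing.maximalIdeal A := by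
  ext a
  rw [RingHom.mem_ker]
  unfold Brnch.toClosure
  rw [RingHom.comp_apply, map_eq_zero_iff _ (RingHom.injective _), IsLocalRing.residue_eq_zero_iff]

theorem sigmaEmbToHom_surjective : Function.Surjective (sigmaEmbToHom A) := by
  intro τ
  have hprime : (RingHom.ker τ.1).IsPrime := RingHom.ker_isPrime τ.1
  have hcomap : (RingHom.ker τ.1).comap (algebraMap A (CAlg2.normRed A)) =
      IsLocalRing.maximalIdeal A := by
    rw [RingHom.comap_ker, τ.2, ker_toClosure]
  have hmax : (RingHom.ker τ.1).IsMaximal :=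
    Ideal.isMaximal_of_isIntegral_of_isMaximal_comap (R := A) _
      (hcomap ▸ IsLocalRing.maximalIdeal.isMaximal A)
  let m' : MaximalSpectrum (CAlg2.normRed A) := ⟨RingHom.ker τ.1, hmax⟩
  let σ : CAlg2.normRed A ⧸ m'.asIdeal →+* AlgebraicClosure (IsLocalRing.ResidueField A) :=
    Ideal.Quotient.lift (RingHom.ker τ.1) τ.1 (fun a ha => ha)
  have hσ : σ.comp (Brnch.toResidue A m') = Brnch.toClosure A := by
    rw [toResidue_eq, ← RingHom.comp_assoc]
    have : σ.comp (Ideal.Quotient.mk m'.asIdeal) = τ.1 := Ideal.Quotient.lift_comp_mk _ _ _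
    rw [this, τ.2]
  let s : Brnch.Emb A m' := (⟨σ, hσ⟩ : {σ : CAlg2.normRed A ⧸ m'.asIdeal →+*
    AlgebraicClosure (IsLocalRing.ResidueField A) //
      σ.comp (Brnch.toResidue A m') = Brnch.toClosure A})
  refine ⟨⟨m', s⟩, ?_⟩
  apply Subtype.ext
  exact Ideal.Quotient.lift_comp_mk _ _ _

/-- The number of geometric branches as a count of homomorphisms. -/
theorem numGeomBranches_eq_card (h : (minimalPrimes A).Finite) :
    Brnch.numGeomBranches A = ENat.card (ClosureHom A) := by
  unfold Brnch.numGeomBranches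
  rw [if_pos h]
  exact ENat.card_congr (Equiv.ofBijective _
    ⟨sigmaEmbToHom_injective A, sigmaEmbToHom_surjective A⟩)

end Groth.Agent.H38
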