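import Groth.Agent.H38.GeomBranch2

set_option autoImplicit false
universe u

open scoped nonZeroDivisors

namespace Groth.Agent.H38

variable (A : Type u) [CommRing A]

theorem algebraMap_normRed_eq :
    algebraMap A (CAlg2.normRed A) =
      (algebraMap (CAlg2.red A) (CAlg2.normRed A)).comp (Ideal.Quotient.mk (nilradical A)) :=
  IsScalarTower.algebraMap_eq A (CAlg2.red A) (CAlg2.normRed A)

variable [IsLocalRing A]

variable {A} in
/-- The underlying ring homomorphism of an embedding. -/
def embHom {m' : MaximalSpectrum (CAlg2.normRed A)} (σ : Brnch.Emb A m') :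
    CAlg2.normRed A ⧸ m'.asIdeal →+* AlgebraicClosure (IsLocalRing.ResidueField A) :=
  Subtype.val (p := fun σ : CAlg2.normRed A ⧸ m'.asIdeal →+*
    AlgebraicClosure (IsLocalRing.ResidueField A) =>
      σ.comp (Brnch.toResidue A m') = Brnch.toClosure A) σ

variable {A} in
theorem embHom_comp {m' : MaximalSpectrum (CAlg2.normRed A)} (σ : Brnch.Emb A m') :
    (embHom σ).comp (Brnch.toResidue A m') = Brnch.toClosure A :=
  Subtype.property (p := fun σ : CAlg2.normRed A ⧸ m'.asIdeal →+*
    AlgebraicClosure (IsLocalRing.ResidueField A) =>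
      σ.comp (Brnch.toResidue A m') = Brnch.toClosure A) σ

variable {A} in
theorem embHom_injective {m' : MaximalSpectrum (CAlg2.normRed A)} :
    Function.Injective (embHom (A := A) (m' := m')) := fun _ _ h => Subtype.ext h

/-- The pairs (maximal ideal, embedding of its residue field) inject into the ring
homomorphisms from the normalization to the algebraic closure of the residue field. -/
theorem card_sigma_emb_le :
    ENat.card (Σ m' : MaximalSpectrum (CAlg2.normRed A), Brnch.Emb A m') ≤
      ENat.card {τ : CAlg2.normRed A →+* AlgebraicClosure (IsLocalRing.ResidueField A) //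
        τ.comp (algebraMap A (CAlg2.normRed A)) = Brnch.toClosure A} := by
  let Ψ : (Σ m' : MaximalSpectrum (CAlg2.normRed A), Brnch.Emb A m') →
      {τ : CAlg2.normRed A →+* AlgebraicClosure (IsLocalRing.ResidueField A) //
        τ.comp (algebraMap A (CAlg2.normRed A)) = Brnch.toClosure A} := fun x =>
    ⟨(embHom x.2).comp (Ideal.Quotient.mk x.1.asIdeal), by
      rw [← embHom_comp x.2, algebraMap_normRed_eq]
      rfl⟩
  have hker : ∀ x : (Σ m' : MaximalSpectrum (CAlg2.normRed A), Brnch.Emb A m'),
      RingHom.ker (Ψ x).1 = x.1.asIdeal := by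
    intro x
    symm
    apply x.1.isMaximal.eq_of_le (RingHom.ker_ne_top _)
    intro b hb
    rw [RingHom.mem_ker]
    change embHom x.2 (Ideal.Quotient.mk x.1.asIdeal b) = 0
    rw [Ideal.Quotient.eq_zero_iff_mem.mpr hb, map_zero]
  refine ENat.card_le_card_of_injective (f := Ψ) ?_
  rintro ⟨m1, σ1⟩ ⟨m2, σ2⟩ h
  have hm : m1 = m2 := by
    apply MaximalSpectrum.ext
    rw [← hker ⟨m1, σ1⟩, ← hker ⟨m2, σ2⟩, h]
  subst hm
  congr 1
  apply embHom_injective
  apply Ideal.Quotient.ringHom_ext
  exact congrArg Subtype.val h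

end Groth.Agent.H38
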