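import Mathlib

/-!
# A quasi-compact open of a quasi-separated scheme stable under specialization is closed
-/

set_option autoImplicit false
universe u

open CategoryTheory AlgebraicGeometry

namespace Groth.Agent.H38.ClosedOpen

theorem isClosed_of_isCompact_of_stableUnderSpecialization {X : Scheme.{u}} [QuasiSeparatedSpace ↥X]
    (U : X.Opens) (hc : IsCompact (U : Set ↥X))
    (hs : StableUnderSpecialization (U : Set ↥X)) : IsClosed (U : Set ↥X) := by
  haveI : CompactSpace ↥(U : Scheme.{u}) := isCompact_iff_compactSpace.mp hc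
  haveI : QuasiCompact U.ι := inferInstance
  have hspec : SpecializingMap U.ι := by
    intro w y hwy
    change U.ι w ⤳ y at hwy
    have hy : y ∈ (U : Set ↥X) := hs hwy w.2
    refine ⟨⟨y, hy⟩, ?_, rfl⟩
    change w ⤳ (⟨y, hy⟩ : ↥(U : Scheme.{u}))
    rw [← U.ι.isEmbedding.isInducing.specializes_iff]
    exact hwy
  have hcl : IsClosedMap U.ι := (isClosedMap_iff_specializingMap U.ι).mpr hspec
  have := hcl Set.univ isClosed_univ
  rwa [Set.image_univ, Scheme.Opens.range_ι] at this

end Groth.Agent.H38.ClosedOpen
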