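import Mathlib
import Groth.Agent.H48.FieldTensor

/-!
# Clopen subsets of `Spec (R ⊗[k] L)` for `L/k` algebraic descend to a finite subextension
-/

set_option autoImplicit false
universe u

open TensorProduct

namespace Groth.Agent.H38.ClopenDescent

variable {k : Type u} [Field k] (R : Type u) [CommRing R] [Algebra k R]
  {L : Type u} [Field L] [Algebra k L]

/-- The map `R ⊗[k] E → R ⊗[k] L` for an intermediate field `E`. -/
noncomputable def jE (E : IntermediateField k L) : R ⊗[k] E →ₐ[k] R ⊗[k] L :=
  Algebra.TensorProduct.map (AlgHom.id k R) E.val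

theorem jE_injective (E : IntermediateField k L) : Function.Injective (jE R E) :=
  Groth.Agent.H48.tensorMap_injective _ _ Function.injective_id Subtype.val_injective

theorem jE_range_mono {E₁ E₂ : IntermediateField k L} (h : E₁ ≤ E₂) :
    (jE R E₁).range ≤ (jE R E₂).range := by
  rintro _ ⟨z, rfl⟩
  refine ⟨Algebra.TensorProduct.map (AlgHom.id k R) (IntermediateField.inclusion h) z, ?_⟩
  have : (jE R E₂).comp (Algebra.TensorProduct.map (AlgHom.id k R)
      (IntermediateField.inclusion h)) = jE R E₁ := by
    apply Algebra.TensorProduct.ext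
    · ext a
      simp [jE]
    · ext c
      simp [jE]
  exact congrArg (fun f => f z) this

theorem exists_finite_intermediateField_mem_range [Algebra.IsAlgebraic k L] (z : R ⊗[k] L) :
    ∃ E : IntermediateField k L, FiniteDimensional k E ∧ z ∈ (jE R E).range := by
  induction z using TensorProduct.induction_on with
  | zero => exact ⟨⊥, inferInstance, zero_mem _⟩
  | tmul a c =>
    refine ⟨IntermediateField.adjoin k {c},
      IntermediateField.adjoin.finiteDimensional (Algebra.IsIntegral.isIntegral c), ?_⟩
    exact ⟨a ⊗ₜ ⟨c, IntermediateField.mem_adjoin_simple_self k c⟩, by simp [jE]⟩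
  | add z w hz hw =>
    obtain ⟨E₁, h₁, hz⟩ := hz
    obtain ⟨E₂, h₂, hw⟩ := hw
    refine ⟨E₁ ⊔ E₂, IntermediateField.finiteDimensional_sup E₁ E₂, ?_⟩
    exact add_mem (jE_range_mono R le_sup_left hz) (jE_range_mono R le_sup_right hw)

/-- Every clopen subset of `Spec (R ⊗[k] L)` is the inverse image of a clopen subset of
`Spec (R ⊗[k] E)` for some finite subextension `E`. -/
theorem exists_clopen_descent [Algebra.IsAlgebraic k L] (C : Set (PrimeSpectrum (R ⊗[k] L)))
    (hC : IsClopen C) :
    ∃ (E : IntermediateField k L) (_ : FiniteDimensional k E)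
      (C' : Set (PrimeSpectrum (R ⊗[k] E))),
      C = PrimeSpectrum.comap (jE R E).toRingHom ⁻¹' C' := by
  obtain ⟨e, he, rfl⟩ := PrimeSpectrum.isClopen_iff.mp hC
  obtain ⟨E, hE, e', he'⟩ := exists_finite_intermediateField_mem_range R e
  refine ⟨E, hE, PrimeSpectrum.basicOpen e', ?_⟩
  have h2 : (jE R E).toRingHom e' = e := he'
  rw [← h2]
  rfl

open AlgebraicGeometry CategoryTheory in
set_option backward.isDefEq.respectTransparency false in
/-- Version of `exists_clopen_descent` for the scheme `Spec`. -/
theorem exists_clopen_descent_Spec [Algebra.IsAlgebraic k L]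
    (C : Set ↥(Spec (CommRingCat.of (R ⊗[k] L)))) (hC : IsClopen C) :
    ∃ (E : IntermediateField k L) (_ : FiniteDimensional k E)
      (C' : Set ↥(Spec (CommRingCat.of (R ⊗[k] E)))),
      C = (Spec.map (CommRingCat.ofHom (jE R E).toRingHom)) ⁻¹' C' :=
  exists_clopen_descent R C hC

end Groth.Agent.H38.ClopenDescent
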