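import Mathlib
import Groth.Prelude.Def_Curv2
import Groth.Agent.H7.FieldResidue

/-!
# The fibre of `X_K ⟶ X` over a point `x` is `Spec (κ(x) ⊗[k] K)`
-/

set_option autoImplicit false
universe u

open CategoryTheory CategoryTheory.Limits AlgebraicGeometry TensorProduct

attribute [local instance] Curv2.resAlgebra

namespace Groth.Agent.H38.FibreIso

variable (k : Type u) [Field k] (X : Scheme.{u}) [X.Over (Spec (CommRingCat.of k))]

lemma fromSpecResidueField_Spec (q : ↥(Spec (CommRingCat.of k))) :
    (Spec (CommRingCat.of k)).fromSpecResidueField q =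
      Spec.map (Groth.Agent.H7.fieldToResidue k q) := by
  unfold Scheme.fromSpecResidueField Groth.Agent.H7.fieldToResidue
  rw [Spec.fromSpecStalk_eq, ← Spec.map_comp, Category.assoc]

lemma fromSpecResidueField_over (x : X) :
    X.fromSpecResidueField x ≫ (X ↘ Spec (CommRingCat.of k)) =
      Spec.map (CommRingCat.ofHom (algebraMap k (X.residueField x))) := by
  have h1 : CommRingCat.ofHom (algebraMap k (X.residueField x)) =
      Groth.Agent.H7.fieldToResidue k _ ≫
        (X ↘ Spec (CommRingCat.of k)).residueFieldMap x := by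
    ext c
    have := Groth.Agent.H7.resMap_eq k X x
    exact congrArg (fun f => f c) this
  rw [h1, Spec.map_comp, ← fromSpecResidueField_Spec,
    Scheme.Hom.SpecMap_residueFieldMap_fromSpecResidueField]

variable (K : Type u) [Field K] [Algebra k K]

/-- The fibre of `X_K ⟶ X` over `x`, as the spectrum of `κ(x) ⊗[k] K`. -/
noncomputable def fibreIso (x : X) :
    (Curv2.bcFst k X K).fiber x ≅ Spec (CommRingCat.of (X.residueField x ⊗[k] K)) :=
  pullbackSymmetry _ _ ≪≫
    pullbackRightPullbackFstIso (X ↘ Spec (CommRingCat.of k))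
      (Spec.map (CommRingCat.ofHom (algebraMap k K))) (X.fromSpecResidueField x) ≪≫
    pullback.congrHom (fromSpecResidueField_over k X x) rfl ≪≫
    pullbackSpecIso k (X.residueField x) K

theorem isIrreducible_fibre_iff (x : X) :
    IsIrreducible (Curv2.bcFst k X K ⁻¹' {x}) ↔
      IrreducibleSpace (PrimeSpectrum (X.residueField x ⊗[k] K)) := by
  rw [isIrreducible_iff_irreducibleSpace,
    ← ((Curv2.bcFst k X K).fiberHomeo x).irreducibleSpace_iff,
    (fibreIso k X K x).hom.homeomorph.irreducibleSpace_iff]
  rfl

theorem isConnected_fibre_iff (x : X) :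
    _root_.IsConnected (Curv2.bcFst k X K ⁻¹' {x}) ↔
      ConnectedSpace (PrimeSpectrum (X.residueField x ⊗[k] K)) := by
  rw [isConnected_iff_connectedSpace,
    ← ((Curv2.bcFst k X K).fiberHomeo x).connectedSpace_iff,
    (fibreIso k X K x).hom.homeomorph.connectedSpace_iff]
  rfl

end Groth.Agent.H38.FibreIso
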