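import Mathlib
import Groth.Prelude.Def_Curv2
import Groth.Agent.H48.GalTrans

/-!
# The Galois action on a base change `X_K` and its transitivity on fibres
-/

set_option autoImplicit false
universe u

open CategoryTheory CategoryTheory.Limits AlgebraicGeometry

namespace Groth.Agent.H38.GalAct

variable (k : Type u) [Field k] (X : Scheme.{u}) [X.Over (Spec (CommRingCat.of k))]
  (K : Type u) [Field K] [Algebra k K]

@[reassoc (attr := simp)]
lemma galAct_fst (σ : K ≃ₐ[k] K) :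
    Curv2.galAct k X K σ ≫ Curv2.bcFst k X K = Curv2.bcFst k X K := by
  unfold Curv2.galAct Curv2.bcFst
  rw [pullback.lift_fst, Category.comp_id]

@[reassoc (attr := simp)]
lemma galAct_snd (σ : K ≃ₐ[k] K) :
    Curv2.galAct k X K σ ≫ Curv2.bcSnd k X K =
      Curv2.bcSnd k X K ≫ Spec.map (CommRingCat.ofHom (σ : K →ₐ[k] K).toRingHom) := by
  unfold Curv2.galAct Curv2.bcSnd
  rw [pullback.lift_snd]

lemma galAct_one : Curv2.galAct k X K 1 = 𝟙 _ := by
  apply pullback.hom_ext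
  · simp
  · rw [galAct_snd]
    have : CommRingCat.ofHom ((1 : K ≃ₐ[k] K) : K →ₐ[k] K).toRingHom = 𝟙 (CommRingCat.of K) := rfl
    rw [this]
    simp

lemma galAct_mul (σ τ : K ≃ₐ[k] K) :
    Curv2.galAct k X K (τ * σ) = Curv2.galAct k X K τ ≫ Curv2.galAct k X K σ := by
  apply pullback.hom_ext
  · simp
  · rw [galAct_snd, Category.assoc, galAct_snd, galAct_snd_assoc, ← Spec.map_comp]
    rfl

lemma galAct_inv_comp (σ : K ≃ₐ[k] K) :
    Curv2.galAct k X K σ⁻¹ ≫ Curv2.galAct k X K σ = 𝟙 _ := by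
  rw [← galAct_mul, inv_mul_cancel, galAct_one]

lemma galAct_comp_inv (σ : K ≃ₐ[k] K) :
    Curv2.galAct k X K σ ≫ Curv2.galAct k X K σ⁻¹ = 𝟙 _ := by
  rw [← galAct_mul, mul_inv_cancel, galAct_one]

instance (σ : K ≃ₐ[k] K) : IsIso (Curv2.galAct k X K σ) :=
  ⟨⟨Curv2.galAct k X K σ⁻¹, galAct_comp_inv k X K σ, galAct_inv_comp k X K σ⟩⟩

lemma galAct_inv_apply (σ : K ≃ₐ[k] K) (y : ↥(Curv2.bc k X K)) :
    Curv2.galAct k X K σ⁻¹ (Curv2.galAct k X K σ y) = y := by
  rw [← Scheme.Hom.comp_apply, galAct_comp_inv]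
  rfl

lemma galAct_apply_inv (σ : K ≃ₐ[k] K) (y : ↥(Curv2.bc k X K)) :
    Curv2.galAct k X K σ (Curv2.galAct k X K σ⁻¹ y) = y := by
  rw [← Scheme.Hom.comp_apply, galAct_inv_comp]
  rfl

lemma bcFst_galAct_apply (σ : K ≃ₐ[k] K) (y : ↥(Curv2.bc k X K)) :
    Curv2.bcFst k X K (Curv2.galAct k X K σ y) = Curv2.bcFst k X K y := by
  rw [← Scheme.Hom.comp_apply, galAct_fst]

/-- The Galois action as a homeomorphism. -/
noncomputable def galHomeo (σ : K ≃ₐ[k] K) : ↥(Curv2.bc k X K) ≃ₜ ↥(Curv2.bc k X K) :=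
  (Curv2.galAct k X K σ).homeomorph

lemma galHomeo_apply (σ : K ≃ₐ[k] K) (y : ↥(Curv2.bc k X K)) :
    galHomeo k X K σ y = Curv2.galAct k X K σ y := rfl

/-- Core transitivity statement: two points of `X_K` with the same image under a morphism `ρ`
through which both projections factor (the second one up to `Spec k' ← Spec K`) are conjugate
under `Aut(K/k')` when `K/k'` is normal. -/
theorem exists_galAct_eq_of_hom {k' : Type u} [Field k'] [Algebra k k'] [Algebra k' K]
    [IsScalarTower k k' K] [Normal k' K] {Z : Scheme.{u}} (ρ : Curv2.bc k X K ⟶ Z) (p : Z ⟶ X)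
    (q : Z ⟶ Spec (CommRingCat.of k')) (hp : ρ ≫ p = Curv2.bcFst k X K)
    (hq : ρ ≫ q = Curv2.bcSnd k X K ≫ Spec.map (CommRingCat.ofHom (algebraMap k' K)))
    (y y' : ↥(Curv2.bc k X K)) (h : ρ y = ρ y') :
    ∃ σ : K ≃ₐ[k'] K, Curv2.galAct k X K (σ.restrictScalars k) y = y' := by
  obtain ⟨z, hz1, hz2⟩ := Scheme.Pullback.exists_preimage_pullback (f := ρ) (g := ρ) y y' h
  let P : Scheme.{u} := pullback ρ ρ
  obtain ⟨a, ha⟩ : ∃ a : Spec (P.residueField z) ⟶ Curv2.bc k X K,
      a = P.fromSpecResidueField z ≫ pullback.fst _ _ := ⟨_, rfl⟩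
  obtain ⟨a', ha'⟩ : ∃ a' : Spec (P.residueField z) ⟶ Curv2.bc k X K,
      a' = P.fromSpecResidueField z ≫ pullback.snd _ _ := ⟨_, rfl⟩
  have haa' : a ≫ ρ = a' ≫ ρ := by
    simp only [ha, ha', Category.assoc, pullback.condition]
  let φ : CommRingCat.of K ⟶ P.residueField z := Spec.preimage (a ≫ Curv2.bcSnd k X K)
  let φ' : CommRingCat.of K ⟶ P.residueField z := Spec.preimage (a' ≫ Curv2.bcSnd k X K)
  have hφ : Spec.map φ = a ≫ Curv2.bcSnd k X K := Spec.map_preimage _
  have hφ' : Spec.map φ' = a' ≫ Curv2.bcSnd k X K := Spec.map_preimage _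
  have hφk : CommRingCat.ofHom (algebraMap k' K) ≫ φ = CommRingCat.ofHom (algebraMap k' K) ≫ φ' := by
    apply Spec.map_injective
    rw [Spec.map_comp, Spec.map_comp, hφ, hφ', Category.assoc, Category.assoc, ← hq,
      ← Category.assoc, ← Category.assoc, haa']
  letI : Algebra k' (P.residueField z) := (φ.hom.comp (algebraMap k' K)).toAlgebra
  let A : K →ₐ[k'] P.residueField z := ⟨φ.hom, fun c => rfl⟩
  let A' : K →ₐ[k'] P.residueField z :=
    ⟨φ'.hom, fun c => (congrArg (fun f => f.hom c) hφk).symm⟩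
  obtain ⟨σ, hσ⟩ := Groth.Agent.H48.exists_algEquiv_comp_eq A A'
  refine ⟨σ, ?_⟩
  have key : a ≫ Curv2.galAct k X K (σ.restrictScalars k) = a' := by
    apply pullback.hom_ext
    · rw [Category.assoc, galAct_fst]
      change a ≫ Curv2.bcFst k X K = a' ≫ Curv2.bcFst k X K
      rw [← hp, ← Category.assoc, ← Category.assoc, haa']
    · rw [Category.assoc]
      change a ≫ Curv2.galAct k X K (σ.restrictScalars k) ≫ Curv2.bcSnd k X K =
        a' ≫ Curv2.bcSnd k X K
      rw [galAct_snd, ← Category.assoc, ← hφ, ← hφ', ← Spec.map_comp]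
      congr 1
      ext x
      exact hσ x
  have hy : a (IsLocalRing.closedPoint _) = y := by
    simp only [ha, Scheme.Hom.comp_apply, Scheme.fromSpecResidueField_apply]
    exact hz1
  have hy' : a' (IsLocalRing.closedPoint _) = y' := by
    simp only [ha', Scheme.Hom.comp_apply, Scheme.fromSpecResidueField_apply]
    exact hz2
  rw [← hy, ← hy', ← key, Scheme.Hom.comp_apply]

/-- Transitivity of the automorphism group of a normal extension on the fibres of `X_K ⟶ X`. -/
theorem exists_galAct_eq [Normal k K] (y y' : ↥(Curv2.bc k X K))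
    (h : Curv2.bcFst k X K y = Curv2.bcFst k X K y') :
    ∃ σ : K ≃ₐ[k] K, Curv2.galAct k X K σ y = y' := by
  obtain ⟨σ, hσ⟩ := exists_galAct_eq_of_hom k X K (k' := k) (Curv2.bcFst k X K) (𝟙 X)
    (X ↘ Spec (CommRingCat.of k)) (Category.comp_id _) pullback.condition y y' h
  exact ⟨σ, hσ⟩

lemma surjective_bcFst : Function.Surjective (Curv2.bcFst k X K) :=
  (Curv2.bcFst k X K).surjective

lemma isOpenMap_bcFst : IsOpenMap (Curv2.bcFst k X K) :=
  (Curv2.bcFst k X K).isOpenMap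

instance isIntegralHom_specMap [Algebra.IsAlgebraic k K] :
    IsIntegralHom (Spec.map (CommRingCat.ofHom (algebraMap k K))) := by
  rw [IsIntegralHom.SpecMap_iff]
  exact algebraMap_isIntegral_iff.mpr inferInstance

lemma isClosedMap_bcFst [Algebra.IsAlgebraic k K] : IsClosedMap (Curv2.bcFst k X K) :=
  (Curv2.bcFst k X K).isClosedMap

/-- A subset of `X_K` stable under the automorphism group of a normal extension is saturated
for the projection `X_K ⟶ X`. -/
lemma preimage_image_eq_of_invariant [Normal k K] (C : Set ↥(Curv2.bc k X K))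
    (hC : ∀ σ : K ≃ₐ[k] K, Curv2.galAct k X K σ '' C ⊆ C) :
    Curv2.bcFst k X K ⁻¹' (Curv2.bcFst k X K '' C) = C := by
  refine subset_antisymm ?_ (Set.subset_preimage_image _ _)
  rintro y ⟨c, hc, hcy⟩
  obtain ⟨σ, hσ⟩ := exists_galAct_eq k X K c y hcy
  exact hC σ ⟨c, hc, hσ⟩

/-- Preimages under `X_K ⟶ X` are stable under the Galois action. -/
lemma galAct_image_preimage (σ : K ≃ₐ[k] K) (T : Set ↥X) :
    Curv2.galAct k X K σ '' (Curv2.bcFst k X K ⁻¹' T) = Curv2.bcFst k X K ⁻¹' T := by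
  ext y
  constructor
  · rintro ⟨c, hc, rfl⟩
    change Curv2.bcFst k X K (Curv2.galAct k X K σ c) ∈ T
    rw [bcFst_galAct_apply]
    exact hc
  · intro hy
    refine ⟨Curv2.galAct k X K σ⁻¹ y, ?_, galAct_apply_inv k X K σ y⟩
    change Curv2.bcFst k X K (Curv2.galAct k X K σ⁻¹ y) ∈ T
    rw [bcFst_galAct_apply]
    exact hy

end Groth.Agent.H38.GalAct
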