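import Mathlib
import Groth.Prelude.Def_Curv2
import Groth.Agent.H38.GalAct
import Groth.Agent.H7.GeomFibreBaseChange

/-!
# Towers of base changes `X_L ⟶ X_K ⟶ X`
-/

set_option autoImplicit false
universe u

open CategoryTheory CategoryTheory.Limits AlgebraicGeometry

namespace Groth.Agent.H38.GalTower

variable (k : Type u) [Field k] (X : Scheme.{u}) [X.Over (Spec (CommRingCat.of k))]
  (K L : Type u) [Field K] [Field L] [Algebra k K] [Algebra k L] [Algebra K L]
  [IsScalarTower k K L]

lemma specMap_tower :
    Spec.map (CommRingCat.ofHom (algebraMap K L)) ≫ Spec.map (CommRingCat.ofHom (algebraMap k K)) =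
      Spec.map (CommRingCat.ofHom (algebraMap k L)) := by
  rw [← Spec.map_comp, ← CommRingCat.ofHom_comp, ← IsScalarTower.algebraMap_eq]

/-- The transition morphism `X_L ⟶ X_K`. -/
noncomputable def bcMap : Curv2.bc k X L ⟶ Curv2.bc k X K :=
  pullback.map _ _ _ _ (𝟙 X) (Spec.map (CommRingCat.ofHom (algebraMap K L))) (𝟙 _) (by simp)
    (by rw [Category.comp_id, specMap_tower])

@[reassoc (attr := simp)]
lemma bcMap_fst : bcMap k X K L ≫ Curv2.bcFst k X K = Curv2.bcFst k X L := by
  unfold bcMap Curv2.bcFst
  rw [pullback.lift_fst, Category.comp_id]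

@[reassoc (attr := simp)]
lemma bcMap_snd : bcMap k X K L ≫ Curv2.bcSnd k X K =
    Curv2.bcSnd k X L ≫ Spec.map (CommRingCat.ofHom (algebraMap K L)) := by
  unfold bcMap Curv2.bcSnd
  rw [pullback.lift_snd]

lemma bcFst_bcMap_apply (y : ↥(Curv2.bc k X L)) :
    Curv2.bcFst k X K (bcMap k X K L y) = Curv2.bcFst k X L y := by
  rw [← Scheme.Hom.comp_apply, bcMap_fst]

lemma isPullback_bcMap :
    IsPullback (bcMap k X K L) (Curv2.bcSnd k X L) (Curv2.bcSnd k X K)
      (Spec.map (CommRingCat.ofHom (algebraMap K L))) := by
  have hR : IsPullback (Curv2.bcFst k X K) (Curv2.bcSnd k X K) (X ↘ Spec (CommRingCat.of k))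
      (Spec.map (CommRingCat.ofHom (algebraMap k K))) := IsPullback.of_hasPullback _ _
  have hL : IsPullback (Curv2.bcFst k X L) (Curv2.bcSnd k X L) (X ↘ Spec (CommRingCat.of k))
      (Spec.map (CommRingCat.ofHom (algebraMap K L)) ≫
        Spec.map (CommRingCat.ofHom (algebraMap k K))) := by
    rw [specMap_tower]
    exact IsPullback.of_hasPullback _ _
  have h := Groth.Agent.H7.isPullback_lift_of_isPullback_comp hR hL
  have heq : hR.lift (Curv2.bcFst k X L)
      (Curv2.bcSnd k X L ≫ Spec.map (CommRingCat.ofHom (algebraMap K L)))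
      (hL.w.trans (Category.assoc _ _ _).symm) = bcMap k X K L := by
    apply hR.hom_ext
    · rw [hR.lift_fst, bcMap_fst]
    · rw [hR.lift_snd, bcMap_snd]
  rwa [heq] at h

instance surjective_bcMap : Surjective (bcMap k X K L) :=
  MorphismProperty.of_isPullback (P := @Surjective) (isPullback_bcMap k X K L).flip inferInstance

instance universallyOpen_bcMap : UniversallyOpen (bcMap k X K L) :=
  MorphismProperty.of_isPullback (P := @UniversallyOpen) (isPullback_bcMap k X K L).flip
    inferInstance

lemma geometricallyIrreducible_bcMap [IsSepClosed K] :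
    GeometricallyIrreducible (bcMap k X K L) :=
  MorphismProperty.of_isPullback (P := @GeometricallyIrreducible)
    (isPullback_bcMap k X K L).flip
    (Groth.Agent.H7.geometricallyIrreducible_SpecMap_of_isSepClosed K L)

lemma geometricallyConnected_bcMap [IsSepClosed K] :
    GeometricallyConnected (bcMap k X K L) :=
  haveI := geometricallyIrreducible_bcMap k X K L
  Groth.Agent.H7.geometricallyConnected_of_geometricallyIrreducible _

lemma preimage_bcMap (T : Set ↥X) :
    bcMap k X K L ⁻¹' (Curv2.bcFst k X K ⁻¹' T) = Curv2.bcFst k X L ⁻¹' T := by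
  ext y
  simp only [Set.mem_preimage, bcFst_bcMap_apply]

lemma image_bcMap (T : Set ↥X) :
    bcMap k X K L '' (Curv2.bcFst k X L ⁻¹' T) = Curv2.bcFst k X K ⁻¹' T := by
  rw [← preimage_bcMap k X K L T, Set.image_preimage_eq _ (bcMap k X K L).surjective]

section transfer

variable (K : Type u) [Field K] [Algebra k K]

/-- If the inverse image of `T` in `X_{k^sep}` is irreducible then so is the inverse image in
`X_K` for every extension field `K`. -/
theorem isIrreducible_preimage_of_sepClosure (T : Set ↥X)
    (h : IsIrreducible (Curv2.bcFst k X (SeparableClosure k) ⁻¹' T)) :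
    IsIrreducible (Curv2.bcFst k X K ⁻¹' T) := by
  let ι : SeparableClosure k →ₐ[k] SeparableClosure K := IsSepClosed.lift
  letI : Algebra (SeparableClosure k) (SeparableClosure K) := ι.toRingHom.toAlgebra
  haveI : IsScalarTower k (SeparableClosure k) (SeparableClosure K) :=
    IsScalarTower.of_algebraMap_eq fun x => (ι.commutes x).symm
  haveI := geometricallyIrreducible_bcMap k X (SeparableClosure k) (SeparableClosure K)
  have h1 : IsIrreducible (bcMap k X (SeparableClosure k) (SeparableClosure K) ⁻¹'
      (Curv2.bcFst k X (SeparableClosure k) ⁻¹' T)) :=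
    (bcMap k X (SeparableClosure k) (SeparableClosure K)).isIrreducible_preimage
      (bcMap k X (SeparableClosure k) (SeparableClosure K)).isOpenMap h
  rw [preimage_bcMap] at h1
  have h2 := h1.image (bcMap k X K (SeparableClosure K))
    (bcMap k X K (SeparableClosure K)).continuous.continuousOn
  rwa [image_bcMap] at h2

/-- If the inverse image of the closed set `T` in `X_{k^sep}` is connected then so is the inverse
image in `X_K` for every extension field `K`. -/
theorem isConnected_preimage_of_sepClosure (T : Set ↥X) (hT : IsClosed T)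
    (h : _root_.IsConnected (Curv2.bcFst k X (SeparableClosure k) ⁻¹' T)) :
    _root_.IsConnected (Curv2.bcFst k X K ⁻¹' T) := by
  let ι : SeparableClosure k →ₐ[k] SeparableClosure K := IsSepClosed.lift
  letI : Algebra (SeparableClosure k) (SeparableClosure K) := ι.toRingHom.toAlgebra
  haveI : IsScalarTower k (SeparableClosure k) (SeparableClosure K) :=
    IsScalarTower.of_algebraMap_eq fun x => (ι.commutes x).symm
  haveI := geometricallyConnected_bcMap k X (SeparableClosure k) (SeparableClosure K)
  have h1 : _root_.IsConnected (bcMap k X (SeparableClosure k) (SeparableClosure K) ⁻¹'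
      (Curv2.bcFst k X (SeparableClosure k) ⁻¹' T)) :=
    (bcMap k X (SeparableClosure k) (SeparableClosure K)).isConnected_preimage
      (bcMap k X (SeparableClosure k) (SeparableClosure K)).isOpenMap h
      (hT.preimage (Curv2.bcFst k X (SeparableClosure k)).continuous)
  rw [preimage_bcMap] at h1
  have h2 := h1.image (bcMap k X K (SeparableClosure K))
    (bcMap k X K (SeparableClosure K)).continuous.continuousOn
  rwa [image_bcMap] at h2

end transfer

end Groth.Agent.H38.GalTower
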