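import Mathlib
import Groth.Prelude.Def_Curv2
import Groth.Agent.H38.FibreIso
import Groth.Agent.H38.GalTower

/-!
# The fibre inclusion `Spec (κ(x) ⊗[k] K) ⟶ X_K` and its compatibility with towers
-/

set_option autoImplicit false
universe u

open CategoryTheory CategoryTheory.Limits AlgebraicGeometry TensorProduct

attribute [local instance] Curv2.resAlgebra

namespace Groth.Agent.H38.FibreTower

open Groth.Agent.H38.FibreIso Groth.Agent.H38.GalTower

variable (k : Type u) [Field k] (X : Scheme.{u}) [X.Over (Spec (CommRingCat.of k))]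
  (K : Type u) [Field K] [Algebra k K] (x : X)

/-- The inclusion of the fibre of `X_K ⟶ X` over `x`. -/
noncomputable def fibreHom : Spec (CommRingCat.of (X.residueField x ⊗[k] K)) ⟶ Curv2.bc k X K :=
  (fibreIso k X K x).inv ≫ (Curv2.bcFst k X K).fiberι x

lemma fibreHom_eq : fibreHom k X K x =
    (pullbackSpecIso k (X.residueField x) K).inv ≫
      (pullback.congrHom (fromSpecResidueField_over k X x)
        (rfl : Spec.map (CommRingCat.ofHom (algebraMap k K)) = _)).inv ≫
      (pullbackRightPullbackFstIso (X ↘ Spec (CommRingCat.of k))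
        (Spec.map (CommRingCat.ofHom (algebraMap k K))) (X.fromSpecResidueField x)).inv ≫
      (pullbackSymmetry (Curv2.bcFst k X K) (X.fromSpecResidueField x)).inv ≫
      pullback.fst (Curv2.bcFst k X K) (X.fromSpecResidueField x) := by
  unfold fibreHom fibreIso Scheme.Hom.fiberι
  simp only [Iso.trans_inv, Category.assoc]
  rfl

lemma fibreHom_fst : fibreHom k X K x ≫ Curv2.bcFst k X K =
    Spec.map (CommRingCat.ofHom (Algebra.TensorProduct.includeLeftRingHom :
      X.residueField x →+* X.residueField x ⊗[k] K)) ≫ X.fromSpecResidueField x := by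
  rw [fibreHom_eq]
  simp only [Category.assoc]
  rw [pullback.condition]
  rw [pullbackSymmetry_inv_comp_snd_assoc, pullbackRightPullbackFstIso_inv_fst_assoc,
    pullback.congrHom_inv, pullback.lift_fst_assoc, Category.comp_id,
    pullbackSpecIso_inv_fst_assoc]

lemma fibreHom_snd : fibreHom k X K x ≫ Curv2.bcSnd k X K =
    Spec.map (CommRingCat.ofHom (Algebra.TensorProduct.includeRight :
      K →ₐ[k] X.residueField x ⊗[k] K).toRingHom) := by
  rw [fibreHom_eq]
  simp only [Category.assoc]
  rw [pullbackSymmetry_inv_comp_fst_assoc]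
  change _ ≫ _ ≫ _ ≫ pullback.snd _ _ ≫ pullback.snd _ _ = _
  rw [pullbackRightPullbackFstIso_inv_snd_snd, pullback.congrHom_inv, pullback.lift_snd,
    Category.comp_id, pullbackSpecIso_inv_snd]
  rfl

lemma range_fibreHom : Set.range (fibreHom k X K x) = Curv2.bcFst k X K ⁻¹' {x} := by
  unfold fibreHom
  have hs : Set.range ⇑(fibreIso k X K x).inv = Set.univ :=
    Set.range_eq_univ.mpr (fibreIso k X K x).inv.homeomorph.surjective
  rw [Scheme.Hom.comp_base, TopCat.coe_comp, Set.range_comp, hs, Set.image_univ,
    Scheme.Hom.range_fiberι]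

lemma fibreHom_injective : Function.Injective (fibreHom k X K x) := by
  unfold fibreHom
  rw [Scheme.Hom.comp_base, TopCat.coe_comp]
  exact ((Curv2.bcFst k X K).fiberι x).isEmbedding.injective.comp
    (fibreIso k X K x).inv.homeomorph.injective

variable (L : Type u) [Field L] [Algebra k L] [Algebra K L] [IsScalarTower k K L]

lemma fibreHom_bcMap : fibreHom k X L x ≫ bcMap k X K L =
    Spec.map (CommRingCat.ofHom (Algebra.TensorProduct.map (AlgHom.id k (X.residueField x))
      (IsScalarTower.toAlgHom k K L)).toRingHom) ≫ fibreHom k X K x := by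
  apply pullback.hom_ext
  · change (fibreHom k X L x ≫ bcMap k X K L) ≫ Curv2.bcFst k X K =
      (_ ≫ fibreHom k X K x) ≫ Curv2.bcFst k X K
    rw [Category.assoc, Category.assoc, bcMap_fst, fibreHom_fst, fibreHom_fst,
      ← Spec.map_comp_assoc]
    congr 2
    ext a
    simp
  · change (fibreHom k X L x ≫ bcMap k X K L) ≫ Curv2.bcSnd k X K =
      (_ ≫ fibreHom k X K x) ≫ Curv2.bcSnd k X K
    rw [Category.assoc, Category.assoc, bcMap_snd, fibreHom_snd, ← Category.assoc,
      fibreHom_snd, ← Spec.map_comp, ← Spec.map_comp]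
    congr 1

end Groth.Agent.H38.FibreTower
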