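import Mathlib
import Groth.Prelude.Def_Curv2
import Groth.Agent.H38.FibreIso
import Groth.Agent.H38.GalAct
import Groth.Agent.H48.SepClosedIn

/-!
# Geometric irreducibility of an irreducible scheme through its function field
-/

set_option autoImplicit false
universe u

open CategoryTheory CategoryTheory.Limits AlgebraicGeometry TensorProduct

attribute [local instance] Curv2.resAlgebra

namespace Groth.Agent.H38.GeomIrrField

section topology

variable {Y X : Type*} [TopologicalSpace Y] [TopologicalSpace X] [T0Space Y]

/-- A generalizing map sends a generic point of the source to the generic point of the target. -/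
theorem map_eq_of_isGenericPoint {f : Y → X} (hf : GeneralizingMap f) {ω : Y} {η : X}
    (hω : IsGenericPoint ω Set.univ) (hη : IsGenericPoint η Set.univ) : f ω = η := by
  have h1 : η ⤳ f ω := hη.specializes (Set.mem_univ _)
  obtain ⟨ω', hω', hfω'⟩ := hf h1
  have h2 : ω ⤳ ω' := hω.specializes (Set.mem_univ _)
  have : ω' = ω := (hω'.antisymm h2).eq
  rw [← hfω', this]

omit [T0Space Y] in
/-- A subset of an irreducible space containing a generic point is irreducible. -/
theorem isIrreducible_of_mem_of_isGenericPoint {ω : Y} (hω : IsGenericPoint ω Set.univ)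
    {s : Set Y} (hs : ω ∈ s) : IsIrreducible s := by
  rw [← isIrreducible_iff_closure]
  have : closure s = Set.univ := by
    apply Set.eq_univ_of_univ_subset
    rw [← hω.def]
    exact closure_mono (Set.singleton_subset_iff.mpr hs)
  rw [this, ← hω.def]
  exact isIrreducible_singleton.closure

end topology

variable (k : Type u) [Field k] (X : Scheme.{u}) [X.Over (Spec (CommRingCat.of k))]

/-- If `X` is irreducible and the residue field at the generic point is geometrically irreducible
over `k`, then every base change `X_K` is irreducible. -/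
theorem irreducibleSpace_bc_of_residueField [IrreducibleSpace ↥X] (K : Type u) [Field K]
    [Algebra k K]
    (h : IrreducibleSpace (PrimeSpectrum (X.residueField (genericPoint ↥X) ⊗[k] K))) :
    IrreducibleSpace ↥(Curv2.bc k X K) := by
  have hpre : IsPreirreducible ((Curv2.bcFst k X K).base ⁻¹' Set.univ) := by
    refine (IrreducibleSpace.isIrreducible_univ ↥X).isPreirreducible.preimage_of_dense_isPreirreducible_fiber
      _ (Groth.Agent.H38.GalAct.isOpenMap_bcFst k X K) ?_
    intro x _
    rw [Set.univ_inter]
    have h1 : genericPoint ↥X ∈ {x : ↥X | IsPreirreducible (⇑(Curv2.bcFst k X K) ⁻¹' {x})} :=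
      ((Groth.Agent.H38.FibreIso.isIrreducible_fibre_iff k X K _).mpr h).isPreirreducible
    refine closure_mono (Set.singleton_subset_iff.mpr h1) ?_
    rw [(genericPoint_spec ↥X).def]
    trivial
  rw [Set.preimage_univ] at hpre
  haveI : Nonempty ↥(Curv2.bc k X K) := by
    obtain ⟨x⟩ := (inferInstance : Nonempty ↥X)
    obtain ⟨y, -⟩ := Groth.Agent.H38.GalAct.surjective_bcFst k X K x
    exact ⟨y⟩
  haveI : PreirreducibleSpace ↥(Curv2.bc k X K) := ⟨hpre⟩
  exact ⟨inferInstance⟩

/-- If `X` and `X_K` are irreducible, then so is the spectrum of `κ(η) ⊗[k] K`. -/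
theorem irreducibleSpace_residueField_of_bc [IrreducibleSpace ↥X] (K : Type u) [Field K]
    [Algebra k K] [IrreducibleSpace ↥(Curv2.bc k X K)] :
    IrreducibleSpace (PrimeSpectrum (X.residueField (genericPoint ↥X) ⊗[k] K)) := by
  rw [← Groth.Agent.H38.FibreIso.isIrreducible_fibre_iff k X K]
  apply isIrreducible_of_mem_of_isGenericPoint (genericPoint_spec ↥(Curv2.bc k X K))
  exact map_eq_of_isGenericPoint (Flat.generalizingMap (Curv2.bcFst k X K))
    (genericPoint_spec _) (genericPoint_spec _)

theorem geometricallyIrreducible_iff_bc :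
    GeometricallyIrreducible (X ↘ Spec (CommRingCat.of k)) ↔
      ∀ (K : Type u) [Field K] [Algebra k K], IrreducibleSpace ↥(Curv2.bc k X K) := by
  rw [geometricallyIrreducible_iff]
  exact geometrically_iff_of_commRing_of_isClosedUnderIsomorphisms

theorem geometricallyConnected_iff_bc :
    GeometricallyConnected (X ↘ Spec (CommRingCat.of k)) ↔
      ∀ (K : Type u) [Field K] [Algebra k K], ConnectedSpace ↥(Curv2.bc k X K) := by
  rw [geometricallyConnected_iff]
  exact geometrically_iff_of_commRing_of_isClosedUnderIsomorphisms

/-- The fibre of `X ×_k Y ⟶ X` over `x` is the base change of `Y` to `κ(x)`. -/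
noncomputable def fibreIsoProd (Y : Scheme.{u}) [Y.Over (Spec (CommRingCat.of k))] (x : X) :
    (pullback.fst (X ↘ Spec (CommRingCat.of k)) (Y ↘ Spec (CommRingCat.of k))).fiber x ≅
      Curv2.bc k Y (X.residueField x) :=
  pullbackSymmetry _ _ ≪≫
    pullbackRightPullbackFstIso (X ↘ Spec (CommRingCat.of k)) (Y ↘ Spec (CommRingCat.of k))
      (X.fromSpecResidueField x) ≪≫
    pullback.congrHom (Groth.Agent.H38.FibreIso.fromSpecResidueField_over k X x) rfl ≪≫
    pullbackSymmetry _ _

/-- If `X ×_k X` is irreducible then `X` is irreducible. -/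
theorem irreducibleSpace_of_prod
    [IrreducibleSpace ↥(pullback (X ↘ Spec (CommRingCat.of k)) (X ↘ Spec (CommRingCat.of k)))] :
    IrreducibleSpace ↥X := by
  haveI : Nonempty ↥X :=
    ⟨pullback.fst (X ↘ Spec (CommRingCat.of k)) (X ↘ Spec (CommRingCat.of k))
      (Nonempty.some inferInstance)⟩
  haveI : Surjective (X ↘ Spec (CommRingCat.of k)) :=
    ⟨fun s => ⟨Nonempty.some inferInstance, Subsingleton.elim _ _⟩⟩
  exact (pullback.fst (X ↘ Spec (CommRingCat.of k))
    (X ↘ Spec (CommRingCat.of k))).surjective.irreducibleSpace
    (pullback.fst (X ↘ Spec (CommRingCat.of k)) (X ↘ Spec (CommRingCat.of k))).continuous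

/-- If `X ×_k X` is irreducible then so is the base change of `X` to the residue field of its
generic point. -/
theorem irreducibleSpace_bc_residueField_of_prod [IrreducibleSpace ↥X]
    [IrreducibleSpace ↥(pullback (X ↘ Spec (CommRingCat.of k)) (X ↘ Spec (CommRingCat.of k)))] :
    IrreducibleSpace ↥(Curv2.bc k X (X.residueField (genericPoint ↥X))) := by
  rw [← (fibreIsoProd k X X (genericPoint ↥X)).hom.homeomorph.irreducibleSpace_iff,
    ((pullback.fst (X ↘ Spec (CommRingCat.of k))
      (X ↘ Spec (CommRingCat.of k))).fiberHomeo (genericPoint ↥X)).irreducibleSpace_iff,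
    ← isIrreducible_iff_irreducibleSpace]
  apply isIrreducible_of_mem_of_isGenericPoint (genericPoint_spec _)
  exact map_eq_of_isGenericPoint (Flat.generalizingMap _) (genericPoint_spec _)
    (genericPoint_spec _)

/-- If `Spec (L ⊗[k] L)` is irreducible then `k` is separably closed in `L`. -/
theorem mem_range_of_isSeparable_of_irreducibleSpace_tensor_self {L : Type u} [Field L]
    [Algebra k L] (h : IrreducibleSpace (PrimeSpectrum (L ⊗[k] L))) (α : L)
    (hα : IsSeparable k α) : α ∈ Set.range (algebraMap k L) := by
  have hint : IsIntegral k α := hα.isIntegral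
  have hfin : FiniteDimensional k (IntermediateField.adjoin k {α}) :=
    IntermediateField.adjoin.finiteDimensional hint
  have hsep : Algebra.IsSeparable k (IntermediateField.adjoin k {α}) :=
    (IntermediateField.isSeparable_adjoin_simple_iff_isSeparable k L).mpr hα
  have hirr : IrreducibleSpace (PrimeSpectrum ((IntermediateField.adjoin k {α}) ⊗[k] L)) :=
    Groth.Agent.H48.irreducibleSpace_of_injective
      (Algebra.TensorProduct.map (IntermediateField.adjoin k {α}).val
        (AlgHom.id k L)).toRingHom
      (Groth.Agent.H48.tensorMap_injective _ _ Subtype.val_injective Function.injective_id)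
  have h1 : Module.finrank k (IntermediateField.adjoin k {α}) = 1 :=
    Groth.Agent.H48.finrank_eq_one_of_irreducibleSpace_tensor
      (IntermediateField.adjoin k {α}).val
  have h2 := IntermediateField.finrank_adjoin_simple_eq_one_iff.mp h1
  exact IntermediateField.mem_bot.mp h2

/-- `X` is geometrically irreducible over `k` if `X ×_k X` is irreducible. -/
theorem geometricallyIrreducible_of_prod
    [IrreducibleSpace ↥(pullback (X ↘ Spec (CommRingCat.of k)) (X ↘ Spec (CommRingCat.of k)))] :
    GeometricallyIrreducible (X ↘ Spec (CommRingCat.of k)) := by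
  haveI := irreducibleSpace_of_prod k X
  haveI := irreducibleSpace_bc_residueField_of_prod k X
  have h1 := irreducibleSpace_residueField_of_bc k X (X.residueField (genericPoint ↥X))
  have h2 := (Groth.Agent.H48.geomIrr_iff_sepClosedIn (k := k)
    (K := X.residueField (genericPoint ↥X))).mpr
    (mem_range_of_isSeparable_of_irreducibleSpace_tensor_self k h1)
  rw [geometricallyIrreducible_iff_bc]
  intro K _ _
  apply irreducibleSpace_bc_of_residueField k X K
  exact (PrimeSpectrum.homeomorphOfRingEquiv
    (Algebra.TensorProduct.comm k K (X.residueField (genericPoint ↥X))).toRingEquiv).irreducibleSpace_iff.mp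
    (h2 K)

end Groth.Agent.H38.GeomIrrField
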