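import Mathlib
import Groth.Prelude.Def_Curv2
import Groth.Agent.H38.FibreTower
import Groth.Agent.H38.ClopenDescent
import Groth.Agent.H38.GeomIrrField

/-!
# Connectedness of `X_L` for an algebraic extension `L/k` from the finite subextensions
-/

set_option autoImplicit false
universe u

open CategoryTheory CategoryTheory.Limits AlgebraicGeometry TensorProduct

attribute [local instance] Curv2.resAlgebra

namespace Groth.Agent.H38.ConnFinite

open Groth.Agent.H38.FibreTower Groth.Agent.H38.GalTower Groth.Agent.H38.ClopenDescent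

variable (k : Type u) [Field k] (X : Scheme.{u}) [X.Over (Spec (CommRingCat.of k))]
  (L : Type u) [Field L] [Algebra k L]

lemma isClosedMap_bcMap (K : Type u) [Field K] [Algebra k K] [Algebra K L] [IsScalarTower k K L]
    [Algebra.IsAlgebraic K L] : IsClosedMap (bcMap k X K L) := by
  haveI : IsIntegralHom (bcMap k X K L) :=
    MorphismProperty.of_isPullback (P := @IsIntegralHom) (isPullback_bcMap k X K L).flip
      (Groth.Agent.H38.GalAct.isIntegralHom_specMap K L)
  exact (bcMap k X K L).isClosedMap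

/-- Key step: a clopen subset of `X_L` (with `L/k` algebraic) is saturated, over a given point
`x` of `X`, for the projection to `X_E` for a suitable finite subextension `E`. -/
theorem exists_finite_saturated [Algebra.IsAlgebraic k L] (U : Set ↥(Curv2.bc k X L))
    (hU : IsClopen U) (x : X) :
    ∃ (E : IntermediateField k L) (_ : FiniteDimensional k E),
      ∀ y₁ y₂ : ↥(Curv2.bc k X L), Curv2.bcFst k X L y₁ = x →
        bcMap k X E L y₁ = bcMap k X E L y₂ → y₁ ∈ U → y₂ ∈ U := by
  have hC : IsClopen ((fibreHom k X L x) ⁻¹' U) := hU.preimage (fibreHom k X L x).continuous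
  obtain ⟨E, hE, C', hC'⟩ := exists_clopen_descent_Spec (X.residueField x) _ hC
  refine ⟨E, hE, ?_⟩
  intro y₁ y₂ hy₁ hy hy₁U
  have hy₂ : Curv2.bcFst k X L y₂ = x := by
    rw [← bcFst_bcMap_apply k X E L, ← hy, bcFst_bcMap_apply, hy₁]
  obtain ⟨p₁, rfl⟩ : y₁ ∈ Set.range (fibreHom k X L x) := by
    rw [range_fibreHom]; exact hy₁
  obtain ⟨p₂, rfl⟩ : y₂ ∈ Set.range (fibreHom k X L x) := by
    rw [range_fibreHom]; exact hy₂
  have hcomm := fibreHom_bcMap k X E x L
  have h1 : ∀ p, bcMap k X E L (fibreHom k X L x p) = fibreHom k X E x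
      (Spec.map (CommRingCat.ofHom (jE (X.residueField x) E).toRingHom) p) := by
    intro p
    rw [← Scheme.Hom.comp_apply, hcomm, Scheme.Hom.comp_apply]
    rfl
  rw [h1, h1] at hy
  have h2 := fibreHom_injective k X E x hy
  have hp₁ : p₁ ∈ (fibreHom k X L x) ⁻¹' U := hy₁U
  rw [hC'] at hp₁
  change p₂ ∈ (fibreHom k X L x) ⁻¹' U
  rw [hC']
  change Spec.map (CommRingCat.ofHom (jE (X.residueField x) E).toRingHom) p₂ ∈ C'
  rw [← h2]
  exact hp₁

/-- If `L/k` is algebraic and `X_E` is connected for each finite subextension `E`, then `X_L` is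
connected. -/
theorem connectedSpace_of_finite [Algebra.IsAlgebraic k L]
    (h : ∀ E : IntermediateField k L, FiniteDimensional k E → ConnectedSpace ↥(Curv2.bc k X E)) :
    ConnectedSpace ↥(Curv2.bc k X L) := by
  haveI hne : Nonempty ↥(Curv2.bc k X L) := by
    haveI := h ⊥ inferInstance
    obtain ⟨y⟩ := (inferInstance : Nonempty ↥(Curv2.bc k X (⊥ : IntermediateField k L)))
    obtain ⟨z, -⟩ := Groth.Agent.H38.GalAct.surjective_bcFst k X L
      (Curv2.bcFst k X (⊥ : IntermediateField k L) y)
    exact ⟨z⟩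
  haveI : PreconnectedSpace ↥(Curv2.bc k X L) := by
    rw [preconnectedSpace_iff_clopen]
    intro U hU
    by_contra hcon
    rw [not_or] at hcon
    obtain ⟨hU1, hU2⟩ := hcon
    obtain ⟨u, hu⟩ := Set.nonempty_iff_ne_empty.mpr hU1
    obtain ⟨v, hv⟩ := (Set.ne_univ_iff_exists_notMem U).mp hU2
    obtain ⟨E, hE, hsat⟩ := exists_finite_saturated k X L U hU (Curv2.bcFst k X L u)
    haveI := h E hE
    haveI : Algebra.IsAlgebraic E L := Algebra.IsAlgebraic.tower_top (K := k) E
    have hopen : IsOpenMap (bcMap k X E L) := (bcMap k X E L).isOpenMap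
    have hclosed : IsClosedMap (bcMap k X E L) := isClosedMap_bcMap k X L E
    have hV : IsClopen (bcMap k X E L '' Uᶜ) :=
      ⟨hclosed _ hU.compl.1, hopen _ hU.compl.2⟩
    have hVuniv : bcMap k X E L '' Uᶜ = Set.univ := by
      rcases isClopen_iff.mp hV with h0 | h1
      · exact absurd (Set.image_eq_empty.mp h0) (Set.nonempty_iff_ne_empty.mp ⟨v, hv⟩)
      · exact h1
    obtain ⟨y₂, hy₂, hy⟩ : bcMap k X E L u ∈ bcMap k X E L '' Uᶜ := by
      rw [hVuniv]; trivial
    exact hy₂ (hsat u y₂ rfl hy.symm hu)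
  exact ⟨hne⟩

end Groth.Agent.H38.ConnFinite
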