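import Mathlib

/-!
# Quasi-components under open and closed maps with compact fibres

The quasi-component `Q y` of a point is the intersection of the clopen sets containing it.
We show that open and closed maps with compact fibres map quasi-components onto
quasi-components, and give a criterion (in terms of "finite levels" and transitive families of
homeomorphisms) for quasi-components to be connected.
-/

set_option autoImplicit false
universe u

namespace Groth.Agent.H38.QuasiComp

section basic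

variable {E : Type*} [TopologicalSpace E]

/-- The quasi-component of a point. -/
def Q (y : E) : Set E := {w | ∀ U : Set E, IsClopen U → y ∈ U → w ∈ U}

lemma mem_Q_iff {y w : E} : w ∈ Q y ↔ ∀ U : Set E, IsClopen U → y ∈ U → w ∈ U := Iff.rfl

lemma self_mem_Q (y : E) : y ∈ Q y := fun _ _ h => h

lemma Q_eq_iInter (y : E) : Q y = ⋂ Z : { Z : Set E // IsClopen Z ∧ y ∈ Z }, (Z : Set E) := by
  ext w
  simp only [mem_Q_iff, Set.mem_iInter, Subtype.forall]
  exact ⟨fun h U hU => h U hU.1 hU.2, fun h U hU hy => h U ⟨hU, hy⟩⟩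

lemma isClosed_Q (y : E) : IsClosed (Q y) := by
  rw [Q_eq_iInter]
  exact isClosed_iInter fun Z => Z.2.1.1

lemma connectedComponent_subset_Q (y : E) : connectedComponent y ⊆ Q y :=
  fun _ hw U hU hy => hU.connectedComponent_subset hy hw

lemma Q_subset_of_isClopen {y : E} {U : Set E} (hU : IsClopen U) (hy : y ∈ U) : Q y ⊆ U :=
  fun _ hw => hw U hU hy

/-- Quasi-components form a partition. -/
lemma Q_eq_of_mem {y w : E} (hw : w ∈ Q y) : Q w = Q y := by
  ext v
  constructor
  · intro hv U hU hy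
    exact hv U hU (hw U hU hy)
  · intro hv U hU hwU
    by_cases hy : y ∈ U
    · exact hv U hU hy
    · exact absurd hwU (hw Uᶜ hU.compl hy)

lemma Q_eq_of_inter_nonempty {y y' : E} (h : (Q y ∩ Q y').Nonempty) : Q y = Q y' := by
  obtain ⟨w, hw, hw'⟩ := h
  rw [← Q_eq_of_mem hw, Q_eq_of_mem hw']

/-- If the quasi-component is preconnected then it is the connected component. -/
lemma connectedComponent_eq_Q {y : E} (h : IsPreconnected (Q y)) : connectedComponent y = Q y :=
  subset_antisymm (connectedComponent_subset_Q y) (h.subset_connectedComponent (self_mem_Q y))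

end basic

section image

variable {E E' : Type*} [TopologicalSpace E] [TopologicalSpace E']

/-- An open and closed continuous map with compact fibres maps quasi-components onto
quasi-components. -/
theorem image_Q {f : E → E'} (hf : Continuous f) (hop : IsOpenMap f) (hcl : IsClosedMap f)
    (hcpt : ∀ w, IsCompact (f ⁻¹' {w})) (y : E) : f '' Q y = Q (f y) := by
  apply subset_antisymm
  · rintro _ ⟨w, hw, rfl⟩ U hU hy
    exact hw (f ⁻¹' U) (hU.preimage hf) hy
  · intro c hc
    have key := (hcpt c).inter_iInter_nonempty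
      (fun Z : { Z : Set E // IsClopen Z ∧ y ∈ Z } => (Z : Set E)) (fun Z => Z.2.1.1) ?_
    · obtain ⟨w, hwc, hw⟩ := key
      refine ⟨w, ?_, hwc⟩
      rw [Q_eq_iInter]
      exact hw
    · intro u
      have hV : IsClopen (⋂ i ∈ u, (i : Set E)) := isClopen_biInter_finset fun i _ => i.2.1
      have hyV : y ∈ ⋂ i ∈ u, (i : Set E) := Set.mem_iInter₂.mpr fun i _ => i.2.2
      have himg : IsClopen (f '' ⋂ i ∈ u, (i : Set E)) := ⟨hcl _ hV.1, hop _ hV.2⟩
      obtain ⟨v, hv, hvc⟩ := hc _ himg ⟨y, hyV, rfl⟩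
      exact ⟨v, hvc, hv⟩

/-- A homeomorphism maps quasi-components onto quasi-components. -/
lemma image_Q_homeomorph (σ : E ≃ₜ E') (y : E) : σ '' Q y = Q (σ y) :=
  image_Q σ.continuous σ.isOpenMap σ.isClosedMap
    (fun w => by
      have : σ ⁻¹' {w} = {σ.symm w} := by
        ext e; simp [Homeomorph.eq_symm_apply]
      rw [this]; exact isCompact_singleton) y

/-- Onto a preconnected space, quasi-components surject. -/
theorem image_Q_eq_univ [PreconnectedSpace E'] {f : E → E'} (hf : Continuous f)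
    (hop : IsOpenMap f) (hcl : IsClosedMap f) (hcpt : ∀ w, IsCompact (f ⁻¹' {w})) (y : E) :
    f '' Q y = Set.univ := by
  rw [image_Q hf hop hcl hcpt]
  ext w
  simp only [Set.mem_univ, iff_true]
  intro U hU hy
  rcases isClopen_iff.mp hU with h | h
  · rw [h] at hy; exact absurd hy (Set.notMem_empty _)
  · rw [h]; trivial

end image

section finite

variable {E₁ B : Type*} [TopologicalSpace E₁] [TopologicalSpace B]

/-- If `E₁` maps to a preconnected space by an open and closed map with one finite fibre, then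
`E₁` has only finitely many clopen subsets. -/
theorem finite_isClopen [PreconnectedSpace B] {r : E₁ → B} (hop : IsOpenMap r)
    (hcl : IsClosedMap r) {z : B} (hfin : (r ⁻¹' {z}).Finite) :
    {U : Set E₁ | IsClopen U}.Finite := by
  have hsub : ∀ U V : Set E₁, IsClopen U → IsClopen V → U ∩ r ⁻¹' {z} ⊆ V → U ⊆ V := by
    intro U V hU hV h
    have hD : IsClopen (U \ V) := hU.diff hV
    have himg : IsClopen (r '' (U \ V)) := ⟨hcl _ hD.1, hop _ hD.2⟩
    rcases isClopen_iff.mp himg with h0 | h1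
    · rw [Set.image_eq_empty] at h0
      exact Set.diff_eq_empty.mp h0
    · exfalso
      have : z ∈ r '' (U \ V) := by rw [h1]; trivial
      obtain ⟨d, ⟨hdU, hdV⟩, hdz⟩ := this
      exact hdV (h ⟨hdU, hdz⟩)
  apply Set.Finite.of_finite_image (f := fun U : Set E₁ => U ∩ r ⁻¹' {z})
  · exact hfin.finite_subsets.subset (by rintro _ ⟨U, -, rfl⟩; exact Set.inter_subset_right)
  · intro U hU V hV h
    simp only at h
    exact subset_antisymm (hsub U V hU hV (h ▸ Set.inter_subset_left))
      (hsub V U hV hU (h ▸ Set.inter_subset_left))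

/-- In a space with finitely many clopen subsets the quasi-components are preconnected. -/
theorem isPreconnected_Q_of_finite (hfin : {U : Set E₁ | IsClopen U}.Finite) (y : E₁) :
    IsPreconnected (Q y) := by
  have hQ : IsClopen (Q y) := by
    have : Q y = ⋂ U ∈ {U : Set E₁ | IsClopen U ∧ y ∈ U}, U := by
      ext w
      simp only [mem_Q_iff, Set.mem_setOf_eq, Set.mem_iInter, and_imp]
    rw [this]
    exact (hfin.subset (fun U hU => hU.1)).isClopen_biInter fun U hU => hU.1
  rw [isPreconnected_iff_subset_of_disjoint_closed]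
  intro u v hu hv huv hdisj
  have hu' : IsClopen (Q y ∩ u) := by
    refine ⟨hQ.1.inter hu, ?_⟩
    have : Q y ∩ u = Q y ∩ vᶜ := by
      ext w
      constructor
      · rintro ⟨hw, hwu⟩
        refine ⟨hw, fun hwv => ?_⟩
        have : w ∈ Q y ∩ (u ∩ v) := ⟨hw, hwu, hwv⟩
        rw [hdisj] at this; exact this
      · rintro ⟨hw, hwv⟩
        exact ⟨hw, (huv hw).resolve_right hwv⟩
    rw [this]
    exact hQ.2.inter hv.isOpen_compl
  have hv' : IsClopen (Q y ∩ v) := by
    refine ⟨hQ.1.inter hv, ?_⟩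
    have : Q y ∩ v = Q y ∩ uᶜ := by
      ext w
      constructor
      · rintro ⟨hw, hwv⟩
        refine ⟨hw, fun hwu => ?_⟩
        have : w ∈ Q y ∩ (u ∩ v) := ⟨hw, hwu, hwv⟩
        rw [hdisj] at this; exact this
      · rintro ⟨hw, hwu⟩
        exact ⟨hw, (huv hw).resolve_left hwu⟩
    rw [this]
    exact hQ.2.inter hu.isOpen_compl
  rcases huv (self_mem_Q y) with hyu | hyv
  · left
    exact (Q_subset_of_isClopen hu' ⟨self_mem_Q y, hyu⟩).trans Set.inter_subset_right
  · right
    exact (Q_subset_of_isClopen hv' ⟨self_mem_Q y, hyv⟩).trans Set.inter_subset_right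

end finite

section main

variable {E B : Type u} [TopologicalSpace E] [TopologicalSpace B] [PreconnectedSpace B]

/-- The level data attached to a point `z` of the base and two disjoint closed subsets. -/
def HasLevels (c : E → B) : Prop :=
  ∀ (z : B) (A B' : Set E), IsClosed A → IsClosed B' → Disjoint A B' →
    ∃ (E₁ : Type u) (_ : TopologicalSpace E₁) (q : E → E₁) (r : E₁ → B),
      Continuous q ∧ (∀ e, r (q e) = c e) ∧ IsClosedMap q ∧ IsOpenMap q ∧
      (∀ w, IsCompact (q ⁻¹' {w})) ∧ IsClosedMap r ∧ IsOpenMap r ∧ (r ⁻¹' {z}).Finite ∧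
      (∀ s s', q s = q s' → ∃ σ : E ≃ₜ E, (∀ e, q (σ e) = q e) ∧ σ s = s') ∧
      (∀ a ∈ A, ∀ b ∈ B', c a = z → c b = z → q a ≠ q b)

/-- Main criterion: quasi-components of the total space are preconnected. -/
theorem isPreconnected_Q {c : E → B} (hc : Continuous c) (hcl : IsClosedMap c)
    (hop : IsOpenMap c) (hcpt : ∀ z, IsCompact (c ⁻¹' {z})) (H : HasLevels c) (y : E) :
    IsPreconnected (Q y) := by
  rw [isPreconnected_closed_iff]
  intro t t' ht ht' hcov hne hne'
  by_contra hcon
  rw [Set.not_nonempty_iff_eq_empty] at hcon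
  -- the two closed pieces
  obtain ⟨A, hA⟩ : ∃ A, A = Q y ∩ t := ⟨_, rfl⟩
  obtain ⟨B', hB'⟩ : ∃ B', B' = Q y ∩ t' := ⟨_, rfl⟩
  have hAcl : IsClosed A := hA ▸ (isClosed_Q y).inter ht
  have hBcl : IsClosed B' := hB' ▸ (isClosed_Q y).inter ht'
  have hAB : Disjoint A B' := by
    rw [Set.disjoint_iff_inter_eq_empty, ← hcon, hA, hB']
    ext w; simp only [Set.mem_inter_iff]; tauto
  have hAQ : A ⊆ Q y := hA ▸ Set.inter_subset_left
  have hBQ : B' ⊆ Q y := hB' ▸ Set.inter_subset_left
  have hQAB : Q y ⊆ A ∪ B' := by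
    intro w hw
    rcases hcov hw with h | h
    · left; rw [hA]; exact ⟨hw, h⟩
    · right; rw [hB']; exact ⟨hw, h⟩
  have hAne : A.Nonempty := hA ▸ hne
  have hBne : B'.Nonempty := hB' ▸ hne'
  -- a point of the base over which both pieces live
  have hsurj := image_Q_eq_univ hc hop hcl hcpt y
  obtain ⟨z, hzA, hzB⟩ : ∃ z, z ∈ c '' A ∧ z ∈ c '' B' := by
    have hpre : IsPreconnected (Set.univ : Set B) := isPreconnected_univ
    rw [isPreconnected_closed_iff] at hpre
    obtain ⟨z, -, hz1, hz2⟩ := hpre (c '' A) (c '' B') (hcl _ hAcl) (hcl _ hBcl)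
      (by
        rw [← hsurj, ← Set.image_union]
        exact Set.image_mono hQAB)
      (by rw [Set.univ_inter]; exact hAne.image c)
      (by rw [Set.univ_inter]; exact hBne.image c)
    exact ⟨z, hz1, hz2⟩
  obtain ⟨E₁, _, q, r, hq, hrq, hqcl, hqop, hqcpt, hrcl, hrop, hrfin, htrans, hsep⟩ :=
    H z A B' hAcl hBcl hAB
  -- the quasi-component downstairs is preconnected
  have hC₁ : IsPreconnected (Q (q y)) :=
    isPreconnected_Q_of_finite (finite_isClopen hrop hrcl hrfin) (q y)
  have hqQ : q '' Q y = Q (q y) := image_Q hq hqop hqcl hqcpt y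
  -- the saturation of `A` inside `Q y` and its complement
  obtain ⟨B₃, hB₃⟩ : ∃ B₃ : Set E, B₃ = {s | s ∈ Q y ∧ ∀ a ∈ A, q a ≠ q s} := ⟨_, rfl⟩
  have hB₃eq : B₃ = Q y ∩ ⋂ σ : {σ : E ≃ₜ E // (∀ e, q (σ e) = q e) ∧ σ '' Q y = Q y},
      (σ : E ≃ₜ E) ⁻¹' B' := by
    rw [hB₃]
    ext s
    simp only [Set.mem_setOf_eq, Set.mem_inter_iff, Set.mem_iInter, Set.mem_preimage,
      Subtype.forall]
    constructor
    · rintro ⟨hs, hsA⟩
      refine ⟨hs, fun σ hσ => ?_⟩
      have hσs : σ s ∈ Q y := by rw [← hσ.2]; exact ⟨s, hs, rfl⟩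
      rcases hQAB hσs with h | h
      · exact absurd (hσ.1 s) (hsA _ h)
      · exact h
    · rintro ⟨hs, hσ⟩
      refine ⟨hs, fun a ha hqa => ?_⟩
      obtain ⟨σ, hσq, hσs⟩ := htrans s a hqa.symm
      have hσQ : σ '' Q y = Q y := by
        rw [image_Q_homeomorph]
        apply Q_eq_of_inter_nonempty
        refine ⟨a, ?_, hAQ ha⟩
        rw [← image_Q_homeomorph]
        exact ⟨s, hs, hσs⟩
      have := hσ σ ⟨hσq, hσQ⟩
      rw [hσs] at this
      exact Set.disjoint_iff.mp hAB ⟨ha, this⟩
  have hB₃cl : IsClosed B₃ := by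
    rw [hB₃eq]
    exact (isClosed_Q y).inter (isClosed_iInter fun σ => hBcl.preimage σ.1.continuous)
  have hB₃Q : B₃ ⊆ Q y := by rw [hB₃]; exact fun s hs => hs.1
  -- `q '' A` and `q '' B₃` are disjoint closed sets covering `Q (q y)`
  have hcov₁ : Q (q y) ⊆ q '' A ∪ q '' B₃ := by
    rw [← hqQ]
    rintro _ ⟨s, hs, rfl⟩
    by_cases h : ∃ a ∈ A, q a = q s
    · obtain ⟨a, ha, hqa⟩ := h
      left; exact ⟨a, ha, hqa⟩
    · right
      push Not at h
      exact ⟨s, by rw [hB₃]; exact ⟨hs, h⟩, rfl⟩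
  have hdisj₁ : Q (q y) ∩ (q '' A ∩ q '' B₃) = ∅ := by
    rw [Set.eq_empty_iff_forall_notMem]
    rintro w ⟨-, ⟨a, ha, rfl⟩, ⟨s, hs, hqs⟩⟩
    rw [hB₃] at hs
    exact hs.2 a ha hqs.symm
  rw [isPreconnected_iff_subset_of_disjoint_closed] at hC₁
  rcases hC₁ _ _ (hqcl _ hAcl) (hqcl _ hB₃cl) hcov₁ hdisj₁ with h | h
  · -- everything is in the saturation of `A`: contradiction over `z`
    obtain ⟨b, hb, hbz⟩ := hzB
    have : q b ∈ q '' A := h (by rw [← hqQ]; exact ⟨b, hBQ hb, rfl⟩)
    obtain ⟨a, ha, hqa⟩ := this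
    have haz : c a = z := by rw [← hrq, hqa, hrq, hbz]
    exact hsep a ha b hb haz hbz hqa
  · -- nothing is in the saturation of `A`: impossible since `A` is nonempty
    obtain ⟨a, ha⟩ := hAne
    have : q a ∈ q '' B₃ := h (by rw [← hqQ]; exact ⟨a, hAQ ha, rfl⟩)
    obtain ⟨s, hs, hqs⟩ := this
    rw [hB₃] at hs
    exact hs.2 a ha hqs.symm

/-- Under the hypotheses of `isPreconnected_Q`, connected components surject onto the base. -/
theorem image_connectedComponent_eq_univ {c : E → B} (hc : Continuous c) (hcl : IsClosedMap c)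
    (hop : IsOpenMap c) (hcpt : ∀ z, IsCompact (c ⁻¹' {z})) (H : HasLevels c) (y : E) :
    c '' connectedComponent y = Set.univ := by
  rw [connectedComponent_eq_Q (isPreconnected_Q hc hcl hop hcpt H y)]
  exact image_Q_eq_univ hc hop hcl hcpt y

end main

end Groth.Agent.H38.QuasiComp
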