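import Mathlib
import Groth.Prelude.Def_Curv2
import Groth.Agent.H38.ConnFinite
import Groth.Agent.H38.QuasiComp

/-!
# The image of a connected component of `X_L` for a normal algebraic extension `L/k`
-/

set_option autoImplicit false
universe u

open CategoryTheory CategoryTheory.Limits AlgebraicGeometry TensorProduct

attribute [local instance] Curv2.resAlgebra

namespace Groth.Agent.H38.ConnCompImage

open Groth.Agent.H38.FibreTower Groth.Agent.H38.GalTower Groth.Agent.H38.ClopenDescent
  Groth.Agent.H38.GalAct Groth.Agent.H38.ConnFinite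

variable (k : Type u) [Field k] (X : Scheme.{u}) [X.Over (Spec (CommRingCat.of k))]
  (L : Type u) [Field L] [Algebra k L]

instance quasiCompact_bcFst : QuasiCompact (Curv2.bcFst k X L) := by
  unfold Curv2.bcFst; infer_instance

instance quasiCompact_bcMap (K : Type u) [Field K] [Algebra k K] [Algebra K L]
    [IsScalarTower k K L] : QuasiCompact (bcMap k X K L) :=
  MorphismProperty.of_isPullback (P := @QuasiCompact) (isPullback_bcMap k X K L).flip
    inferInstance

/-- The Galois action over an intermediate field commutes with the projection to that level. -/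
lemma galAct_bcMap (K : Type u) [Field K] [Algebra k K] [Algebra K L] [IsScalarTower k K L]
    (σ : L ≃ₐ[K] L) :
    Curv2.galAct k X L (σ.restrictScalars k) ≫ bcMap k X K L = bcMap k X K L := by
  apply pullback.hom_ext
  · change (Curv2.galAct k X L (σ.restrictScalars k) ≫ bcMap k X K L) ≫ Curv2.bcFst k X K =
      bcMap k X K L ≫ Curv2.bcFst k X K
    rw [Category.assoc, bcMap_fst, galAct_fst]
  · change (Curv2.galAct k X L (σ.restrictScalars k) ≫ bcMap k X K L) ≫ Curv2.bcSnd k X K =
      bcMap k X K L ≫ Curv2.bcSnd k X K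
    rw [Category.assoc, bcMap_snd, ← Category.assoc, galAct_snd, Category.assoc,
      ← Spec.map_comp]
    congr 2
    ext x
    exact σ.commutes x

lemma galAct_bcMap_apply (K : Type u) [Field K] [Algebra k K] [Algebra K L] [IsScalarTower k K L]
    (σ : L ≃ₐ[K] L) (y : ↥(Curv2.bc k X L)) :
    bcMap k X K L (Curv2.galAct k X L (σ.restrictScalars k) y) = bcMap k X K L y := by
  rw [← Scheme.Hom.comp_apply, galAct_bcMap]

/-- The fibres of `X_E ⟶ X` are finite for a finite extension `E/k`. -/
lemma finite_fibre (E : Type u) [Field E] [Algebra k E] [FiniteDimensional k E] (z : X) :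
    (Curv2.bcFst k X E ⁻¹' {z}).Finite := by
  rw [← range_fibreHom]
  haveI : Module.Finite (X.residueField z) (X.residueField z ⊗[k] E) := inferInstance
  haveI : IsArtinianRing (X.residueField z ⊗[k] E) :=
    IsArtinianRing.of_finite (X.residueField z) _
  haveI : Finite ↥(Spec (CommRingCat.of (X.residueField z ⊗[k] E))) :=
    (inferInstance : Finite (PrimeSpectrum (X.residueField z ⊗[k] E)))
  exact Set.finite_range _

set_option backward.isDefEq.respectTransparency false in
/-- Two disjoint closed subsets of `X_L` are separated, over a given point `z` of `X`, at a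
finite level. -/
theorem exists_finite_separating [Algebra.IsAlgebraic k L] (A B' : Set ↥(Curv2.bc k X L))
    (hA : IsClosed A) (hB : IsClosed B') (hAB : Disjoint A B') (z : X) :
    ∃ (E : IntermediateField k L) (_ : FiniteDimensional k E),
      ∀ a ∈ A, ∀ b ∈ B', Curv2.bcFst k X L a = z → Curv2.bcFst k X L b = z →
        bcMap k X E L a ≠ bcMap k X E L b := by
  obtain ⟨SA, hSA⟩ : ∃ SA : Set (PrimeSpectrum (X.residueField z ⊗[k] L)),
      SA = (fibreHom k X L z) ⁻¹' A := ⟨_, rfl⟩
  obtain ⟨SB, hSB⟩ : ∃ SB : Set (PrimeSpectrum (X.residueField z ⊗[k] L)),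
      SB = (fibreHom k X L z) ⁻¹' B' := ⟨_, rfl⟩
  have hA' : IsClosed SA := hSA ▸ hA.preimage (fibreHom k X L z).continuous
  have hB' : IsClosed SB := hSB ▸ hB.preimage (fibreHom k X L z).continuous
  obtain ⟨I, hI⟩ := (PrimeSpectrum.isClosed_iff_zeroLocus_ideal _).mp hA'
  obtain ⟨J, hJ⟩ := (PrimeSpectrum.isClosed_iff_zeroLocus_ideal _).mp hB'
  have hSAB : SA ∩ SB = ∅ := by
    rw [Set.eq_empty_iff_forall_notMem]
    rintro p ⟨h1, h2⟩
    rw [hSA] at h1
    rw [hSB] at h2
    exact Set.disjoint_iff.mp hAB ⟨h1, h2⟩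
  have hIJ : I ⊔ J = ⊤ := by
    rw [← PrimeSpectrum.zeroLocus_empty_iff_eq_top, PrimeSpectrum.zeroLocus_sup, ← hI, ← hJ,
      hSAB]
  have h1mem : (1 : X.residueField z ⊗[k] L) ∈ I ⊔ J := by rw [hIJ]; exact Submodule.mem_top
  obtain ⟨i, hi, j, hj, hij⟩ := Submodule.mem_sup.mp h1mem
  obtain ⟨E, hE, i', hi'⟩ := exists_finite_intermediateField_mem_range (X.residueField z) i
  refine ⟨E, hE, ?_⟩
  intro a ha b hb haz hbz hab
  obtain ⟨p₁, rfl⟩ : a ∈ Set.range (fibreHom k X L z) := by
    rw [range_fibreHom]; exact haz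
  obtain ⟨p₂, rfl⟩ : b ∈ Set.range (fibreHom k X L z) := by
    rw [range_fibreHom]; exact hbz
  have hcomm := fibreHom_bcMap k X E z L
  have h1 : ∀ p, bcMap k X E L (fibreHom k X L z p) = fibreHom k X E z
      (Spec.map (CommRingCat.ofHom (jE (X.residueField z) E).toRingHom) p) := by
    intro p
    rw [← Scheme.Hom.comp_apply, hcomm, Scheme.Hom.comp_apply]
    rfl
  rw [h1, h1] at hab
  have h2 := fibreHom_injective k X E z hab
  obtain ⟨P₁, hP₁⟩ : ∃ P₁ : PrimeSpectrum (X.residueField z ⊗[k] L), P₁ = p₁ := ⟨_, rfl⟩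
  obtain ⟨P₂, hP₂⟩ : ∃ P₂ : PrimeSpectrum (X.residueField z ⊗[k] L), P₂ = p₂ := ⟨_, rfl⟩
  have hp₁ : P₁ ∈ PrimeSpectrum.zeroLocus (I : Set (X.residueField z ⊗[k] L)) := by
    rw [← hI, hSA, hP₁]; exact ha
  have hp₂ : P₂ ∈ PrimeSpectrum.zeroLocus (J : Set (X.residueField z ⊗[k] L)) := by
    rw [← hJ, hSB, hP₂]; exact hb
  have hi₁ : i ∈ P₁.asIdeal := hp₁ hi
  have hj₂ : j ∈ P₂.asIdeal := hp₂ hj
  -- the common image prime contains both `i'` and `1 - i'`
  have h3 : PrimeSpectrum.comap (R := X.residueField z ⊗[k] E) (S := X.residueField z ⊗[k] L)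
      (jE (X.residueField z) E).toRingHom P₁ =
      PrimeSpectrum.comap (R := X.residueField z ⊗[k] E) (S := X.residueField z ⊗[k] L)
      (jE (X.residueField z) E).toRingHom P₂ := by
    rw [hP₁, hP₂]; exact h2
  have e1 : i' ∈ (PrimeSpectrum.comap (R := X.residueField z ⊗[k] E) (S := X.residueField z ⊗[k] L)
      (jE (X.residueField z) E).toRingHom P₁).asIdeal := by
    change (jE (X.residueField z) E).toRingHom i' ∈ P₁.asIdeal
    rw [hi']; exact hi₁
  have e2 : 1 - i' ∈ (PrimeSpectrum.comap (R := X.residueField z ⊗[k] E) (S := X.residueField z ⊗[k] L)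
      (jE (X.residueField z) E).toRingHom P₂).asIdeal := by
    change (jE (X.residueField z) E).toRingHom (1 - i') ∈ P₂.asIdeal
    rw [map_sub, map_one, hi', ← hij, add_sub_cancel_left]; exact hj₂
  rw [← h3] at e2
  have := Ideal.add_mem _ e1 e2
  rw [add_sub_cancel] at this
  exact (PrimeSpectrum.comap (R := X.residueField z ⊗[k] E) (S := X.residueField z ⊗[k] L)
      (jE (X.residueField z) E).toRingHom P₁).isPrime.ne_top
    ((Ideal.eq_top_iff_one _).mpr this)

/-- The level structure needed for the quasi-component criterion. -/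
theorem hasLevels [Normal k L] :
    Groth.Agent.H38.QuasiComp.HasLevels (Curv2.bcFst k X L : ↥(Curv2.bc k X L) → ↥X) := by
  intro z A B' hA hB hAB
  obtain ⟨E, hE, hsep⟩ := exists_finite_separating k X L A B' hA hB hAB z
  haveI : Algebra.IsAlgebraic E L := Algebra.IsAlgebraic.tower_top (K := k) E
  haveI : Algebra.IsAlgebraic k E := Algebra.IsAlgebraic.of_finite k E
  haveI : Normal E L := Normal.tower_top_of_normal k E L
  refine ⟨↥(Curv2.bc k X E), inferInstance, bcMap k X E L, Curv2.bcFst k X E,
    (bcMap k X E L).continuous, bcFst_bcMap_apply k X E L, isClosedMap_bcMap k X L E,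
    (bcMap k X E L).isOpenMap, fun w => (bcMap k X E L).isCompact_preimage_singleton w,
    isClosedMap_bcFst k X E, isOpenMap_bcFst k X E, finite_fibre k X E z, ?_, ?_⟩
  · intro s s' hss'
    obtain ⟨σ, hσ⟩ := exists_galAct_eq_of_hom k X L (k' := E) (bcMap k X E L)
      (Curv2.bcFst k X E) (Curv2.bcSnd k X E) (bcMap_fst k X E L) (bcMap_snd k X E L) s s' hss'
    refine ⟨galHomeo k X L (σ.restrictScalars k), fun e => ?_, ?_⟩
    · rw [galHomeo_apply]; exact galAct_bcMap_apply k X L E σ e
    · rw [galHomeo_apply]; exact hσ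
  · exact hsep

/-- For a connected scheme `X` over `k` and a normal algebraic extension `L/k`, every connected
component of `X_L` surjects onto `X`. -/
theorem image_connectedComponent_eq_univ [Normal k L]
    [PreconnectedSpace ↥X] (y : ↥(Curv2.bc k X L)) :
    Curv2.bcFst k X L '' connectedComponent y = Set.univ :=
  Groth.Agent.H38.QuasiComp.image_connectedComponent_eq_univ (Curv2.bcFst k X L).continuous
    (isClosedMap_bcFst k X L) (isOpenMap_bcFst k X L)
    (fun z => (Curv2.bcFst k X L).isCompact_preimage_singleton z) (hasLevels k X L) y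

end Groth.Agent.H38.ConnCompImage
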