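import Mathlib
import Groth.Prelude.Def_Curv2
import Groth.Agent.H38.ConnCompImage

/-!
# The image of a connected component of `X_K` is a connected component of `X`
-/

set_option autoImplicit false
universe u

open CategoryTheory CategoryTheory.Limits AlgebraicGeometry TensorProduct

namespace Groth.Agent.H38.ConnCompImage

open Groth.Agent.H38.GalTower Groth.Agent.H38.GalAct Groth.Agent.H38.ConnFinite

variable (k : Type u) [Field k] (X : Scheme.{u}) [X.Over (Spec (CommRingCat.of k))]
  (L : Type u) [Field L] [Algebra k L]

/-- For a normal algebraic extension `L/k`, the image in `X` of a connected component of `X_L`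
is a connected component of `X`. -/
theorem image_connectedComponent_of_normal [Normal k L] (y : ↥(Curv2.bc k X L)) :
    Curv2.bcFst k X L '' connectedComponent y =
      connectedComponent (Curv2.bcFst k X L y) := by
  apply subset_antisymm ((Curv2.bcFst k X L).continuous.image_connectedComponent_subset y)
  -- the closed subscheme structure on the connected component
  obtain ⟨T, hT⟩ : ∃ T : TopologicalSpace.Closeds ↥X,
      (T : Set ↥X) = connectedComponent (Curv2.bcFst k X L y) :=
    ⟨⟨_, isClosed_connectedComponent⟩, rfl⟩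
  obtain ⟨I, hI⟩ : ∃ I : X.IdealSheafData, I = Scheme.IdealSheafData.vanishingIdeal T :=
    ⟨_, rfl⟩
  have hrange : Set.range I.subschemeι = connectedComponent (Curv2.bcFst k X L y) := by
    rw [I.range_subschemeι, hI, Scheme.IdealSheafData.coe_support_vanishingIdeal, hT]
  letI : I.subscheme.Over (Spec (CommRingCat.of k)) :=
    ⟨I.subschemeι ≫ (X ↘ Spec (CommRingCat.of k))⟩
  haveI : PreconnectedSpace ↥I.subscheme := by
    constructor
    rw [← I.subschemeι.isClosedEmbedding.isInducing.isPreconnected_image, Set.image_univ, hrange]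
    exact isPreconnected_connectedComponent
  -- the pullback square
  have hR : IsPullback (Curv2.bcSnd k X L) (Curv2.bcFst k X L)
      (Spec.map (CommRingCat.ofHom (algebraMap k L))) (X ↘ Spec (CommRingCat.of k)) :=
    (IsPullback.of_hasPullback _ _).flip
  have hL : IsPullback (Curv2.bcSnd k I.subscheme L) (Curv2.bcFst k I.subscheme L)
      (Spec.map (CommRingCat.ofHom (algebraMap k L)))
      (I.subschemeι ≫ (X ↘ Spec (CommRingCat.of k))) :=
    (IsPullback.of_hasPullback _ _).flip
  have hsq := Groth.Agent.H7.isPullback_lift_of_isPullback_comp hR hL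
  obtain ⟨j, hj⟩ : ∃ j : Curv2.bc k I.subscheme L ⟶ Curv2.bc k X L,
      j = hR.lift (Curv2.bcSnd k I.subscheme L) (Curv2.bcFst k I.subscheme L ≫ I.subschemeι)
        (hL.w.trans (Category.assoc _ _ _).symm) := ⟨_, rfl⟩
  rw [← hj] at hsq
  have hjfst : ∀ w, Curv2.bcFst k X L (j w) = I.subschemeι (Curv2.bcFst k I.subscheme L w) := by
    intro w
    rw [← Scheme.Hom.comp_apply, ← Scheme.Hom.comp_apply, hsq.w]
  -- lift `y`
  obtain ⟨t, ht⟩ : Curv2.bcFst k X L y ∈ Set.range I.subschemeι := by
    rw [hrange]; exact mem_connectedComponent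
  obtain ⟨y', hy'⟩ : ∃ y' : ↥(Curv2.bc k I.subscheme L), j y' = y := by
    obtain ⟨w, hw1, -⟩ := Scheme.Pullback.exists_preimage_pullback (f := Curv2.bcFst k X L)
      (g := I.subschemeι) y t ht.symm
    refine ⟨hsq.isoPullback.inv w, ?_⟩
    rw [← hw1, ← Scheme.Hom.comp_apply, IsPullback.isoPullback_inv_fst]
  intro w hw
  obtain ⟨t', ht'⟩ : w ∈ Set.range I.subschemeι := by rw [hrange]; exact hw
  have hsurj := image_connectedComponent_eq_univ k I.subscheme L y'
  obtain ⟨y'', hy'', hy''t⟩ : t' ∈ Curv2.bcFst k I.subscheme L '' connectedComponent y' := by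
    rw [hsurj]; trivial
  refine ⟨j y'', ?_, ?_⟩
  · rw [← hy']
    exact j.continuous.image_connectedComponent_subset y' ⟨y'', hy'', rfl⟩
  · rw [hjfst, hy''t, ht']

variable (K : Type u) [Field K] [Algebra k K]

/-- For an arbitrary field extension `K/k`, the image in `X` of a connected component of `X_K`
is a connected component of `X`. -/
theorem image_connectedComponent (x' : ↥(Curv2.bc k X K)) :
    Curv2.bcFst k X K '' connectedComponent x' =
      connectedComponent (Curv2.bcFst k X K x') := by
  apply subset_antisymm ((Curv2.bcFst k X K).continuous.image_connectedComponent_subset x')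
  let ι : SeparableClosure k →ₐ[k] SeparableClosure K := IsSepClosed.lift
  letI : Algebra (SeparableClosure k) (SeparableClosure K) := ι.toRingHom.toAlgebra
  haveI : IsScalarTower k (SeparableClosure k) (SeparableClosure K) :=
    IsScalarTower.of_algebraMap_eq fun x => (ι.commutes x).symm
  haveI := geometricallyConnected_bcMap k X (SeparableClosure k) (SeparableClosure K)
  obtain ⟨a, ha⟩ : ∃ a, a = bcMap k X K (SeparableClosure K) := ⟨_, rfl⟩
  obtain ⟨b, hb⟩ : ∃ b, b = bcMap k X (SeparableClosure k) (SeparableClosure K) := ⟨_, rfl⟩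
  obtain ⟨c, hc⟩ : ∃ c, c = Curv2.bcFst k X (SeparableClosure k) := ⟨_, rfl⟩
  have hab : ∀ y, Curv2.bcFst k X K (a y) = c (b y) := by
    intro y
    rw [ha, hb, hc, bcFst_bcMap_apply, bcFst_bcMap_apply]
  obtain ⟨x'', hx''⟩ : ∃ x'', a x'' = x' := by rw [ha]; exact Scheme.Hom.surjective _ x'
  -- the component of `x''` is the full preimage of the component of `b x''`
  have hpre : b ⁻¹' connectedComponent (b x'') ⊆ connectedComponent x'' := by
    have hconn : _root_.IsConnected (b ⁻¹' connectedComponent (b x'')) := by
      rw [hb]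
      exact Scheme.Hom.isConnected_preimage _ (Scheme.Hom.isOpenMap _)
        isConnected_connectedComponent isClosed_connectedComponent
    exact hconn.isPreconnected.subset_connectedComponent
      (show b x'' ∈ connectedComponent (b x'') from mem_connectedComponent)
  have hmain := image_connectedComponent_of_normal k X (SeparableClosure k) (b x'')
  intro w hw
  have hw' : w ∈ connectedComponent (c (b x'')) := by rwa [← hab, hx'']
  rw [hc, ← hmain] at hw'
  obtain ⟨v, hv, hvw⟩ := hw'
  obtain ⟨u, hu⟩ : ∃ u, b u = v := by rw [hb]; exact Scheme.Hom.surjective _ v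
  have hu' : u ∈ connectedComponent x'' := hpre (by rw [Set.mem_preimage, hu]; exact hv)
  refine ⟨a u, ?_, ?_⟩
  · rw [← hx'']
    exact a.continuous.image_connectedComponent_subset x'' ⟨u, hu', rfl⟩
  · rw [hab, hu, ← hvw, hc]

end Groth.Agent.H38.ConnCompImage
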