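import Mathlib
import Groth.Prelude.Def_Curv2
import Groth.Agent.H38.ConnCompImage2
import Groth.Agent.H48.SepClosedIn

/-!
# Geometric connectedness from one connected fibre
-/

set_option autoImplicit false
universe u

open CategoryTheory CategoryTheory.Limits AlgebraicGeometry TensorProduct

attribute [local instance] Curv2.resAlgebra

namespace Groth.Agent.H38.ConnFibre

open Groth.Agent.H38.ConnCompImage

variable (k : Type u) [Field k] (X : Scheme.{u}) [X.Over (Spec (CommRingCat.of k))]
  (K : Type u) [Field K] [Algebra k K]

/-- If `X` is connected and the fibre of `X_K ⟶ X` over one point is preconnected, then `X_K` is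
connected. -/
theorem connectedSpace_bc_of_isPreconnected_fibre [ConnectedSpace ↥X] (x : X)
    (h : _root_.IsPreconnected (Curv2.bcFst k X K ⁻¹' {x})) : ConnectedSpace ↥(Curv2.bc k X K) := by
  haveI : Nonempty ↥(Curv2.bc k X K) := by
    obtain ⟨y, -⟩ := (Curv2.bcFst k X K).surjective x
    exact ⟨y⟩
  -- every connected component meets the fibre over `x`
  have hmeet : ∀ y : ↥(Curv2.bc k X K), ∃ z ∈ connectedComponent y, Curv2.bcFst k X K z = x := by
    intro y
    have himg := image_connectedComponent k X K y
    have hx : x ∈ connectedComponent (Curv2.bcFst k X K y) := by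
      rw [PreconnectedSpace.connectedComponent_eq_univ]; trivial
    rw [← himg] at hx
    exact hx
  obtain ⟨y₀⟩ := (inferInstance : Nonempty ↥(Curv2.bc k X K))
  have hall : ∀ y : ↥(Curv2.bc k X K), y ∈ connectedComponent y₀ := by
    intro y
    obtain ⟨z₀, hz₀, hz₀x⟩ := hmeet y₀
    obtain ⟨z, hz, hzx⟩ := hmeet y
    have h1 : z ∈ connectedComponent z₀ :=
      h.subset_connectedComponent (show z₀ ∈ Curv2.bcFst k X K ⁻¹' {x} from hz₀x)
        (show z ∈ Curv2.bcFst k X K ⁻¹' {x} from hzx)
    rw [← connectedComponent_eq hz₀] at h1
    rw [connectedComponent_eq h1, ← connectedComponent_eq hz]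
    exact mem_connectedComponent
  haveI : PreconnectedSpace ↥(Curv2.bc k X K) := by
    constructor
    have : (Set.univ : Set ↥(Curv2.bc k X K)) = connectedComponent y₀ :=
      (Set.eq_univ_of_forall hall).symm
    rw [this]
    exact isPreconnected_connectedComponent
  exact ⟨inferInstance⟩

/-- A connected `k`-scheme with a point in whose residue field `k` is separably closed is
geometrically connected. -/
theorem geometricallyConnected_of_sepClosedIn [ConnectedSpace ↥X] (x : X)
    (hx : ∀ α : X.residueField x, IsSeparable k α →
      α ∈ Set.range (algebraMap k (X.residueField x))) :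
    GeometricallyConnected (X ↘ Spec (CommRingCat.of k)) := by
  rw [Groth.Agent.H38.GeomIrrField.geometricallyConnected_iff_bc]
  intro K _ _
  apply connectedSpace_bc_of_isPreconnected_fibre k X K x
  have h1 : IrreducibleSpace (PrimeSpectrum (K ⊗[k] X.residueField x)) :=
    (Groth.Agent.H48.geomIrr_iff_sepClosedIn (k := k) (K := X.residueField x)).mpr hx K
  have h2 : IrreducibleSpace (PrimeSpectrum (X.residueField x ⊗[k] K)) :=
    (PrimeSpectrum.homeomorphOfRingEquiv
      (Algebra.TensorProduct.comm k K (X.residueField x)).toRingEquiv).irreducibleSpace_iff.mp h1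
  exact ((Groth.Agent.H38.FibreIso.isIrreducible_fibre_iff k X K x).mpr h2).isConnected.isPreconnected

end Groth.Agent.H38.ConnFibre
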