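import Mathlib
import Groth.Agent.H47.FlatClosed
import Groth.Agent.H90.GrpImage
import Groth.Agent.H90.GrpBase

/-!
# Flat closed subgroup schemes of a group scheme over a field from subsets

A closed subset of a group scheme over a field which is stable under generalization, contains the
unit and is stable under multiplication and inversion carries a unique structure of flat closed
subgroup scheme.
-/

set_option autoImplicit false
universe u

open CategoryTheory MonoidalCategory CartesianMonoidalCategory MonObj GrpObj AlgebraicGeometry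
open Limits

namespace Groth.Agent.H38.GrpSubFlat

variable (K : Type u) [Field K] (G : Over (Spec (CommRingCat.of K))) [GrpObj G]

theorem exists_flat_subgroup (S : TopologicalSpace.Closeds ↥G.left)
    (hgen : StableUnderGeneralization (S : Set ↥G.left))
    (he : η[G].left (IsLocalRing.closedPoint K) ∈ (S : Set ↥G.left))
    (hmul : ∀ t : ↥(G ⊗ G).left, (fst G G).left t ∈ (S : Set ↥G.left) →
      (snd G G).left t ∈ (S : Set ↥G.left) → μ[G].left t ∈ (S : Set ↥G.left))
    (hinv : ∀ g : ↥G.left, g ∈ (S : Set ↥G.left) → ι[G].left g ∈ (S : Set ↥G.left)) :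
    ∃ (G₀ : Over (Spec (CommRingCat.of K))) (_ : GrpObj G₀) (incl : G₀ ⟶ G) (_ : IsMonHom incl),
      IsClosedImmersion incl.left ∧ Flat incl.left ∧ Set.range ⇑incl.left = (S : Set ↥G.left) := by
  obtain ⟨I, hI⟩ : ∃ I : G.left.IdealSheafData, I = Groth.Agent.H47.FlatClosed.idealSheaf S hgen :=
    ⟨_, rfl⟩
  have hIflat : Flat I.subschemeι := by
    rw [hI]; exact Groth.Agent.H47.FlatClosed.flat_idealSheaf S hgen
  have hIsupp : I.support = S := by
    rw [hI]; exact Groth.Agent.H47.FlatClosed.support_idealSheaf S hgen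
  have hrange : Set.range ⇑I.subschemeι = (S : Set ↥G.left) := by
    rw [I.range_subschemeι, hIsupp]
  let G₀ : Over (Spec (CommRingCat.of K)) := Over.mk (I.subschemeι ≫ G.hom)
  let incl : G₀ ⟶ G := Over.homMk I.subschemeι rfl
  have hmono_left : Mono incl.left := inferInstanceAs (Mono I.subschemeι)
  have hmono : Mono incl := (Over.forget _).mono_of_mono_map hmono_left
  have hfac : ∀ {Y : Scheme.{u}} (g : Y ⟶ G.left),
      Set.range ⇑g ⊆ (S : Set ↥G.left) → ∃ g' : Y ⟶ I.subscheme, g' ≫ I.subschemeι = g := by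
    intro Y g hg
    exact Groth.Agent.H47.FlatClosed.exists_factor I hIflat g (by rw [hIsupp]; exact hg)
  -- unit
  obtain ⟨e0, he0⟩ := hfac η[G].left (by
    rintro _ ⟨y, rfl⟩
    have : y = IsLocalRing.closedPoint K :=
      @Subsingleton.elim _ (inferInstanceAs (Subsingleton (PrimeSpectrum K))) _ _
    rw [this]; exact he)
  let e : 𝟙_ (Over (Spec (CommRingCat.of K))) ⟶ G₀ := Over.homMk e0 (by
    change e0 ≫ I.subschemeι ≫ G.hom = _
    rw [reassoc_of% he0, Over.w])
  have hee : e ≫ incl = η[G] := by ext1; exact he0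
  -- multiplication
  obtain ⟨m0, hm0⟩ := hfac ((incl ⊗ₘ incl) ≫ μ[G]).left (by
    rintro _ ⟨t, rfl⟩
    rw [Over.comp_left, Scheme.Hom.comp_apply]
    have ht : (incl ⊗ₘ incl).left t ∈ Set.range ⇑(incl ⊗ₘ incl).left := ⟨t, rfl⟩
    rw [Groth.Agent.H90.Base.range_tensorHom_left] at ht
    apply hmul
    · rw [← hrange]; exact ht.1
    · rw [← hrange]; exact ht.2)
  let m : G₀ ⊗ G₀ ⟶ G₀ := Over.homMk m0 (by
    change m0 ≫ I.subschemeι ≫ G.hom = _
    rw [reassoc_of% hm0, Over.w])
  have hm : m ≫ incl = (incl ⊗ₘ incl) ≫ μ[G] := by ext1; exact hm0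
  -- inverse
  obtain ⟨i0, hi0⟩ := hfac (incl ≫ ι[G]).left (by
    rintro _ ⟨t, rfl⟩
    rw [Over.comp_left, Scheme.Hom.comp_apply]
    apply hinv
    rw [← hrange]; exact ⟨t, rfl⟩)
  let inv' : G₀ ⟶ G₀ := Over.homMk i0 (by
    change i0 ≫ I.subschemeι ≫ G.hom = _
    rw [reassoc_of% hi0, Over.w])
  have hinv' : inv' ≫ incl = incl ≫ ι[G] := by ext1; exact hi0
  let inst : GrpObj G₀ := Groth.Agent.H90.grpObjOfMono' incl e hee m hm inv' hinv'
  refine ⟨G₀, inst, incl, ⟨hee, hm⟩, inferInstanceAs (IsClosedImmersion I.subschemeι), hIflat,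
    hrange⟩

end Groth.Agent.H38.GrpSubFlat
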