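import Mathlib
import Groth.Agent.H38.GrpSubFlat
import Groth.Agent.H90.GrpMinPrime
import Groth.Agent.H90.GrpGeomIrr
import Groth.Agent.H90.GrpDense

/-!
# Irreducible components of a group scheme over a field

* every point lies on a unique irreducible component, irreducible components are stable under
  generalization;
* the irreducible component `Z` of the unit is a flat closed subgroup scheme, geometrically
  irreducible and quasi-compact;
* `Z · Z' ⊆ Z'` for every irreducible component `Z'`.
-/

set_option autoImplicit false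
universe u

open CategoryTheory MonoidalCategory CartesianMonoidalCategory MonObj GrpObj AlgebraicGeometry
open Limits

namespace Groth.Agent.H38.GrpComp

variable (K : Type u) [Field K] (G : Over (Spec (CommRingCat.of K))) [GrpObj G]

/-- Two irreducible components of a group scheme over a field with a common point are equal. -/
theorem eq_of_mem_of_mem {Z₁ Z₂ : Set ↥G.left} (h₁ : Z₁ ∈ irreducibleComponents ↥G.left)
    (h₂ : Z₂ ∈ irreducibleComponents ↥G.left) (x : ↥G.left) (hx₁ : x ∈ Z₁) (hx₂ : x ∈ Z₂) :
    Z₁ = Z₂ := by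
  obtain ⟨ξ₁, hξ₁⟩ := QuasiSober.sober h₁.1 (isClosed_of_mem_irreducibleComponents _ h₁)
  obtain ⟨ξ₂, hξ₂⟩ := QuasiSober.sober h₂.1 (isClosed_of_mem_irreducibleComponents _ h₂)
  have e1 : ξ₁ ⤳ x := by rw [specializes_iff_mem_closure, hξ₁.def]; exact hx₁
  have e2 : ξ₂ ⤳ x := by rw [specializes_iff_mem_closure, hξ₂.def]; exact hx₂
  have m1 : ∀ c : ↥G.left, c ⤳ ξ₁ → c = ξ₁ := by
    apply Groth.Agent.H90.eq_of_specializes_of_maximal
    rw [hξ₁.def]; exact h₁
  have m2 : ∀ c : ↥G.left, c ⤳ ξ₂ → c = ξ₂ := by
    apply Groth.Agent.H90.eq_of_specializes_of_maximal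
    rw [hξ₂.def]; exact h₂
  have := Groth.Agent.H90.eq_of_specializes K G x ξ₁ ξ₂ e1 e2 m1 m2
  rw [← hξ₁.def, ← hξ₂.def, this]

/-- An irreducible subset of a group scheme over a field meeting an irreducible component is
contained in it. -/
theorem subset_of_isIrreducible_of_mem {Z : Set ↥G.left} (hZ : Z ∈ irreducibleComponents ↥G.left)
    {T : Set ↥G.left} (hT : IsIrreducible T) (x : ↥G.left) (hxT : x ∈ T) (hxZ : x ∈ Z) :
    T ⊆ Z := by
  obtain ⟨T', hT', hTT', hmax⟩ := exists_preirreducible T hT.isPreirreducible
  have hT'irr : T' ∈ irreducibleComponents ↥G.left := by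
    refine ⟨⟨⟨x, hTT' hxT⟩, hT'⟩, ?_⟩
    intro S hS hT'S
    exact (hmax S hS.isPreirreducible hT'S).le
  rw [eq_of_mem_of_mem K G hZ hT'irr x hxZ (hTT' hxT)]
  exact hTT'

/-- Irreducible components of a group scheme over a field are stable under generalization. -/
theorem stableUnderGeneralization_of_mem {Z : Set ↥G.left}
    (hZ : Z ∈ irreducibleComponents ↥G.left) : StableUnderGeneralization Z := by
  intro x y hyx hx
  have h1 : x ∈ closure {y} := specializes_iff_mem_closure.mp hyx
  have h2 : closure {y} ⊆ Z :=
    subset_of_isIrreducible_of_mem K G hZ isIrreducible_singleton.closure x h1 hx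
  exact h2 (subset_closure rfl)

omit [GrpObj G] in
/-- The product of a geometrically irreducible scheme and an irreducible scheme over a field is
irreducible. -/
theorem irreducibleSpace_tensor (A B : Over (Spec (CommRingCat.of K)))
    [GeometricallyIrreducible A.hom] [IrreducibleSpace ↥B.left] :
    IrreducibleSpace ↥(A ⊗ B).left :=
  inferInstanceAs (IrreducibleSpace ↥(pullback A.hom B.hom))

omit [GrpObj G] in
/-- The image of a morphism from the product of a geometrically irreducible scheme and an
irreducible scheme is irreducible. -/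
theorem isIrreducible_range_of_tensor {A B : Over (Spec (CommRingCat.of K))}
    [GeometricallyIrreducible A.hom] [IrreducibleSpace ↥B.left] (φ : A ⊗ B ⟶ G) :
    IsIrreducible (Set.range ⇑φ.left) := by
  haveI := irreducibleSpace_tensor K A B
  rw [← Set.image_univ]
  exact (IrreducibleSpace.isIrreducible_univ _).image _ (Scheme.Hom.continuous _).continuousOn

/-- The image of `A × B ⟶ G`, `(a, b) ↦ a · b`, is irreducible if `A` is geometrically irreducible
and `B` is irreducible. -/
theorem isIrreducible_range_mul {A B : Over (Spec (CommRingCat.of K))} (a : A ⟶ G) (b : B ⟶ G)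
    [GeometricallyIrreducible A.hom] [IrreducibleSpace ↥B.left] :
    IsIrreducible (Set.range ⇑((a ⊗ₘ b) ≫ μ[G]).left) :=
  isIrreducible_range_of_tensor K G _

/-- an embedding with irreducible range has irreducible source. -/
theorem irreducibleSpace_of_isEmbedding {X Y : Type*} [TopologicalSpace X] [TopologicalSpace Y]
    {f : X → Y} (hf : Topology.IsEmbedding f) (h : IsIrreducible (Set.range f)) :
    IrreducibleSpace X := by
  haveI := Subtype.irreducibleSpace h
  exact hf.toHomeomorph.irreducibleSpace_iff.mpr inferInstance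

/-- The unit point. -/
noncomputable abbrev unitPt : ↥G.left := η[G].left (IsLocalRing.closedPoint K)

lemma unit_left_apply (y : ↥(𝟙_ (Over (Spec (CommRingCat.of K)))).left) :
    η[G].left y = unitPt K G := by
  have : y = IsLocalRing.closedPoint K :=
    @Subsingleton.elim _ (inferInstanceAs (Subsingleton (PrimeSpectrum K))) _ _
  rw [this]

/-- the product of the unit with itself. -/
lemma exists_unit_unit : ∃ t : ↥(G ⊗ G).left, (fst G G).left t = unitPt K G ∧
    (snd G G).left t = unitPt K G ∧ μ[G].left t = unitPt K G := by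
  refine ⟨(lift η[G] η[G]).left (IsLocalRing.closedPoint K), ?_, ?_, ?_⟩
  · rw [← Scheme.Hom.comp_apply, ← Over.comp_left, lift_fst]
  · rw [← Scheme.Hom.comp_apply, ← Over.comp_left, lift_snd]
  · rw [← Scheme.Hom.comp_apply, ← Over.comp_left]
    have : lift η[G] η[G] ≫ μ[G] = η[G] := by
      have := lift_comp_one_left (𝟙 (𝟙_ (Over (Spec (CommRingCat.of K))))) η[G]
      rwa [Category.id_comp] at this
    rw [this]

/-- the point `(e, x)` of `G × G`. -/
lemma exists_unit_mul (x : ↥G.left) : ∃ t : ↥(G ⊗ G).left, (fst G G).left t = unitPt K G ∧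
    (snd G G).left t = x ∧ μ[G].left t = x := by
  refine ⟨(lift (toUnit G ≫ η[G]) (𝟙 G)).left x, ?_, ?_, ?_⟩
  · rw [← Scheme.Hom.comp_apply, ← Over.comp_left, lift_fst, Over.comp_left,
      Scheme.Hom.comp_apply, unit_left_apply]
  · rw [← Scheme.Hom.comp_apply, ← Over.comp_left, lift_snd]; rfl
  · rw [← Scheme.Hom.comp_apply, ← Over.comp_left, lift_comp_one_left]; rfl

section unitComponent

variable {Zs : Over (Spec (CommRingCat.of K))} (j : Zs ⟶ G) [IsClosedImmersion j.left]
  (hj : Set.range ⇑j.left = irreducibleComponent (unitPt K G))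

include hj

/-- any closed subscheme structure on the irreducible component of the unit is geometrically
irreducible. -/
theorem geometricallyIrreducible_unitComponent : GeometricallyIrreducible Zs.hom := by
  have h := Groth.Agent.H90.geometricallyIrreducible_component_one K G Zs.left j.left
    (by rw [hj]; exact irreducibleComponent_mem_irreducibleComponents _)
    (by rw [hj]; exact mem_irreducibleComponent)
  rwa [Over.w j] at h

end unitComponent

/-- every closed subset is the range of a closed immersion. -/
lemma exists_closedImmersion_range (X : Scheme.{u}) (T : Set ↥X) (hT : IsClosed T) :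
    ∃ (Y : Scheme.{u}) (i : Y ⟶ X), IsClosedImmersion i ∧ Set.range ⇑i = T := by
  obtain ⟨I, hI⟩ : ∃ I : X.IdealSheafData,
      I = Scheme.IdealSheafData.vanishingIdeal ⟨T, hT⟩ := ⟨_, rfl⟩
  refine ⟨I.subscheme, I.subschemeι, inferInstance, ?_⟩
  rw [I.range_subschemeι, hI, Scheme.IdealSheafData.coe_support_vanishingIdeal]
  rfl

omit [GrpObj G] in
/-- every closed subset of `G` is the range of a closed immersion in `Over (Spec K)`. -/
lemma exists_over_closedImmersion_range (T : Set ↥G.left) (hT : IsClosed T) :
    ∃ (Y : Over (Spec (CommRingCat.of K))) (i : Y ⟶ G), IsClosedImmersion i.left ∧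
      Set.range ⇑i.left = T := by
  obtain ⟨Y, i, hi, hr⟩ := exists_closedImmersion_range G.left T hT
  exact ⟨Over.mk (i ≫ G.hom), Over.homMk i rfl, hi, hr⟩

/-- `Z · Z' ⊆ Z'` for the irreducible component `Z` of the unit and any irreducible component
`Z'`. -/
theorem mul_mem_of_mem_unitComponent {Z' : Set ↥G.left}
    (hZ' : Z' ∈ irreducibleComponents ↥G.left) (t : ↥(G ⊗ G).left)
    (h1 : (fst G G).left t ∈ irreducibleComponent (unitPt K G))
    (h2 : (snd G G).left t ∈ Z') : μ[G].left t ∈ Z' := by
  obtain ⟨Zs, j, hjc, hj⟩ := exists_over_closedImmersion_range K G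
    (irreducibleComponent (unitPt K G)) isClosed_irreducibleComponent
  obtain ⟨Zs', j', hjc', hj'⟩ := exists_over_closedImmersion_range K G Z'
    (isClosed_of_mem_irreducibleComponents _ hZ')
  haveI := geometricallyIrreducible_unitComponent K G j hj
  haveI : IrreducibleSpace ↥Zs'.left :=
    irreducibleSpace_of_isEmbedding j'.left.isEmbedding (by rw [hj']; exact hZ'.1)
  have hR := isIrreducible_range_mul K G j j'
  have htR : μ[G].left t ∈ Set.range ⇑((j ⊗ₘ j') ≫ μ[G]).left := by
    have ht : t ∈ Set.range ⇑(j ⊗ₘ j').left := by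
      rw [Groth.Agent.H90.Base.range_tensorHom_left, hj, hj']
      exact ⟨h1, h2⟩
    obtain ⟨s, rfl⟩ := ht
    exact ⟨s, by rw [Over.comp_left, Scheme.Hom.comp_apply]⟩
  obtain ⟨x', hx'⟩ := hZ'.1.nonempty
  obtain ⟨t', ht'1, ht'2, ht'3⟩ := exists_unit_mul K G x'
  have hx'R : x' ∈ Set.range ⇑((j ⊗ₘ j') ≫ μ[G]).left := by
    have ht' : t' ∈ Set.range ⇑(j ⊗ₘ j').left := by
      rw [Groth.Agent.H90.Base.range_tensorHom_left, hj, hj']
      exact ⟨by rw [Set.mem_preimage, ht'1]; exact mem_irreducibleComponent,
        by rw [Set.mem_preimage, ht'2]; exact hx'⟩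
    obtain ⟨s, rfl⟩ := ht'
    exact ⟨s, by rw [Over.comp_left, Scheme.Hom.comp_apply, ht'3]⟩
  exact subset_of_isIrreducible_of_mem K G hZ' hR x' hx'R hx' htR

/-- The irreducible component of the unit is stable under inversion. -/
theorem inv_mem_unitComponent (g : ↥G.left) (hg : g ∈ irreducibleComponent (unitPt K G)) :
    ι[G].left g ∈ irreducibleComponent (unitPt K G) := by
  have hirr : IsIrreducible (ι[G].left '' irreducibleComponent (unitPt K G)) :=
    isIrreducible_irreducibleComponent.image _ (Scheme.Hom.continuous _).continuousOn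
  have he : unitPt K G ∈ ι[G].left '' irreducibleComponent (unitPt K G) := by
    refine ⟨unitPt K G, mem_irreducibleComponent, ?_⟩
    change ι[G].left (η[G].left _) = η[G].left _
    rw [← Scheme.Hom.comp_apply, ← Over.comp_left, GrpObj.one_inv]
  exact subset_of_isIrreducible_of_mem K G (irreducibleComponent_mem_irreducibleComponents _)
    hirr _ he mem_irreducibleComponent ⟨g, hg, rfl⟩

/-- The irreducible component of the unit of a group scheme over a field is a flat closed
subgroup scheme; it is irreducible, hence quasi-compact. -/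
theorem exists_unitComponent_subgroup :
    ∃ (Z₀ : Over (Spec (CommRingCat.of K))) (_ : GrpObj Z₀) (incl : Z₀ ⟶ G) (_ : IsMonHom incl),
      IsClosedImmersion incl.left ∧ Flat incl.left ∧
      Set.range ⇑incl.left = irreducibleComponent (unitPt K G) ∧
      IrreducibleSpace ↥Z₀.left ∧ CompactSpace ↥Z₀.left := by
  obtain ⟨Z₀, inst, incl, hmon, hci, hflat, hrange⟩ :=
    Groth.Agent.H38.GrpSubFlat.exists_flat_subgroup K G
      ⟨irreducibleComponent (unitPt K G), isClosed_irreducibleComponent⟩
      (stableUnderGeneralization_of_mem K G (irreducibleComponent_mem_irreducibleComponents _))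
      mem_irreducibleComponent
      (fun t h1 h2 => mul_mem_of_mem_unitComponent K G
        (irreducibleComponent_mem_irreducibleComponents _) t h1 h2)
      (inv_mem_unitComponent K G)
  have hirr : IrreducibleSpace ↥Z₀.left :=
    irreducibleSpace_of_isEmbedding incl.left.isEmbedding
      (by rw [hrange]; exact isIrreducible_irreducibleComponent)
  exact ⟨Z₀, inst, incl, hmon, hci, hflat, hrange, hirr,
    Groth.Agent.H90.compactSpace_of_irreducible K Z₀⟩

/-- The irreducible component of the unit is quasi-compact. -/
theorem isCompact_unitComponent : IsCompact (irreducibleComponent (unitPt K G)) := by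
  obtain ⟨Z₀, _, incl, _, -, -, hrange, -, hc⟩ := exists_unitComponent_subgroup K G
  rw [← hrange]
  exact isCompact_range (Scheme.Hom.continuous _)

end Groth.Agent.H38.GrpComp
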