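import Mathlib
import Groth.Agent.H38.GrpComp
import Groth.Agent.H38.ClosedOpen
import Groth.Agent.H90.GrpFlatIso
import Groth.Agent.H90.GrpOpenClosed
import Groth.Agent.H38.ConnFibre

/-!
# A connected group scheme over a field is irreducible
-/

set_option autoImplicit false
universe u

open CategoryTheory MonoidalCategory CartesianMonoidalCategory MonObj GrpObj AlgebraicGeometry
open Limits

namespace Groth.Agent.H38.GrpConnIrr

open Groth.Agent.H38.GrpComp

section algClosed

variable (K : Type u) [Field K] [IsAlgClosed K] (G : Over (Spec (CommRingCat.of K))) [GrpObj G]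

/-- The division morphism `(a, b) ↦ a b⁻¹`. -/
noncomputable abbrev dv : G ⊗ G ⟶ G := fst G G * (snd G G)⁻¹

/-- Transitivity: over an algebraically closed field, every point of the irreducible component
`closure {ξ}` is of the form `z · ξ` with `z` in the irreducible component of the unit. -/
theorem exists_mul_eq_of_mem_closure (ξ : ↥G.left)
    (hξ : closure {ξ} ∈ irreducibleComponents ↥G.left) (y : ↥G.left) (hy : y ∈ closure {ξ}) :
    ∃ t : ↥(G ⊗ G).left, (fst G G).left t ∈ irreducibleComponent (unitPt K G) ∧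
      (snd G G).left t = ξ ∧ μ[G].left t = y := by
  obtain ⟨Zξ, j, hjc, hj⟩ := exists_over_closedImmersion_range K G (closure {ξ}) isClosed_closure
  haveI : IrreducibleSpace ↥Zξ.left :=
    irreducibleSpace_of_isEmbedding j.left.isEmbedding (by rw [hj]; exact hξ.1)
  haveI : GeometricallyIrreducible Zξ.hom :=
    Groth.Agent.H90.geometricallyIrreducible_of_irreducibleSpace K Zξ.hom
  obtain ⟨T, hT⟩ : ∃ T : Over (Spec (CommRingCat.of K)),
      T = Over.mk (G.left.fromSpecResidueField ξ ≫ G.hom) := ⟨_, rfl⟩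
  obtain ⟨x, hx⟩ : ∃ x : Over.mk (G.left.fromSpecResidueField ξ ≫ G.hom) ⟶ G,
      x = Over.homMk (G.left.fromSpecResidueField ξ) rfl := ⟨_, rfl⟩
  have hxleft : ∀ p, x.left p = ξ := by
    intro p; rw [hx]; exact Scheme.fromSpecResidueField_apply _ _
  have hxrange : Set.range ⇑x.left = {ξ} := by
    ext z
    constructor
    · rintro ⟨p, rfl⟩; exact hxleft p
    · rintro rfl; exact ⟨IsLocalRing.closedPoint _, hxleft _⟩
  haveI : IrreducibleSpace ↥(Over.mk (G.left.fromSpecResidueField ξ ≫ G.hom)).left :=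
    inferInstanceAs (IrreducibleSpace ↥(Spec (G.left.residueField ξ)))
  -- the irreducible set `D`
  have hD := isIrreducible_range_of_tensor K G ((j ⊗ₘ x) ≫ dv K G)
  have hDmem : ∀ s : ↥(G ⊗ G).left, (fst G G).left s ∈ closure {ξ} → (snd G G).left s = ξ →
      (dv K G).left s ∈ Set.range ⇑((j ⊗ₘ x) ≫ dv K G).left := by
    intro s h1 h2
    have hs : s ∈ Set.range ⇑(j ⊗ₘ x).left := by
      rw [Groth.Agent.H90.Base.range_tensorHom_left, hj, hxrange]
      exact ⟨h1, h2⟩
    obtain ⟨r, rfl⟩ := hs
    exact ⟨r, by rw [Over.comp_left, Scheme.Hom.comp_apply]⟩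
  -- the unit lies in `D`
  have heD : unitPt K G ∈ Set.range ⇑((j ⊗ₘ x) ≫ dv K G).left := by
    have h1 : (lift x x ≫ dv K G) = 1 := by
      change lift x x ≫ (fst G G * (snd G G)⁻¹) = 1
      rw [MonObj.comp_mul, GrpObj.comp_inv, lift_fst, lift_snd, mul_inv_cancel]
    have h2 := hDmem ((lift x x).left (IsLocalRing.closedPoint _))
      (by rw [← Scheme.Hom.comp_apply, ← Over.comp_left, lift_fst, hxleft]
          exact subset_closure rfl)
      (by rw [← Scheme.Hom.comp_apply, ← Over.comp_left, lift_snd, hxleft])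
    have h3 : (dv K G).left ((lift x x).left (IsLocalRing.closedPoint _)) = unitPt K G := by
      rw [← Scheme.Hom.comp_apply, ← Over.comp_left, h1, Hom.one_def, Over.comp_left,
        Scheme.Hom.comp_apply]
      exact unit_left_apply K G _
    rw [h3] at h2
    exact h2
  have hDZ : Set.range ⇑((j ⊗ₘ x) ≫ dv K G).left ⊆ irreducibleComponent (unitPt K G) :=
    subset_of_isIrreducible_of_mem K G (irreducibleComponent_mem_irreducibleComponents _) hD _
      heD mem_irreducibleComponent
  -- a point of `G × G` over `(y, ξ)`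
  obtain ⟨s, hs1, hs2⟩ : ∃ s : ↥(G ⊗ G).left, (fst G G).left s = y ∧ (snd G G).left s = ξ := by
    obtain ⟨s, hs1, hs2⟩ := Scheme.Pullback.exists_preimage_pullback (f := G.hom) (g := G.hom) y ξ
      (@Subsingleton.elim _ (inferInstanceAs (Subsingleton (PrimeSpectrum K))) _ _)
    exact ⟨s, hs1, hs2⟩
  refine ⟨(lift (dv K G) (snd G G)).left s, ?_, ?_, ?_⟩
  · rw [← Scheme.Hom.comp_apply, ← Over.comp_left, lift_fst]
    exact hDZ (hDmem s (by rw [hs1]; exact hy) hs2)
  · rw [← Scheme.Hom.comp_apply, ← Over.comp_left, lift_snd, hs2]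
  · rw [← Scheme.Hom.comp_apply, ← Over.comp_left]
    have h1 : lift (dv K G) (snd G G) ≫ μ[G] = fst G G := by
      change (fst G G * (snd G G)⁻¹) * snd G G = fst G G
      rw [inv_mul_cancel_right]
    rw [h1, hs1]

/-- a compact subset of a scheme contained in an open subset is contained in a quasi-compact open
subset of it. -/
theorem exists_isCompact_opens_between {X : Scheme.{u}} (Z V : Set ↥X) (hZ : IsCompact Z)
    (hV : IsOpen V) (hZV : Z ⊆ V) :
    ∃ U : X.Opens, IsCompact (U : Set ↥X) ∧ Z ⊆ (U : Set ↥X) ∧ (U : Set ↥X) ⊆ V := by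
  have hcover : ∀ z ∈ Z, ∃ U : X.Opens, IsAffineOpen U ∧ z ∈ U ∧ (U : Set ↥X) ⊆ V := by
    intro z hz
    obtain ⟨_, ⟨U, hU, rfl⟩, hzU, hUV⟩ :=
      (X.isBasis_affineOpens).exists_subset_of_mem_open (hZV hz) hV
    exact ⟨U, hU, hzU, hUV⟩
  choose! U hU hzU hUV using hcover
  obtain ⟨t, htZ, ht⟩ := hZ.elim_finite_subcover_image (b := Z) (c := fun z => (U z : Set ↥X))
    (fun z _ => (U z).isOpen) (fun z hz => Set.mem_iUnion₂.mpr ⟨z, hz, hzU z hz⟩)
  refine ⟨⨆ z ∈ t, U z, ?_, ?_, ?_⟩
  · have : ((⨆ z ∈ t, U z : X.Opens) : Set ↥X) = ⋃ z ∈ t, (U z : Set ↥X) := by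
      simp
    rw [this]
    exact ht.1.isCompact_biUnion fun z hz => (hU z (htZ hz)).isCompact
  · intro z hz
    have := ht.2 hz
    simpa using this
  · intro z hz
    have hz' : z ∈ ⋃ z ∈ t, (U z : Set ↥X) := by simpa using hz
    obtain ⟨w, hw, hzw⟩ := Set.mem_iUnion₂.mp hz'
    exact hUV w (htZ hw) hzw

/-- Over an algebraically closed field, the connected component of the unit of a group scheme is
its irreducible component. -/
theorem connectedComponent_unit_subset :
    connectedComponent (unitPt K G) ⊆ irreducibleComponent (unitPt K G) := by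
  intro x hxC
  by_contra hxZ
  have hsep := Groth.Agent.H90.isSeparated_of_field K G
  haveI : QuasiSeparatedSpace ↥G.left := quasiSeparatedSpace_of_quasiSeparated G.hom
  obtain ⟨Zx, hZx⟩ : ∃ Zx, Zx = irreducibleComponent x := ⟨_, rfl⟩
  have hZxmem : Zx ∈ irreducibleComponents ↥G.left :=
    hZx ▸ irreducibleComponent_mem_irreducibleComponents x
  have hxZx : x ∈ Zx := hZx ▸ mem_irreducibleComponent
  have hZxcl : IsClosed Zx := isClosed_of_mem_irreducibleComponents _ hZxmem
  have hdisj : irreducibleComponent (unitPt K G) ⊆ Zxᶜ := by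
    intro z hz hzx
    apply hxZ
    rw [eq_of_mem_of_mem K G (irreducibleComponent_mem_irreducibleComponents _) hZxmem z hz hzx]
    exact hxZx
  obtain ⟨U, hUc, hZU, hUZx⟩ := exists_isCompact_opens_between _ _
    (isCompact_unitComponent K G) hZxcl.isOpen_compl hdisj
  obtain ⟨Z₀, _, incl, _, -, -, hrange, -, hZ₀c⟩ := exists_unitComponent_subgroup K G
  obtain ⟨w, hw⟩ : ∃ w : Over.mk (U.ι ≫ G.hom) ⟶ G, w = Over.homMk U.ι rfl := ⟨_, rfl⟩
  have hwrange : Set.range ⇑w.left = (U : Set ↥G.left) := by
    rw [hw]; exact Scheme.Opens.range_ι U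
  have hopen : IsOpen (Set.range ⇑((incl ⊗ₘ w) ≫ μ[G]).left) :=
    Groth.Agent.H90.isOpen_range_translate_of_isOpen K G incl w (by rw [hwrange]; exact U.isOpen)
  obtain ⟨W, hW⟩ : ∃ W : G.left.Opens,
      (W : Set ↥G.left) = Set.range ⇑((incl ⊗ₘ w) ≫ μ[G]).left := ⟨⟨_, hopen⟩, rfl⟩
  -- membership in `W`
  have hWmem : ∀ s : ↥(G ⊗ G).left, (fst G G).left s ∈ irreducibleComponent (unitPt K G) →
      (snd G G).left s ∈ (U : Set ↥G.left) → μ[G].left s ∈ (W : Set ↥G.left) := by
    intro s h1 h2
    have hs : s ∈ Set.range ⇑(incl ⊗ₘ w).left := by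
      rw [Groth.Agent.H90.Base.range_tensorHom_left, hrange, hwrange]
      exact ⟨h1, h2⟩
    obtain ⟨r, rfl⟩ := hs
    rw [hW]
    exact ⟨r, by rw [Over.comp_left, Scheme.Hom.comp_apply]⟩
  have hWelim : ∀ y ∈ (W : Set ↥G.left), ∃ s : ↥(G ⊗ G).left,
      (fst G G).left s ∈ irreducibleComponent (unitPt K G) ∧
      (snd G G).left s ∈ (U : Set ↥G.left) ∧ μ[G].left s = y := by
    intro y hy
    rw [hW] at hy
    obtain ⟨r, rfl⟩ := hy
    have hs : (incl ⊗ₘ w).left r ∈ Set.range ⇑(incl ⊗ₘ w).left := ⟨r, rfl⟩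
    rw [Groth.Agent.H90.Base.range_tensorHom_left, hrange, hwrange] at hs
    exact ⟨(incl ⊗ₘ w).left r, hs.1, hs.2, by rw [Over.comp_left, Scheme.Hom.comp_apply]⟩
  -- `W` is quasi-compact
  have hWc : IsCompact (W : Set ↥G.left) := by
    rw [hW]
    haveI : CompactSpace ↥(Over.mk (U.ι ≫ G.hom)).left :=
      (isCompact_iff_compactSpace.mp hUc : CompactSpace ↥(U : Scheme.{u}))
    haveI : QuasiCompact (Over.mk (U.ι ≫ G.hom)).hom := inferInstance
    haveI : CompactSpace ↥(Z₀ ⊗ Over.mk (U.ι ≫ G.hom)).left :=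
      inferInstanceAs (CompactSpace ↥(pullback Z₀.hom (Over.mk (U.ι ≫ G.hom)).hom))
    exact isCompact_range (Scheme.Hom.continuous _)
  -- the unit lies in `W`
  have heW : unitPt K G ∈ (W : Set ↥G.left) := by
    obtain ⟨t, ht1, ht2, ht3⟩ := exists_unit_unit K G
    rw [← ht3]
    exact hWmem t (by rw [ht1]; exact mem_irreducibleComponent)
      (by rw [ht2]; exact hZU mem_irreducibleComponent)
  -- `W` does not meet `Zx`
  have hWZx : ∀ y ∈ (W : Set ↥G.left), y ∉ Zx := by
    intro y hy hyZx
    obtain ⟨s, hs1, hs2, rfl⟩ := hWelim y hy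
    have h1 := mul_mem_of_mem_unitComponent K G
      (irreducibleComponent_mem_irreducibleComponents ((snd G G).left s)) s hs1
      mem_irreducibleComponent
    have h2 := eq_of_mem_of_mem K G
      (irreducibleComponent_mem_irreducibleComponents ((snd G G).left s)) hZxmem _ h1 hyZx
    exact hUZx hs2 (h2 ▸ mem_irreducibleComponent)
  -- `W` is stable under specialization
  have hWspec : StableUnderSpecialization (W : Set ↥G.left) := by
    intro y' y hyy' hy'
    obtain ⟨s, hs1, hs2, rfl⟩ := hWelim y' hy'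
    obtain ⟨u, hu⟩ : ∃ u, u = (snd G G).left s := ⟨_, rfl⟩
    rw [← hu] at hs2
    have h1 : μ[G].left s ∈ irreducibleComponent u := mul_mem_of_mem_unitComponent K G
      (irreducibleComponent_mem_irreducibleComponents u) s hs1
      (by rw [← hu]; exact mem_irreducibleComponent)
    have h2 : y ∈ irreducibleComponent u :=
      hyy'.mem_closed isClosed_irreducibleComponent h1
    obtain ⟨ξ, hξ⟩ := QuasiSober.sober (isIrreducible_irreducibleComponent (x := u))
      isClosed_irreducibleComponent
    have hξu : ξ ⤳ u := by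
      rw [specializes_iff_mem_closure, hξ.def]; exact mem_irreducibleComponent
    have hξU : ξ ∈ (U : Set ↥G.left) := hξu.mem_open U.isOpen hs2
    obtain ⟨t, ht1, ht2, ht3⟩ := exists_mul_eq_of_mem_closure K G ξ
      (by rw [hξ.def]; exact irreducibleComponent_mem_irreducibleComponents u) y
      (by rw [hξ.def]; exact h2)
    rw [← ht3]
    exact hWmem t ht1 (by rw [ht2]; exact hξU)
  have hWcl : IsClosed (W : Set ↥G.left) :=
    Groth.Agent.H38.ClosedOpen.isClosed_of_isCompact_of_stableUnderSpecialization W hWc hWspec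
  have hclopen : IsClopen (W : Set ↥G.left) := ⟨hWcl, W.isOpen⟩
  exact hWZx x (hclopen.connectedComponent_subset heW hxC) hxZx

/-- Over an algebraically closed field, a connected group scheme is irreducible. -/
theorem irreducibleSpace_of_connectedSpace_of_isAlgClosed [ConnectedSpace ↥G.left] :
    IrreducibleSpace ↥G.left := by
  have h1 := connectedComponent_unit_subset K G
  rw [PreconnectedSpace.connectedComponent_eq_univ] at h1
  have h2 : irreducibleComponent (unitPt K G) = Set.univ := Set.univ_subset_iff.mp h1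
  have h3 := isIrreducible_irreducibleComponent (x := unitPt K G)
  rw [h2] at h3
  exact (irreducibleSpace_def _).mpr h3

end algClosed

section general

variable (K : Type u) [Field K] (G : Over (Spec (CommRingCat.of K))) [GrpObj G]

attribute [local instance] Curv2.resAlgebra

/-- The residue field of the unit point of a group scheme over `K` is `K`. -/
theorem surjective_algebraMap_residueField_unit :
    letI : G.left.Over (Spec (CommRingCat.of K)) := ⟨G.hom⟩
    Function.Surjective (algebraMap K (G.left.residueField (unitPt K G))) := by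
  letI : G.left.Over (Spec (CommRingCat.of K)) := ⟨G.hom⟩
  obtain ⟨σ, hσ⟩ : ∃ σ : Spec (CommRingCat.of K) ⟶ G.left, σ = η[G].left := ⟨_, rfl⟩
  have hση : σ ≫ G.hom = 𝟙 (Spec (CommRingCat.of K)) := by
    rw [hσ]; exact Over.w η[G]
  have hσpt : σ (IsLocalRing.closedPoint K) = unitPt K G := by rw [hσ]
  have h1 := Scheme.descResidueField_stalkClosedPointTo_fromSpecResidueField K G.left σ
  have h2 := Groth.Agent.H38.FibreIso.fromSpecResidueField_over K G.left
    (σ (IsLocalRing.closedPoint K))
  have h3 : Spec.map (Scheme.descResidueField (Scheme.stalkClosedPointTo σ)) ≫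
      Spec.map (CommRingCat.ofHom (algebraMap K
        (G.left.residueField (σ (IsLocalRing.closedPoint K))))) = 𝟙 _ := by
    exact (congrArg (Spec.map (Scheme.descResidueField (Scheme.stalkClosedPointTo σ)) ≫ ·)
      h2.symm).trans ((Category.assoc _ _ _).symm.trans ((congrArg (· ≫ G.hom) h1).trans hση))
  rw [← Spec.map_comp, ← Spec.map_id] at h3
  have h4 := Spec.map_injective h3
  rw [← hσpt]
  intro α
  refine ⟨(Scheme.descResidueField (Scheme.stalkClosedPointTo σ)).hom α, ?_⟩
  apply (Scheme.descResidueField (Scheme.stalkClosedPointTo σ)).hom.injective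
  have h5 := congrArg (fun f => f.hom ((Scheme.descResidueField (Scheme.stalkClosedPointTo σ)).hom α)) h4
  exact h5

/-- A connected group scheme over a field is geometrically connected. -/
theorem geometricallyConnected_of_connectedSpace [ConnectedSpace ↥G.left] :
    GeometricallyConnected G.hom := by
  letI : G.left.Over (Spec (CommRingCat.of K)) := ⟨G.hom⟩
  have h := Groth.Agent.H38.ConnFibre.geometricallyConnected_of_sepClosedIn K G.left (unitPt K G)
    (fun α _ => surjective_algebraMap_residueField_unit K G α)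
  exact h

/-- A connected group scheme over a field is irreducible. -/
theorem irreducibleSpace_of_connectedSpace [ConnectedSpace ↥G.left] :
    IrreducibleSpace ↥G.left := by
  haveI := geometricallyConnected_of_connectedSpace K G
  obtain ⟨g, hg⟩ : ∃ g : Spec (CommRingCat.of (AlgebraicClosure K)) ⟶ Spec (CommRingCat.of K),
      g = Spec.map (CommRingCat.ofHom (algebraMap K (AlgebraicClosure K))) := ⟨_, rfl⟩
  have hG : GrpObj (Over.mk G.hom) := ‹GrpObj G›
  let G' : Over (Spec (CommRingCat.of (AlgebraicClosure K))) := Over.mk (pullback.snd G.hom g)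
  let _ : GrpObj G' := Over.grpObjMkPullbackSnd (f := G.hom) (g := g)
  haveI : Subsingleton ↥(Spec (CommRingCat.of (AlgebraicClosure K))) :=
    inferInstanceAs (Subsingleton (PrimeSpectrum (AlgebraicClosure K)))
  haveI : Nonempty ↥(Spec (CommRingCat.of (AlgebraicClosure K))) :=
    ⟨IsLocalRing.closedPoint _⟩
  haveI : ConnectedSpace ↥G'.left :=
    GeometricallyConnected.connectedSpace_of_subsingleton (f := pullback.snd G.hom g)
  haveI : IrreducibleSpace ↥G'.left :=
    irreducibleSpace_of_connectedSpace_of_isAlgClosed (AlgebraicClosure K) G'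
  have hsurj1 : Surjective g := by
    constructor
    intro z
    exact ⟨IsLocalRing.closedPoint _,
      @Subsingleton.elim _ (inferInstanceAs (Subsingleton (PrimeSpectrum K))) _ _⟩
  have hsurj : Function.Surjective (pullback.fst G.hom g) := (pullback.fst G.hom g).surjective
  have himg := (IrreducibleSpace.isIrreducible_univ ↥G'.left).image
    (pullback.fst G.hom g) (pullback.fst G.hom g).continuous.continuousOn
  rw [Set.image_univ, hsurj.range_eq] at himg
  exact (irreducibleSpace_def _).mpr himg

end general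

end Groth.Agent.H38.GrpConnIrr
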