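import Mathlib
import Groth.Agent.H38.GrpConnIrr

/-!
# The identity component of a group scheme over a field

The connected component of the unit of a group scheme over a field is irreducible (so it is the
irreducible component of the unit), and carries the structure of a flat closed subgroup scheme,
geometrically irreducible and quasi-compact.
-/

set_option autoImplicit false
universe u

open CategoryTheory MonoidalCategory CartesianMonoidalCategory MonObj GrpObj AlgebraicGeometry
open Limits

namespace Groth.Agent.H38.GrpConnComp

open Groth.Agent.H38.GrpComp Groth.Agent.H38.GrpConnIrr

/-- the unit of a base-changed group scheme lies over the unit. -/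
theorem one_left_fst {X Y R : Scheme.{u}} (f : R ⟶ Y) (g : X ⟶ Y) [GrpObj (Over.mk f)] :
    letI : GrpObj (Over.mk (pullback.snd f g)) := Over.grpObjMkPullbackSnd (f := f) (g := g)
    (η[Over.mk (pullback.snd f g)]).left ≫ pullback.fst f g = g ≫ (η[Over.mk f]).left := by
  rw [Over.grpObjMkPullbackSnd_one]
  simp
  rw [← pullback.condition_assoc, Category.id_comp]
  exact pullback.lift_fst _ _ _

variable (K : Type u) [Field K] (G : Over (Spec (CommRingCat.of K))) [GrpObj G]

/-- The connected component of the unit of a group scheme over a field is irreducible. -/
theorem isIrreducible_connectedComponent_unit :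
    IsIrreducible (connectedComponent (unitPt K G)) := by
  letI : G.left.Over (Spec (CommRingCat.of K)) := ⟨G.hom⟩
  letI hG : GrpObj (Over.mk G.hom) := ‹GrpObj G›
  let G' : Over (Spec (CommRingCat.of (AlgebraicClosure K))) := Over.mk (pullback.snd G.hom
    (Spec.map (CommRingCat.ofHom (algebraMap K (AlgebraicClosure K)))))
  let _ : GrpObj G' := Over.grpObjMkPullbackSnd (f := G.hom)
    (g := Spec.map (CommRingCat.ofHom (algebraMap K (AlgebraicClosure K))))
  have h1 := connectedComponent_unit_subset (AlgebraicClosure K) G'
  have h2 : IsIrreducible (connectedComponent (unitPt (AlgebraicClosure K) G')) := by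
    have : connectedComponent (unitPt (AlgebraicClosure K) G') =
        irreducibleComponent (unitPt (AlgebraicClosure K) G') :=
      subset_antisymm h1 (isIrreducible_irreducibleComponent.isConnected.isPreconnected.subset_connectedComponent
        mem_irreducibleComponent)
    rw [this]; exact isIrreducible_irreducibleComponent
  have h3 := Groth.Agent.H38.ConnCompImage.image_connectedComponent K G.left (AlgebraicClosure K)
    (unitPt (AlgebraicClosure K) G')
  have h4 : Curv2.bcFst K G.left (AlgebraicClosure K) (unitPt (AlgebraicClosure K) G') =
      unitPt K G := by
    have h5 := one_left_fst G.hom (Spec.map (CommRingCat.ofHom (algebraMap K (AlgebraicClosure K))))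
    change (pullback.fst G.hom (Spec.map (CommRingCat.ofHom (algebraMap K (AlgebraicClosure K)))))
      (η[G'].left (IsLocalRing.closedPoint (AlgebraicClosure K))) = _
    rw [← Scheme.Hom.comp_apply, h5, Scheme.Hom.comp_apply]
    exact unit_left_apply K G _
  rw [h4] at h3
  rw [← h3]
  exact h2.image _ (Scheme.Hom.continuous _).continuousOn

/-- The connected component of the unit of a group scheme over a field is the irreducible
component of the unit. -/
theorem connectedComponent_unit_eq :
    connectedComponent (unitPt K G) = irreducibleComponent (unitPt K G) :=
  subset_antisymm
    (subset_of_isIrreducible_of_mem K G (irreducibleComponent_mem_irreducibleComponents _)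
      (isIrreducible_connectedComponent_unit K G) _ mem_connectedComponent mem_irreducibleComponent)
    (isIrreducible_irreducibleComponent.isConnected.isPreconnected.subset_connectedComponent
      mem_irreducibleComponent)

/-- The identity component of a group scheme over a field: a flat closed subgroup scheme on the
connected component of the unit, geometrically irreducible and quasi-compact. -/
theorem exists_identityComponent :
    ∃ (G₀ : Over (Spec (CommRingCat.of K))) (_ : GrpObj G₀) (incl : G₀ ⟶ G) (_ : IsMonHom incl),
      IsClosedImmersion incl.left ∧ Flat incl.left ∧
      Set.range ⇑incl.left = connectedComponent (unitPt K G) ∧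
      GeometricallyIrreducible G₀.hom ∧ CompactSpace ↥G₀.left := by
  obtain ⟨Z₀, inst, incl, hmon, hci, hflat, hrange, -, hc⟩ := exists_unitComponent_subgroup K G
  refine ⟨Z₀, inst, incl, hmon, hci, hflat, ?_, ?_, hc⟩
  · rw [hrange, connectedComponent_unit_eq]
  · exact geometricallyIrreducible_unitComponent K G incl hrange

end Groth.Agent.H38.GrpConnComp
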