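import Mathlib

set_option autoImplicit false
universe u

open AlgebraicGeometry CategoryTheory

namespace Groth.Agent.H38

variable {X Y : Scheme.{u}}

theorem primeIdealOf_injective {U : X.Opens} (hU : IsAffineOpen U) :
    Function.Injective hU.primeIdealOf := by
  intro a b h
  have h1 := hU.fromSpec_primeIdealOf a
  have h2 := hU.fromSpec_primeIdealOf b
  rw [h] at h1
  exact Subtype.ext (h1.symm.trans h2)

theorem primeIdealOf_fromSpec {U : X.Opens} (hU : IsAffineOpen U) (q : PrimeSpectrum Γ(X, U))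
    (hq : hU.fromSpec q ∈ U) : hU.primeIdealOf ⟨hU.fromSpec q, hq⟩ = q := by
  have hinj : Function.Injective hU.fromSpec := hU.fromSpec.isOpenEmbedding.injective
  apply hinj
  exact hU.fromSpec_primeIdealOf ⟨hU.fromSpec q, hq⟩

theorem fromSpec_mem {U : X.Opens} (hU : IsAffineOpen U) (q : PrimeSpectrum Γ(X, U)) :
    hU.fromSpec q ∈ U := by
  have : hU.fromSpec q ∈ Set.range hU.fromSpec := ⟨q, rfl⟩
  rw [hU.range_fromSpec] at this
  exact this

theorem comap_primeIdealOf_app (f : Y ⟶ X) {U : X.Opens} (hU : IsAffineOpen U)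
    (hV : IsAffineOpen (f ⁻¹ᵁ U)) (y : Y) (hy : f y ∈ U) :
    (hV.primeIdealOf ⟨y, hy⟩).comap (f.app U).hom = hU.primeIdealOf ⟨f y, hy⟩ := by
  have := IsAffineOpen.comap_primeIdealOf_appLE (f := f) (x := y) U hU (f ⁻¹ᵁ U) hV le_rfl hy
  rwa [← Scheme.Hom.app_eq_appLE] at this

/-- For a morphism `f` and an affine open `U` with affine preimage, the fibre of `f` over a point
`x ∈ U` corresponds to the primes of `Γ(Y, f⁻¹U)` lying over the prime of `x`. -/
noncomputable def fibreEquiv (f : Y ⟶ X) {U : X.Opens} (hU : IsAffineOpen U)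
    (hV : IsAffineOpen (f ⁻¹ᵁ U)) (x : X) (hx : x ∈ U) :
    {y : Y // f y = x} ≃
      {q : PrimeSpectrum Γ(Y, f ⁻¹ᵁ U) // q.comap (f.app U).hom = hU.primeIdealOf ⟨x, hx⟩} where
  toFun y := ⟨hV.primeIdealOf ⟨y.1, show f y.1 ∈ U by rw [y.2]; exact hx⟩, by
    rw [comap_primeIdealOf_app f hU hV y.1 (by rw [y.2]; exact hx)]
    congr 1
    exact Subtype.ext y.2⟩
  invFun q := ⟨hV.fromSpec q.1, by
    have hy : f (hV.fromSpec q.1) ∈ U := fromSpec_mem hV q.1
    have h1 := comap_primeIdealOf_app f hU hV (hV.fromSpec q.1) hy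
    rw [primeIdealOf_fromSpec hV q.1 hy, q.2] at h1
    exact congrArg Subtype.val (primeIdealOf_injective hU h1).symm⟩
  left_inv y := Subtype.ext (hV.fromSpec_primeIdealOf _)
  right_inv q := Subtype.ext (primeIdealOf_fromSpec hV q.1 _)

theorem fibreEquiv_apply (f : Y ⟶ X) {U : X.Opens} (hU : IsAffineOpen U)
    (hV : IsAffineOpen (f ⁻¹ᵁ U)) (x : X) (hx : x ∈ U) (y : {y : Y // f y = x}) :
    (fibreEquiv f hU hV x hx y).1 =
      hV.primeIdealOf ⟨y.1, show f y.1 ∈ U by rw [y.2]; exact hx⟩ := rfl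

end Groth.Agent.H38
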