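import Mathlib
import Groth.Agent.H38.FibrePrimes

/-!
# Minimal primes of affine opens and irreducible components
-/

set_option autoImplicit false
universe u

open AlgebraicGeometry CategoryTheory

namespace Groth.Agent.H38.MinPrimesComp

variable {X : Scheme.{u}}

/-- The point of an affine open `V` corresponding to a minimal prime of `Γ(X, V)` is the generic
point of an irreducible component of `X`. -/
theorem closure_fromSpec_mem_irreducibleComponents {V : X.Opens} (hV : IsAffineOpen V)
    (q : PrimeSpectrum Γ(X, V)) (hq : q.asIdeal ∈ minimalPrimes Γ(X, V)) :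
    closure {hV.fromSpec q} ∈ irreducibleComponents X := by
  rw [irreducibleComponents_eq_maximals_closed]
  refine ⟨⟨isClosed_closure, isIrreducible_singleton.closure⟩, ?_⟩
  rintro Z ⟨hZc, hZi⟩ hle
  -- generic point of `Z`
  obtain ⟨z, hz⟩ := QuasiSober.sober hZi hZc
  have hxZ : hV.fromSpec q ∈ Z := hle (subset_closure rfl)
  have hspec : z ⤳ hV.fromSpec q := by
    rw [specializes_iff_mem_closure, hz.def]
    exact hxZ
  have hxV : hV.fromSpec q ∈ V := Groth.Agent.H38.fromSpec_mem hV q
  have hzV : z ∈ V := hspec.mem_open V.isOpen hxV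
  -- `z` comes from a prime `q'`
  have hzr : z ∈ Set.range hV.fromSpec := by rw [hV.range_fromSpec]; exact hzV
  obtain ⟨q', rfl⟩ := hzr
  have hspec' : q' ⤳ q := (hV.fromSpec.isOpenEmbedding.isInducing.specializes_iff).mp hspec
  have hle' : (show PrimeSpectrum Γ(X, V) from q') ≤ q :=
    (PrimeSpectrum.le_iff_specializes _ _).mpr hspec'
  have heq : (show PrimeSpectrum Γ(X, V) from q').asIdeal = q.asIdeal := by
    have h1 : (show PrimeSpectrum Γ(X, V) from q').asIdeal ≤ q.asIdeal := hle'
    exact le_antisymm h1 (hq.2 ⟨(show PrimeSpectrum Γ(X, V) from q').isPrime, bot_le⟩ h1)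
  have : q' = q := PrimeSpectrum.ext heq
  rw [this] at hz
  rw [← hz.def]

/-- If the irreducible components of `X` are locally finite, the coordinate ring of any affine
open has finitely many minimal primes. -/
theorem finite_minimalPrimes_of_locallyFinite
    (hfin : LocallyFinite (fun Z : ↥(irreducibleComponents ↥X) => (Z : Set ↥X)))
    {V : X.Opens} (hV : IsAffineOpen V) : (minimalPrimes Γ(X, V)).Finite := by
  classical
  have hF := hfin.finite_nonempty_inter_compact hV.isCompact
  haveI : Finite {i : ↥(irreducibleComponents ↥X) | ((i : Set X) ∩ (V : Set X)).Nonempty} :=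
    hF.to_subtype
  let g : {q // q ∈ minimalPrimes Γ(X, V)} →
      {i : ↥(irreducibleComponents ↥X) | ((i : Set X) ∩ (V : Set X)).Nonempty} := fun q =>
    ⟨⟨closure {hV.fromSpec ⟨q.1, q.2.1.1⟩},
      closure_fromSpec_mem_irreducibleComponents hV ⟨q.1, q.2.1.1⟩ q.2⟩,
      ⟨hV.fromSpec ⟨q.1, q.2.1.1⟩, subset_closure rfl,
        Groth.Agent.H38.fromSpec_mem hV ⟨q.1, q.2.1.1⟩⟩⟩
  have hg : Function.Injective g := by
    intro q q' h
    have h1 : closure {hV.fromSpec ⟨q.1, q.2.1.1⟩} = closure {hV.fromSpec ⟨q'.1, q'.2.1.1⟩} :=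
      congrArg (fun i => ((i : ↥(irreducibleComponents ↥X)) : Set X))
        (congrArg Subtype.val h)
    have h2 : hV.fromSpec ⟨q.1, q.2.1.1⟩ = hV.fromSpec ⟨q'.1, q'.2.1.1⟩ :=
      (inseparable_iff_closure_eq.mpr h1).eq
    have h3 := hV.fromSpec.isOpenEmbedding.injective h2
    exact Subtype.ext (congrArg PrimeSpectrum.asIdeal h3)
  haveI : Finite {q // q ∈ minimalPrimes Γ(X, V)} := Finite.of_injective g hg
  exact Set.toFinite _

end Groth.Agent.H38.MinPrimesComp
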