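import Groth.Agent.H38.GeomBranch3
import Mathlib.RingTheory.Spectrum.Maximal.Basic
import Mathlib.Algebra.BigOperators.Finprod

set_option autoImplicit false
universe u

open scoped nonZeroDivisors

namespace Groth.Agent.H38

section IC

variable {R₁ R₂ : Type*} [CommRing R₁] [CommRing R₂] (e : R₁ ≃+* R₂)

/-- The isomorphism of total rings of fractions induced by a ring isomorphism. -/
noncomputable def fracEquivOfRingEquiv : FractionRing R₁ ≃+* FractionRing R₂ :=
  IsLocalization.ringEquivOfRingEquiv (M := R₁⁰) (T := R₂⁰) (FractionRing R₁) (FractionRing R₂) e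
    (MulEquivClass.map_nonZeroDivisors e)

theorem fracEquivOfRingEquiv_algebraMap (x : R₁) :
    fracEquivOfRingEquiv e (algebraMap R₁ (FractionRing R₁) x) =
      algebraMap R₂ (FractionRing R₂) (e x) :=
  IsLocalization.ringEquivOfRingEquiv_eq _ _

theorem fracEquivOfRingEquiv_symm_algebraMap (y : R₂) :
    (fracEquivOfRingEquiv e).symm (algebraMap R₂ (FractionRing R₂) y) =
      algebraMap R₁ (FractionRing R₁) (e.symm y) := by
  rw [RingEquiv.symm_apply_eq, fracEquivOfRingEquiv_algebraMap, RingEquiv.apply_symm_apply]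

theorem isIntegral_fracEquivOfRingEquiv {x : FractionRing R₁} (hx : IsIntegral R₁ x) :
    IsIntegral R₂ (fracEquivOfRingEquiv e x) :=
  hx.map_of_comp_eq e.toRingHom (fracEquivOfRingEquiv e).toRingHom
    (RingHom.ext fun a => (fracEquivOfRingEquiv_algebraMap e a).symm)

theorem isIntegral_fracEquivOfRingEquiv_symm {y : FractionRing R₂} (hy : IsIntegral R₂ y) :
    IsIntegral R₁ ((fracEquivOfRingEquiv e).symm y) :=
  hy.map_of_comp_eq e.symm.toRingHom (fracEquivOfRingEquiv e).symm.toRingHom
    (RingHom.ext fun a => (fracEquivOfRingEquiv_symm_algebraMap e a).symm)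

/-- The isomorphism of normalizations induced by a ring isomorphism. -/
noncomputable def integralClosureFracEquiv :
    integralClosure R₁ (FractionRing R₁) ≃+* integralClosure R₂ (FractionRing R₂) where
  toFun x := ⟨fracEquivOfRingEquiv e x.1, isIntegral_fracEquivOfRingEquiv e x.2⟩
  invFun y := ⟨(fracEquivOfRingEquiv e).symm y.1, isIntegral_fracEquivOfRingEquiv_symm e y.2⟩
  left_inv x := Subtype.ext ((fracEquivOfRingEquiv e).symm_apply_apply x.1)
  right_inv y := Subtype.ext ((fracEquivOfRingEquiv e).apply_symm_apply y.1)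
  map_mul' x y := Subtype.ext (map_mul (fracEquivOfRingEquiv e) x.1 y.1)
  map_add' x y := Subtype.ext (map_add (fracEquivOfRingEquiv e) x.1 y.1)

end IC

section MaxSpec

/-- The bijection of maximal spectra induced by a ring isomorphism. -/
def maxSpecEquiv {R S : Type*} [CommRing R] [CommRing S] (e : R ≃+* S) :
    MaximalSpectrum R ≃ MaximalSpectrum S where
  toFun m := ⟨m.asIdeal.comap e.symm.toRingHom,
    haveI := m.isMaximal
    Ideal.comap_isMaximal_of_surjective _ e.symm.surjective⟩
  invFun m := ⟨m.asIdeal.comap e.toRingHom,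
    haveI := m.isMaximal
    Ideal.comap_isMaximal_of_surjective _ e.surjective⟩
  left_inv m := by
    apply MaximalSpectrum.ext
    ext x
    change e.symm (e x) ∈ m.asIdeal ↔ x ∈ m.asIdeal
    rw [e.symm_apply_apply]
  right_inv m := by
    apply MaximalSpectrum.ext
    ext x
    change e (e.symm x) ∈ m.asIdeal ↔ x ∈ m.asIdeal
    rw [e.apply_symm_apply]

variable {ι : Type*} (R : ι → Type*) [∀ i, CommRing (R i)]

/-- Maximal ideals of the factors give maximal ideals of the product. -/
def sigmaToPiMax : (Σ i, MaximalSpectrum (R i)) → MaximalSpectrum (∀ i, R i) := fun x =>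
  ⟨x.2.asIdeal.comap (Pi.evalRingHom R x.1),
    haveI := x.2.isMaximal
    Ideal.comap_isMaximal_of_surjective _ (Function.surjective_eval x.1)⟩

theorem sigmaToPiMax_injective : Function.Injective (sigmaToPiMax R) := by
  rintro ⟨i, m⟩ ⟨j, n⟩ h
  have h1 : PrimeSpectrum.sigmaToPi R ⟨i, m.toPrimeSpectrum⟩ =
      PrimeSpectrum.sigmaToPi R ⟨j, n.toPrimeSpectrum⟩ := by
    apply PrimeSpectrum.ext
    exact congrArg MaximalSpectrum.asIdeal h
  have h2 := PrimeSpectrum.sigmaToPi_injective R h1
  obtain ⟨rfl, h3⟩ := Sigma.mk.inj_iff.mp h2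
  rw [heq_eq_eq] at h3
  rw [MaximalSpectrum.toPrimeSpectrum_injective h3]

theorem sigmaToPiMax_surjective [Finite ι] : Function.Surjective (sigmaToPiMax R) := by
  intro M
  obtain ⟨i, q, hq⟩ := PrimeSpectrum.exists_comap_evalRingHom_eq M.toPrimeSpectrum
  have hq' : q.asIdeal.comap (Pi.evalRingHom R i) = M.asIdeal :=
    congrArg PrimeSpectrum.asIdeal hq
  have hsurj : Function.Surjective (Pi.evalRingHom R i) := Function.surjective_eval i
  have hmap : q.asIdeal = M.asIdeal.map (Pi.evalRingHom R i) := by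
    rw [← hq', Ideal.map_comap_of_surjective _ hsurj]
  have hmax : q.asIdeal.IsMaximal := by
    haveI := M.isMaximal
    rcases Ideal.map_eq_top_or_isMaximal_of_surjective (Pi.evalRingHom R i) hsurj
      (inferInstance : M.asIdeal.IsMaximal) with h | h
    · exact absurd (hmap.trans h) q.isPrime.ne_top
    · rw [hmap]; exact h
  exact ⟨⟨i, ⟨q.asIdeal, hmax⟩⟩, MaximalSpectrum.ext hq'⟩

end MaxSpec

section Card

theorem enat_card_sigma {α : Type*} [Fintype α] (β : α → Type*) :
    ENat.card (Σ a, β a) = ∑ a, ENat.card (β a) := by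
  classical
  by_cases h : ∀ a, Finite (β a)
  · have : Finite (Σ a, β a) := inferInstance
    rw [ENat.card_eq_coe_natCard, Nat.card_sigma, Nat.cast_sum]
    exact Finset.sum_congr rfl fun a _ => (ENat.card_eq_coe_natCard _).symm
  · push Not at h
    obtain ⟨a, ha⟩ := h
    have h1 : Infinite (Σ a, β a) :=
      Infinite.of_injective (fun b : β a => (⟨a, b⟩ : Σ a, β a)) sigma_mk_injective
    rw [ENat.card_eq_top_of_infinite]
    symm
    rw [eq_top_iff]
    calc (⊤ : ℕ∞) = ENat.card (β a) := ENat.card_eq_top_of_infinite.symm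
      _ ≤ ∑ a, ENat.card (β a) :=
        Finset.single_le_sum (f := fun a => ENat.card (β a)) (fun _ _ => zero_le)
          (Finset.mem_univ a)

end Card

end Groth.Agent.H38
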