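import Groth.Agent.H38.TotalFrac3
import Mathlib.RingTheory.OrderOfVanishing.Basic
import Mathlib.RingTheory.Length

set_option autoImplicit false
universe u

open scoped nonZeroDivisors

namespace Groth.Agent.H38

variable {A : Type u} [CommRing A]

theorem linearMap_integralClosure_injective :
    Function.Injective (Algebra.linearMap A (integralClosure A (FractionRing A))) := by
  intro a b hab
  have h1 : algebraMap A (FractionRing A) a = algebraMap A (FractionRing A) b :=
    congrArg Subtype.val hab
  exact IsLocalization.injective (FractionRing A) le_rfl h1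

/-- Every element of the integral closure has a regular denominator. -/
theorem exists_nonZeroDivisor_smul_mem_range (b : integralClosure A (FractionRing A)) :
    ∃ s : A, s ∈ A⁰ ∧
      s • b ∈ LinearMap.range (Algebra.linearMap A (integralClosure A (FractionRing A))) := by
  obtain ⟨a, s, hb⟩ := IsLocalization.exists_mk'_eq A⁰ (b : FractionRing A)
  refine ⟨s, s.2, a, ?_⟩
  apply Subtype.ext
  change algebraMap A (FractionRing A) a = (s : A) • (b : FractionRing A)
  rw [← hb, Algebra.smul_def, mul_comm, IsLocalization.mk'_spec]

/-- A common regular denominator for a finite integral closure. -/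
theorem exists_common_nonZeroDivisor
    [hfin : Module.Finite A (integralClosure A (FractionRing A))] :
    ∃ g : A, g ∈ A⁰ ∧ ∀ b : integralClosure A (FractionRing A),
      g • b ∈ LinearMap.range (Algebra.linearMap A (integralClosure A (FractionRing A))) := by
  classical
  obtain ⟨S, hS⟩ := hfin.fg_top
  choose s hs1 hs2 using fun b : integralClosure A (FractionRing A) =>
    exists_nonZeroDivisor_smul_mem_range b
  refine ⟨∏ b ∈ S, s b, Submonoid.prod_mem _ fun b _ => hs1 b, fun b => ?_⟩
  have hb : b ∈ Submodule.span A (S : Set (integralClosure A (FractionRing A))) := by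
    rw [hS]; exact Submodule.mem_top
  induction hb using Submodule.span_induction with
  | mem x hx =>
    obtain ⟨c, hc⟩ := Finset.dvd_prod_of_mem s hx
    rw [hc, mul_comm, mul_smul]
    exact Submodule.smul_mem _ _ (hs2 x)
  | zero => rw [smul_zero]; exact Submodule.zero_mem _
  | add x y _ _ hx hy => rw [smul_add]; exact Submodule.add_mem _ hx hy
  | smul a x _ hx => rw [smul_comm]; exact Submodule.smul_mem _ _ hx

/-- For a Noetherian ring of dimension at most one with finite integral closure in its total
ring of fractions, the cokernel of the inclusion has finite length. -/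
theorem isFiniteLength_quotient_range [IsNoetherianRing A] [Ring.KrullDimLE 1 A]
    [hfin : Module.Finite A (integralClosure A (FractionRing A))] :
    IsFiniteLength A ((integralClosure A (FractionRing A)) ⧸
      LinearMap.range (Algebra.linearMap A (integralClosure A (FractionRing A)))) := by
  obtain ⟨g, hg, hgB⟩ := exists_common_nonZeroDivisor (A := A)
  set ι := Algebra.linearMap A (integralClosure A (FractionRing A)) with hι
  have hinj : Function.Injective ι := linearMap_integralClosure_injective
  let ε : A ≃ₗ[A] LinearMap.range ι := LinearEquiv.ofInjective ι hinj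
  let μ : integralClosure A (FractionRing A) →ₗ[A] LinearMap.range ι :=
    (LinearMap.lsmul A (integralClosure A (FractionRing A)) g).codRestrict _ hgB
  let ψ : integralClosure A (FractionRing A) →ₗ[A] A ⧸ Ideal.span {g} :=
    (Submodule.mkQ (Ideal.span {g})).comp (ε.symm.toLinearMap.comp μ)
  have hgreg : ∀ x y : integralClosure A (FractionRing A), g • x = g • y → x = y := by
    intro x y hxy
    apply Subtype.ext
    have h1 : algebraMap A (FractionRing A) g * (x : FractionRing A) =
        algebraMap A (FractionRing A) g * (y : FractionRing A) := by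
      have := congrArg Subtype.val hxy
      simpa [Algebra.smul_def] using this
    exact (IsLocalization.map_units (FractionRing A) (⟨g, hg⟩ : A⁰)).mul_left_cancel h1
  have hεμ : ∀ b, ι (ε.symm (μ b)) = g • b := by
    intro b
    have : (ε (ε.symm (μ b)) : integralClosure A (FractionRing A)) = (μ b : _) := by
      rw [LinearEquiv.apply_symm_apply]
    rw [LinearEquiv.ofInjective_apply] at this
    exact this
  have hle : LinearMap.range ι ≤ LinearMap.ker ψ := by
    rintro _ ⟨c, rfl⟩
    rw [LinearMap.mem_ker]
    change Submodule.mkQ (Ideal.span {g}) (ε.symm (μ (ι c))) = 0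
    rw [Submodule.mkQ_apply, Submodule.Quotient.mk_eq_zero]
    have h1 : ε.symm (μ (ι c)) = g * c := by
      apply hinj
      rw [hεμ, ← smul_eq_mul, map_smul]
    rw [h1]
    exact Ideal.mul_mem_right _ _ (Ideal.mem_span_singleton_self g)
  have hker : LinearMap.ker ψ ≤ LinearMap.range ι := by
    intro b hb
    rw [LinearMap.mem_ker] at hb
    change Submodule.mkQ (Ideal.span {g}) (ε.symm (μ b)) = 0 at hb
    rw [Submodule.mkQ_apply, Submodule.Quotient.mk_eq_zero] at hb
    obtain ⟨c, hc⟩ := Ideal.mem_span_singleton'.mp hb
    refine ⟨c, ?_⟩
    apply hgreg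
    rw [← hεμ b, ← hc, mul_comm, ← smul_eq_mul, map_smul]
  have hfl : IsFiniteLength A (A ⧸ Ideal.span {g}) := isFiniteLength_quotient_span_singleton A hg
  refine IsFiniteLength.of_injective hfl (f := Submodule.liftQ _ ψ hle) ?_
  rw [← LinearMap.ker_eq_bot, Submodule.ker_liftQ_eq_bot _ _ _ hker]

end Groth.Agent.H38
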