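import Groth.Agent.H38.GeomBranch
import Groth.Agent.H38.TotalFrac4
import Groth.Prelude.Def_Brnch

set_option autoImplicit false
universe u

open scoped nonZeroDivisors

namespace Groth.Agent.H38

variable {A : Type u} [CommRing A]

theorem isIntegral_quotient_iff (I : Ideal A) {K : Type*} [CommRing K] [Algebra A K]
    [Algebra (A ⧸ I) K] [IsScalarTower A (A ⧸ I) K] (x : K) :
    IsIntegral (A ⧸ I) x ↔ IsIntegral A x := by
  constructor
  · intro h
    have : Algebra.IsIntegral A (A ⧸ I) :=
      Algebra.isIntegral_of_surjective Ideal.Quotient.mk_surjective
    exact isIntegral_trans x h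
  · intro h
    exact h.tower_top

variable [IsReduced A]

/-- A reduced ring is isomorphic to its reduction. -/
noncomputable def redEquiv : A ≃+* CAlg2.red A :=
  RingEquiv.ofBijective (Ideal.Quotient.mk (nilradical A))
    ⟨by
      rw [RingHom.injective_iff_ker_eq_bot, Ideal.mk_ker, nilradical_eq_zero]
      rfl, Ideal.Quotient.mk_surjective⟩

theorem redEquiv_apply (a : A) : redEquiv a = Ideal.Quotient.mk (nilradical A) a := rfl

/-- The total rings of fractions of `A` and of its reduction agree. -/
noncomputable def fracRedEquiv : FractionRing A ≃ₐ[A] FractionRing (CAlg2.red A) :=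
  AlgEquiv.ofRingEquiv
    (f := IsLocalization.ringEquivOfRingEquiv (M := A⁰) (T := (CAlg2.red A)⁰) (FractionRing A)
      (FractionRing (CAlg2.red A)) (redEquiv (A := A))
      (MulEquivClass.map_nonZeroDivisors (redEquiv (A := A))))
    (by
      intro a
      rw [IsLocalization.ringEquivOfRingEquiv_eq,
        IsScalarTower.algebraMap_apply A (CAlg2.red A) (FractionRing (CAlg2.red A))]
      rfl)

/-- The integral closure of the reduction, as an `A`-subalgebra. -/
abbrev normRedSub (A : Type u) [CommRing A] : Subalgebra A (FractionRing (CAlg2.red A)) :=
  (integralClosure (CAlg2.red A) (FractionRing (CAlg2.red A))).restrictScalars A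

theorem integralClosure_eq_normRedSub (A : Type u) [CommRing A] :
    integralClosure A (FractionRing (CAlg2.red A)) = normRedSub A := by
  ext x
  rw [Subalgebra.mem_restrictScalars, mem_integralClosure_iff, mem_integralClosure_iff,
    isIntegral_quotient_iff]

/-- The integral closure of `A` in its total ring of fractions agrees with the one of its
reduction. -/
noncomputable def normEquiv :
    integralClosure A (FractionRing A) ≃ₐ[A] normRedSub A :=
  (fracRedEquiv (A := A)).mapIntegralClosure.trans
    (Subalgebra.equivOfEq _ _ (integralClosure_eq_normRedSub A))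

end Groth.Agent.H38
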