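import Mathlib

set_option autoImplicit false
universe u

namespace Groth.Agent.H38

section

variable {R A R' B : Type*} [CommRing R] [CommRing A] [CommRing R'] [CommRing B]
  [Algebra R A] [Algebra R R'] [Algebra R' B] [Algebra A B] [Algebra R B]
  [IsScalarTower R R' B] [IsScalarTower R A B]
  (p : Ideal R) [p.IsPrime] [IsLocalization.AtPrime A p] [IsLocalRing A]
  [IsLocalization (Algebra.algebraMapSubmonoid R' p.primeCompl) B]

omit [IsLocalRing A] [IsLocalization.AtPrime A p] [Algebra A B] [Algebra R' B] [Algebra R B]
  [Algebra R A] in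
theorem disjoint_of_comap_eq (q : Ideal R') (hq : q.comap (algebraMap R R') = p) :
    Disjoint ((Algebra.algebraMapSubmonoid R' p.primeCompl : Submonoid R') : Set R') (q : Set R') := by
  rw [Set.disjoint_left]
  rintro _ ⟨s, hs, rfl⟩ hmem
  have : s ∈ q.comap (algebraMap R R') := hmem
  rw [hq] at this
  exact hs this

omit [p.IsPrime] [IsLocalization.AtPrime A p] [IsLocalRing A]
  [IsLocalization (Algebra.algebraMapSubmonoid R' p.primeCompl) B] in
include p in
theorem comap_comap_eq (P : Ideal B) :
    (P.comap (algebraMap R' B)).comap (algebraMap R R') =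
      (P.comap (algebraMap A B)).comap (algebraMap R A) := by
  rw [Ideal.comap_comap, Ideal.comap_comap, ← IsScalarTower.algebraMap_eq,
    ← IsScalarTower.algebraMap_eq]

omit [IsLocalRing A] in
include p in
/-- An ideal of the localization `A = R_p` is determined by its contraction to `R`. -/
theorem comap_injective_atPrime (I J : Ideal A)
    (h : I.comap (algebraMap R A) = J.comap (algebraMap R A)) : I = J := by
  rw [← IsLocalization.map_under p.primeCompl A I, ← IsLocalization.map_under p.primeCompl A J]
  exact congrArg _ h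

variable [Algebra.IsIntegral A B]

/-- Maximal ideals of `B = R'_p` (integral over the local ring `A = R_p`) correspond to the primes
of `R'` lying over `p`. -/
noncomputable def maxSpecLocEquiv :
    MaximalSpectrum B ≃ {q : PrimeSpectrum R' // q.asIdeal.comap (algebraMap R R') = p} where
  toFun m := ⟨⟨m.asIdeal.comap (algebraMap R' B), Ideal.comap_isPrime _ _⟩, by
    have hm : (m.asIdeal.comap (algebraMap A B)).IsMaximal :=
      Ideal.isMaximal_comap_of_isIntegral_of_isMaximal (R := A) m.asIdeal
    change (m.asIdeal.comap (algebraMap R' B)).comap (algebraMap R R') = p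
    rw [comap_comap_eq (A := A) p, IsLocalRing.eq_maximalIdeal hm]
    exact IsLocalization.AtPrime.under_maximalIdeal A p⟩
  invFun q := ⟨q.1.asIdeal.map (algebraMap R' B), by
    have hdisj := disjoint_of_comap_eq p q.1.asIdeal q.2
    have hprime : (q.1.asIdeal.map (algebraMap R' B)).IsPrime :=
      IsLocalization.isPrime_of_isPrime_disjoint _ B _ q.1.isPrime hdisj
    have hcomap : (q.1.asIdeal.map (algebraMap R' B)).comap (algebraMap R' B) = q.1.asIdeal :=
      IsLocalization.under_map_of_isPrime_disjoint _ B q.1.isPrime hdisj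
    have h2 : ((q.1.asIdeal.map (algebraMap R' B)).comap (algebraMap A B)) =
        IsLocalRing.maximalIdeal A := by
      apply comap_injective_atPrime p
      rw [← comap_comap_eq (R' := R') p, hcomap, q.2]
      exact (IsLocalization.AtPrime.under_maximalIdeal A p).symm
    exact Ideal.isMaximal_of_isIntegral_of_isMaximal_comap (R := A) _
      (h2 ▸ IsLocalRing.maximalIdeal.isMaximal A)⟩
  left_inv m := by
    apply MaximalSpectrum.ext
    exact IsLocalization.map_under (Algebra.algebraMapSubmonoid R' p.primeCompl) B m.asIdeal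
  right_inv q := by
    apply Subtype.ext
    apply PrimeSpectrum.ext
    exact IsLocalization.under_map_of_isPrime_disjoint _ B q.1.isPrime
      (disjoint_of_comap_eq p q.1.asIdeal q.2)

end

section Hom

variable {R A R' B : Type*} [CommRing R] [CommRing A] [CommRing R'] [CommRing B]
  [Algebra R A] [Algebra R R'] [Algebra R' B] [Algebra A B] [Algebra R B]
  [IsScalarTower R R' B] [IsScalarTower R A B]
  (p : Ideal R) [p.IsPrime] [IsLocalization.AtPrime A p]
  [IsLocalization (Algebra.algebraMapSubmonoid R' p.primeCompl) B]
  {Ω : Type*} [Field Ω] (t : A →+* Ω)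

include p in
omit [IsLocalization (Algebra.algebraMapSubmonoid R' p.primeCompl) B] [Algebra R' B] [Algebra A B]
  [Algebra R B] in
theorem isUnit_of_comp_eq (τ' : R' →+* Ω)
    (h : τ'.comp (algebraMap R R') = t.comp (algebraMap R A))
    (y : Algebra.algebraMapSubmonoid R' p.primeCompl) : IsUnit (τ' y) := by
  obtain ⟨_, s, hs, rfl⟩ := y
  have h1 : τ' (algebraMap R R' s) = t (algebraMap R A s) := congr($h s)
  change IsUnit (τ' (algebraMap R R' s))
  rw [h1]
  exact (IsLocalization.map_units A (⟨s, hs⟩ : p.primeCompl)).map t

/-- Ring homomorphisms out of `B = R'_p` extending `t : A → Ω` correspond to ring homomorphisms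
out of `R'` extending `t ∘ (R → A)`. -/
noncomputable def homLocEquiv :
    {τ : B →+* Ω // τ.comp (algebraMap A B) = t} ≃
      {τ' : R' →+* Ω // τ'.comp (algebraMap R R') = t.comp (algebraMap R A)} where
  toFun τ := ⟨τ.1.comp (algebraMap R' B), by
    rw [RingHom.comp_assoc, ← IsScalarTower.algebraMap_eq, IsScalarTower.algebraMap_eq R A B,
      ← RingHom.comp_assoc, τ.2]⟩
  invFun τ' := ⟨IsLocalization.lift (M := Algebra.algebraMapSubmonoid R' p.primeCompl)
      (g := τ'.1) (isUnit_of_comp_eq p t τ'.1 τ'.2), by
    apply IsLocalization.ringHom_ext p.primeCompl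
    rw [RingHom.comp_assoc, ← IsScalarTower.algebraMap_eq, IsScalarTower.algebraMap_eq R R' B,
      ← RingHom.comp_assoc, IsLocalization.lift_comp, τ'.2]⟩
  left_inv τ := by
    apply Subtype.ext
    apply IsLocalization.ringHom_ext (Algebra.algebraMapSubmonoid R' p.primeCompl)
    rw [IsLocalization.lift_comp]
  right_inv τ' := by
    apply Subtype.ext
    exact IsLocalization.lift_comp _

end Hom

end Groth.Agent.H38
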