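import Mathlib
import Groth.Agent.H38.GeomBranch2
import Groth.Agent.H38.BranchSum
import Groth.Agent.H38.LocFibre

set_option autoImplicit false
universe u

namespace Groth.Agent.H38

section

variable (A : Type u) [CommRing A] [IsDomain A] (K : Type u) [Field K] [Algebra A K]
  [IsFractionRing A K]

/-- For a domain `A` with fraction field `K`, the ring `normRed A` is the integral closure of `A`
in `K`. -/
noncomputable def normRedEquivIC : CAlg2.normRed A ≃+* integralClosure A K :=
  ((normEquiv (A := A)).symm.trans (FractionRing.algEquiv A K).mapIntegralClosure).toRingEquiv

theorem normRedEquivIC_algebraMap (a : A) :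
    normRedEquivIC A K (algebraMap A (CAlg2.normRed A) a) = algebraMap A (integralClosure A K) a := by
  have h1 : (algebraMap A (CAlg2.normRed A) a : CAlg2.normRed A) =
      (algebraMap A (normRedSub A) a : normRedSub A) := Subtype.ext rfl
  unfold normRedEquivIC
  rw [h1]
  exact ((normEquiv (A := A)).symm.trans (FractionRing.algEquiv A K).mapIntegralClosure).commutes a

end

section Loc

variable (R : Type u) [CommRing R] [IsDomain R] (K : Type u) [Field K] [Algebra R K]
  [IsFractionRing R K] (p : Ideal R) [p.IsPrime] (A : Type u) [CommRing A] [Algebra R A]
  [IsLocalization.AtPrime A p] [Algebra A K] [IsScalarTower R A K]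

include R p in
omit [IsDomain R] [Algebra A K] in
theorem isDomain_atPrime [IsDomain R] : IsDomain A :=
  IsLocalization.isDomain_of_le_nonZeroDivisors A (p.primeCompl_le_nonZeroDivisors)

include R p in
theorem isFractionRing_atPrime : IsFractionRing A K :=
  haveI := isDomain_atPrime R p A
  IsFractionRing.isFractionRing_of_isDomain_of_isLocalization p.primeCompl A K

/-- The inclusion of the integral closure of `R` in `K` into that of `A = R_p`. -/
noncomputable def icIncl : integralClosure R K →+* integralClosure A K where
  toFun x := ⟨x.1, x.2.tower_top⟩
  map_one' := rfl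
  map_mul' _ _ := rfl
  map_zero' := rfl
  map_add' _ _ := rfl

include p in
theorem isLocalization_ic :
    letI : Algebra (integralClosure R K) (integralClosure A K) := (icIncl R K A).toAlgebra
    IsLocalization (Algebra.algebraMapSubmonoid (integralClosure R K) p.primeCompl)
      (integralClosure A K) := by
  letI : Algebra (integralClosure R K) (integralClosure A K) := (icIncl R K A).toAlgebra
  have h1 : IsScalarTower (integralClosure R K) (integralClosure A K) K :=
    IsScalarTower.of_algebraMap_eq fun x => rfl
  have h2 : IsScalarTower R (integralClosure R K) (integralClosure A K) :=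
    IsScalarTower.of_algebraMap_eq fun r => by
      apply Subtype.ext
      rfl
  have h3 : IsLocalization (Algebra.algebraMapSubmonoid K p.primeCompl) K := by
    apply IsLocalization.of_le_isUnit
    rintro _ ⟨s, hs, rfl⟩
    have hs0 : s ≠ 0 := fun h0 => hs (h0 ▸ p.zero_mem)
    exact IsUnit.mk0 _ (by
      rw [Ne, map_eq_zero_iff _ (IsFractionRing.injective R K)]
      exact hs0)
  exact IsLocalization.integralClosure (S := K) (Rf := A) (Sf := K) p.primeCompl

variable [IsLocalRing A]

include p in
/-- The number of maximal ideals of `normRed A` for `A = R_p`, in terms of the primes of the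
integral closure of `R` lying over `p`. -/
theorem card_maxSpec_normRed :
    ENat.card (MaximalSpectrum (CAlg2.normRed A)) =
      ENat.card {q : PrimeSpectrum (integralClosure R K) //
        q.asIdeal.comap (algebraMap R (integralClosure R K)) = p} := by
  haveI := isDomain_atPrime R p A
  haveI := isFractionRing_atPrime R K p A
  letI : Algebra (integralClosure R K) (integralClosure A K) := (icIncl R K A).toAlgebra
  have h2 : IsScalarTower R (integralClosure R K) (integralClosure A K) :=
    IsScalarTower.of_algebraMap_eq fun r => by
      apply Subtype.ext
      rfl
  haveI := isLocalization_ic R K p A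
  have e1 : MaximalSpectrum (CAlg2.normRed A) ≃ MaximalSpectrum (integralClosure A K) :=
    maxSpecEquiv (normRedEquivIC A K)
  have e2 : MaximalSpectrum (integralClosure A K) ≃ {q : PrimeSpectrum (integralClosure R K) //
        q.asIdeal.comap (algebraMap R (integralClosure R K)) = p} :=
    maxSpecLocEquiv (R := R) (A := A) (R' := integralClosure R K) (B := integralClosure A K) p
  exact ENat.card_congr (e1.trans e2)

omit [IsLocalRing A] in
include p in
/-- Ring homomorphisms from `normRed A` (for `A = R_p`) to a field extending `t : A → Ω`
correspond to ring homomorphisms from the integral closure of `R` extending `t ∘ (R → A)`. -/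
theorem nonempty_closureHomEquiv {Ω : Type*} [Field Ω] (t : A →+* Ω) :
    Nonempty ({τ : CAlg2.normRed A →+* Ω // τ.comp (algebraMap A (CAlg2.normRed A)) = t} ≃
      {τ' : integralClosure R K →+* Ω //
        τ'.comp (algebraMap R (integralClosure R K)) = t.comp (algebraMap R A)}) := by
  haveI := isDomain_atPrime R p A
  haveI := isFractionRing_atPrime R K p A
  letI : Algebra (integralClosure R K) (integralClosure A K) := (icIncl R K A).toAlgebra
  have h2 : IsScalarTower R (integralClosure R K) (integralClosure A K) :=
    IsScalarTower.of_algebraMap_eq fun r => by
      apply Subtype.ext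
      rfl
  haveI := isLocalization_ic R K p A
  let e := normRedEquivIC A K
  have he : ∀ a, e (algebraMap A (CAlg2.normRed A) a) = algebraMap A (integralClosure A K) a :=
    normRedEquivIC_algebraMap A K
  let E1 : {τ : CAlg2.normRed A →+* Ω // τ.comp (algebraMap A (CAlg2.normRed A)) = t} ≃
      {τ : integralClosure A K →+* Ω // τ.comp (algebraMap A (integralClosure A K)) = t} :=
    { toFun := fun τ => ⟨τ.1.comp e.symm.toRingHom, by
        ext a
        have h3 := RingHom.congr_fun τ.2 a
        simp only [RingHom.comp_apply] at h3 ⊢
        rw [← h3]
        congr 1
        rw [← he a]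
        exact e.symm_apply_apply _⟩
      invFun := fun τ => ⟨τ.1.comp e.toRingHom, by
        ext a
        have h3 := RingHom.congr_fun τ.2 a
        simp only [RingHom.comp_apply] at h3 ⊢
        rw [← h3]
        congr 1
        exact he a⟩
      left_inv := fun τ => by
        apply Subtype.ext
        ext b
        simp only [RingHom.comp_apply]
        congr 1
        exact e.symm_apply_apply b
      right_inv := fun τ => by
        apply Subtype.ext
        ext b
        simp only [RingHom.comp_apply]
        congr 1
        exact e.apply_symm_apply b }
  exact ⟨E1.trans (homLocEquiv (R := R) (A := A) (R' := integralClosure R K)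
    (B := integralClosure A K) p t)⟩

end Loc

end Groth.Agent.H38
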