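import Mathlib.Topology.Spectral.Basic
import Mathlib.Topology.Spectral.Hom
import Mathlib.Topology.Spectral.ConstructibleTopology
import Mathlib.Topology.Connected.TotallyDisconnected
import Mathlib.Topology.Constructible
import Mathlib.Topology.Inseparable

set_option autoImplicit false

namespace Groth.Agent.H38

open Topology TopologicalSpace

universe u v
variable {X : Type u} [tX : TopologicalSpace X] {Y : Type v} [tY : TopologicalSpace Y]

/-- The constructible topology is finer than the given one on a prespectral space. -/
theorem constructibleTopology_le [PrespectralSpace X] : constructibleTopology X ≤ tX := by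
  intro U hU
  have hb := PrespectralSpace.isTopologicalBasis (X := X)
  rw [hb.open_eq_sUnion' hU]
  refine @isOpen_sUnion X (constructibleTopology X) _ ?_
  rintro V ⟨⟨hV₁, hV₂⟩, -⟩
  exact hV₂.isOpen_constructibleTopology_of_isOpen hV₁

theorem isOpen_constructibleTopology_of_isOpen [PrespectralSpace X] {U : Set X} (hU : IsOpen U) :
    IsOpen[constructibleTopology X] U :=
  constructibleTopology_le U hU

theorem isClosed_constructibleTopology_of_isClosed [PrespectralSpace X] {U : Set X}
    (hU : IsClosed U) : IsClosed[constructibleTopology X] U := by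
  rw [← @isOpen_compl_iff X _ (constructibleTopology X)]
  exact isOpen_constructibleTopology_of_isOpen hU.isOpen_compl

theorem isClosed_constructibleTopology_of_isOpen_of_isCompact {U : Set X}
    (hU : IsOpen U) (hc : IsCompact U) : IsClosed[constructibleTopology X] U := by
  rw [← @isOpen_compl_iff X _ (constructibleTopology X)]
  exact IsCompact.isOpen_constructibleTopology_of_isClosed (by simpa using hc)
    hU.isClosed_compl

theorem compactSpace_constructibleTopology [CompactSpace X] [QuasiSober X]
    [PrespectralSpace X] [QuasiSeparatedSpace X] :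
    @CompactSpace X (constructibleTopology X) :=
  @Function.Surjective.compactSpace (WithConstructibleTopology X) X _ (constructibleTopology X)
    WithTopology.ofTopology (WithTopology.continuous_ofTopology _) _
    (WithTopology.ofTopology_surjective _)

theorem t2Space_constructibleTopology [T0Space X] [PrespectralSpace X] :
    @T2Space X (constructibleTopology X) := by
  refine @T2Space.mk X (constructibleTopology X) ?_
  intro x y hxy
  have hb := PrespectralSpace.isTopologicalBasis (X := X)
  obtain ⟨U, hU, hUxy⟩ := exists_isOpen_xor_mem hxy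
  rcases hUxy with ⟨hx, hy⟩ | ⟨hy, hx⟩
  · obtain ⟨V, ⟨hV₁, hV₂⟩, hxV, hVU⟩ := hb.exists_subset_of_mem_open hx hU
    refine ⟨V, Vᶜ, hV₂.isOpen_constructibleTopology_of_isOpen hV₁, ?_, hxV,
      fun h => hy (hVU h), disjoint_compl_right⟩
    exact (isClosed_constructibleTopology_of_isOpen_of_isCompact hV₁ hV₂).isOpen_compl
  · obtain ⟨V, ⟨hV₁, hV₂⟩, hyV, hVU⟩ := hb.exists_subset_of_mem_open hy hU
    refine ⟨Vᶜ, V, ?_, hV₂.isOpen_constructibleTopology_of_isOpen hV₁,
      fun h => hx (hVU h), hyV, disjoint_compl_left⟩
    exact (isClosed_constructibleTopology_of_isOpen_of_isCompact hV₁ hV₂).isOpen_compl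

theorem exists_isCompact_isOpen_xor_mem [T0Space X] [PrespectralSpace X] {x y : X} (hxy : x ≠ y) :
    ∃ V : Set X, IsOpen V ∧ IsCompact V ∧ ((x ∈ V ∧ y ∉ V) ∨ (y ∈ V ∧ x ∉ V)) := by
  have hb := PrespectralSpace.isTopologicalBasis (X := X)
  obtain ⟨U, hU, hUxy⟩ := exists_isOpen_xor_mem hxy
  rcases hUxy with ⟨hx, hy⟩ | ⟨hy, hx⟩
  · obtain ⟨V, ⟨hV₁, hV₂⟩, hxV, hVU⟩ := hb.exists_subset_of_mem_open hx hU
    exact ⟨V, hV₁, hV₂, Or.inl ⟨hxV, fun h => hy (hVU h)⟩⟩
  · obtain ⟨V, ⟨hV₁, hV₂⟩, hyV, hVU⟩ := hb.exists_subset_of_mem_open hy hU
    exact ⟨V, hV₁, hV₂, Or.inr ⟨hyV, fun h => hx (hVU h)⟩⟩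

theorem isClopen_constructibleTopology_of_isOpen_of_isCompact {U : Set X}
    (hU : IsOpen U) (hc : IsCompact U) : @IsClopen X (constructibleTopology X) U :=
  ⟨isClosed_constructibleTopology_of_isOpen_of_isCompact hU hc,
    hc.isOpen_constructibleTopology_of_isOpen hU⟩

theorem totallySeparatedSpace_constructibleTopology [T0Space X] [PrespectralSpace X] :
    @TotallySeparatedSpace X (constructibleTopology X) := by
  refine (@totallySeparatedSpace_iff_exists_isClopen X (constructibleTopology X)).mpr ?_
  intro x y hxy
  obtain ⟨V, hV₁, hV₂, h | h⟩ := exists_isCompact_isOpen_xor_mem hxy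
  · exact ⟨V, isClopen_constructibleTopology_of_isOpen_of_isCompact hV₁ hV₂, h.1, h.2⟩
  · exact ⟨Vᶜ, @IsClopen.compl X (constructibleTopology X) _
      (isClopen_constructibleTopology_of_isOpen_of_isCompact hV₁ hV₂), h.2, fun h' => h' h.1⟩

theorem totallyDisconnectedSpace_constructibleTopology [T0Space X] [PrespectralSpace X] :
    @TotallyDisconnectedSpace X (constructibleTopology X) :=
  @TotallySeparatedSpace.totallyDisconnectedSpace X (constructibleTopology X)
    totallySeparatedSpace_constructibleTopology

theorem continuous_id_constructibleTopology [PrespectralSpace X] :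
    @Continuous X X (constructibleTopology X) tX id :=
  continuous_id_of_le constructibleTopology_le

theorem isCompact_of_isCompact_constructibleTopology [PrespectralSpace X] {E : Set X}
    (hE : @IsCompact X (constructibleTopology X) E) : IsCompact E := by
  have := @IsCompact.image X X (constructibleTopology X) tX E id hE
    continuous_id_constructibleTopology
  simpa using this

theorem isCompact_of_isClosed_constructibleTopology [CompactSpace X] [QuasiSober X]
    [PrespectralSpace X] [QuasiSeparatedSpace X] {E : Set X}
    (hE : IsClosed[constructibleTopology X] E) : IsCompact E :=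
  isCompact_of_isCompact_constructibleTopology
    (@IsClosed.isCompact X (constructibleTopology X) E compactSpace_constructibleTopology hE)

/-- A spectral map is continuous for the constructible topologies. -/
theorem spectral_continuous_constr {f : X → Y} (hf : IsSpectralMap f) :
    @Continuous X Y (constructibleTopology X) (constructibleTopology Y) f := by
  refine (continuous_generateFrom_iff (t := constructibleTopology X)).mpr ?_
  rintro s (⟨hs₁, hs₂⟩ | ⟨hs₁, hs₂⟩)
  · exact (hf.isCompact_preimage_of_isOpen hs₁ hs₂).isOpen_constructibleTopology_of_isOpen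
      (hs₁.preimage hf.continuous)
  · refine IsCompact.isOpen_constructibleTopology_of_isClosed ?_ (hs₁.preimage hf.continuous)
    rw [← Set.preimage_compl]
    exact hf.isCompact_preimage_of_isOpen hs₁.isOpen_compl hs₂

/-- A continuous map of spectral spaces which is continuous for the constructible topologies is
spectral. -/
theorem isSpectralMap_of_continuous_constructibleTopology [CompactSpace X] [QuasiSober X]
    [PrespectralSpace X] [QuasiSeparatedSpace X] {f : X → Y} (hf : Continuous f)
    (hfc : @Continuous X Y (constructibleTopology X) (constructibleTopology Y) f) :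
    IsSpectralMap f := by
  refine ⟨hf, fun s hs₁ hs₂ => ?_⟩
  apply isCompact_of_isClosed_constructibleTopology
  exact @IsClosed.preimage X Y (constructibleTopology X) (constructibleTopology Y) f hfc s
    (isClosed_constructibleTopology_of_isOpen_of_isCompact hs₁ hs₂)

/-- The image of a constructibly closed set under a spectral map of spectral spaces is
constructibly closed. -/
theorem spectral_isClosed_image_constr [CompactSpace X] [QuasiSober X]
    [PrespectralSpace X] [QuasiSeparatedSpace X] [T0Space Y] [PrespectralSpace Y]
    {f : X → Y} (hf : IsSpectralMap f) {E : Set X} (hE : IsClosed[constructibleTopology X] E) :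
    IsClosed[constructibleTopology Y] (f '' E) :=
  @Continuous.isClosedMap X Y (constructibleTopology X) (constructibleTopology Y)
    compactSpace_constructibleTopology t2Space_constructibleTopology f
    (spectral_continuous_constr hf) E hE

theorem spectral_isClosed_range_constr [CompactSpace X] [QuasiSober X]
    [PrespectralSpace X] [QuasiSeparatedSpace X] [T0Space Y] [PrespectralSpace Y]
    {f : X → Y} (hf : IsSpectralMap f) :
    IsClosed[constructibleTopology Y] (Set.range f) := by
  rw [← Set.image_univ]
  exact spectral_isClosed_image_constr hf (@isClosed_univ X (constructibleTopology X))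

/-- In a spectral space, every point of the closure of a constructibly closed set is a
specialization of a point of the set. -/
theorem exists_specializes_of_mem_closure [CompactSpace X] [QuasiSober X]
    [PrespectralSpace X] [QuasiSeparatedSpace X] {E : Set X}
    (hE : IsClosed[constructibleTopology X] E) {x : X} (hx : x ∈ closure E) :
    ∃ e ∈ E, e ⤳ x := by
  have hb := PrespectralSpace.isTopologicalBasis (X := X)
  have hEc : @IsCompact X (constructibleTopology X) E :=
    @IsClosed.isCompact X (constructibleTopology X) E compactSpace_constructibleTopology hE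
  let ι := {U : Set X // IsOpen U ∧ IsCompact U ∧ x ∈ U}
  have key : (E ∩ ⋂ i : ι, (i : Set X)).Nonempty := by
    refine @IsCompact.inter_iInter_nonempty X (constructibleTopology X) E ι hEc
      (fun i => (i : Set X))
      (fun i => isClosed_constructibleTopology_of_isOpen_of_isCompact i.2.1 i.2.2.1) ?_
    intro u
    have hopen : IsOpen (⋂ i ∈ u, (i : Set X)) :=
      isOpen_biInter_finset fun i _ => i.2.1
    have hxmem : x ∈ ⋂ i ∈ u, (i : Set X) := by
      simp only [Set.mem_iInter]
      exact fun i _ => i.2.2.2
    obtain ⟨z, hz₁, hz₂⟩ := mem_closure_iff.mp hx _ hopen hxmem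
    exact ⟨z, hz₂, hz₁⟩
  obtain ⟨e, heE, he⟩ := key
  refine ⟨e, heE, ?_⟩
  rw [specializes_iff_forall_open]
  intro s hs hxs
  obtain ⟨V, ⟨hV₁, hV₂⟩, hxV, hVs⟩ := hb.exists_subset_of_mem_open hxs hs
  exact hVs (Set.mem_iInter.mp he ⟨V, hV₁, hV₂, hxV⟩)

theorem isClosed_of_isClosed_constructibleTopology_of_stableUnderSpecialization [CompactSpace X]
    [QuasiSober X] [PrespectralSpace X] [QuasiSeparatedSpace X] {E : Set X}
    (hE : IsClosed[constructibleTopology X] E) (hs : StableUnderSpecialization E) :
    IsClosed E := by
  rw [← closure_subset_iff_isClosed]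
  intro x hx
  obtain ⟨e, he, hex⟩ := exists_specializes_of_mem_closure hE hx
  exact hs hex he

theorem isOpen_of_isOpen_constructibleTopology_of_stableUnderGeneralization [CompactSpace X]
    [QuasiSober X] [PrespectralSpace X] [QuasiSeparatedSpace X] {E : Set X}
    (hE : IsOpen[constructibleTopology X] E) (hs : StableUnderGeneralization E) :
    IsOpen E := by
  rw [← isClosed_compl_iff]
  refine isClosed_of_isClosed_constructibleTopology_of_stableUnderSpecialization ?_ hs.compl
  exact (@isClosed_compl_iff X (constructibleTopology X) E).mpr hE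

end Groth.Agent.H38
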