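import Mathlib
import Groth.Prelude.Def_Curv2

set_option autoImplicit false
universe u

open AlgebraicGeometry CategoryTheory

namespace Groth.Agent.H38.NormAffine

variable (X : Scheme.{u}) [IsIntegral X]
  [QuasiCompact (X.fromSpecStalk (genericPoint X))]
  [QuasiSeparated (X.fromSpecStalk (genericPoint X))]

omit [QuasiCompact (X.fromSpecStalk (genericPoint X))]
  [QuasiSeparated (X.fromSpecStalk (genericPoint X))] in
theorem genericPoint_mem {U : X.Opens} (hne : (U : Set X).Nonempty) : genericPoint X ∈ U :=
  ((genericPoint_spec X).mem_open_set_iff U.isOpen).mpr (by simpa using hne)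

omit [QuasiCompact (X.fromSpecStalk (genericPoint X))]
  [QuasiSeparated (X.fromSpecStalk (genericPoint X))] in
/-- The preimage of a nonempty open under `Spec K(X) ⟶ X` is everything. -/
theorem preimage_eq_top {U : X.Opens} (hne : (U : Set X).Nonempty) :
    (X.fromSpecStalk (genericPoint X)) ⁻¹ᵁ U = ⊤ := by
  have hfield : IsField (X.presheaf.stalk (genericPoint X)) :=
    (inferInstance : Field X.functionField).toIsField
  ext p
  simp only [TopologicalSpace.Opens.coe_top, Set.mem_univ, iff_true]
  have hp : p = IsLocalRing.closedPoint (X.presheaf.stalk (genericPoint X)) := by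
    let _ : Field (X.presheaf.stalk (genericPoint X)) := hfield.toField
    exact @Subsingleton.elim (PrimeSpectrum (X.presheaf.stalk (genericPoint X))) inferInstance p _
  show (X.fromSpecStalk (genericPoint X)) p ∈ U
  rw [hp, Scheme.fromSpecStalk_closedPoint]
  exact genericPoint_mem X hne


/-- The comparison map `K(X) ⟶ Γ(Spec K(X), f⁻¹U)`. -/
noncomputable def jMap (U : X.Opens) : X.functionField ⟶
    Γ(Spec (X.presheaf.stalk (genericPoint X)), (X.fromSpecStalk (genericPoint X)) ⁻¹ᵁ U) :=
  (Scheme.ΓSpecIso (X.presheaf.stalk (genericPoint X))).inv ≫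
    (Spec (X.presheaf.stalk (genericPoint X))).presheaf.map (homOfLE le_top).op

omit [QuasiCompact (X.fromSpecStalk (genericPoint X))]
  [QuasiSeparated (X.fromSpecStalk (genericPoint X))] in
theorem isIso_jMap {U : X.Opens} (hne : (U : Set X).Nonempty) : IsIso (jMap X U) := by
  have h : (⊤ : (Spec (X.presheaf.stalk (genericPoint X))).Opens) ≤
      (X.fromSpecStalk (genericPoint X)) ⁻¹ᵁ U := (preimage_eq_top X hne).ge
  have h1 : IsIso (homOfLE (le_top :
      (X.fromSpecStalk (genericPoint X)) ⁻¹ᵁ U ≤ ⊤)) := ⟨homOfLE h, rfl, rfl⟩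
  unfold jMap
  infer_instance

omit [QuasiCompact (X.fromSpecStalk (genericPoint X))]
  [QuasiSeparated (X.fromSpecStalk (genericPoint X))] in
theorem app_eq_germ_jMap {U : X.Opens} (hne : (U : Set X).Nonempty) :
    (X.fromSpecStalk (genericPoint X)).app U =
      X.presheaf.germ U (genericPoint X) (genericPoint_mem X hne) ≫ jMap X U :=
  Scheme.fromSpecStalk_app (genericPoint_mem X hne)


/-- The map from the sections of the normalization over the preimage of a nonempty affine open
to the function field. -/
noncomputable def toFF {U : X.Opens} (hU : IsAffineOpen U) (hne : (U : Set X).Nonempty) :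
    Γ((X.fromSpecStalk (genericPoint X)).normalization,
      (X.fromSpecStalk (genericPoint X)).fromNormalization ⁻¹ᵁ U) ⟶ X.functionField :=
  letI := ((X.fromSpecStalk (genericPoint X)).app U).hom.toAlgebra
  ((X.fromSpecStalk (genericPoint X)).normalizationObjIso hU).hom ≫
    CommRingCat.ofHom (integralClosure Γ(X, U) Γ(Spec (X.presheaf.stalk (genericPoint X)),
      (X.fromSpecStalk (genericPoint X)) ⁻¹ᵁ U)).val.toRingHom ≫
    (@asIso _ _ _ _ (jMap X U) (isIso_jMap X hne)).inv

theorem toFF_app_apply {U : X.Opens} (hU : IsAffineOpen U) (hne : (U : Set X).Nonempty)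
    (r : Γ(X, U)) :
    (toFF X hU hne).hom (((X.fromSpecStalk (genericPoint X)).fromNormalization.app U).hom r) =
      (X.presheaf.germ U (genericPoint X) (genericPoint_mem X hne)).hom r := by
  let _ := ((X.fromSpecStalk (genericPoint X)).app U).hom.toAlgebra
  have h1 := Scheme.Hom.fromNormalization_app (X.fromSpecStalk (genericPoint X)) hU
  have h2 : ((X.fromSpecStalk (genericPoint X)).fromNormalization.app U).hom r =
      ((X.fromSpecStalk (genericPoint X)).normalizationObjIso hU).inv.hom
        (algebraMap Γ(X, U) (integralClosure Γ(X, U) Γ(Spec (X.presheaf.stalk (genericPoint X)),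
          (X.fromSpecStalk (genericPoint X)) ⁻¹ᵁ U)) r) := by
    rw [h1]; rfl
  rw [h2]
  unfold toFF
  simp only [CommRingCat.hom_comp, RingHom.comp_apply]
  have h3 : ((X.fromSpecStalk (genericPoint X)).normalizationObjIso hU).hom.hom
      (((X.fromSpecStalk (genericPoint X)).normalizationObjIso hU).inv.hom
        (algebraMap Γ(X, U) (integralClosure Γ(X, U) Γ(Spec (X.presheaf.stalk (genericPoint X)),
          (X.fromSpecStalk (genericPoint X)) ⁻¹ᵁ U)) r)) =
      algebraMap Γ(X, U) (integralClosure Γ(X, U) Γ(Spec (X.presheaf.stalk (genericPoint X)),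
          (X.fromSpecStalk (genericPoint X)) ⁻¹ᵁ U)) r := by
    simp
  rw [h3]
  have h4 : (CommRingCat.ofHom (integralClosure Γ(X, U) Γ(Spec (X.presheaf.stalk (genericPoint X)),
      (X.fromSpecStalk (genericPoint X)) ⁻¹ᵁ U)).val.toRingHom).hom
      (algebraMap Γ(X, U) (integralClosure Γ(X, U) Γ(Spec (X.presheaf.stalk (genericPoint X)),
          (X.fromSpecStalk (genericPoint X)) ⁻¹ᵁ U)) r) =
      ((X.fromSpecStalk (genericPoint X)).app U).hom r := rfl
  rw [h4, app_eq_germ_jMap X hne]
  simp


theorem toFF_injective {U : X.Opens} (hU : IsAffineOpen U) (hne : (U : Set X).Nonempty) :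
    Function.Injective (toFF X hU hne).hom := by
  let _ := ((X.fromSpecStalk (genericPoint X)).app U).hom.toAlgebra
  intro a b h
  have h' : ((@asIso _ _ _ _ (jMap X U) (isIso_jMap X hne)).inv).hom
      ((((X.fromSpecStalk (genericPoint X)).normalizationObjIso hU).hom.hom a : _) :
        Γ(Spec (X.presheaf.stalk (genericPoint X)), (X.fromSpecStalk (genericPoint X)) ⁻¹ᵁ U)) =
      ((@asIso _ _ _ _ (jMap X U) (isIso_jMap X hne)).inv).hom
      ((((X.fromSpecStalk (genericPoint X)).normalizationObjIso hU).hom.hom b : _) :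
        Γ(Spec (X.presheaf.stalk (genericPoint X)), (X.fromSpecStalk (genericPoint X)) ⁻¹ᵁ U)) := h
  have h1 := (ConcreteCategory.bijective_of_isIso
      (@asIso _ _ _ _ (jMap X U) (isIso_jMap X hne)).inv).1 h'
  have h2 := Subtype.val_injective h1
  exact (ConcreteCategory.bijective_of_isIso
      ((X.fromSpecStalk (genericPoint X)).normalizationObjIso hU).hom).1 h2

omit [QuasiCompact (X.fromSpecStalk (genericPoint X))]
  [QuasiSeparated (X.fromSpecStalk (genericPoint X))] in
theorem jMap_comp_germ {U : X.Opens} (hne : (U : Set X).Nonempty) :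
    (jMap X U).hom.comp (X.presheaf.germ U (genericPoint X) (genericPoint_mem X hne)).hom =
      ((X.fromSpecStalk (genericPoint X)).app U).hom := by
  rw [app_eq_germ_jMap X hne]; rfl

omit [QuasiCompact (X.fromSpecStalk (genericPoint X))]
  [QuasiSeparated (X.fromSpecStalk (genericPoint X))] in
theorem inv_jMap_comp_app {U : X.Opens} (hne : (U : Set X).Nonempty) :
    ((@asIso _ _ _ _ (jMap X U) (isIso_jMap X hne)).inv).hom.comp
      ((X.fromSpecStalk (genericPoint X)).app U).hom =
      (X.presheaf.germ U (genericPoint X) (genericPoint_mem X hne)).hom := by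
  rw [← jMap_comp_germ X hne]
  ext r
  simp only [RingHom.comp_apply]
  have := (@asIso _ _ _ _ (jMap X U) (isIso_jMap X hne)).hom_inv_id
  exact congr($(this).hom ((X.presheaf.germ U (genericPoint X) (genericPoint_mem X hne)).hom r))

theorem mem_range_toFF_iff {U : X.Opens} (hU : IsAffineOpen U) (hne : (U : Set X).Nonempty)
    (y : X.functionField) :
    y ∈ (toFF X hU hne).hom.range ↔
      (X.presheaf.germ U (genericPoint X) (genericPoint_mem X hne)).hom.IsIntegralElem y := by
  let _ := ((X.fromSpecStalk (genericPoint X)).app U).hom.toAlgebra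
  constructor
  · rintro ⟨s, rfl⟩
    set s' := ((X.fromSpecStalk (genericPoint X)).normalizationObjIso hU).hom.hom s with hs'
    obtain ⟨p, hp, hp0⟩ := s'.2
    refine ⟨p, hp, ?_⟩
    have : (toFF X hU hne).hom s =
        ((@asIso _ _ _ _ (jMap X U) (isIso_jMap X hne)).inv).hom (s' : Γ(Spec (X.presheaf.stalk (genericPoint X)),
      (X.fromSpecStalk (genericPoint X)) ⁻¹ᵁ U)) := rfl
    rw [this, ← inv_jMap_comp_app X hne, ← Polynomial.hom_eval₂]
    have hp0' : Polynomial.eval₂ ((X.fromSpecStalk (genericPoint X)).app U).hom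
        (s' : Γ(Spec (X.presheaf.stalk (genericPoint X)),
      (X.fromSpecStalk (genericPoint X)) ⁻¹ᵁ U)) p = 0 := hp0
    rw [hp0', map_zero]
  · rintro ⟨p, hp, hp0⟩
    have hint : IsIntegral Γ(X, U) ((jMap X U).hom y) := by
      refine ⟨p, hp, ?_⟩
      change Polynomial.eval₂ ((X.fromSpecStalk (genericPoint X)).app U).hom _ p = 0
      rw [← jMap_comp_germ X hne, ← Polynomial.hom_eval₂, hp0, map_zero]
    let t : integralClosure Γ(X, U) Γ(Spec (X.presheaf.stalk (genericPoint X)),
      (X.fromSpecStalk (genericPoint X)) ⁻¹ᵁ U) := ⟨(jMap X U).hom y, hint⟩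
    refine ⟨((X.fromSpecStalk (genericPoint X)).normalizationObjIso hU).inv.hom t, ?_⟩
    have h3 : ((X.fromSpecStalk (genericPoint X)).normalizationObjIso hU).hom.hom
        (((X.fromSpecStalk (genericPoint X)).normalizationObjIso hU).inv.hom t) = t := by
      simp
    have : (toFF X hU hne).hom (((X.fromSpecStalk (genericPoint X)).normalizationObjIso hU).inv.hom t) =
        ((@asIso _ _ _ _ (jMap X U) (isIso_jMap X hne)).inv).hom
          ((((X.fromSpecStalk (genericPoint X)).normalizationObjIso hU).hom.hom
        (((X.fromSpecStalk (genericPoint X)).normalizationObjIso hU).inv.hom t) : _) :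
          Γ(Spec (X.presheaf.stalk (genericPoint X)),
      (X.fromSpecStalk (genericPoint X)) ⁻¹ᵁ U)) := rfl
    rw [this, h3]
    have := (@asIso _ _ _ _ (jMap X U) (isIso_jMap X hne)).hom_inv_id
    exact congr($(this).hom y)

end Groth.Agent.H38.NormAffine
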