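import Mathlib
import Groth.Prelude.Def_Curv2
import Groth.Agent.H38.NormAffine

set_option autoImplicit false
universe u

open AlgebraicGeometry CategoryTheory

namespace Groth.Agent.H38.NormAffine

variable (X : Scheme.{u}) [IsIntegral X]
  [QuasiCompact (X.fromSpecStalk (genericPoint X))]
  [QuasiSeparated (X.fromSpecStalk (genericPoint X))]

/-- The unique point of `Spec K(X)`. -/
noncomputable def cPt : ↥(Spec (X.presheaf.stalk (genericPoint X))) :=
  IsLocalRing.closedPoint (X.presheaf.stalk (genericPoint X))

omit [QuasiCompact (X.fromSpecStalk (genericPoint X))]
  [QuasiSeparated (X.fromSpecStalk (genericPoint X))] in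
theorem eq_cPt (p : ↥(Spec (X.presheaf.stalk (genericPoint X)))) : p = cPt X := by
  have hfield : IsField (X.presheaf.stalk (genericPoint X)) :=
    (inferInstance : Field X.functionField).toIsField
  let _ : Field (X.presheaf.stalk (genericPoint X)) := hfield.toField
  exact @Subsingleton.elim (PrimeSpectrum (X.presheaf.stalk (genericPoint X))) inferInstance p _

/-- The image of the point of `Spec K(X)` in the normalization is the generic point. -/
theorem toNormalization_cPt :
    (X.fromSpecStalk (genericPoint X)).toNormalization (cPt X) =
      genericPoint (X.fromSpecStalk (genericPoint X)).normalization := by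
  set t := (X.fromSpecStalk (genericPoint X)).toNormalization with ht
  have hdense : DenseRange t := IsDominant.denseRange
  have hrange : Set.range t = {t (cPt X)} := by
    ext y
    constructor
    · rintro ⟨p, rfl⟩
      rw [eq_cPt X p]; rfl
    · rintro rfl
      exact ⟨_, rfl⟩
  have hgen : IsGenericPoint (t (cPt X)) (⊤ : Set _) := by
    unfold IsGenericPoint
    rw [← hrange]
    exact hdense.closure_range
  exact hgen.eq (genericPoint_spec _)

theorem fromNormalization_toNormalization_cPt :
    (X.fromSpecStalk (genericPoint X)).fromNormalization
      ((X.fromSpecStalk (genericPoint X)).toNormalization (cPt X)) = genericPoint X := by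
  have h := (X.fromSpecStalk (genericPoint X)).toNormalization_fromNormalization
  have h2 : (X.fromSpecStalk (genericPoint X)).fromNormalization
      ((X.fromSpecStalk (genericPoint X)).toNormalization (cPt X)) =
      ((X.fromSpecStalk (genericPoint X)).toNormalization ≫
        (X.fromSpecStalk (genericPoint X)).fromNormalization) (cPt X) := rfl
  rw [h2, h]
  exact Scheme.fromSpecStalk_closedPoint

/-- The normalization morphism maps the generic point to the generic point. -/
theorem fromNormalization_genericPoint :
    (X.fromSpecStalk (genericPoint X)).fromNormalization
      (genericPoint (X.fromSpecStalk (genericPoint X)).normalization) = genericPoint X := by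
  rw [← toNormalization_cPt X]
  exact fromNormalization_toNormalization_cPt X

/-- The normalization morphism is surjective. -/
theorem surjective_normalizationι : Surjective (Curv2.normalizationι X) := by
  constructor
  change Function.Surjective (X.fromSpecStalk (genericPoint X)).fromNormalization
  set ν := (X.fromSpecStalk (genericPoint X)).fromNormalization with hν
  have hclosed : IsClosed (Set.range ν) := ν.isClosedMap.isClosed_range
  have hmem : genericPoint X ∈ Set.range ν := ⟨_, fromNormalization_toNormalization_cPt X⟩
  have huniv : Set.range ν = Set.univ := by
    apply Set.eq_univ_of_univ_subset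
    have h1 : closure {genericPoint X} ⊆ Set.range ν :=
      hclosed.closure_subset_iff.mpr (Set.singleton_subset_iff.mpr hmem)
    have h2 : closure {genericPoint X} = (Set.univ : Set X) := (genericPoint_spec X)
    rwa [h2] at h1
  exact Set.range_eq_univ.mp huniv


/-- The normalization morphism induces a bijection on residue fields at the generic point. -/
theorem residueFieldMap_bijective_toNormalization_cPt :
    Function.Bijective ((X.fromSpecStalk (genericPoint X)).fromNormalization.residueFieldMap
      ((X.fromSpecStalk (genericPoint X)).toNormalization (cPt X))).hom := by
  set f := X.fromSpecStalk (genericPoint X) with hf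
  set t := f.toNormalization with ht
  set ν := f.fromNormalization with hν
  have hcomp : t ≫ ν = f := f.toNormalization_fromNormalization
  have hfs : Function.Surjective (f.residueFieldMap (cPt X)).hom := by
    have h1 := Scheme.residue_residueFieldMap f (cPt X)
    have h2 : Function.Surjective
        (f.stalkMap (cPt X) ≫ (Spec (X.presheaf.stalk (genericPoint X))).residue (cPt X)).hom := by
      rw [CommRingCat.hom_comp]
      exact (Scheme.residue_surjective _ _).comp (f.stalkMap_surjective _)
    rw [← h1, CommRingCat.hom_comp, RingHom.coe_comp] at h2
    exact Function.Surjective.of_comp h2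
  have h3 : Function.Surjective ((t ≫ ν).residueFieldMap (cPt X)).hom := by
    rw [Scheme.Hom.residueFieldMap_congr hcomp (cPt X), CommRingCat.hom_comp]
    exact hfs.comp (ConcreteCategory.bijective_of_isIso _).2
  have h4 := Scheme.residueFieldMap_comp t ν (cPt X)
  refine ⟨RingHom.injective _, fun y => ?_⟩
  obtain ⟨z, hz⟩ := h3 ((t.residueFieldMap (cPt X)).hom y)
  refine ⟨z, (RingHom.injective (t.residueFieldMap (cPt X)).hom) ?_⟩
  rw [← hz]
  exact (congr($(h4).hom z)).symm

end Groth.Agent.H38.NormAffine
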