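import Mathlib
import Groth.Prelude.Def_Curv2
import Groth.Prelude.Def_Pi1
import Groth.Agent.H38.NormAffine

set_option autoImplicit false
universe u

open AlgebraicGeometry CategoryTheory

namespace Groth.Agent.H38.NormAffine

variable (X : Scheme.{u}) [IsIntegral X]
  [QuasiCompact (X.fromSpecStalk (genericPoint X))]
  [QuasiSeparated (X.fromSpecStalk (genericPoint X))]

section

variable {U : X.Opens} (hU : IsAffineOpen U) (hne : (U : Set X).Nonempty)

/-- The algebra structure of the function field over the sections on a nonempty open. -/
noncomputable abbrev germAlg : Algebra Γ(X, U) X.functionField :=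
  (X.presheaf.germ U (genericPoint X) (genericPoint_mem X hne)).hom.toAlgebra

omit [QuasiCompact (X.fromSpecStalk (genericPoint X))]
  [QuasiSeparated (X.fromSpecStalk (genericPoint X))] in
include hU in
theorem isFractionRing_germ : @IsFractionRing Γ(X, U) _ X.functionField _ (germAlg X hne) := by
  have : Nonempty U := ⟨⟨_, hne.some_mem⟩⟩
  exact functionField_isFractionRing_of_isAffineOpen X U hU

/-- The sections of the normalization over the preimage of a nonempty affine open `U` are
isomorphic to the integral closure of `Γ(X, U)` in the function field. -/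
noncomputable def sectionsEquiv :
    Γ((X.fromSpecStalk (genericPoint X)).normalization,
      (X.fromSpecStalk (genericPoint X)).fromNormalization ⁻¹ᵁ U) ≃+*
    @integralClosure Γ(X, U) X.functionField _ _ (germAlg X hne) :=
  letI := germAlg X hne
  RingEquiv.ofBijective
    ((toFF X hU hne).hom.codRestrict (integralClosure Γ(X, U) X.functionField).toSubring
      (fun s => (mem_range_toFF_iff X hU hne _).mp ⟨s, rfl⟩))
    ⟨fun a b h => toFF_injective X hU hne (congrArg Subtype.val h),
     fun y => by
      obtain ⟨s, hs⟩ := (mem_range_toFF_iff X hU hne y.1).mpr y.2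
      exact ⟨s, Subtype.ext hs⟩⟩

theorem sectionsEquiv_coe (s) :
    ((sectionsEquiv X hU hne s : _) : X.functionField) = (toFF X hU hne).hom s := rfl

theorem sectionsEquiv_app (r : Γ(X, U)) :
    letI := germAlg X hne
    sectionsEquiv X hU hne (((X.fromSpecStalk (genericPoint X)).fromNormalization.app U).hom r) =
      algebraMap Γ(X, U) (integralClosure Γ(X, U) X.functionField) r := by
  apply Subtype.ext
  exact toFF_app_apply X hU hne r

include hU hne in
theorem isDomain_sections :
    IsDomain Γ((X.fromSpecStalk (genericPoint X)).normalization,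
      (X.fromSpecStalk (genericPoint X)).fromNormalization ⁻¹ᵁ U) := by
  letI := germAlg X hne
  exact (sectionsEquiv X hU hne).toMulEquiv.isDomain _

include hU hne in
theorem isIntegrallyClosed_sections :
    IsIntegrallyClosed Γ((X.fromSpecStalk (genericPoint X)).normalization,
      (X.fromSpecStalk (genericPoint X)).fromNormalization ⁻¹ᵁ U) := by
  letI := germAlg X hne
  have hfr := isFractionRing_germ X hU hne
  have hdomR : IsDomain Γ(X, U) := by
    have : Nonempty U := ⟨⟨_, hne.some_mem⟩⟩
    infer_instance
  have h1 : IsIntegrallyClosed (integralClosure Γ(X, U) X.functionField) :=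
    integralClosure.isIntegrallyClosedOfFiniteExtension X.functionField
  exact IsIntegrallyClosed.of_equiv (sectionsEquiv X hU hne).symm

end

/-- The normalization of an integral scheme is a normal scheme. -/
theorem isNormalScheme_normalization : Pi1.IsNormalScheme (Curv2.normalization X) := by
  intro x'
  change IsDomain ((X.fromSpecStalk (genericPoint X)).normalization.presheaf.stalk x') ∧
    IsIntegrallyClosed ((X.fromSpecStalk (genericPoint X)).normalization.presheaf.stalk x')
  refine ⟨inferInstance, ?_⟩
  set ν := (X.fromSpecStalk (genericPoint X)).fromNormalization with hν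
  obtain ⟨_, ⟨U : X.Opens, hU, rfl⟩, hxU, -⟩ :=
    X.isBasis_affineOpens.exists_subset_of_mem_open (Set.mem_univ (ν x')) isOpen_univ
  have hne : (U : Set X).Nonempty := ⟨_, hxU⟩
  have hV : IsAffineOpen (ν ⁻¹ᵁ U) := hU.preimage ν
  have hx'V : x' ∈ ν ⁻¹ᵁ U := hxU
  letI : Algebra Γ((X.fromSpecStalk (genericPoint X)).normalization, ν ⁻¹ᵁ U)
      ((X.fromSpecStalk (genericPoint X)).normalization.presheaf.stalk x') :=
    TopCat.Presheaf.algebra_section_stalk _ ⟨x', hx'V⟩
  have hloc : IsLocalization.AtPrime
      ((X.fromSpecStalk (genericPoint X)).normalization.presheaf.stalk x')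
      (hV.primeIdealOf ⟨x', hx'V⟩).asIdeal := hV.isLocalization_stalk ⟨x', hx'V⟩
  have hdom := isDomain_sections X hU hne
  have hic := isIntegrallyClosed_sections X hU hne
  exact isIntegrallyClosed_of_isLocalization _ (hV.primeIdealOf ⟨x', hx'V⟩).asIdeal.primeCompl
    (Ideal.primeCompl_le_nonZeroDivisors _)

end Groth.Agent.H38.NormAffine
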