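import Mathlib
import Groth.Prelude.Def_Curv2
import Groth.Agent.H38.NormAffine2

set_option autoImplicit false
universe u

open AlgebraicGeometry CategoryTheory

namespace Groth.Agent.H38.NormAffine

variable (X : Scheme.{u}) [IsIntegral X]
  [QuasiCompact (X.fromSpecStalk (genericPoint X))]
  [QuasiSeparated (X.fromSpecStalk (genericPoint X))]

/-- Over a nonempty affine open on which the integral closure in the function field is finite, the
normalization morphism is finite. -/
theorem finite_app_of_finite_integralClosure {U : X.Opens} (hU : IsAffineOpen U)
    (hne : (U : Set X).Nonempty)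
    (h : letI := germAlg X hne
      Module.Finite Γ(X, U) (integralClosure Γ(X, U) X.functionField)) :
    ((X.fromSpecStalk (genericPoint X)).fromNormalization.app U).hom.Finite := by
  letI := germAlg X hne
  set φ := ((X.fromSpecStalk (genericPoint X)).fromNormalization.app U).hom with hφ
  letI := φ.toAlgebra
  change Module.Finite Γ(X, U) Γ((X.fromSpecStalk (genericPoint X)).normalization,
      (X.fromSpecStalk (genericPoint X)).fromNormalization ⁻¹ᵁ U)
  let e := sectionsEquiv X hU hne
  let l : (integralClosure Γ(X, U) X.functionField) →ₗ[Γ(X, U)]
      Γ((X.fromSpecStalk (genericPoint X)).normalization,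
      (X.fromSpecStalk (genericPoint X)).fromNormalization ⁻¹ᵁ U) :=
    { toFun := e.symm
      map_add' := map_add e.symm
      map_smul' := by
        intro r y
        show e.symm (r • y) = r • e.symm y
        apply e.injective
        rw [e.apply_symm_apply, Algebra.smul_def, Algebra.smul_def, map_mul, e.apply_symm_apply]
        congr 1
        exact (sectionsEquiv_app X hU hne r).symm }
  exact Module.Finite.of_surjective l e.symm.surjective

/-- The normalization morphism is finite as soon as the integral closures over all nonempty affine
opens are finite. -/
theorem isFinite_of_finite_integralClosure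
    (h : ∀ (U : X.Opens) (_ : IsAffineOpen U) (hne : (U : Set X).Nonempty),
      letI := germAlg X hne
      Module.Finite Γ(X, U) (integralClosure Γ(X, U) X.functionField)) :
    IsFinite (Curv2.normalizationι X) := by
  change IsFinite (X.fromSpecStalk (genericPoint X)).fromNormalization
  refine ⟨fun U hU => ?_⟩
  by_cases hne : (U : Set X).Nonempty
  · exact finite_app_of_finite_integralClosure X hU hne (h U hU hne)
  · have hbot : U = ⊥ := by
      ext x
      simp only [TopologicalSpace.Opens.coe_bot, Set.mem_empty_iff_false, iff_false]
      exact fun hx => hne ⟨x, hx⟩
    subst hbot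
    have hsub : Subsingleton Γ((X.fromSpecStalk (genericPoint X)).normalization,
        (X.fromSpecStalk (genericPoint X)).fromNormalization ⁻¹ᵁ ⊥) := by
      rw [Scheme.Hom.preimage_bot]
      infer_instance
    letI := ((X.fromSpecStalk (genericPoint X)).fromNormalization.app ⊥).hom.toAlgebra
    change Module.Finite _ _
    have : Finite Γ((X.fromSpecStalk (genericPoint X)).normalization,
        (X.fromSpecStalk (genericPoint X)).fromNormalization ⁻¹ᵁ ⊥) := Finite.of_subsingleton
    exact Module.Finite.of_finite

end Groth.Agent.H38.NormAffine
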