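import Mathlib

set_option autoImplicit false

namespace Groth.Agent.H38

/-- The number of embeddings of an algebraic extension `E/F` equals the number of ring
homomorphisms `E → Ω` extending a given `ι : F → Ω`, for `Ω` algebraically closed. -/
theorem card_emb_eq {F E Ω : Type*} [Field F] [Field E] [Algebra F E]
    [Algebra.IsAlgebraic F E] [Field Ω] [IsAlgClosed Ω] (ι : F →+* Ω) :
    ENat.card (Field.Emb F E) =
      ENat.card {σ : E →+* Ω // σ.comp (algebraMap F E) = ι} := by
  letI := ι.toAlgebra
  refine ENat.card_congr ((Field.embEquivOfIsAlgClosed F E Ω).trans ?_)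
  exact
    { toFun := fun φ => ⟨φ.toRingHom, φ.comp_algebraMap⟩
      invFun := fun σ => { σ.1 with commutes' := fun r => RingHom.congr_fun σ.2 r }
      left_inv := fun φ => by ext; rfl
      right_inv := fun σ => by ext; rfl }

/-- If `E` is a field generated as a field by the image of a ring `B`, and the image of `B` is
integral over the subfield `F`, then `E/F` is algebraic. -/
theorem isAlgebraic_of_generated {F E B : Type*} [Field F] [Field E] [Algebra F E] [CommRing B]
    (g : B →+* E) (hint : ∀ b, IsIntegral F (g b))
    (hgen : ∀ e : E, ∃ r s : B, g s ≠ 0 ∧ e = g r / g s) : Algebra.IsAlgebraic F E := by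
  constructor
  intro e
  obtain ⟨r, s, hs, rfl⟩ := hgen e
  have h1 : IsIntegral F (g r) := hint r
  have h2 : IsIntegral F (g s) := hint s
  have h3 : IsIntegral F (g s)⁻¹ := h2.inv
  rw [div_eq_mul_inv]
  exact (h1.mul h3).isAlgebraic

end Groth.Agent.H38
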