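import Mathlib
import Groth.Agent.H38.FibrePrimes
import Groth.Agent.H38.EmbCard

set_option autoImplicit false
universe u

open AlgebraicGeometry CategoryTheory

namespace Groth.Agent.H38

variable {X Y : Scheme.{u}}

/-- The kernel of the evaluation at a point of an affine open is the prime ideal of the point. -/
theorem ker_evaluation {U : X.Opens} (hU : IsAffineOpen U) (x : X) (hx : x ∈ U) :
    RingHom.ker (X.evaluation U x hx).hom = (hU.primeIdealOf ⟨x, hx⟩).asIdeal := by
  letI : Algebra Γ(X, U) (X.presheaf.stalk x) :=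
    TopCat.Presheaf.algebra_section_stalk X.presheaf ⟨x, hx⟩
  haveI hloc : IsLocalization.AtPrime (X.presheaf.stalk x) (hU.primeIdealOf ⟨x, hx⟩).asIdeal :=
    hU.isLocalization_stalk ⟨x, hx⟩
  have h1 := IsLocalization.AtPrime.under_maximalIdeal (X.presheaf.stalk x)
    (hU.primeIdealOf ⟨x, hx⟩).asIdeal
  rw [← h1]
  ext r
  rw [RingHom.mem_ker, Ideal.mem_comap]
  change (X.residue x).hom ((X.presheaf.germ U x hx).hom r) = 0 ↔ _
  exact IsLocalRing.residue_eq_zero_iff _

/-- Ring homomorphisms out of a residue field are determined by their values on sections over an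
affine open neighbourhood. -/
theorem residueField_hom_ext {U : X.Opens} (hU : IsAffineOpen U) (x : X) (hx : x ∈ U)
    {Ω : Type*} [CommRing Ω] (σ σ' : X.residueField x →+* Ω)
    (h : σ.comp (X.evaluation U x hx).hom = σ'.comp (X.evaluation U x hx).hom) : σ = σ' := by
  letI : Algebra Γ(X, U) (X.presheaf.stalk x) :=
    TopCat.Presheaf.algebra_section_stalk X.presheaf ⟨x, hx⟩
  haveI hloc : IsLocalization.AtPrime (X.presheaf.stalk x) (hU.primeIdealOf ⟨x, hx⟩).asIdeal :=
    hU.isLocalization_stalk ⟨x, hx⟩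
  have h2 : σ.comp (X.residue x).hom = σ'.comp (X.residue x).hom := by
    apply IsLocalization.ringHom_ext (hU.primeIdealOf ⟨x, hx⟩).asIdeal.primeCompl
    exact h
  ext a
  obtain ⟨b, rfl⟩ := X.residue_surjective x a
  exact RingHom.congr_fun h2 b

theorem evaluation_residueFieldCongr {U : X.Opens} {x y : X} (h : y = x) (hx : x ∈ U)
    (hy : y ∈ U) :
    X.evaluation U y hy ≫ (X.residueFieldCongr h).hom = X.evaluation U x hx := by
  subst h
  simp


/-- For an integral morphism, residue field extensions are algebraic. -/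
theorem isAlgebraic_residueField (f : Y ⟶ X) [IsIntegralHom f] (y : Y) :
    letI := (f.residueFieldMap y).hom.toAlgebra
    Algebra.IsAlgebraic (X.residueField (f y)) (Y.residueField y) := by
  letI := (f.residueFieldMap y).hom.toAlgebra
  obtain ⟨_, ⟨U : X.Opens, hU, rfl⟩, hyU, -⟩ :=
    X.isBasis_affineOpens.exists_subset_of_mem_open (Set.mem_univ (f y)) isOpen_univ
  have hV : IsAffineOpen (f ⁻¹ᵁ U) := hU.preimage f
  have hy : y ∈ f ⁻¹ᵁ U := hyU
  letI : Algebra Γ(Y, f ⁻¹ᵁ U) (Y.presheaf.stalk y) :=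
    TopCat.Presheaf.algebra_section_stalk Y.presheaf ⟨y, hy⟩
  haveI hloc : IsLocalization.AtPrime (Y.presheaf.stalk y)
      (hV.primeIdealOf ⟨y, hy⟩).asIdeal := hV.isLocalization_stalk ⟨y, hy⟩
  apply isAlgebraic_of_generated (Y.evaluation (f ⁻¹ᵁ U) y hy).hom
  · intro b
    obtain ⟨P, hP, hP0⟩ := f.isIntegral_app U hU b
    refine ⟨P.map (X.evaluation U (f y) hyU).hom, hP.map _, ?_⟩
    rw [Polynomial.eval₂_map]
    have h1 := Scheme.evaluation_naturality f y hy
    have h1' : (algebraMap (X.residueField (f y)) (Y.residueField y)).comp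
        (X.evaluation U (f y) hyU).hom =
        (Y.evaluation (f ⁻¹ᵁ U) y hy).hom.comp (f.app U).hom := by
      change (f.residueFieldMap y).hom.comp (X.evaluation U (f y) hyU).hom = _
      rw [← CommRingCat.hom_comp, ← CommRingCat.hom_comp, h1]
    rw [h1', ← Polynomial.hom_eval₂, hP0, map_zero]
  · intro e
    obtain ⟨a, rfl⟩ := Y.residue_surjective y e
    obtain ⟨r, s, rfl⟩ := IsLocalization.exists_mk'_eq
      (hV.primeIdealOf ⟨y, hy⟩).asIdeal.primeCompl a
    refine ⟨r, s, ?_, ?_⟩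
    · intro h0
      have : (s : Γ(Y, f ⁻¹ᵁ U)) ∈ RingHom.ker (Y.evaluation (f ⁻¹ᵁ U) y hy).hom := h0
      rw [ker_evaluation hV y hy] at this
      exact s.2 this
    · rw [eq_div_iff]
      · change (Y.residue y).hom _ * (Y.residue y).hom (algebraMap _ _ (s : Γ(Y, f ⁻¹ᵁ U))) =
          (Y.residue y).hom (algebraMap _ _ r)
        rw [← map_mul, IsLocalization.mk'_spec]
      · intro h0
        have : (s : Γ(Y, f ⁻¹ᵁ U)) ∈ RingHom.ker (Y.evaluation (f ⁻¹ᵁ U) y hy).hom := h0
        rw [ker_evaluation hV y hy] at this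
        exact s.2 this

section Fib

variable (f : Y ⟶ X) {U : X.Opens} (hU : IsAffineOpen U) (hV : IsAffineOpen (f ⁻¹ᵁ U))
  (x : X) (hx : x ∈ U) {Ω : Type*} [Field Ω] (ι : X.residueField x →+* Ω)

/-- Embeddings of the residue field of a point of the fibre over `x`, compatible with a given
embedding of the residue field of `x`. -/
def FibEmb (y : {y : Y // f y = x}) : Type _ :=
  {σ : Y.residueField y.1 →+* Ω //
    σ.comp (f.residueFieldMap y.1).hom = ι.comp (X.residueFieldCongr y.2).hom.hom}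

/-- Ring homomorphisms from the sections over the preimage, compatible with evaluation at `x`. -/
def FibHom : Type _ :=
  {τ : Γ(Y, f ⁻¹ᵁ U) →+* Ω // τ.comp (f.app U).hom = ι.comp (X.evaluation U x hx).hom}

include hx in
theorem mem_preimage_of_fibre (y : {y : Y // f y = x}) : y.1 ∈ f ⁻¹ᵁ U := by
  show f y.1 ∈ U
  rw [y.2]; exact hx

/-- The map from embeddings of residue fields of fibre points to homomorphisms of sections. -/
noncomputable def fibToHom : (Σ y : {y : Y // f y = x}, FibEmb f x ι y) → FibHom f x hx ι := fun z =>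
  ⟨z.2.1.comp (Y.evaluation (f ⁻¹ᵁ U) z.1.1 (mem_preimage_of_fibre f x hx z.1)).hom, by
    have hy := mem_preimage_of_fibre f x hx z.1
    have h1 := Scheme.evaluation_naturality f z.1.1 hy
    have h2 := evaluation_residueFieldCongr (X := X) (U := U) z.1.2 hx hy
    rw [RingHom.comp_assoc]
    have h1' : (Y.evaluation (f ⁻¹ᵁ U) z.1.1 hy).hom.comp (f.app U).hom =
        (f.residueFieldMap z.1.1).hom.comp (X.evaluation U (f z.1.1) hy).hom := by
      rw [← CommRingCat.hom_comp, ← CommRingCat.hom_comp, h1]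
    rw [h1', ← RingHom.comp_assoc, z.2.2, RingHom.comp_assoc, ← CommRingCat.hom_comp, h2]⟩

include hV in
theorem fibToHom_injective : Function.Injective (fibToHom f x hx ι) := by
  rintro ⟨y, σ⟩ ⟨y', σ'⟩ h
  have hy := mem_preimage_of_fibre f x hx y
  have hy' := mem_preimage_of_fibre f x hx y'
  have hτ : σ.1.comp (Y.evaluation (f ⁻¹ᵁ U) y.1 hy).hom =
      σ'.1.comp (Y.evaluation (f ⁻¹ᵁ U) y'.1 hy').hom := congrArg Subtype.val h
  have hk : (hV.primeIdealOf ⟨y.1, hy⟩).asIdeal = (hV.primeIdealOf ⟨y'.1, hy'⟩).asIdeal := by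
    rw [← ker_evaluation hV y.1 hy, ← ker_evaluation hV y'.1 hy',
      ← RingHom.ker_comp_of_injective _ (RingHom.injective σ.1),
      ← RingHom.ker_comp_of_injective _ (RingHom.injective σ'.1), hτ]
  have hyy : y = y' := by
    apply Subtype.ext
    have := primeIdealOf_injective hV (PrimeSpectrum.ext hk)
    exact congrArg (fun z : ↥(f ⁻¹ᵁ U) => (z : Y)) this
  subst hyy
  have : σ = σ' := Subtype.ext (residueField_hom_ext hV y.1 hy σ.1 σ'.1 hτ)
  rw [this]

include hU hV in
theorem fibToHom_surjective : Function.Surjective (fibToHom f x hx ι) := by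
  intro τ
  have hq : (RingHom.ker τ.1).IsPrime := RingHom.ker_isPrime _
  let q : PrimeSpectrum Γ(Y, f ⁻¹ᵁ U) := ⟨RingHom.ker τ.1, hq⟩
  have hqp : q.comap (f.app U).hom = hU.primeIdealOf ⟨x, hx⟩ := by
    apply PrimeSpectrum.ext
    change (RingHom.ker τ.1).comap (f.app U).hom = _
    rw [RingHom.comap_ker, τ.2, RingHom.ker_comp_of_injective _ (RingHom.injective ι),
      ker_evaluation hU x hx]
  let y : {y : Y // f y = x} := (fibreEquiv f hU hV x hx).symm ⟨q, hqp⟩
  have hy := mem_preimage_of_fibre f x hx y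
  have hyq : hV.primeIdealOf ⟨y.1, hy⟩ = q := by
    have h1 := (fibreEquiv f hU hV x hx).apply_symm_apply ⟨q, hqp⟩
    exact congrArg Subtype.val h1
  have hyq' : (hV.primeIdealOf ⟨y.1, hy⟩).asIdeal = RingHom.ker τ.1 := by rw [hyq]
  letI : Algebra Γ(Y, f ⁻¹ᵁ U) (Y.presheaf.stalk y.1) :=
    TopCat.Presheaf.algebra_section_stalk Y.presheaf ⟨y.1, hy⟩
  haveI hloc : IsLocalization.AtPrime (Y.presheaf.stalk y.1)
      (hV.primeIdealOf ⟨y.1, hy⟩).asIdeal := hV.isLocalization_stalk ⟨y.1, hy⟩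
  have hunits : ∀ s : (hV.primeIdealOf ⟨y.1, hy⟩).asIdeal.primeCompl, IsUnit (τ.1 s) := by
    intro s
    have hs : (s : Γ(Y, f ⁻¹ᵁ U)) ∉ RingHom.ker τ.1 := hyq' ▸ s.2
    exact IsUnit.mk0 _ hs
  let τ' : Y.presheaf.stalk y.1 →+* Ω :=
    IsLocalization.lift (M := (hV.primeIdealOf ⟨y.1, hy⟩).asIdeal.primeCompl) (g := τ.1) hunits
  have hτ'germ : τ'.comp (Y.presheaf.germ (f ⁻¹ᵁ U) y.1 hy).hom = τ.1 :=
    IsLocalization.lift_comp _
  have hkill : ∀ a ∈ IsLocalRing.maximalIdeal (Y.presheaf.stalk y.1), τ' a = 0 := by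
    intro a ha
    obtain ⟨r, s, rfl⟩ := IsLocalization.exists_mk'_eq
      (hV.primeIdealOf ⟨y.1, hy⟩).asIdeal.primeCompl a
    have hr : r ∈ (hV.primeIdealOf ⟨y.1, hy⟩).asIdeal :=
      (IsLocalization.AtPrime.mk'_mem_maximal_iff (Y.presheaf.stalk y.1)
        (hV.primeIdealOf ⟨y.1, hy⟩).asIdeal r s).mp ha
    rw [hyq'] at hr
    rw [IsLocalization.lift_mk'_spec, hr, mul_zero]
  let σ0 : Y.residueField y.1 →+* Ω :=
    Ideal.Quotient.lift (IsLocalRing.maximalIdeal (Y.presheaf.stalk y.1)) τ' hkill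
  have hσ0 : σ0.comp (Y.evaluation (f ⁻¹ᵁ U) y.1 hy).hom = τ.1 := by
    rw [← hτ'germ]
    ext r
    rfl
  have hσmem : σ0.comp (f.residueFieldMap y.1).hom =
      ι.comp (X.residueFieldCongr y.2).hom.hom := by
    have hy2 : f y.1 ∈ U := hy
    apply residueField_hom_ext hU (f y.1) hy2
    have h1 := Scheme.evaluation_naturality f y.1 hy
    have h2 := evaluation_residueFieldCongr (X := X) (U := U) y.2 hx hy2
    have h1' : (f.residueFieldMap y.1).hom.comp (X.evaluation U (f y.1) hy2).hom =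
        (Y.evaluation (f ⁻¹ᵁ U) y.1 hy).hom.comp (f.app U).hom := by
      rw [← CommRingCat.hom_comp, ← CommRingCat.hom_comp, h1]
    rw [RingHom.comp_assoc, h1', ← RingHom.comp_assoc, hσ0, τ.2, RingHom.comp_assoc,
      ← CommRingCat.hom_comp, h2]
  exact ⟨⟨y, ⟨σ0, hσmem⟩⟩, Subtype.ext hσ0⟩

/-- Embeddings of residue fields of the points of the fibre correspond to homomorphisms from
the sections over the preimage. -/
noncomputable def fibEquiv :
    (Σ y : {y : Y // f y = x}, FibEmb f x ι y) ≃ FibHom f x hx ι :=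
  Equiv.ofBijective (fibToHom f x hx ι)
    ⟨fibToHom_injective f hV x hx ι, fibToHom_surjective f hU hV x hx ι⟩

end Fib

end Groth.Agent.H38
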