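import Mathlib
import Groth.Prelude.Def_Curv2
import Groth.Prelude.Def_Brnch
import Groth.Agent.H38.NormAffine2
import Groth.Agent.H38.FibrePrimes
import Groth.Agent.H38.NormRedIC

set_option autoImplicit false
universe u

open AlgebraicGeometry CategoryTheory

namespace Groth.Agent.H38.NormAffine

variable (X : Scheme.{u}) [IsIntegral X]
  [QuasiCompact (X.fromSpecStalk (genericPoint X))]
  [QuasiSeparated (X.fromSpecStalk (genericPoint X))]

/-- Primes of the sections of the normalization over `ν⁻¹U` lying over the prime of `x`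
correspond to primes of the integral closure lying over it. -/
noncomputable def primesOverEquiv {U : X.Opens} (hU : IsAffineOpen U) (x : X) (hx : x ∈ U) :
    letI := germAlg X ⟨x, hx⟩
    {q : PrimeSpectrum Γ((X.fromSpecStalk (genericPoint X)).normalization,
        (X.fromSpecStalk (genericPoint X)).fromNormalization ⁻¹ᵁ U) //
      q.comap ((X.fromSpecStalk (genericPoint X)).fromNormalization.app U).hom =
        hU.primeIdealOf ⟨x, hx⟩} ≃
    {q : PrimeSpectrum (integralClosure Γ(X, U) X.functionField) //
      q.asIdeal.comap (algebraMap Γ(X, U) (integralClosure Γ(X, U) X.functionField)) =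
        (hU.primeIdealOf ⟨x, hx⟩).asIdeal} :=
  letI := germAlg X ⟨x, hx⟩
  Equiv.subtypeEquiv (PrimeSpectrum.comapEquiv (sectionsEquiv X hU ⟨x, hx⟩)).toEquiv (by
    intro q
    have hcomp : ((sectionsEquiv X hU ⟨x, hx⟩).symm.toRingHom).comp
        (algebraMap Γ(X, U) (integralClosure Γ(X, U) X.functionField)) =
        ((X.fromSpecStalk (genericPoint X)).fromNormalization.app U).hom := by
      ext r
      simp only [RingHom.comp_apply]
      rw [← sectionsEquiv_app X hU ⟨x, hx⟩ r]
      exact (sectionsEquiv X hU ⟨x, hx⟩).symm_apply_apply _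
    constructor
    · intro h
      have : (hU.primeIdealOf ⟨x, hx⟩).asIdeal = (q.comap
          ((X.fromSpecStalk (genericPoint X)).fromNormalization.app U).hom).asIdeal := by rw [h]
      rw [this, ← hcomp]
      rfl
    · intro h
      apply PrimeSpectrum.ext
      rw [← h, ← hcomp]
      rfl)


/-- The number of branches of an integral scheme at a point is the number of points of the
normalization over it. -/
theorem numBranchesAt_eq_card_fibre (x : X) :
    Brnch.numBranchesAt X x =
      ENat.card {x' : ↥(Curv2.normalization X) // (Curv2.normalizationι X).base x' = x} := by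
  change Brnch.numBranches (X.presheaf.stalk x) =
    ENat.card {x' : ↥((X.fromSpecStalk (genericPoint X)).normalization) //
      (X.fromSpecStalk (genericPoint X)).fromNormalization x' = x}
  set ν := (X.fromSpecStalk (genericPoint X)).fromNormalization with hν
  obtain ⟨_, ⟨U : X.Opens, hU, rfl⟩, hxU, -⟩ :=
    X.isBasis_affineOpens.exists_subset_of_mem_open (Set.mem_univ x) isOpen_univ
  have hne : (U : Set X).Nonempty := ⟨x, hxU⟩
  haveI : Nonempty U := ⟨⟨x, hxU⟩⟩
  have hV : IsAffineOpen (ν ⁻¹ᵁ U) := hU.preimage ν
  -- finiteness of minimal primes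
  have hfin : (minimalPrimes (X.presheaf.stalk x)).Finite := by
    have := IsDomain.minimalPrimes_eq_singleton_bot (R := X.presheaf.stalk x)
    rw [this]
    exact Set.finite_singleton _
  unfold Brnch.numBranches
  rw [if_pos hfin]
  letI : Algebra Γ(X, U) (X.presheaf.stalk x) :=
    TopCat.Presheaf.algebra_section_stalk X.presheaf ⟨x, hxU⟩
  haveI hloc : IsLocalization.AtPrime (X.presheaf.stalk x) (hU.primeIdealOf ⟨x, hxU⟩).asIdeal :=
    hU.isLocalization_stalk ⟨x, hxU⟩
  haveI hfr := isFractionRing_germ X hU hne
  haveI : IsScalarTower Γ(X, U) (X.presheaf.stalk x) X.functionField :=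
    functionField_isScalarTower X U ⟨x, hxU⟩
  haveI : IsDomain Γ(X, U) := inferInstance
  rw [card_maxSpec_normRed Γ(X, U) X.functionField (hU.primeIdealOf ⟨x, hxU⟩).asIdeal
    (X.presheaf.stalk x)]
  exact ENat.card_congr ((primesOverEquiv X hU x hxU).symm.trans (fibreEquiv ν hU hV x hxU).symm)

end Groth.Agent.H38.NormAffine
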