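import Mathlib
import Groth.Agent.H9.KADedekind

set_option autoImplicit false
universe u v

namespace Groth.Agent.H38.NormDimOne

/-- A ring isomorphic to a Dedekind domain is a Dedekind domain. -/
theorem isDedekindDomain_of_ringEquiv {A B : Type*} [CommRing A] [CommRing B]
    [IsDedekindDomain B] (e : A ≃+* B) : IsDedekindDomain A := by
  haveI : IsDomain A := MulEquiv.isDomain B e.toMulEquiv
  haveI : IsNoetherianRing A := isNoetherianRing_of_ringEquiv B e.symm
  haveI : Ring.DimensionLEOne A := Ring.DimensionLEOne.of_ringEquiv e
  haveI : IsIntegrallyClosed A := IsIntegrallyClosed.of_equiv e.symm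
  exact { }

variable (R : Type u) [CommRing R] [IsDomain R] [IsNoetherianRing R] [Ring.KrullDimLE 1 R]
  (K : Type v) [Field K] [Algebra R K] [IsFractionRing R K]

/-- Only finitely many primes of the integral closure of a one-dimensional Noetherian domain lie
over a given ideal. -/
theorem finite_primesOver (p : Ideal R) :
    Finite {q : PrimeSpectrum (integralClosure R K) //
      q.asIdeal.comap (algebraMap R (integralClosure R K)) = p} := by
  haveI : IsDedekindDomain (integralClosure R K) :=
    Groth.Agent.H9.KA.isDedekindDomain_integralClosure R K
  have hinj : Function.Injective (algebraMap R (integralClosure R K)) := by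
    intro x y hxy
    apply IsFractionRing.injective R K
    exact congrArg (fun z : integralClosure R K => (z : K)) hxy
  by_cases hp : p = ⊥
  · subst hp
    have : Subsingleton {q : PrimeSpectrum (integralClosure R K) //
        q.asIdeal.comap (algebraMap R (integralClosure R K)) = ⊥} := by
      constructor
      rintro ⟨q, hq⟩ ⟨q', hq'⟩
      apply Subtype.ext
      apply PrimeSpectrum.ext
      rw [Ideal.eq_bot_of_comap_eq_bot hq, Ideal.eq_bot_of_comap_eq_bot hq']
    infer_instance
  · obtain ⟨a, hap, ha0⟩ := Submodule.exists_mem_ne_zero_of_ne_bot hp
    have ha0' : algebraMap R (integralClosure R K) a ≠ 0 := by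
      rw [← map_zero (algebraMap R (integralClosure R K))]; exact hinj.ne ha0
    have hfin := Ideal.finite_minimalPrimes_of_isNoetherianRing (integralClosure R K)
      (Ideal.span {algebraMap R (integralClosure R K) a})
    haveI := hfin.to_subtype
    let g : {q : PrimeSpectrum (integralClosure R K) //
        q.asIdeal.comap (algebraMap R (integralClosure R K)) = p} →
        (Ideal.span {algebraMap R (integralClosure R K) a}).minimalPrimes := fun q =>
      ⟨q.1.asIdeal, by
        have hmem : algebraMap R (integralClosure R K) a ∈ q.1.asIdeal := by
          have : a ∈ q.1.asIdeal.comap (algebraMap R (integralClosure R K)) := by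
            rw [q.2]; exact hap
          exact this
        refine ⟨⟨q.1.2, (Ideal.span_singleton_le_iff_mem _).2 hmem⟩, ?_⟩
        rintro q' ⟨hq'prime, hq'le⟩ hq'q
        have hq'ne : q' ≠ ⊥ := by
          rintro rfl
          exact ha0' (by simpa using (Ideal.span_singleton_le_iff_mem _).1 hq'le)
        have hmax : q'.IsMaximal := hq'prime.isMaximal hq'ne
        exact (hmax.eq_of_le q.1.2.ne_top hq'q).ge⟩
    apply Finite.of_injective g
    intro q q' h
    apply Subtype.ext
    apply PrimeSpectrum.ext
    exact congrArg Subtype.val h

/-- A quotient of the integral closure of a one-dimensional Noetherian domain by a nonzero ideal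
is a finite module over the base ring. -/
theorem finite_of_surjective_of_ker_ne_bot {L : Type*} [CommRing L] [Algebra R L]
    (f : integralClosure R K →ₐ[R] L) (hf : Function.Surjective f)
    (hker : RingHom.ker f.toRingHom ≠ ⊥) : Module.Finite R L := by
  obtain ⟨a, ha0, ha⟩ := Groth.Agent.H9.KA.exists_ne_zero_mem (integralClosure R K)
    (RingHom.ker f.toRingHom) hker
  have hfin := Groth.Agent.H9.KA.finite_quotient (integralClosure R K) a ha0
  let g : (integralClosure R K ⧸ Ideal.span {algebraMap R (integralClosure R K) a}) →ₐ[R] L :=
    Ideal.Quotient.liftₐ _ f (by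
      intro t ht
      have : Ideal.span {algebraMap R (integralClosure R K) a} ≤ RingHom.ker f.toRingHom :=
        (Ideal.span_singleton_le_iff_mem _).2 ha
      exact this ht)
  have hg : Function.Surjective g := by
    intro l
    obtain ⟨t, rfl⟩ := hf l
    exact ⟨Ideal.Quotient.mk _ t, rfl⟩
  exact Module.Finite.of_surjective g.toLinearMap hg

end Groth.Agent.H38.NormDimOne
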