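import Mathlib
import Groth.Prelude.Def_Curv2
import Groth.Agent.H38.NormAffine2
import Groth.Agent.H38.NormAffine3
import Groth.Agent.H38.NormAffine5
import Groth.Agent.H38.FibreHom
import Groth.Agent.H38.NormDimOneAlg

set_option autoImplicit false
universe u

open AlgebraicGeometry CategoryTheory

namespace Groth.Agent.H38.NormDimOne

open Groth.Agent.H38.NormAffine

theorem krullDimLE_one_sections {X : Scheme.{u}} (hdim : topologicalKrullDim X ≤ 1)
    {U : X.Opens} (hU : IsAffineOpen U) : Ring.KrullDimLE 1 Γ(X, U) := by
  rw [Ring.krullDimLE_iff]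
  rw [← PrimeSpectrum.topologicalKrullDim_eq_ringKrullDim]
  refine le_trans ?_ hdim
  exact (hU.fromSpec.isOpenEmbedding.isInducing).topologicalKrullDim_le

/-- A point of an affine open of an integral scheme whose prime ideal is zero is the generic
point. -/
theorem eq_genericPoint_of_primeIdealOf_eq_bot {X : Scheme.{u}} [IsIntegral X] {U : X.Opens}
    (hU : IsAffineOpen U) (x : X) (hx : x ∈ U)
    (h : (hU.primeIdealOf ⟨x, hx⟩).asIdeal = ⊥) : x = genericPoint X := by
  haveI : Nonempty U := ⟨⟨x, hx⟩⟩
  have h1 := hU.primeIdealOf_genericPoint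
  have h2 := genericPoint_eq_bot_of_affine Γ(X, U)
  rw [h2] at h1
  have h3 : hU.primeIdealOf ⟨x, hx⟩ = (⊥ : PrimeSpectrum Γ(X, U)) := PrimeSpectrum.ext h
  have := primeIdealOf_injective hU (h3.trans h1.symm)
  exact congrArg Subtype.val this

/-- Evaluation at a point whose prime ideal is maximal is surjective. -/
theorem evaluation_surjective_of_isMaximal {X : Scheme.{u}} {U : X.Opens}
    (hU : IsAffineOpen U) (x : X) (hx : x ∈ U)
    (hmax : (hU.primeIdealOf ⟨x, hx⟩).asIdeal.IsMaximal) :
    Function.Surjective (X.evaluation U x hx).hom := by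
  letI : Algebra Γ(X, U) (X.presheaf.stalk x) :=
    TopCat.Presheaf.algebra_section_stalk X.presheaf ⟨x, hx⟩
  haveI hloc : IsLocalization.AtPrime (X.presheaf.stalk x) (hU.primeIdealOf ⟨x, hx⟩).asIdeal :=
    hU.isLocalization_stalk ⟨x, hx⟩
  intro e
  obtain ⟨a, rfl⟩ := X.residue_surjective x e
  obtain ⟨r, s, rfl⟩ := IsLocalization.exists_mk'_eq
    (hU.primeIdealOf ⟨x, hx⟩).asIdeal.primeCompl a
  obtain ⟨t, i, hi, hti⟩ := hmax.exists_inv s.2
  have hker := ker_evaluation hU x hx
  have hi0 : (X.evaluation U x hx).hom i = 0 := by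
    have : i ∈ RingHom.ker (X.evaluation U x hx).hom := by rw [hker]; exact hi
    exact this
  have hst : (X.evaluation U x hx).hom t * (X.evaluation U x hx).hom (s : Γ(X, U)) = 1 := by
    rw [← map_mul, ← map_one (X.evaluation U x hx).hom, ← hti, map_add, hi0, add_zero]
  have hspec : (X.residue x).hom (IsLocalization.mk' (X.presheaf.stalk x) r s) *
      (X.evaluation U x hx).hom (s : Γ(X, U)) = (X.evaluation U x hx).hom r := by
    change (X.residue x).hom _ * (X.residue x).hom (algebraMap _ _ (s : Γ(X, U))) =
      (X.residue x).hom (algebraMap _ _ r)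
    rw [← map_mul, IsLocalization.mk'_spec]
  refine ⟨r * t, ?_⟩
  rw [map_mul, ← hspec, mul_assoc, mul_comm ((X.evaluation U x hx).hom (s : Γ(X, U))), hst, mul_one]

variable (X : Scheme.{u}) [IsIntegral X] [IsLocallyNoetherian X]
  [QuasiCompact (X.fromSpecStalk (genericPoint X))]
  [QuasiSeparated (X.fromSpecStalk (genericPoint X))]

section

variable {U : X.Opens} (hU : IsAffineOpen U) (hne : (U : Set X).Nonempty)
  (hdim : topologicalKrullDim X ≤ 1)

include hU hne hdim in
theorem isDedekindDomain_sections :
    IsDedekindDomain Γ((X.fromSpecStalk (genericPoint X)).normalization,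
      (X.fromSpecStalk (genericPoint X)).fromNormalization ⁻¹ᵁ U) := by
  letI := germAlg X hne
  haveI hfr := isFractionRing_germ X hU hne
  haveI : IsDomain Γ(X, U) := by
    have : Nonempty U := ⟨⟨_, hne.some_mem⟩⟩
    infer_instance
  haveI : IsNoetherianRing Γ(X, U) := IsLocallyNoetherian.component_noetherian ⟨U, hU⟩
  haveI := krullDimLE_one_sections hdim hU
  haveI := Groth.Agent.H9.KA.isDedekindDomain_integralClosure Γ(X, U) X.functionField
  exact isDedekindDomain_of_ringEquiv (sectionsEquiv X hU hne)

end

theorem finite_fibre (hdim : topologicalKrullDim X ≤ 1) (x : X) :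
    Finite {x' : ↥((X.fromSpecStalk (genericPoint X)).normalization) //
      (X.fromSpecStalk (genericPoint X)).fromNormalization x' = x} := by
  set ν := (X.fromSpecStalk (genericPoint X)).fromNormalization with hν
  obtain ⟨_, ⟨U : X.Opens, hU, rfl⟩, hxU, -⟩ :=
    X.isBasis_affineOpens.exists_subset_of_mem_open (Set.mem_univ x) isOpen_univ
  have hne : (U : Set X).Nonempty := ⟨x, hxU⟩
  have hV : IsAffineOpen (ν ⁻¹ᵁ U) := hU.preimage ν
  letI := germAlg X hne
  haveI hfr := isFractionRing_germ X hU hne
  haveI : IsDomain Γ(X, U) := by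
    have : Nonempty U := ⟨⟨_, hne.some_mem⟩⟩
    infer_instance
  haveI : IsNoetherianRing Γ(X, U) := IsLocallyNoetherian.component_noetherian ⟨U, hU⟩
  haveI := krullDimLE_one_sections hdim hU
  haveI := finite_primesOver Γ(X, U) X.functionField (hU.primeIdealOf ⟨x, hxU⟩).asIdeal
  exact Finite.of_equiv _ ((fibreEquiv ν hU hV x hxU).trans (primesOverEquiv X hU x hxU)).symm

theorem finite_residueField (hdim : topologicalKrullDim X ≤ 1)
    (x' : ↥((X.fromSpecStalk (genericPoint X)).normalization)) :
    letI := ((X.fromSpecStalk (genericPoint X)).fromNormalization.residueFieldMap x').hom.toAlgebra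
    Module.Finite (X.residueField ((X.fromSpecStalk (genericPoint X)).fromNormalization x'))
      ((X.fromSpecStalk (genericPoint X)).normalization.residueField x') := by
  by_cases hgen : x' = genericPoint (X.fromSpecStalk (genericPoint X)).normalization
  · have h2 : x' = (X.fromSpecStalk (genericPoint X)).toNormalization (cPt X) :=
      hgen.trans (toNormalization_cPt X).symm
    subst h2
    letI := ((X.fromSpecStalk (genericPoint X)).fromNormalization.residueFieldMap
      ((X.fromSpecStalk (genericPoint X)).toNormalization (cPt X))).hom.toAlgebra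
    have hbij := residueFieldMap_bijective_toNormalization_cPt X
    exact Module.Finite.of_surjective (Algebra.linearMap _ _) hbij.2
  · set ν := (X.fromSpecStalk (genericPoint X)).fromNormalization with hν
    obtain ⟨_, ⟨U : X.Opens, hU, rfl⟩, hxU, -⟩ :=
      X.isBasis_affineOpens.exists_subset_of_mem_open (Set.mem_univ (ν x')) isOpen_univ
    have hne : (U : Set X).Nonempty := ⟨_, hxU⟩
    have hV : IsAffineOpen (ν ⁻¹ᵁ U) := hU.preimage ν
    have hx'V : x' ∈ ν ⁻¹ᵁ U := hxU
    letI := germAlg X hne
    haveI hfr := isFractionRing_germ X hU hne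
    haveI : IsDomain Γ(X, U) := by
      have : Nonempty U := ⟨⟨_, hne.some_mem⟩⟩
      infer_instance
    haveI : IsNoetherianRing Γ(X, U) := IsLocallyNoetherian.component_noetherian ⟨U, hU⟩
    haveI := krullDimLE_one_sections hdim hU
    haveI hded := isDedekindDomain_sections X hU hne hdim
    -- the prime of x' is nonzero, hence maximal
    have hq0 : (hV.primeIdealOf ⟨x', hx'V⟩).asIdeal ≠ ⊥ := fun h =>
      hgen (eq_genericPoint_of_primeIdealOf_eq_bot hV x' hx'V h)
    have hmax : (hV.primeIdealOf ⟨x', hx'V⟩).asIdeal.IsMaximal :=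
      (hV.primeIdealOf ⟨x', hx'V⟩).2.isMaximal hq0
    have hsurj := evaluation_surjective_of_isMaximal hV x' hx'V hmax
    have hker := ker_evaluation hV x' hx'V
    -- algebra structures
    letI a1 : Algebra Γ(X, U) (X.residueField (ν x')) := (X.evaluation U (ν x') hxU).hom.toAlgebra
    letI a2 : Algebra (X.residueField (ν x'))
      ((X.fromSpecStalk (genericPoint X)).normalization.residueField x') :=
      (ν.residueFieldMap x').hom.toAlgebra
    letI a3 : Algebra Γ(X, U) ((X.fromSpecStalk (genericPoint X)).normalization.residueField x') :=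
      ((ν.residueFieldMap x').hom.comp (X.evaluation U (ν x') hxU).hom).toAlgebra
    haveI : IsScalarTower Γ(X, U) (X.residueField (ν x'))
        ((X.fromSpecStalk (genericPoint X)).normalization.residueField x') :=
      IsScalarTower.of_algebraMap_eq (fun r => rfl)
    have hnat := Scheme.evaluation_naturality ν x' hx'V
    let f : integralClosure Γ(X, U) X.functionField →ₐ[Γ(X, U)]
        ((X.fromSpecStalk (genericPoint X)).normalization.residueField x') :=
      { toRingHom := (((X.fromSpecStalk (genericPoint X)).normalization.evaluation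
            (ν ⁻¹ᵁ U) x' hx'V).hom).comp (sectionsEquiv X hU hne).symm.toRingHom
        commutes' := by
          intro r
          change ((X.fromSpecStalk (genericPoint X)).normalization.evaluation
            (ν ⁻¹ᵁ U) x' hx'V).hom ((sectionsEquiv X hU hne).symm (algebraMap _ _ r)) =
            (ν.residueFieldMap x').hom ((X.evaluation U (ν x') hxU).hom r)
          rw [← sectionsEquiv_app X hU hne r, RingEquiv.symm_apply_apply]
          exact (congr($(hnat).hom r)).symm }
    have hf : Function.Surjective f := by
      intro l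
      obtain ⟨s, rfl⟩ := hsurj l
      exact ⟨sectionsEquiv X hU hne s, by
        change ((X.fromSpecStalk (genericPoint X)).normalization.evaluation
            (ν ⁻¹ᵁ U) x' hx'V).hom ((sectionsEquiv X hU hne).symm (sectionsEquiv X hU hne s)) = _
        rw [RingEquiv.symm_apply_apply]⟩
    have hkerf : RingHom.ker f.toRingHom ≠ ⊥ := by
      intro h0
      apply hq0
      rw [eq_bot_iff]
      intro s hs
      rw [← hker] at hs
      have : sectionsEquiv X hU hne s ∈ RingHom.ker f.toRingHom := by
        rw [RingHom.mem_ker]
        change ((X.fromSpecStalk (genericPoint X)).normalization.evaluation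
            (ν ⁻¹ᵁ U) x' hx'V).hom ((sectionsEquiv X hU hne).symm (sectionsEquiv X hU hne s)) = _
        rw [RingEquiv.symm_apply_apply]
        exact hs
      rw [h0, Ideal.mem_bot] at this
      rw [Ideal.mem_bot]
      exact (sectionsEquiv X hU hne).injective (this.trans (map_zero _).symm)
    have hfin := finite_of_surjective_of_ker_ne_bot Γ(X, U) X.functionField f hf hkerf
    exact Module.Finite.of_restrictScalars_finite Γ(X, U) _ _

theorem isLocallyNoetherian_normalization (hdim : topologicalKrullDim X ≤ 1) :
    IsLocallyNoetherian (X.fromSpecStalk (genericPoint X)).normalization := by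
  set ν := (X.fromSpecStalk (genericPoint X)).fromNormalization with hν
  let S : {U : X.affineOpens // ((U : X.Opens) : Set X).Nonempty} →
      (X.fromSpecStalk (genericPoint X)).normalization.affineOpens :=
    fun U => ⟨ν ⁻¹ᵁ (U.1 : X.Opens), U.1.2.preimage ν⟩
  apply isLocallyNoetherian_of_affine_cover (S := S)
  · rw [eq_top_iff]
    intro x' _
    obtain ⟨_, ⟨U : X.Opens, hU, rfl⟩, hxU, -⟩ :=
      X.isBasis_affineOpens.exists_subset_of_mem_open (Set.mem_univ (ν x')) isOpen_univ
    rw [TopologicalSpace.Opens.mem_iSup]
    exact ⟨⟨⟨U, hU⟩, ⟨_, hxU⟩⟩, hxU⟩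
  · intro U
    haveI := isDedekindDomain_sections X U.1.2 U.2 hdim
    change IsNoetherianRing Γ((X.fromSpecStalk (genericPoint X)).normalization, ν ⁻¹ᵁ (U.1 : X.Opens))
    infer_instance

/-- The stalks of the normalization of a one-dimensional integral locally Noetherian scheme at
non-generic points are discrete valuation rings. -/
theorem isDiscreteValuationRing_stalk (hdim : topologicalKrullDim X ≤ 1)
    (x' : ↥((X.fromSpecStalk (genericPoint X)).normalization))
    (hgen : x' ≠ genericPoint (X.fromSpecStalk (genericPoint X)).normalization) :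
    IsDiscreteValuationRing ((X.fromSpecStalk (genericPoint X)).normalization.presheaf.stalk x') := by
  set ν := (X.fromSpecStalk (genericPoint X)).fromNormalization with hν
  obtain ⟨_, ⟨U : X.Opens, hU, rfl⟩, hxU, -⟩ :=
    X.isBasis_affineOpens.exists_subset_of_mem_open (Set.mem_univ (ν x')) isOpen_univ
  have hne : (U : Set X).Nonempty := ⟨_, hxU⟩
  have hV : IsAffineOpen (ν ⁻¹ᵁ U) := hU.preimage ν
  have hx'V : x' ∈ ν ⁻¹ᵁ U := hxU
  haveI hded := isDedekindDomain_sections X hU hne hdim
  have hq0 : (hV.primeIdealOf ⟨x', hx'V⟩).asIdeal ≠ ⊥ := fun h =>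
    hgen (eq_genericPoint_of_primeIdealOf_eq_bot hV x' hx'V h)
  letI : Algebra Γ((X.fromSpecStalk (genericPoint X)).normalization, ν ⁻¹ᵁ U)
      ((X.fromSpecStalk (genericPoint X)).normalization.presheaf.stalk x') :=
    TopCat.Presheaf.algebra_section_stalk _ ⟨x', hx'V⟩
  haveI hloc : IsLocalization.AtPrime
      ((X.fromSpecStalk (genericPoint X)).normalization.presheaf.stalk x')
      (hV.primeIdealOf ⟨x', hx'V⟩).asIdeal := hV.isLocalization_stalk ⟨x', hx'V⟩
  exact IsLocalization.AtPrime.isDiscreteValuationRing_of_dedekind_domain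
    Γ((X.fromSpecStalk (genericPoint X)).normalization, ν ⁻¹ᵁ U) hq0 _

/-- The sections of the normalization of a one-dimensional integral locally Noetherian scheme
over a nonempty affine open form a Dedekind domain. -/
theorem isDedekindDomain_affine (hdim : topologicalKrullDim X ≤ 1)
    {W : (X.fromSpecStalk (genericPoint X)).normalization.Opens} (hW : IsAffineOpen W)
    (hne : (W : Set ↥((X.fromSpecStalk (genericPoint X)).normalization)).Nonempty) :
    IsDedekindDomain Γ((X.fromSpecStalk (genericPoint X)).normalization, W) := by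
  haveI : Nonempty W := ⟨⟨_, hne.some_mem⟩⟩
  haveI : IsDomain Γ((X.fromSpecStalk (genericPoint X)).normalization, W) := inferInstance
  haveI := isLocallyNoetherian_normalization X hdim
  haveI : IsNoetherianRing Γ((X.fromSpecStalk (genericPoint X)).normalization, W) :=
    IsLocallyNoetherian.component_noetherian ⟨W, hW⟩
  haveI : IsDedekindDomainDvr Γ((X.fromSpecStalk (genericPoint X)).normalization, W) :=
    { is_dvr_at_nonzero_prime := by
        intro P hP0 hPprime
        set x' := hW.fromSpec ⟨P, hPprime⟩ with hx'
        have hx'W : x' ∈ W := fromSpec_mem hW ⟨P, hPprime⟩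
        have hprime : hW.primeIdealOf ⟨x', hx'W⟩ = ⟨P, hPprime⟩ :=
          primeIdealOf_fromSpec hW ⟨P, hPprime⟩ hx'W
        have hgen : x' ≠ genericPoint (X.fromSpecStalk (genericPoint X)).normalization := by
          intro h
          have h1 := hW.primeIdealOf_genericPoint
          have h2 := genericPoint_eq_bot_of_affine
            Γ((X.fromSpecStalk (genericPoint X)).normalization, W)
          rw [h2] at h1
          have h3 : hW.primeIdealOf ⟨x', hx'W⟩ = ⊥ := by
            rw [← h1]
            congr 1
            exact Subtype.ext h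
          rw [hprime] at h3
          exact hP0 (congrArg PrimeSpectrum.asIdeal h3)
        haveI hdvr := isDiscreteValuationRing_stalk X hdim x' hgen
        letI : Algebra Γ((X.fromSpecStalk (genericPoint X)).normalization, W)
            ((X.fromSpecStalk (genericPoint X)).normalization.presheaf.stalk x') :=
          TopCat.Presheaf.algebra_section_stalk _ ⟨x', hx'W⟩
        haveI hloc : IsLocalization.AtPrime
            ((X.fromSpecStalk (genericPoint X)).normalization.presheaf.stalk x')
            (hW.primeIdealOf ⟨x', hx'W⟩).asIdeal := hW.isLocalization_stalk ⟨x', hx'W⟩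
        rw [hprime] at hloc
        haveI : IsLocalization.AtPrime
            ((X.fromSpecStalk (genericPoint X)).normalization.presheaf.stalk x') P := hloc
        let e := IsLocalization.algEquiv P.primeCompl
          ((X.fromSpecStalk (genericPoint X)).normalization.presheaf.stalk x')
          (Localization.AtPrime P)
        exact IsDiscreteValuationRing.RingEquivClass.isDiscreteValuationRing e.toRingEquiv }
  infer_instance

end Groth.Agent.H38.NormDimOne
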