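import Mathlib
import Groth.Prelude.Def_FlatMod2
import Groth.Agent.H13.AssExact
import Groth.Agent.H18.EpiLocSurj
import Groth.Agent.H8.QCohStalk

set_option autoImplicit false
universe u

open CategoryTheory CategoryTheory.Limits AlgebraicGeometry TopologicalSpace Opposite

namespace Groth.Agent.H38.ModStalk

variable {X : Scheme.{u}}

/-- A morphism of `O_X`-modules that is injective on sections is a monomorphism. -/
theorem mono_of_injective_app {M N : X.Modules} (φ : M ⟶ N)
    (h : ∀ U : X.Opens, Function.Injective (φ.app U)) : Mono φ := by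
  apply (Scheme.Modules.toPresheaf X).mono_of_mono_map
  have hmono : ∀ U : (TopologicalSpace.Opens X)ᵒᵖ,
      Mono (((Scheme.Modules.toPresheaf X).map φ).app U) := by
    intro U
    rw [AddCommGrpCat.mono_iff_injective]
    exact h U.unop
  exact NatTrans.mono_of_mono_app _

/-- The map induced on stalks by a morphism of `O_X`-modules. -/
noncomputable def stalkMap {M N : X.Modules} (φ : M ⟶ N) (x : X) :
    M.presheaf.stalk x →+ N.presheaf.stalk x :=
  ((TopCat.Presheaf.stalkFunctor AddCommGrpCat.{u} x).map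
    (Scheme.Modules.Hom.mapPresheaf φ)).hom

theorem stalkMap_germ {M N : X.Modules} (φ : M ⟶ N) (x : X) (U : X.Opens) (hx : x ∈ U)
    (s : Γ(M, U)) :
    stalkMap φ x (M.presheaf.germ U x hx s) = N.presheaf.germ U x hx (φ.app U s) :=
  TopCat.Presheaf.stalkFunctor_map_germ_apply U x hx (Scheme.Modules.Hom.mapPresheaf φ) s

/-- Two germs (of a function and of a section) can be represented on a common open. -/
theorem exists_common_germ (M : X.Modules) (x : X) (a : X.presheaf.stalk x)
    (m : M.presheaf.stalk x) :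
    ∃ (W : X.Opens) (hxW : x ∈ W) (r : Γ(X, W)) (s : Γ(M, W)),
      X.presheaf.germ W x hxW r = a ∧ M.presheaf.germ W x hxW s = m := by
  obtain ⟨W, hxW, r, rfl⟩ := X.presheaf.exists_germ_eq a
  obtain ⟨W', hxW', s, rfl⟩ := TopCat.Presheaf.exists_germ_eq M.presheaf m
  refine ⟨W ⊓ W', ⟨hxW, hxW'⟩, X.presheaf.map (homOfLE inf_le_left).op r,
    M.presheaf.map (homOfLE inf_le_right).op s, ?_, ?_⟩
  · exact TopCat.Presheaf.germ_res_apply X.presheaf (homOfLE inf_le_left) x ⟨hxW, hxW'⟩ r
  · exact TopCat.Presheaf.germ_res_apply M.presheaf (homOfLE inf_le_right) x ⟨hxW, hxW'⟩ s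

theorem stalkMap_smul {M N : X.Modules} (φ : M ⟶ N) (x : X) (a : X.presheaf.stalk x)
    (m : M.presheaf.stalk x) : stalkMap φ x (a • m) = a • stalkMap φ x m := by
  obtain ⟨W, hxW, r, s, rfl, rfl⟩ := exists_common_germ M x a m
  rw [← Groth.Agent.H8.germ_smul, stalkMap_germ, stalkMap_germ, Scheme.Modules.Hom.app_smul,
    Groth.Agent.H8.germ_smul]

/-- The stalk map as a linear map over the local ring. -/
noncomputable def stalkMapₗ {M N : X.Modules} (φ : M ⟶ N) (x : X) :
    M.presheaf.stalk x →ₗ[X.presheaf.stalk x] N.presheaf.stalk x where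
  toFun := stalkMap φ x
  map_add' := map_add _
  map_smul' := stalkMap_smul φ x

theorem stalkMapₗ_apply {M N : X.Modules} (φ : M ⟶ N) (x : X) (m : M.presheaf.stalk x) :
    stalkMapₗ φ x m = stalkMap φ x m := rfl

/-- An epimorphism of `O_X`-modules is surjective on stalks. -/
theorem stalkMap_surjective_of_epi {M N : X.Modules} (φ : M ⟶ N) [Epi φ] (x : X) :
    Function.Surjective (stalkMap φ x) := by
  intro c
  obtain ⟨W, hxW, t, rfl⟩ := TopCat.Presheaf.exists_germ_eq N.presheaf c
  let M' : SheafOfModules.{u} X.ringCatSheaf := M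
  let N' : SheafOfModules.{u} X.ringCatSheaf := N
  let φ' : M' ⟶ N' := φ
  haveI : Epi φ' := ‹Epi φ›
  obtain ⟨S, hS, h⟩ := Groth.Agent.H18.exists_cover_mem_range_of_epi φ' W t
  obtain ⟨U, f, hSf, hxU⟩ := hS x hxW
  obtain ⟨m, hm⟩ := h f hSf
  refine ⟨M.presheaf.germ U x hxU m, ?_⟩
  rw [stalkMap_germ]
  have h2 : φ.app U m = N.presheaf.map f.op t := hm
  rw [h2]
  exact TopCat.Presheaf.germ_res_apply N.presheaf f x hxU t

/-- A short exact sequence of `O_X`-modules is exact on stalks. -/
theorem stalkMap_exact (S : ShortComplex X.Modules) (hS : S.ShortExact) (x : X) :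
    Function.Exact (stalkMap S.f x) (stalkMap S.g x) := by
  intro b
  constructor
  · intro hb
    obtain ⟨W, hxW, t, rfl⟩ := TopCat.Presheaf.exists_germ_eq S.X₂.presheaf b
    rw [stalkMap_germ] at hb
    have hb' : S.X₃.presheaf.germ W x hxW (S.g.app W t) = S.X₃.presheaf.germ W x hxW 0 := by
      rw [hb, map_zero]
    obtain ⟨W', hxW', i, i', hW'⟩ := TopCat.Presheaf.germ_eq S.X₃.presheaf x hxW hxW _ _ hb'
    rw [map_zero] at hW'
    have hnat : S.g.app W' (S.X₂.presheaf.map i.op t) = S.X₃.presheaf.map i.op (S.g.app W t) := by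
      have := S.g.mapPresheaf.naturality i.op
      exact congr($(this) t)
    have hex := (Groth.Agent.H13.sections_injective_and_exact S hS W').2
    have h0 : (S.g.val.app (op W')).hom (S.X₂.presheaf.map i.op t) = 0 := by
      change S.g.app W' (S.X₂.presheaf.map i.op t) = 0
      rw [hnat, hW']
    obtain ⟨a, ha⟩ := (hex _).1 h0
    refine ⟨S.X₁.presheaf.germ W' x hxW' a, ?_⟩
    rw [stalkMap_germ]
    have ha' : S.f.app W' a = S.X₂.presheaf.map i.op t := ha
    rw [ha']
    exact TopCat.Presheaf.germ_res_apply S.X₂.presheaf i x hxW' t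
  · rintro ⟨a, rfl⟩
    obtain ⟨W, hxW, s, rfl⟩ := TopCat.Presheaf.exists_germ_eq S.X₁.presheaf a
    rw [stalkMap_germ, stalkMap_germ]
    have : S.g.app W (S.f.app W s) = 0 := by
      have h := S.zero
      have h2 : (S.f ≫ S.g).app W s = 0 := by rw [h]; rfl
      exact h2
    rw [this, map_zero]

end Groth.Agent.H38.ModStalk
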