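import Mathlib
import Groth.Prelude.Def_Curv2
import Groth.Prelude.Def_ClSub2
import Groth.Prelude.Def_FlatMod2
import Groth.Agent.H38.NormAffine2
import Groth.Agent.H38.ModStalk
import Groth.Agent.H8.Localizing
import Groth.Agent.H8.RegularGerm

set_option autoImplicit false
universe u

open AlgebraicGeometry CategoryTheory CategoryTheory.Limits TopologicalSpace Opposite

namespace Groth.Agent.H38.NormStalk

open Groth.Agent.H38.NormAffine Groth.Agent.H38.ModStalk

variable (X : Scheme.{u}) [IsIntegral X]
  [QuasiCompact (X.fromSpecStalk (genericPoint X))]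
  [QuasiSeparated (X.fromSpecStalk (genericPoint X))]

/-- The direct image of the structure sheaf of the normalization. -/
noncomputable abbrev pushO : X.Modules :=
  (Scheme.Modules.pushforward (X.fromSpecStalk (genericPoint X)).fromNormalization).obj
    (Coh.structureModule (X.fromSpecStalk (genericPoint X)).normalization)

/-- The unit map `O_X ⟶ ν_* O_N`. -/
noncomputable abbrev unit : Coh.structureModule X ⟶ pushO X :=
  ClSub.unitToPush (X.fromSpecStalk (genericPoint X)).fromNormalization

theorem unit_app_apply (U : X.Opens) (s : Γ(X, U)) :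
    ((unit X).app U) s = ((X.fromSpecStalk (genericPoint X)).fromNormalization.app U).hom s := rfl

/-- The unit section of `ν_* O_N` over an open. -/
noncomputable def oneSec (U : X.Opens) : Γ(pushO X, U) :=
  (unit X).app U (show Γ(Coh.structureModule X, U) from (1 : Γ(X, U)))

theorem map_oneSec {U W : X.Opens} (i : W ⟶ U) :
    (pushO X).presheaf.map i.op (oneSec X U) = oneSec X W := by
  have h := (unit X).mapPresheaf.naturality i.op
  have h2 := congr($(h) (show Γ(Coh.structureModule X, U) from (1 : Γ(X, U))))
  refine h2.symm.trans ?_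
  change (unit X).app W ((Coh.structureModule X).presheaf.map i.op
    (show Γ(Coh.structureModule X, U) from (1 : Γ(X, U)))) = _
  have h3 : (Coh.structureModule X).presheaf.map i.op
      (show Γ(Coh.structureModule X, U) from (1 : Γ(X, U))) =
      (show Γ(Coh.structureModule X, W) from (1 : Γ(X, W))) :=
    map_one (X.presheaf.map i.op).hom
  rw [h3]
  rfl

/-- The germ of the unit section of `ν_* O_N` at a point. -/
theorem germ_oneSec_eq (x : X) {U W : X.Opens} (hxU : x ∈ U) (hxW : x ∈ W) :
    (pushO X).presheaf.germ U x hxU (oneSec X U) = (pushO X).presheaf.germ W x hxW (oneSec X W) := by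
  have h1 := TopCat.Presheaf.germ_res_apply (pushO X).presheaf (homOfLE (inf_le_left : U ⊓ W ≤ U)) x
    ⟨hxU, hxW⟩ (oneSec X U)
  have h2 := TopCat.Presheaf.germ_res_apply (pushO X).presheaf (homOfLE (inf_le_right : U ⊓ W ≤ W)) x
    ⟨hxU, hxW⟩ (oneSec X W)
  rw [← h1, ← h2, map_oneSec, map_oneSec]

theorem unit_app_eq_smul_oneSec (U : X.Opens) (r : Γ(X, U)) :
    (unit X).app U (show Γ(Coh.structureModule X, U) from r) = r • oneSec X U := by
  change ((X.fromSpecStalk (genericPoint X)).fromNormalization.app U).hom r =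
    ((X.fromSpecStalk (genericPoint X)).fromNormalization.app U).hom r *
      ((X.fromSpecStalk (genericPoint X)).fromNormalization.app U).hom 1
  rw [map_one, mul_one]

/-- The image of the stalk map of the unit consists of the multiples of the unit germ. -/
theorem mem_range_stalkMap_unit_iff (x : X) {V : X.Opens} (hxV : x ∈ V)
    (b : (pushO X).presheaf.stalk x) :
    b ∈ Set.range (stalkMap (unit X) x) ↔
      ∃ a : X.presheaf.stalk x, b = a • (pushO X).presheaf.germ V x hxV (oneSec X V) := by
  constructor
  · rintro ⟨c, rfl⟩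
    obtain ⟨W, hxW, r, rfl⟩ := TopCat.Presheaf.exists_germ_eq (Coh.structureModule X).presheaf c
    refine ⟨X.presheaf.germ W x hxW (show Γ(X, W) from r), ?_⟩
    rw [stalkMap_germ, germ_oneSec_eq X x hxV hxW, ← Groth.Agent.H8.germ_smul]
    congr 1
    exact unit_app_eq_smul_oneSec X W r
  · rintro ⟨a, rfl⟩
    obtain ⟨W, hxW, r, rfl⟩ := X.presheaf.exists_germ_eq a
    refine ⟨(Coh.structureModule X).presheaf.germ W x hxW (show Γ(Coh.structureModule X, W) from r),
      ?_⟩
    rw [stalkMap_germ, germ_oneSec_eq X x hxV hxW, ← Groth.Agent.H8.germ_smul]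
    congr 1
    exact unit_app_eq_smul_oneSec X W r

section

variable {V : X.Opens} (hV : IsAffineOpen V) (x : X) (hxV : x ∈ V)

/-- The algebra structure of the local ring over the sections. -/
noncomputable abbrev stalkAlg : Algebra Γ(X, V) (X.presheaf.stalk x) :=
  TopCat.Presheaf.algebra_section_stalk X.presheaf ⟨x, hxV⟩

include hV in
/-- The image in the function field of a section of the normalization is integral over the
local ring. -/
theorem isIntegral_toFF (s : Γ((X.fromSpecStalk (genericPoint X)).normalization,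
      (X.fromSpecStalk (genericPoint X)).fromNormalization ⁻¹ᵁ V)) :
    IsIntegral (X.presheaf.stalk x) ((toFF X hV ⟨x, hxV⟩).hom s) := by
  letI := germAlg X (U := V) ⟨x, hxV⟩
  letI := stalkAlg X x hxV
  haveI : Nonempty V := ⟨⟨x, hxV⟩⟩
  haveI : IsScalarTower Γ(X, V) (X.presheaf.stalk x) X.functionField :=
    functionField_isScalarTower X V ⟨x, hxV⟩
  have h1 : IsIntegral Γ(X, V) ((toFF X hV ⟨x, hxV⟩).hom s) :=
    (mem_range_toFF_iff X hV ⟨x, hxV⟩ _).mp ⟨s, rfl⟩
  exact h1.tower_top

/-- The module structure of the integral closure of the local ring over the sections. -/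
noncomputable abbrev icModule :
    Module Γ(X, V) (integralClosure (X.presheaf.stalk x) X.functionField) :=
  Module.compHom _ (X.presheaf.germ V x hxV).hom

/-- The map from sections of `ν_* O_N` over an affine open to the integral closure of the local
ring in the function field. -/
noncomputable def toIC :
    letI := icModule X x hxV
    Γ(pushO X, V) →ₗ[Γ(X, V)] integralClosure (X.presheaf.stalk x) X.functionField :=
  letI := icModule X x hxV
  letI := stalkAlg X x hxV
  letI := germAlg X (U := V) ⟨x, hxV⟩
  haveI : Nonempty V := ⟨⟨x, hxV⟩⟩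
  haveI : IsScalarTower Γ(X, V) (X.presheaf.stalk x) X.functionField :=
    functionField_isScalarTower X V ⟨x, hxV⟩
  { toFun := fun s => ⟨(toFF X hV ⟨x, hxV⟩).hom s, isIntegral_toFF X hV x hxV s⟩
    map_add' := fun a b => by
      apply Subtype.ext
      exact map_add (toFF X hV ⟨x, hxV⟩).hom _ _
    map_smul' := fun r s => by
      apply Subtype.ext
      change (toFF X hV ⟨x, hxV⟩).hom (((X.fromSpecStalk (genericPoint X)).fromNormalization.app
        V).hom r * _) = _
      rw [map_mul, toFF_app_apply]
      change _ = algebraMap (X.presheaf.stalk x) X.functionField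
        ((X.presheaf.germ V x hxV).hom r) * _
      congr 1
      exact (IsScalarTower.algebraMap_apply Γ(X, V) (X.presheaf.stalk x) X.functionField r) }

theorem toIC_coe (s : Γ(pushO X, V)) :
    ((toIC X hV x hxV s : integralClosure (X.presheaf.stalk x) X.functionField) :
      X.functionField) = (toFF X hV ⟨x, hxV⟩).hom s := rfl

/-- The integral closure of the local ring is the localization of the sections of `ν_* O_N`. -/
theorem isLocalizedModule_toIC :
    letI := icModule X x hxV
    IsLocalizedModule (hV.primeIdealOf ⟨x, hxV⟩).asIdeal.primeCompl (toIC X hV x hxV) := by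
  letI := icModule X x hxV
  letI := stalkAlg X x hxV
  letI := germAlg X (U := V) ⟨x, hxV⟩
  haveI : Nonempty V := ⟨⟨x, hxV⟩⟩
  haveI : IsScalarTower Γ(X, V) (X.presheaf.stalk x) X.functionField :=
    functionField_isScalarTower X V ⟨x, hxV⟩
  haveI hloc : IsLocalization.AtPrime (X.presheaf.stalk x) (hV.primeIdealOf ⟨x, hxV⟩).asIdeal :=
    hV.isLocalization_stalk ⟨x, hxV⟩
  refine ⟨?_, ?_, ?_⟩
  · rintro ⟨g, hg⟩
    have hu : IsUnit (X.presheaf.germ V x hxV g) := by
      by_contra h
      exact hg ((Groth.Agent.H8.mem_primeIdealOf_iff hV hxV g).mpr h)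
    rw [Module.End.isUnit_iff]
    obtain ⟨u, hu⟩ := hu
    refine ⟨fun a b hab => ?_, fun b => ⟨(↑u⁻¹ : X.presheaf.stalk x) • b, ?_⟩⟩
    · have h1 : (X.presheaf.germ V x hxV g) • a = (X.presheaf.germ V x hxV g) • b := hab
      rw [← hu] at h1
      have := congrArg (fun z => (↑u⁻¹ : X.presheaf.stalk x) • z) h1
      simpa [smul_smul] using this
    · change (X.presheaf.germ V x hxV g) • ((↑u⁻¹ : X.presheaf.stalk x) • b) = b
      rw [← hu, smul_smul]
      simp
  · intro z
    obtain ⟨⟨m, hm⟩, hint⟩ := IsIntegral.exists_multiple_integral_of_isLocalization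
      (R := Γ(X, V)) (hV.primeIdealOf ⟨x, hxV⟩).asIdeal.primeCompl
      (Rₘ := X.presheaf.stalk x) (z : X.functionField) z.2
    obtain ⟨s, hs⟩ := (mem_range_toFF_iff X hV ⟨x, hxV⟩ _).mpr hint
    refine ⟨(s, ⟨m, hm⟩), ?_⟩
    apply Subtype.ext
    rw [toIC_coe, hs]
    change algebraMap (X.presheaf.stalk x) X.functionField ((X.presheaf.germ V x hxV).hom m) *
      (z : X.functionField) = m • (z : X.functionField)
    rw [Algebra.smul_def]
    congr 1
    exact (IsScalarTower.algebraMap_apply Γ(X, V) (X.presheaf.stalk x) X.functionField m).symm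
  · intro s₁ s₂ h
    refine ⟨1, ?_⟩
    have h' : (toFF X hV ⟨x, hxV⟩).hom s₁ = (toFF X hV ⟨x, hxV⟩).hom s₂ :=
      congrArg Subtype.val h
    rw [toFF_injective X hV ⟨x, hxV⟩ h']

theorem toIC_oneSec : toIC X hV x hxV (oneSec X V) = 1 := by
  apply Subtype.ext
  rw [toIC_coe]
  change (toFF X hV ⟨x, hxV⟩).hom (((X.fromSpecStalk (genericPoint X)).fromNormalization.app
        V).hom 1) = 1
  rw [map_one, map_one]

include hV in
/-- The stalk of `ν_* O_N` at a point is the integral closure of the local ring in the function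
field, the germ of the unit section corresponding to `1`. -/
theorem exists_stalk_equiv :
    ∃ e : (pushO X).presheaf.stalk x ≃ₗ[X.presheaf.stalk x]
        integralClosure (X.presheaf.stalk x) X.functionField,
      e ((pushO X).presheaf.germ V x hxV (oneSec X V)) = 1 := by
  letI := icModule X x hxV
  letI := stalkAlg X x hxV
  letI := Groth.Agent.H8.stalkModule (pushO X) hxV
  haveI hloc : IsLocalization.AtPrime (X.presheaf.stalk x) (hV.primeIdealOf ⟨x, hxV⟩).asIdeal :=
    hV.isLocalization_stalk ⟨x, hxV⟩
  haveI : IsScalarTower Γ(X, V) (X.presheaf.stalk x) ((pushO X).presheaf.stalk x) :=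
    .of_algebraMap_smul fun _ _ => rfl
  haveI : IsScalarTower Γ(X, V) (X.presheaf.stalk x)
      (integralClosure (X.presheaf.stalk x) X.functionField) :=
    .of_algebraMap_smul fun _ _ => rfl
  have hF : Groth.Agent.H8.IsLocalizingOn (pushO X) V :=
    Groth.Agent.H8.isLocalizingOn_pushforward
      (X.fromSpecStalk (genericPoint X)).fromNormalization
      (Coh.structureModule (X.fromSpecStalk (genericPoint X)).normalization) V
      (hV.preimage (X.fromSpecStalk (genericPoint X)).fromNormalization)
  haveI h1 := hF.isLocalizedModule_germₗ hV hxV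
  haveI h2 := isLocalizedModule_toIC X hV x hxV
  let e0 := IsLocalizedModule.linearEquiv (hV.primeIdealOf ⟨x, hxV⟩).asIdeal.primeCompl
    (Groth.Agent.H8.germₗ (pushO X) hxV) (toIC X hV x hxV)
  refine ⟨LinearEquiv.extendScalarsOfIsLocalization
    (hV.primeIdealOf ⟨x, hxV⟩).asIdeal.primeCompl (X.presheaf.stalk x) e0, ?_⟩
  change e0 (Groth.Agent.H8.germₗ (pushO X) hxV (oneSec X V)) = 1
  rw [IsLocalizedModule.linearEquiv_apply, toIC_oneSec]

end

end Groth.Agent.H38.NormStalk
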