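import Mathlib
import Groth.Prelude.Def_Found
import Groth.Agent.H38.NormStalk
import Groth.Agent.H38.NormAffine3
import Groth.Agent.H38.NormDimOne
import Groth.Agent.H38.N2Frac
import Groth.Agent.H47.N2Equiv

set_option autoImplicit false
universe u

open AlgebraicGeometry CategoryTheory CategoryTheory.Limits TopologicalSpace Opposite

namespace Groth.Agent.H38.NormStalk

open Groth.Agent.H38.NormAffine Groth.Agent.H38.ModStalk

/-- The δ-invariant can be computed in any fraction field. -/
theorem deltaInv_eq (A : Type u) [CommRing A] [IsDomain A] (K : Type u) [Field K] [Algebra A K]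
    [IsFractionRing A K] :
    Curv2.deltaInv A = Module.length A (integralClosure A K ⧸
      LinearMap.range (Algebra.linearMap A (integralClosure A K))) := by
  unfold Curv2.deltaInv
  let ψ : FractionRing A ≃ₐ[A] K := FractionRing.algEquiv A K
  let ψ' : integralClosure A (FractionRing A) ≃ₐ[A] integralClosure A K := ψ.mapIntegralClosure
  have h : (LinearMap.range (Algebra.linearMap A (integralClosure A (FractionRing A)))).map
      ψ'.toLinearEquiv.toLinearMap =
      LinearMap.range (Algebra.linearMap A (integralClosure A K)) := by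
    rw [← LinearMap.range_comp]
    congr 1
    ext
    simp
  exact (Submodule.Quotient.equiv _ _ ψ'.toLinearEquiv h).length_eq

/-- For a Nagata domain, the integral closure in a fraction field is finite. -/
theorem finite_integralClosure_of_isNagata (R : Type u) [CommRing R] [IsDomain R] (K : Type u)
    [Field K] [Algebra R K] [IsFractionRing R K] (h : CAlg.IsNagata R) :
    Module.Finite R (integralClosure R K) := by
  haveI : (⊥ : Ideal R).IsPrime := Ideal.isPrime_bot
  have h2 : CAlg.IsN2 (R ⧸ (⊥ : Ideal R)) := h.2 ⊥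
  have h3 : CAlg.IsN2 R := Groth.Agent.H47.isN2_of_ringEquiv (RingEquiv.quotientBot R) h2
  exact Groth.Agent.H38.finite_integralClosure_of_isN2 R K h3

/-- A common denominator for a finite integral closure. -/
theorem exists_common_denom (R : Type u) [CommRing R] [IsDomain R] (K : Type u)
    [Field K] [Algebra R K] [IsFractionRing R K] [Module.Finite R (integralClosure R K)] :
    ∃ s : R, s ≠ 0 ∧ ∀ b : integralClosure R K,
      ∃ r : R, algebraMap R K r = algebraMap R K s * (b : K) := by
  classical
  obtain ⟨S, hS⟩ := (Module.Finite.fg_top : (⊤ : Submodule R (integralClosure R K)).FG)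
  obtain ⟨⟨s, hs⟩, hsS⟩ := IsLocalization.exist_integer_multiples_of_finset (nonZeroDivisors R)
    (S.image (fun b : integralClosure R K => (b : K)))
  refine ⟨s, nonZeroDivisors.ne_zero hs, fun b => ?_⟩
  have hb : b ∈ Submodule.span R (S : Set (integralClosure R K)) := by rw [hS]; trivial
  induction hb using Submodule.span_induction with
  | mem x hx =>
    obtain ⟨r, hr⟩ := hsS (x : K) (Finset.mem_image.mpr ⟨x, hx, rfl⟩)
    refine ⟨r, ?_⟩
    rw [hr, Algebra.smul_def]
  | zero => exact ⟨0, by simp⟩
  | add x y _ _ hx hy =>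
    obtain ⟨r1, h1⟩ := hx
    obtain ⟨r2, h2⟩ := hy
    refine ⟨r1 + r2, ?_⟩
    rw [map_add, h1, h2]
    push_cast
    ring
  | smul c x _ hx =>
    obtain ⟨r, hr⟩ := hx
    refine ⟨c * r, ?_⟩
    rw [map_mul, hr]
    change _ = algebraMap R K s * (c • (x : K))
    rw [Algebra.smul_def]
    ring

/-- On an integral scheme of dimension at most one, a point which is not the generic point is
closed. -/
theorem isClosed_singleton_of_ne_genericPoint (X : Scheme.{u}) [IsIntegral X]
    (hdim : topologicalKrullDim X ≤ 1) (x : X) (hx : x ≠ genericPoint X) :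
    IsClosed ({x} : Set X) := by
  rw [← closure_eq_iff_isClosed]
  apply Set.Subset.antisymm _ subset_closure
  intro y hy
  have hspec : x ⤳ y := specializes_iff_mem_closure.mpr hy
  obtain ⟨_, ⟨V : X.Opens, hV', rfl⟩, hyV, -⟩ :=
    X.isBasis_affineOpens.exists_subset_of_mem_open (Set.mem_univ y) isOpen_univ
  have hV : IsAffineOpen V := hV'
  have hxV : x ∈ V := hspec.mem_open V.isOpen hyV
  haveI : Nonempty V := ⟨⟨x, hxV⟩⟩
  haveI : IsDomain Γ(X, V) := inferInstance
  haveI := Groth.Agent.H38.NormDimOne.krullDimLE_one_sections hdim hV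
  have hle : hV.primeIdealOf ⟨x, hxV⟩ ≤ hV.primeIdealOf ⟨y, hyV⟩ := by
    rw [PrimeSpectrum.le_iff_specializes]
    have hind : Topology.IsInducing hV.fromSpec := hV.fromSpec.isOpenEmbedding.isInducing
    have h3 : hV.fromSpec (hV.primeIdealOf ⟨x, hxV⟩) ⤳ hV.fromSpec (hV.primeIdealOf ⟨y, hyV⟩) := by
      rw [hV.fromSpec_primeIdealOf ⟨x, hxV⟩, hV.fromSpec_primeIdealOf ⟨y, hyV⟩]
      exact hspec
    exact hind.specializes_iff.mp h3
  have hx0 : (hV.primeIdealOf ⟨x, hxV⟩).asIdeal ≠ ⊥ := fun h =>
    hx (Groth.Agent.H38.NormDimOne.eq_genericPoint_of_primeIdealOf_eq_bot hV x hxV h)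
  have hmax : (hV.primeIdealOf ⟨x, hxV⟩).asIdeal.IsMaximal :=
    (hV.primeIdealOf ⟨x, hxV⟩).2.isMaximal_of_ne_bot hx0
  have heq : (hV.primeIdealOf ⟨x, hxV⟩).asIdeal = (hV.primeIdealOf ⟨y, hyV⟩).asIdeal :=
    hmax.eq_of_le (hV.primeIdealOf ⟨y, hyV⟩).2.ne_top hle
  have := Groth.Agent.H38.primeIdealOf_injective hV (PrimeSpectrum.ext heq)
  exact (congrArg Subtype.val this).symm

/-- At the generic point, the integral closure of the local ring is the local ring itself. -/
theorem subsingleton_quotient_genericPoint (X : Scheme.{u}) [IsIntegral X] (x : X)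
    (hx : x = genericPoint X) :
    Subsingleton (integralClosure (X.presheaf.stalk x) X.functionField ⧸
      LinearMap.range (Algebra.linearMap (X.presheaf.stalk x)
        (integralClosure (X.presheaf.stalk x) X.functionField))) := by
  have hfield : IsField (X.presheaf.stalk x) := by
    subst hx
    exact (inferInstance : Field X.functionField).toIsField
  have hsurj : Function.Surjective
      (algebraMap (X.presheaf.stalk x) X.functionField) :=
    IsFractionRing.surjective_iff_isField.mpr hfield
  rw [Submodule.Quotient.subsingleton_iff]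
  rw [eq_top_iff]
  intro z _
  obtain ⟨a, ha⟩ := hsurj (z : X.functionField)
  exact ⟨a, Subtype.ext ha⟩

variable (X : Scheme.{u}) [IsIntegral X]
  [QuasiCompact (X.fromSpecStalk (genericPoint X))]
  [QuasiSeparated (X.fromSpecStalk (genericPoint X))]

/-- The stalk of the cokernel of `O_X ⟶ ν_* O_N` is the quotient of the integral closure of the
local ring by the local ring. -/
theorem nonempty_cokernelStalk_equiv (hmono : Mono (unit X)) (x : X) :
    Nonempty ((cokernel (unit X)).presheaf.stalk x ≃ₗ[X.presheaf.stalk x]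
      (integralClosure (X.presheaf.stalk x) X.functionField ⧸
        LinearMap.range (Algebra.linearMap (X.presheaf.stalk x)
          (integralClosure (X.presheaf.stalk x) X.functionField)))) := by
  obtain ⟨_, ⟨V : X.Opens, hV, rfl⟩, hxV, -⟩ :=
    X.isBasis_affineOpens.exists_subset_of_mem_open (Set.mem_univ x) isOpen_univ
  obtain ⟨e, he⟩ := exists_stalk_equiv X hV x hxV
  let S : ShortComplex X.Modules :=
    ShortComplex.mk (unit X) (cokernel.π (unit X)) (cokernel.condition _)
  have hS : S.ShortExact :=
    { exact := S.exact_of_g_is_cokernel (cokernelIsCokernel _)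
      mono_f := hmono
      epi_g := inferInstanceAs (Epi (cokernel.π (unit X))) }
  have hex := stalkMap_exact S hS x
  have hsurj := stalkMap_surjective_of_epi (cokernel.π (unit X)) x
  let φ : integralClosure (X.presheaf.stalk x) X.functionField →ₗ[X.presheaf.stalk x]
      (cokernel (unit X)).presheaf.stalk x :=
    (stalkMapₗ (cokernel.π (unit X)) x).comp e.symm.toLinearMap
  have hφ : Function.Surjective φ := by
    intro c
    obtain ⟨b, rfl⟩ := hsurj c
    exact ⟨e b, by
      change stalkMap (cokernel.π (unit X)) x (e.symm (e b)) = _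
      rw [LinearEquiv.symm_apply_apply]⟩
  have hker : LinearMap.ker φ = LinearMap.range (Algebra.linearMap (X.presheaf.stalk x)
      (integralClosure (X.presheaf.stalk x) X.functionField)) := by
    ext z
    rw [LinearMap.mem_ker, LinearMap.mem_range]
    change stalkMap (cokernel.π (unit X)) x (e.symm z) = 0 ↔ _
    rw [hex (e.symm z)]
    change e.symm z ∈ Set.range (stalkMap (unit X) x) ↔ _
    rw [mem_range_stalkMap_unit_iff X x hxV]
    constructor
    · rintro ⟨a, ha⟩
      refine ⟨a, ?_⟩
      have := congrArg e ha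
      rw [LinearEquiv.apply_symm_apply, map_smul, he] at this
      rw [this, Algebra.linearMap_apply, Algebra.algebraMap_eq_smul_one]
    · rintro ⟨a, rfl⟩
      refine ⟨a, ?_⟩
      apply e.injective
      rw [LinearEquiv.apply_symm_apply, map_smul, he, Algebra.linearMap_apply,
        Algebra.algebraMap_eq_smul_one]
  exact ⟨(φ.quotKerEquivOfSurjective hφ).symm.trans (Submodule.quotEquivOfEq _ _ hker)⟩

/-- The comorphism of the normalization is injective on every open. -/
theorem app_injective (U : X.Opens) :
    Function.Injective ((X.fromSpecStalk (genericPoint X)).fromNormalization.app U).hom := by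
  set ν := (X.fromSpecStalk (genericPoint X)).fromNormalization with hν
  rw [injective_iff_map_eq_zero]
  intro s hs
  have h1 : ν ⁻¹ᵁ X.basicOpen s = ⊥ := by
    rw [Scheme.preimage_basicOpen]
    have : (ν.app U) s = 0 := hs
    rw [this]
    exact Scheme.basicOpen_zero _ _
  have hsurj : Function.Surjective ν := (surjective_normalizationι X).surj
  have h2 : X.basicOpen s = ⊥ := by
    rw [eq_bot_iff]
    intro y hy
    obtain ⟨y', rfl⟩ := hsurj y
    have : y' ∈ ν ⁻¹ᵁ X.basicOpen s := hy
    rw [h1] at this
    exact this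
  exact (AlgebraicGeometry.basicOpen_eq_bot_iff s).mp h2

theorem mono_unit : Mono (unit X) := by
  apply mono_of_injective_app
  intro U
  exact app_injective X U

/-- If the integral closure over some nonempty affine open is finite, the normalization is an
isomorphism over a dense open. -/
theorem exists_dense_isIso {V : X.Opens} (hV : IsAffineOpen V) (hne : (V : Set X).Nonempty)
    (hfin : letI := germAlg X hne
      Module.Finite Γ(X, V) (integralClosure Γ(X, V) X.functionField)) :
    ∃ U : X.Opens, Dense (U : Set X) ∧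
      IsIso ((X.fromSpecStalk (genericPoint X)).fromNormalization ∣_ U) := by
  letI := germAlg X hne
  haveI hfr := isFractionRing_germ X hV hne
  haveI : Nonempty V := ⟨⟨_, hne.some_mem⟩⟩
  haveI : IsDomain Γ(X, V) := inferInstance
  set ν := (X.fromSpecStalk (genericPoint X)).fromNormalization with hν
  obtain ⟨s, hs0, hs⟩ := exists_common_denom Γ(X, V) X.functionField
  have hUne : ((X.basicOpen s : X.Opens) : Set X).Nonempty := by
    by_contra h
    have h2 : X.basicOpen s = ⊥ := by
      ext y
      simp only [TopologicalSpace.Opens.coe_bot, Set.mem_empty_iff_false, iff_false]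
      exact fun hy => h ⟨y, hy⟩
    exact hs0 ((AlgebraicGeometry.basicOpen_eq_bot_iff s).mp h2)
  refine ⟨X.basicOpen s, (X.basicOpen s).isOpen.dense hUne, ?_⟩
  have hU : IsAffineOpen (X.basicOpen s) := hV.basicOpen s
  rw [isIso_morphismRestrict_iff_isIso_app ν hU]
  rw [ConcreteCategory.isIso_iff_bijective]
  refine ⟨app_injective X _, ?_⟩
  intro t
  -- work in the module `pushO X`
  have hF : Groth.Agent.H8.IsLocalizingOn (pushO X) V :=
    Groth.Agent.H8.isLocalizingOn_pushforward ν
      (Coh.structureModule (X.fromSpecStalk (genericPoint X)).normalization) V (hV.preimage ν)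
  let t' : Γ(pushO X, X.basicOpen s) := t
  obtain ⟨n, m, hm⟩ := hF.res_eq_pow_smul s t'
  -- `s • m` comes from `Γ(X, V)`
  obtain ⟨r, hr⟩ := hs (sectionsEquiv X hV hne
    (show Γ((X.fromSpecStalk (genericPoint X)).normalization, ν ⁻¹ᵁ V) from m))
  have hrm : r • oneSec X V = s • m := by
    change (ν.app V).hom r * (ν.app V).hom 1 = (ν.app V).hom s *
      (show Γ((X.fromSpecStalk (genericPoint X)).normalization, ν ⁻¹ᵁ V) from m)
    rw [map_one, mul_one]
    apply (sectionsEquiv X hV hne).injective
    rw [map_mul, sectionsEquiv_app, sectionsEquiv_app]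
    apply Subtype.ext
    exact hr
  set i := homOfLE (X.basicOpen_le s) with hi
  have h1 := congrArg ((pushO X).presheaf.map i.op) hrm
  rw [Scheme.Modules.map_smul, Scheme.Modules.map_smul, map_oneSec, hm, smul_smul] at h1
  -- `s` restricted to the basic open is a unit
  have hunit : IsUnit (X.presheaf.map i.op s) := RingedSpace.isUnit_res_basicOpen _ s
  obtain ⟨w, hw⟩ := hunit
  have h2 : t' = ((↑(w⁻¹) : Γ(X, X.basicOpen s)) ^ (n + 1) * X.presheaf.map i.op r) •
      oneSec X (X.basicOpen s) := by
    rw [mul_smul, h1, ← hw, smul_smul, ← pow_succ', ← mul_pow, Units.inv_mul, one_pow, one_smul]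
  refine ⟨(↑(w⁻¹) : Γ(X, X.basicOpen s)) ^ (n + 1) * X.presheaf.map i.op r, ?_⟩
  have h3 := unit_app_eq_smul_oneSec X (X.basicOpen s)
    ((↑(w⁻¹) : Γ(X, X.basicOpen s)) ^ (n + 1) * X.presheaf.map i.op r)
  rw [← h2] at h3
  exact h3

end Groth.Agent.H38.NormStalk
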