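import Mathlib
import Groth.Prelude.Def_Found
import Groth.Prelude.Def_Curv2
import Groth.Agent.H38.FieldNagata
import Groth.Agent.H38.NormAffine4
import Groth.Agent.H38.N2Frac
import Groth.Agent.H38.NormStalk2
import Groth.Agent.H38.NormAffine3

/-!
# Schemes locally of finite type over a field: coordinate rings are N-2, normalization is finite
-/

set_option autoImplicit false
universe u

open AlgebraicGeometry CategoryTheory

namespace Groth.Agent.H38.VarietyN2

variable (k : Type u) [Field k] (X : Scheme.{u}) [X.Over (Spec (CommRingCat.of k))]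

/-- The structure ring homomorphism `k → Γ(X, U)`. -/
noncomputable def secHom (U : X.Opens) : k →+* Γ(X, U) :=
  ((X ↘ (Spec (CommRingCat.of k))).appLE ⊤ U (by simp)).hom.comp
    (Scheme.ΓSpecIso (CommRingCat.of k)).inv.hom

variable [LocallyOfFiniteType (X ↘ (Spec (CommRingCat.of k)))]

theorem finiteType_secHom {U : X.Opens} (hU : IsAffineOpen U) : (secHom k X U).FiniteType := by
  unfold secHom
  refine RingHom.FiniteType.comp ?_ ?_
  · exact (X ↘ (Spec (CommRingCat.of k))).finiteType_appLE (isAffineOpen_top _) hU _
  · apply RingHom.FiniteType.of_surjective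
    exact (ConcreteCategory.bijective_of_isIso (Scheme.ΓSpecIso (CommRingCat.of k)).inv).2

include k in
/-- Coordinate rings of nonempty affine opens of an integral scheme locally of finite type over
a field are N-2. -/
theorem isN2_sections [IsIntegral X] (U : X.Opens) (hU : IsAffineOpen U) (hne : Nonempty ↥U) :
    @CAlg.IsN2 ↑Γ(X, U) _ (@IsIntegral.component_integral X _ U hne) := by
  letI : IsDomain Γ(X, U) := @IsIntegral.component_integral X _ U hne
  letI : Algebra k Γ(X, U) := (secHom k X U).toAlgebra
  haveI : Algebra.FiniteType k Γ(X, U) := finiteType_secHom k X hU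
  exact Groth.Agent.H38.FieldNagata.isN2_of_finiteType_field k Γ(X, U)

variable [IsIntegral X] [QuasiCompact (X.fromSpecStalk (genericPoint X))]
  [QuasiSeparated (X.fromSpecStalk (genericPoint X))]

include k in
theorem finite_integralClosure_sections {U : X.Opens} (hU : IsAffineOpen U)
    (hne : (U : Set X).Nonempty) :
    letI := Groth.Agent.H38.NormAffine.germAlg X hne
    Module.Finite Γ(X, U) (integralClosure Γ(X, U) X.functionField) := by
  have hne' : Nonempty ↥U := ⟨⟨_, hne.some_mem⟩⟩
  letI := Groth.Agent.H38.NormAffine.germAlg X hne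
  have hfr := Groth.Agent.H38.NormAffine.isFractionRing_germ X hU hne
  have hdom : IsDomain Γ(X, U) := @IsIntegral.component_integral X _ U hne'
  exact Groth.Agent.H38.finite_integralClosure_of_isN2 Γ(X, U) X.functionField
    (isN2_sections k X U hU hne')

include k in
/-- The normalization of an integral scheme locally of finite type over a field is finite. -/
theorem isFinite_normalizationι : IsFinite (Curv2.normalizationι X) :=
  Groth.Agent.H38.NormAffine.isFinite_of_finite_integralClosure X
    (fun _ hU hne => finite_integralClosure_sections k X hU hne)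

include k in
/-- The normalization is an isomorphism over a nonempty open. -/
theorem exists_nonempty_isIso :
    ∃ V : X.Opens, (V : Set X).Nonempty ∧ IsIso (Curv2.normalizationι X ∣_ V) := by
  obtain ⟨x⟩ : Nonempty X := inferInstance
  obtain ⟨_, ⟨V : X.Opens, hV', rfl⟩, hxV, -⟩ :=
    X.isBasis_affineOpens.exists_subset_of_mem_open (Set.mem_univ x) isOpen_univ
  have hV : IsAffineOpen V := hV'
  have hne : (V : Set X).Nonempty := ⟨x, hxV⟩
  obtain ⟨U, hU, hiso⟩ := Groth.Agent.H38.NormStalk.exists_dense_isIso X hV hne
    (finite_integralClosure_sections k X hV hne)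
  exact ⟨U, hU.nonempty, hiso⟩

end Groth.Agent.H38.VarietyN2
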