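import Mathlib
import Groth.Agent.H38.NormAffine

/-!
# Normalization of an integral scheme in a field extension of its function field: affine description
-/

set_option autoImplicit false
universe u

open AlgebraicGeometry CategoryTheory

namespace Groth.Agent.H38.NormExt

open Groth.Agent.H38.NormAffine

variable (X : Scheme.{u}) [IsIntegral X] (K : Type u) [Field K] (φ : X.functionField →+* K)

/-- The morphism `Spec K ⟶ X` through the generic point. -/
noncomputable abbrev gMor : Spec (CommRingCat.of K) ⟶ X :=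
  Spec.map (CommRingCat.ofHom φ) ≫ X.fromSpecStalk (genericPoint X)

theorem preimage_eq_top {U : X.Opens} (hne : (U : Set X).Nonempty) :
    (gMor X K φ) ⁻¹ᵁ U = ⊤ := by
  rw [Scheme.Hom.comp_preimage, NormAffine.preimage_eq_top X hne]
  rfl

/-- The comparison map `K ⟶ Γ(Spec K, g⁻¹U)`. -/
noncomputable def jMap (U : X.Opens) : CommRingCat.of K ⟶
    Γ(Spec (CommRingCat.of K), (gMor X K φ) ⁻¹ᵁ U) :=
  (Scheme.ΓSpecIso (CommRingCat.of K)).inv ≫
    (Spec (CommRingCat.of K)).presheaf.map (homOfLE le_top).op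

theorem isIso_jMap {U : X.Opens} (hne : (U : Set X).Nonempty) : IsIso (jMap X K φ U) := by
  have h : (⊤ : (Spec (CommRingCat.of K)).Opens) ≤ (gMor X K φ) ⁻¹ᵁ U :=
    (preimage_eq_top X K φ hne).ge
  have h1 : IsIso (homOfLE (le_top : (gMor X K φ) ⁻¹ᵁ U ≤ ⊤)) := ⟨homOfLE h, rfl, rfl⟩
  unfold jMap
  infer_instance

omit [IsIntegral X] in
theorem specMap_aux {R S : CommRingCat.{u}} (ψ : R ⟶ S) (V : (Spec R).Opens) :
    (Scheme.ΓSpecIso R).inv ≫ (Spec R).presheaf.map (homOfLE le_top).op ≫ (Spec.map ψ).app V =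
      ψ ≫ (Scheme.ΓSpecIso S).inv ≫
        (Spec S).presheaf.map (homOfLE (le_top : (Spec.map ψ) ⁻¹ᵁ V ≤ ⊤)).op := by
  rw [Scheme.ΓSpecIso_inv_naturality_assoc]
  congr 1

theorem app_eq {U : X.Opens} (hne : (U : Set X).Nonempty) :
    (gMor X K φ).app U =
      X.presheaf.germ U (genericPoint X) (genericPoint_mem X hne) ≫ CommRingCat.ofHom φ ≫
        jMap X K φ U := by
  unfold jMap
  rw [Scheme.Hom.comp_app, Scheme.fromSpecStalk_app (genericPoint_mem X hne)]
  simp only [Category.assoc]
  congr 1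
  exact specMap_aux (CommRingCat.ofHom φ) _


/-- The ring homomorphism `Γ(X, U) → K` for a nonempty open `U`. -/
noncomputable def secToK {U : X.Opens} (hne : (U : Set X).Nonempty) : Γ(X, U) →+* K :=
  φ.comp (X.presheaf.germ U (genericPoint X) (genericPoint_mem X hne)).hom

theorem jMap_comp_secToK {U : X.Opens} (hne : (U : Set X).Nonempty) :
    (jMap X K φ U).hom.comp (secToK X K φ hne) = ((gMor X K φ).app U).hom := by
  rw [app_eq X K φ hne]; rfl

theorem inv_jMap_comp_app {U : X.Opens} (hne : (U : Set X).Nonempty) :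
    ((@asIso _ _ _ _ (jMap X K φ U) (isIso_jMap X K φ hne)).inv).hom.comp
      ((gMor X K φ).app U).hom = secToK X K φ hne := by
  rw [← jMap_comp_secToK X K φ hne]
  ext r
  simp only [RingHom.comp_apply]
  have := (@asIso _ _ _ _ (jMap X K φ U) (isIso_jMap X K φ hne)).hom_inv_id
  exact congr($(this).hom (secToK X K φ hne r))

variable [QuasiCompact (gMor X K φ)] [QuasiSeparated (gMor X K φ)]

/-- The map from the sections of the normalization over the preimage of a nonempty affine open
to `K`. -/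
noncomputable def toK {U : X.Opens} (hU : IsAffineOpen U) (hne : (U : Set X).Nonempty) :
    Γ((gMor X K φ).normalization, (gMor X K φ).fromNormalization ⁻¹ᵁ U) ⟶ CommRingCat.of K :=
  letI := ((gMor X K φ).app U).hom.toAlgebra
  ((gMor X K φ).normalizationObjIso hU).hom ≫
    CommRingCat.ofHom (integralClosure Γ(X, U) Γ(Spec (CommRingCat.of K),
      (gMor X K φ) ⁻¹ᵁ U)).val.toRingHom ≫
    (@asIso _ _ _ _ (jMap X K φ U) (isIso_jMap X K φ hne)).inv

theorem toK_app_apply {U : X.Opens} (hU : IsAffineOpen U) (hne : (U : Set X).Nonempty)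
    (r : Γ(X, U)) :
    (toK X K φ hU hne).hom (((gMor X K φ).fromNormalization.app U).hom r) =
      secToK X K φ hne r := by
  let _ := ((gMor X K φ).app U).hom.toAlgebra
  have h1 := Scheme.Hom.fromNormalization_app (gMor X K φ) hU
  have h2 : ((gMor X K φ).fromNormalization.app U).hom r =
      ((gMor X K φ).normalizationObjIso hU).inv.hom
        (algebraMap Γ(X, U) (integralClosure Γ(X, U) Γ(Spec (CommRingCat.of K),
          (gMor X K φ) ⁻¹ᵁ U)) r) := by
    rw [h1]; rfl
  rw [h2]
  unfold toK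
  simp only [CommRingCat.hom_comp, RingHom.comp_apply]
  have h3 : ((gMor X K φ).normalizationObjIso hU).hom.hom
      (((gMor X K φ).normalizationObjIso hU).inv.hom
        (algebraMap Γ(X, U) (integralClosure Γ(X, U) Γ(Spec (CommRingCat.of K),
          (gMor X K φ) ⁻¹ᵁ U)) r)) =
      algebraMap Γ(X, U) (integralClosure Γ(X, U) Γ(Spec (CommRingCat.of K),
          (gMor X K φ) ⁻¹ᵁ U)) r := by
    have := ((gMor X K φ).normalizationObjIso hU).inv_hom_id
    exact congr($(this).hom _)
  rw [h3]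
  have h4 : (CommRingCat.ofHom (integralClosure Γ(X, U) Γ(Spec (CommRingCat.of K),
      (gMor X K φ) ⁻¹ᵁ U)).val.toRingHom).hom
      (algebraMap Γ(X, U) (integralClosure Γ(X, U) Γ(Spec (CommRingCat.of K),
          (gMor X K φ) ⁻¹ᵁ U)) r) =
      ((gMor X K φ).app U).hom r := rfl
  rw [h4, ← inv_jMap_comp_app X K φ hne]
  rfl

theorem toK_injective {U : X.Opens} (hU : IsAffineOpen U) (hne : (U : Set X).Nonempty) :
    Function.Injective (toK X K φ hU hne).hom := by
  let _ := ((gMor X K φ).app U).hom.toAlgebra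
  intro a b h
  have h' : ((@asIso _ _ _ _ (jMap X K φ U) (isIso_jMap X K φ hne)).inv).hom
      ((((gMor X K φ).normalizationObjIso hU).hom.hom a : _) :
        Γ(Spec (CommRingCat.of K), (gMor X K φ) ⁻¹ᵁ U)) =
      ((@asIso _ _ _ _ (jMap X K φ U) (isIso_jMap X K φ hne)).inv).hom
      ((((gMor X K φ).normalizationObjIso hU).hom.hom b : _) :
        Γ(Spec (CommRingCat.of K), (gMor X K φ) ⁻¹ᵁ U)) := h
  have h1 := (ConcreteCategory.bijective_of_isIso
      (@asIso _ _ _ _ (jMap X K φ U) (isIso_jMap X K φ hne)).inv).1 h'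
  have h2 := Subtype.val_injective h1
  exact (ConcreteCategory.bijective_of_isIso
      ((gMor X K φ).normalizationObjIso hU).hom).1 h2

theorem mem_range_toK_iff {U : X.Opens} (hU : IsAffineOpen U) (hne : (U : Set X).Nonempty)
    (y : K) :
    y ∈ (toK X K φ hU hne).hom.range ↔ (secToK X K φ hne).IsIntegralElem y := by
  let _ := ((gMor X K φ).app U).hom.toAlgebra
  constructor
  · rintro ⟨s, rfl⟩
    set s' := ((gMor X K φ).normalizationObjIso hU).hom.hom s with hs'
    obtain ⟨p, hp, hp0⟩ := s'.2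
    refine ⟨p, hp, ?_⟩
    have : (toK X K φ hU hne).hom s =
        ((@asIso _ _ _ _ (jMap X K φ U) (isIso_jMap X K φ hne)).inv).hom
          (s' : Γ(Spec (CommRingCat.of K), (gMor X K φ) ⁻¹ᵁ U)) := rfl
    rw [this, ← inv_jMap_comp_app X K φ hne, ← Polynomial.hom_eval₂]
    have hp0' : Polynomial.eval₂ ((gMor X K φ).app U).hom
        (s' : Γ(Spec (CommRingCat.of K), (gMor X K φ) ⁻¹ᵁ U)) p = 0 := hp0
    rw [hp0', map_zero]
  · rintro ⟨p, hp, hp0⟩
    have hint : IsIntegral Γ(X, U) ((jMap X K φ U).hom y) := by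
      refine ⟨p, hp, ?_⟩
      change Polynomial.eval₂ ((gMor X K φ).app U).hom _ p = 0
      rw [← jMap_comp_secToK X K φ hne, ← Polynomial.hom_eval₂, hp0, map_zero]
    let t : integralClosure Γ(X, U) Γ(Spec (CommRingCat.of K), (gMor X K φ) ⁻¹ᵁ U) :=
      ⟨(jMap X K φ U).hom y, hint⟩
    refine ⟨((gMor X K φ).normalizationObjIso hU).inv.hom t, ?_⟩
    have h3 : ((gMor X K φ).normalizationObjIso hU).hom.hom
        (((gMor X K φ).normalizationObjIso hU).inv.hom t) = t := by
      have := ((gMor X K φ).normalizationObjIso hU).inv_hom_id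
      exact congr($(this).hom t)
    have : (toK X K φ hU hne).hom (((gMor X K φ).normalizationObjIso hU).inv.hom t) =
        ((@asIso _ _ _ _ (jMap X K φ U) (isIso_jMap X K φ hne)).inv).hom
          ((((gMor X K φ).normalizationObjIso hU).hom.hom
        (((gMor X K φ).normalizationObjIso hU).inv.hom t) : _) :
          Γ(Spec (CommRingCat.of K), (gMor X K φ) ⁻¹ᵁ U)) := rfl
    rw [this, h3]
    have := (@asIso _ _ _ _ (jMap X K φ U) (isIso_jMap X K φ hne)).hom_inv_id
    exact congr($(this).hom y)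

end Groth.Agent.H38.NormExt
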