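import Mathlib
import Groth.Prelude.Def_Pi1
import Groth.Agent.H38.NormExt

/-!
# Normalization in a field extension: sections, normality, finiteness criterion
-/

set_option autoImplicit false
universe u

open AlgebraicGeometry CategoryTheory

namespace Groth.Agent.H38.NormExt

open Groth.Agent.H38.NormAffine

/-- The integral closure of a ring in a field is an integrally closed domain. -/
theorem isIntegrallyClosed_integralClosure_field (R : Type*) [CommRing R] (K : Type*) [Field K]
    [Algebra R K] : IsIntegrallyClosed (integralClosure R K) :=
  IsIntegrallyClosed.of_isIntegrallyClosed_of_isIntegrallyClosedIn (integralClosure R K) K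

variable (X : Scheme.{u}) [IsIntegral X] (K : Type u) [Field K] (φ : X.functionField →+* K)
  [QuasiCompact (gMor X K φ)] [QuasiSeparated (gMor X K φ)]

section

variable {U : X.Opens} (hU : IsAffineOpen U) (hne : (U : Set X).Nonempty)

/-- The algebra structure of `K` over the sections on a nonempty open. -/
noncomputable abbrev extAlg : Algebra Γ(X, U) K := (secToK X K φ hne).toAlgebra

/-- The sections of the normalization over the preimage of a nonempty affine open `U` are
isomorphic to the integral closure of `Γ(X, U)` in `K`. -/
noncomputable def sectionsEquiv :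
    Γ((gMor X K φ).normalization, (gMor X K φ).fromNormalization ⁻¹ᵁ U) ≃+*
    @integralClosure Γ(X, U) K _ _ (extAlg X K φ hne) :=
  letI := extAlg X K φ hne
  RingEquiv.ofBijective
    ((toK X K φ hU hne).hom.codRestrict (integralClosure Γ(X, U) K).toSubring
      (fun s => (mem_range_toK_iff X K φ hU hne _).mp ⟨s, rfl⟩))
    ⟨fun a b h => toK_injective X K φ hU hne (congrArg Subtype.val h),
     fun y => by
      obtain ⟨s, hs⟩ := (mem_range_toK_iff X K φ hU hne y.1).mpr y.2
      exact ⟨s, Subtype.ext hs⟩⟩

theorem sectionsEquiv_coe (s) :
    ((sectionsEquiv X K φ hU hne s : _) : K) = (toK X K φ hU hne).hom s := rfl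

theorem sectionsEquiv_app (r : Γ(X, U)) :
    letI := extAlg X K φ hne
    sectionsEquiv X K φ hU hne (((gMor X K φ).fromNormalization.app U).hom r) =
      algebraMap Γ(X, U) (integralClosure Γ(X, U) K) r := by
  apply Subtype.ext
  exact toK_app_apply X K φ hU hne r

include hU hne in
theorem isDomain_sections :
    IsDomain Γ((gMor X K φ).normalization, (gMor X K φ).fromNormalization ⁻¹ᵁ U) := by
  letI := extAlg X K φ hne
  exact (sectionsEquiv X K φ hU hne).toMulEquiv.isDomain _

include hU hne in
theorem isIntegrallyClosed_sections :
    IsIntegrallyClosed Γ((gMor X K φ).normalization, (gMor X K φ).fromNormalization ⁻¹ᵁ U) := by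
  letI := extAlg X K φ hne
  have h1 : IsIntegrallyClosed (integralClosure Γ(X, U) K) :=
    isIntegrallyClosed_integralClosure_field _ _
  exact IsIntegrallyClosed.of_equiv (sectionsEquiv X K φ hU hne).symm

end

/-- The normalization of an integral scheme in a field extension of its function field is a normal
scheme. -/
theorem isNormalScheme_normalization : Pi1.IsNormalScheme (gMor X K φ).normalization := by
  intro x'
  refine ⟨inferInstance, ?_⟩
  set ν := (gMor X K φ).fromNormalization with hν
  obtain ⟨_, ⟨U : X.Opens, hU, rfl⟩, hxU, -⟩ :=
    X.isBasis_affineOpens.exists_subset_of_mem_open (Set.mem_univ (ν x')) isOpen_univ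
  have hne : (U : Set X).Nonempty := ⟨_, hxU⟩
  have hV : IsAffineOpen (ν ⁻¹ᵁ U) := hU.preimage ν
  have hx'V : x' ∈ ν ⁻¹ᵁ U := hxU
  letI : Algebra Γ((gMor X K φ).normalization, ν ⁻¹ᵁ U)
      ((gMor X K φ).normalization.presheaf.stalk x') :=
    TopCat.Presheaf.algebra_section_stalk _ ⟨x', hx'V⟩
  have hloc : IsLocalization.AtPrime
      ((gMor X K φ).normalization.presheaf.stalk x')
      (hV.primeIdealOf ⟨x', hx'V⟩).asIdeal := hV.isLocalization_stalk ⟨x', hx'V⟩
  have hdom := isDomain_sections X K φ hU hne
  have hic := isIntegrallyClosed_sections X K φ hU hne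
  exact isIntegrallyClosed_of_isLocalization _ (hV.primeIdealOf ⟨x', hx'V⟩).asIdeal.primeCompl
    (Ideal.primeCompl_le_nonZeroDivisors _)

/-- Over a nonempty affine open on which the integral closure in `K` is finite, the
normalization morphism is finite. -/
theorem finite_app_of_finite_integralClosure {U : X.Opens} (hU : IsAffineOpen U)
    (hne : (U : Set X).Nonempty)
    (h : letI := extAlg X K φ hne
      Module.Finite Γ(X, U) (integralClosure Γ(X, U) K)) :
    ((gMor X K φ).fromNormalization.app U).hom.Finite := by
  letI := extAlg X K φ hne
  set ψ := ((gMor X K φ).fromNormalization.app U).hom with hψ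
  letI := ψ.toAlgebra
  change Module.Finite Γ(X, U) Γ((gMor X K φ).normalization,
      (gMor X K φ).fromNormalization ⁻¹ᵁ U)
  let e := sectionsEquiv X K φ hU hne
  let l : (integralClosure Γ(X, U) K) →ₗ[Γ(X, U)]
      Γ((gMor X K φ).normalization, (gMor X K φ).fromNormalization ⁻¹ᵁ U) :=
    { toFun := e.symm
      map_add' := map_add e.symm
      map_smul' := by
        intro r y
        show e.symm (r • y) = r • e.symm y
        apply e.injective
        rw [e.apply_symm_apply, Algebra.smul_def, Algebra.smul_def, map_mul, e.apply_symm_apply]
        congr 1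
        exact (sectionsEquiv_app X K φ hU hne r).symm }
  exact Module.Finite.of_surjective l e.symm.surjective

/-- The normalization morphism is finite as soon as the integral closures over all nonempty affine
opens are finite. -/
theorem isFinite_of_finite_integralClosure
    (h : ∀ (U : X.Opens) (_ : IsAffineOpen U) (hne : (U : Set X).Nonempty),
      letI := extAlg X K φ hne
      Module.Finite Γ(X, U) (integralClosure Γ(X, U) K)) :
    IsFinite (gMor X K φ).fromNormalization := by
  refine ⟨fun U hU => ?_⟩
  by_cases hne : (U : Set X).Nonempty
  · exact finite_app_of_finite_integralClosure X K φ hU hne (h U hU hne)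
  · have hbot : U = ⊥ := by
      ext x
      simp only [TopologicalSpace.Opens.coe_bot, Set.mem_empty_iff_false, iff_false]
      exact fun hx => hne ⟨x, hx⟩
    subst hbot
    have hsub : Subsingleton Γ((gMor X K φ).normalization,
        (gMor X K φ).fromNormalization ⁻¹ᵁ ⊥) := by
      rw [Scheme.Hom.preimage_bot]
      infer_instance
    letI := ((gMor X K φ).fromNormalization.app ⊥).hom.toAlgebra
    change Module.Finite _ _
    have : Finite Γ((gMor X K φ).normalization,
        (gMor X K φ).fromNormalization ⁻¹ᵁ ⊥) := Finite.of_subsingleton
    exact Module.Finite.of_finite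

end Groth.Agent.H38.NormExt
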