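import Mathlib
import Groth.Prelude.Def_Pi1
import Groth.Agent.H38.NormExt2
import Groth.Agent.H38.NormAffine3
import Groth.Agent.H38.NormDimOne

/-!
# Normalization in a field extension: generic point, generic fibre, function field
-/

set_option autoImplicit false
universe u

open AlgebraicGeometry CategoryTheory

namespace Groth.Agent.H38.NormExt

open Groth.Agent.H38.NormAffine

variable (X : Scheme.{u}) [IsIntegral X] (K : Type u) [Field K] (φ : X.functionField →+* K)

/-- The unique point of `Spec K`. -/
noncomputable def kPt : ↥(Spec (CommRingCat.of K)) := IsLocalRing.closedPoint K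

theorem eq_kPt (p : ↥(Spec (CommRingCat.of K))) : p = kPt K :=
  @Subsingleton.elim (PrimeSpectrum K) inferInstance p _

theorem gMor_kPt : (gMor X K φ) (kPt K) = genericPoint X := by
  have h : (gMor X K φ) (kPt K) =
      (X.fromSpecStalk (genericPoint X)) ((Spec.map (CommRingCat.ofHom φ)) (kPt K)) := rfl
  rw [h, NormAffine.eq_cPt X ((Spec.map (CommRingCat.ofHom φ)) (kPt K))]
  exact Scheme.fromSpecStalk_closedPoint

variable [QuasiCompact (gMor X K φ)] [QuasiSeparated (gMor X K φ)]

/-- The image of the point of `Spec K` in the normalization is the generic point. -/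
theorem toNormalization_kPt :
    (gMor X K φ).toNormalization (kPt K) = genericPoint (gMor X K φ).normalization := by
  set t := (gMor X K φ).toNormalization with ht
  have hdense : DenseRange t := IsDominant.denseRange
  have hrange : Set.range t = {t (kPt K)} := by
    ext y
    constructor
    · rintro ⟨p, rfl⟩
      rw [eq_kPt K p]; rfl
    · rintro rfl
      exact ⟨_, rfl⟩
  have hgen : IsGenericPoint (t (kPt K)) (⊤ : Set _) := by
    unfold IsGenericPoint
    rw [← hrange]
    exact hdense.closure_range
  exact hgen.eq (genericPoint_spec _)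

theorem fromNormalization_toNormalization_kPt :
    (gMor X K φ).fromNormalization ((gMor X K φ).toNormalization (kPt K)) = genericPoint X := by
  have h := (gMor X K φ).toNormalization_fromNormalization
  have h2 : (gMor X K φ).fromNormalization ((gMor X K φ).toNormalization (kPt K)) =
      ((gMor X K φ).toNormalization ≫ (gMor X K φ).fromNormalization) (kPt K) := rfl
  rw [h2, h]
  exact gMor_kPt X K φ

theorem fromNormalization_genericPoint :
    (gMor X K φ).fromNormalization (genericPoint (gMor X K φ).normalization) = genericPoint X := by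
  rw [← toNormalization_kPt X K φ]
  exact fromNormalization_toNormalization_kPt X K φ

/-- The prime ideal of the generic point in a nonempty affine open is zero. -/
theorem primeIdealOf_genericPoint_eq_bot {Y : Scheme.{u}} [IsIntegral Y] {U : Y.Opens}
    (hU : IsAffineOpen U) (hx : genericPoint Y ∈ U) :
    (hU.primeIdealOf ⟨genericPoint Y, hx⟩).asIdeal = ⊥ := by
  haveI : Nonempty U := ⟨⟨_, hx⟩⟩
  have h1 := hU.primeIdealOf_genericPoint
  have h2 := genericPoint_eq_bot_of_affine Γ(Y, U)
  rw [h2] at h1
  exact congrArg PrimeSpectrum.asIdeal h1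

/-- The only point of the normalization over the generic point is the generic point. -/
theorem eq_genericPoint_of_fromNormalization_eq (x' : (gMor X K φ).normalization)
    (hx' : (gMor X K φ).fromNormalization x' = genericPoint X) :
    x' = genericPoint (gMor X K φ).normalization := by
  set ν := (gMor X K φ).fromNormalization with hν
  obtain ⟨_, ⟨U : X.Opens, hU', rfl⟩, hxU, -⟩ :=
    X.isBasis_affineOpens.exists_subset_of_mem_open (Set.mem_univ (ν x')) isOpen_univ
  have hU : IsAffineOpen U := hU'
  have hne : (U : Set X).Nonempty := ⟨_, hxU⟩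
  have hV : IsAffineOpen (ν ⁻¹ᵁ U) := hU.preimage ν
  have hx'V : x' ∈ ν ⁻¹ᵁ U := hxU
  haveI := isDomain_sections X K φ hU hne
  letI : Algebra Γ(X, U) Γ((gMor X K φ).normalization, ν ⁻¹ᵁ U) := (ν.app U).hom.toAlgebra
  haveI : Algebra.IsIntegral Γ(X, U) Γ((gMor X K φ).normalization, ν ⁻¹ᵁ U) := by
    exact ⟨IsIntegralHom.isIntegral_app ν U hU⟩
  have h1 := Groth.Agent.H38.comap_primeIdealOf_app ν hU hV x' hxU
  have hgen : genericPoint X ∈ U := hx' ▸ hxU
  have h2 : (hU.primeIdealOf ⟨ν x', hxU⟩).asIdeal = ⊥ := by
    have : (⟨ν x', hxU⟩ : U) = ⟨genericPoint X, hgen⟩ := Subtype.ext hx'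
    rw [this]
    exact primeIdealOf_genericPoint_eq_bot hU hgen
  have h3 : (hV.primeIdealOf ⟨x', hx'V⟩).asIdeal.comap
      (algebraMap Γ(X, U) Γ((gMor X K φ).normalization, ν ⁻¹ᵁ U)) = ⊥ := by
    rw [← h2, ← h1]; rfl
  have hneU : Nonempty ↥U := ⟨⟨_, hxU⟩⟩
  haveI : IsDomain Γ(X, U) := @IsIntegral.component_integral X _ U hneU
  have h4 : (hV.primeIdealOf ⟨x', hx'V⟩).asIdeal = ⊥ := Ideal.eq_bot_of_comap_eq_bot h3
  exact Groth.Agent.H38.NormDimOne.eq_genericPoint_of_primeIdealOf_eq_bot hV x' hx'V h4

theorem preimage_genericPoint :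
    (gMor X K φ).fromNormalization.base ⁻¹' {genericPoint X} =
      {genericPoint (gMor X K φ).normalization} := by
  ext x'
  simp only [Set.mem_preimage, Set.mem_singleton_iff]
  constructor
  · intro h
    exact eq_genericPoint_of_fromNormalization_eq X K φ x' h
  · rintro rfl
    exact fromNormalization_genericPoint X K φ

end Groth.Agent.H38.NormExt
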