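import Mathlib
import Groth.Prelude.Def_Pi1
import Groth.Agent.H38.NormExt3

/-!
# Normalization in a field extension: the function field is the algebraic closure
-/

set_option autoImplicit false
universe u

open AlgebraicGeometry CategoryTheory

namespace Groth.Agent.H38.NormExt

open Groth.Agent.H38.NormAffine

variable (X : Scheme.{u}) [IsIntegral X] (K : Type u) [Field K] (φ : X.functionField →+* K)
  [QuasiCompact (gMor X K φ)] [QuasiSeparated (gMor X K φ)]

theorem germ_stalkClosedPointTo_eq_toK {U : X.Opens} (hU : IsAffineOpen U)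
    (hne : (U : Set X).Nonempty)
    (hx' : (gMor X K φ).toNormalization (IsLocalRing.closedPoint (CommRingCat.of K)) ∈
      (gMor X K φ).fromNormalization ⁻¹ᵁ U) :
    (gMor X K φ).normalization.presheaf.germ ((gMor X K φ).fromNormalization ⁻¹ᵁ U) _ hx' ≫
      Scheme.stalkClosedPointTo (gMor X K φ).toNormalization = toK X K φ hU hne := by
  rw [Scheme.germ_stalkClosedPointTo]
  unfold toK
  rw [← Category.assoc, Scheme.Hom.normalizationObjIso_hom_val, Iso.eq_comp_inv]
  simp only [asIso_hom, Category.assoc, Iso.trans_hom, Functor.mapIso_hom, Iso.op_hom,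
    eqToIso.hom]
  unfold jMap
  rw [Scheme.Hom.appLE]
  simp only [Iso.hom_inv_id_assoc]
  congr 1


omit [IsIntegral X] in
theorem isField_stalk_of_eq_genericPoint {Y : Scheme.{u}} [IsIntegral Y] (y : Y)
    (h : y = genericPoint Y) : IsField (Y.presheaf.stalk y) := by
  subst h
  exact (inferInstance : Field Y.functionField).toIsField

theorem injective_stalkClosedPointTo :
    Function.Injective (Scheme.stalkClosedPointTo (gMor X K φ).toNormalization).hom := by
  have hf := isField_stalk_of_eq_genericPoint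
    ((gMor X K φ).toNormalization (IsLocalRing.closedPoint (CommRingCat.of K)))
    (toNormalization_kPt X K φ)
  letI := hf.toField
  exact RingHom.injective _

theorem range_stalkClosedPointTo :
    Set.range (Scheme.stalkClosedPointTo (gMor X K φ).toNormalization).hom =
      {y : K | ∃ q : Polynomial X.functionField, q.Monic ∧ Polynomial.eval₂ φ y q = 0} := by
  set t := (gMor X K φ).toNormalization with ht
  set ν := (gMor X K φ).fromNormalization with hν
  set x' := t (IsLocalRing.closedPoint (CommRingCat.of K)) with hx'def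
  have hx'gen : x' = genericPoint (gMor X K φ).normalization := toNormalization_kPt X K φ
  have hνx' : ν x' = genericPoint X := fromNormalization_toNormalization_kPt X K φ
  obtain ⟨_, ⟨U : X.Opens, hU', rfl⟩, hxU, -⟩ :=
    X.isBasis_affineOpens.exists_subset_of_mem_open (Set.mem_univ (ν x')) isOpen_univ
  have hU : IsAffineOpen U := hU'
  have hne : (U : Set X).Nonempty := ⟨_, hxU⟩
  have hneU : Nonempty ↥U := ⟨⟨_, hxU⟩⟩
  have hV : IsAffineOpen (ν ⁻¹ᵁ U) := hU.preimage ν
  have hx'V : x' ∈ ν ⁻¹ᵁ U := hxU
  set ρ := (Scheme.stalkClosedPointTo t).hom with hρdef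
  have hρ : ∀ b : Γ((gMor X K φ).normalization, ν ⁻¹ᵁ U),
      ρ (((gMor X K φ).normalization.presheaf.germ (ν ⁻¹ᵁ U) x' hx'V).hom b) =
        (toK X K φ hU hne).hom b := by
    intro b
    have := germ_stalkClosedPointTo_eq_toK X K φ hU hne hx'V
    exact congr($(this).hom b)
  letI : Algebra Γ(X, U) K := extAlg X K φ hne
  letI : Algebra Γ(X, U) X.functionField := germAlg X hne
  haveI hfr : IsFractionRing Γ(X, U) X.functionField := isFractionRing_germ X hU hne
  haveI : IsDomain Γ(X, U) := @IsIntegral.component_integral X _ U hneU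
  letI : Algebra X.functionField K := φ.toAlgebra
  haveI : IsScalarTower Γ(X, U) X.functionField K := IsScalarTower.of_algebraMap_eq (fun _ => rfl)
  have hψinj : Function.Injective (secToK X K φ hne) :=
    φ.injective.comp (IsFractionRing.injective Γ(X, U) X.functionField)
  have hfield := isField_stalk_of_eq_genericPoint x' hx'gen
  letI algS : Algebra Γ((gMor X K φ).normalization, ν ⁻¹ᵁ U)
      ((gMor X K φ).normalization.presheaf.stalk x') :=
    TopCat.Presheaf.algebra_section_stalk _ ⟨x', hx'V⟩
  haveI hloc : IsLocalization.AtPrime ((gMor X K φ).normalization.presheaf.stalk x')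
      (hV.primeIdealOf ⟨x', hx'V⟩).asIdeal := hV.isLocalization_stalk ⟨x', hx'V⟩
  have hint_toK : ∀ b, IsIntegral X.functionField ((toK X K φ hU hne).hom b) := by
    intro b
    have h1 : (secToK X K φ hne).IsIntegralElem ((toK X K φ hU hne).hom b) :=
      (mem_range_toK_iff X K φ hU hne _).mp ⟨b, rfl⟩
    have h2 : IsIntegral Γ(X, U) ((toK X K φ hU hne).hom b) := h1
    exact h2.tower_top
  ext y
  simp only [Set.mem_range, Set.mem_ofPred_eq]
  change (∃ s, ρ s = y) ↔ IsIntegral X.functionField y
  constructor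
  · rintro ⟨s, rfl⟩
    obtain ⟨⟨b₁, b₂⟩, h⟩ := IsLocalization.surj (hV.primeIdealOf ⟨x', hx'V⟩).asIdeal.primeCompl s
    have h' : ρ s * (toK X K φ hU hne).hom (b₂ : Γ((gMor X K φ).normalization, ν ⁻¹ᵁ U)) =
        (toK X K φ hU hne).hom b₁ := by
      rw [← hρ, ← hρ, ← map_mul]
      exact congrArg ρ h
    have hunit : IsUnit ((toK X K φ hU hne).hom
        (b₂ : Γ((gMor X K φ).normalization, ν ⁻¹ᵁ U))) := by
      rw [← hρ]
      exact (IsLocalization.map_units _ b₂).map ρ
    have hne0 := hunit.ne_zero
    have : ρ s = (toK X K φ hU hne).hom b₁ *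
        ((toK X K φ hU hne).hom (b₂ : Γ((gMor X K φ).normalization, ν ⁻¹ᵁ U)))⁻¹ := by
      rw [← h', mul_assoc, mul_inv_cancel₀ hne0, mul_one]
    rw [this]
    exact (hint_toK b₁).mul (hint_toK _).inv
  · intro hy
    have halg : IsAlgebraic Γ(X, U) y :=
      (IsFractionRing.isAlgebraic_iff Γ(X, U) X.functionField K).mpr hy.isAlgebraic
    obtain ⟨r, hr0, hr⟩ := halg.exists_integral_multiple
    have hr' : (secToK X K φ hne).IsIntegralElem (secToK X K φ hne r * y) := by
      have : r • y = secToK X K φ hne r * y := Algebra.smul_def r y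
      rw [← this]
      exact hr
    obtain ⟨b₁, hb₁⟩ := (mem_range_toK_iff X K φ hU hne _).mpr hr'
    have hψr : secToK X K φ hne r ≠ 0 := fun h0 => hr0 (hψinj (by rw [h0, map_zero]))
    letI := hfield.toField
    refine ⟨((gMor X K φ).normalization.presheaf.germ (ν ⁻¹ᵁ U) x' hx'V).hom b₁ *
      (((gMor X K φ).normalization.presheaf.germ (ν ⁻¹ᵁ U) x' hx'V).hom
        ((ν.app U).hom r))⁻¹, ?_⟩
    rw [map_mul, map_inv₀, hρ, hρ, toK_app_apply, hb₁]
    field_simp

end Groth.Agent.H38.NormExt
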