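import Mathlib

/-!
# A topological lemma: preimages of connected sets under open and closed maps with a saturated
connected subset
-/

set_option autoImplicit false

namespace Groth.Agent.H38.GalTop

variable {Y X : Type*} [TopologicalSpace Y] [TopologicalSpace X]

theorem aux {π : Y → X} (ho : IsOpenMap π) (hcl : IsClosedMap π)
    {C : Set Y} (hCne : C.Nonempty) (hsat : π ⁻¹' (π '' C) ⊆ C)
    {T : Set X} (hT : IsPreconnected T) (hCT : π '' C ⊆ T)
    {u v : Set Y} (hu : IsOpen u) (hv : IsOpen v) (huv : π ⁻¹' T ⊆ u ∪ v) (hCu : C ⊆ u)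
    (hne : (π ⁻¹' T ∩ v).Nonempty) : (π ⁻¹' T ∩ (u ∩ v)).Nonempty := by
  have h1 : IsOpen (π '' v) := ho v hv
  have h2 : IsOpen (π '' uᶜ)ᶜ := (hcl _ hu.isClosed_compl).isOpen_compl
  have hcov : T ⊆ π '' v ∪ (π '' uᶜ)ᶜ := by
    intro t ht
    by_cases h : t ∈ π '' uᶜ
    · obtain ⟨y, hy, rfl⟩ := h
      left
      rcases huv (show y ∈ π ⁻¹' T from ht) with hyu | hyv
      · exact absurd hyu hy
      · exact ⟨y, hyv, rfl⟩
    · exact Or.inr h
  have hne1 : (T ∩ π '' v).Nonempty := by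
    obtain ⟨y, hyT, hyv⟩ := hne
    exact ⟨π y, hyT, y, hyv, rfl⟩
  have hne2 : (T ∩ (π '' uᶜ)ᶜ).Nonempty := by
    obtain ⟨c, hc⟩ := hCne
    refine ⟨π c, hCT ⟨c, hc, rfl⟩, ?_⟩
    rintro ⟨y, hy, hyc⟩
    exact hy (hCu (hsat ⟨c, hc, hyc.symm⟩))
  obtain ⟨t, htT, ⟨y, hyv, rfl⟩, ht2⟩ := hT _ _ h1 h2 hcov hne1 hne2
  refine ⟨y, htT, ?_, hyv⟩
  by_contra hyu
  exact ht2 ⟨y, hyu, rfl⟩

/-- Let `π` be open and closed, `C` a nonempty preconnected `π`-saturated set whose image lies in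
the preconnected set `T`. Then `π ⁻¹' T` is preconnected. -/
theorem isPreconnected_preimage_of_saturated {π : Y → X} (ho : IsOpenMap π) (hcl : IsClosedMap π)
    {C : Set Y} (hCne : C.Nonempty) (hCconn : IsPreconnected C) (hsat : π ⁻¹' (π '' C) ⊆ C)
    {T : Set X} (hT : IsPreconnected T) (hCT : π '' C ⊆ T) :
    IsPreconnected (π ⁻¹' T) := by
  intro u v hu hv huv hneu hnev
  have hCs : C ⊆ π ⁻¹' T := fun c hc => hCT ⟨c, hc, rfl⟩
  by_cases h1 : (C ∩ v).Nonempty
  · by_cases h2 : (C ∩ u).Nonempty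
    · obtain ⟨c, hc, hcuv⟩ := hCconn u v hu hv (hCs.trans huv) h2 h1
      exact ⟨c, hCs hc, hcuv⟩
    · have hCv : C ⊆ v := by
        intro c hc
        rcases huv (hCs hc) with h | h
        · exact absurd ⟨c, hc, h⟩ h2
        · exact h
      have := aux ho hcl hCne hsat hT hCT hv hu (by rwa [Set.union_comm]) hCv hneu
      rwa [Set.inter_comm v u] at this
  · have hCu : C ⊆ u := by
      intro c hc
      rcases huv (hCs hc) with h | h
      · exact h
      · exact absurd ⟨c, hc, h⟩ h1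
    exact aux ho hcl hCne hsat hT hCT hu hv huv hCu hnev

end Groth.Agent.H38.GalTop
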