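import Mathlib

/-!
# Normal rings are integrally closed in their total ring of fractions; lifting along
birational integral extensions
-/

set_option autoImplicit false
universe u

namespace Groth.Agent.H38.NormUP

/-- A ring all of whose localizations at primes are integrally closed domains (the localizations
being presented abstractly). -/
def IsNormalRing (B : Type u) [CommRing B] : Prop :=
  ∀ (p : Ideal B) [p.IsPrime], ∃ (L : Type u) (_ : CommRing L) (_ : Algebra B L),
    IsLocalization.AtPrime L p ∧ IsDomain L ∧ IsIntegrallyClosed L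

/-- A normal ring is integrally closed in its total ring of fractions. -/
theorem mem_range_of_isIntegral {B : Type u} [CommRing B] (hB : IsNormalRing B)
    (x : FractionRing B) (hx : IsIntegral B x) : x ∈ (algebraMap B (FractionRing B)).range := by
  classical
  let I : Ideal B :=
    { carrier := {b | ∃ b', algebraMap B (FractionRing B) b' = algebraMap B (FractionRing B) b * x}
      add_mem' := by
        rintro a b ⟨a', ha⟩ ⟨b', hb⟩
        exact ⟨a' + b', by rw [map_add, map_add, ha, hb, add_mul]⟩
      zero_mem' := ⟨0, by simp⟩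
      smul_mem' := by
        rintro c b ⟨b', hb⟩
        exact ⟨c * b', by rw [smul_eq_mul, map_mul, map_mul, hb, mul_assoc]⟩ }
  suffices h : I = ⊤ by
    have h1 : (1 : B) ∈ I := by rw [h]; trivial
    obtain ⟨b', hb'⟩ := h1
    exact ⟨b', by rw [hb', map_one, one_mul]⟩
  by_contra hI
  obtain ⟨m, hm, hIm⟩ := Ideal.exists_le_maximal I hI
  haveI := hm.isPrime
  obtain ⟨L, _, _, hloc, hdom, hic⟩ := hB m
  obtain ⟨c, s, rfl⟩ := IsLocalization.exists_mk'_eq (nonZeroDivisors B) x
  -- nonzerodivisors stay nonzero in `L`
  have hnz : ∀ y : B, y ∈ nonZeroDivisors B → algebraMap B L y ≠ 0 := by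
    intro y hy h0
    obtain ⟨t, ht⟩ := (IsLocalization.map_eq_zero_iff m.primeCompl L y).mp h0
    have ht0 : (t : B) = 0 := by
      have := (mem_nonZeroDivisors_iff.mp hy).2 (t : B) ht
      exact this
    exact t.2 (ht0 ▸ m.zero_mem)
  let ρ : FractionRing B →+* FractionRing L :=
    IsLocalization.lift (M := nonZeroDivisors B)
      (g := (algebraMap L (FractionRing L)).comp (algebraMap B L)) (fun y => by
        refine IsUnit.mk0 _ ?_
        rw [RingHom.comp_apply]
        intro h0
        exact hnz y y.2 ((IsFractionRing.injective L (FractionRing L)) (by rw [h0, map_zero])))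
  have hρ : ∀ b : B, ρ (algebraMap B (FractionRing B) b) =
      algebraMap L (FractionRing L) (algebraMap B L b) := fun b => IsLocalization.lift_eq _ b
  have hint : IsIntegral L (ρ (IsLocalization.mk' (FractionRing B) c s)) := by
    refine IsIntegral.map_of_comp_eq (algebraMap B L) ρ ?_ hx
    ext b
    exact (hρ b).symm
  obtain ⟨l, hl⟩ := IsIntegrallyClosed.isIntegral_iff.mp hint
  obtain ⟨b, t, rfl⟩ := IsLocalization.exists_mk'_eq m.primeCompl l
  have e1 : IsLocalization.mk' L b t * algebraMap B L s = algebraMap B L c := by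
    apply IsFractionRing.injective L (FractionRing L)
    rw [map_mul, hl, ← hρ, ← hρ, ← map_mul, IsLocalization.mk'_spec]
  have e2 : algebraMap B L (b * s) = algebraMap B L (c * t) := by
    rw [map_mul, map_mul, ← e1, ← IsLocalization.mk'_spec L b t]
    ring
  obtain ⟨t'', ht''⟩ := (IsLocalization.eq_iff_exists m.primeCompl L).mp e2
  have hmem : (t'' : B) * t ∈ I := by
    refine ⟨t'' * b, ?_⟩
    have hu : IsUnit (algebraMap B (FractionRing B) s) := IsLocalization.map_units _ s
    apply hu.mul_right_cancel
    rw [mul_assoc, IsLocalization.mk'_spec, ← map_mul, ← map_mul]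
    congr 1
    calc (t'' : B) * b * s = t'' * (b * s) := by ring
      _ = t'' * (c * t) := ht''
      _ = t'' * t * c := by ring
  have := hIm hmem
  rcases (Ideal.IsPrime.mem_or_mem inferInstance this) with h | h
  · exact t''.2 h
  · exact t.2 h

/-- Uniqueness of lifts along a birational extension. -/
theorem lift_unique {A A' K B : Type*} [CommRing A] [IsDomain A] [CommRing A'] [Field K]
    [CommRing B] [Algebra A K] [IsFractionRing A K]
    (α : A →+* A') (j : A' →+* K) (hj : Function.Injective j)
    (hjα : j.comp α = algebraMap A K)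
    (γ : A →+* B) (hγ : ∀ a : A, a ≠ 0 → γ a ∈ nonZeroDivisors B)
    (φ₁ φ₂ : A' →+* B) (h₁ : φ₁.comp α = γ) (h₂ : φ₂.comp α = γ) : φ₁ = φ₂ := by
  ext a'
  obtain ⟨⟨a₁, a₂⟩, h⟩ := IsLocalization.surj (nonZeroDivisors A) (j a')
  have h' : a' * α a₂ = α a₁ := by
    apply hj
    rw [map_mul]
    have e1 : j (α a₂) = algebraMap A K a₂ := congr($hjα a₂)
    have e2 : j (α a₁) = algebraMap A K a₁ := congr($hjα a₁)
    rw [e1, e2]
    exact h
  have ha₂ : (a₂ : A) ≠ 0 := nonZeroDivisors.ne_zero a₂.2
  have e1 : φ₁ a' * γ a₂ = γ a₁ := by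
    rw [← h₁, RingHom.comp_apply, RingHom.comp_apply, ← map_mul, h']
  have e2 : φ₂ a' * γ a₂ = γ a₁ := by
    rw [← h₂, RingHom.comp_apply, RingHom.comp_apply, ← map_mul, h']
  have e3 : (φ₁ a' - φ₂ a') * γ a₂ = 0 := by rw [sub_mul, e1, e2, sub_self]
  have := (mem_nonZeroDivisors_iff.mp (hγ a₂ ha₂)).2 _ e3
  exact sub_eq_zero.mp this

/-- Existence of lifts of a homomorphism to a normal ring along a birational integral extension. -/
theorem exists_lift {A A' K B : Type u} [CommRing A] [IsDomain A] [CommRing A'] [Field K]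
    [CommRing B] [Algebra A K] [IsFractionRing A K]
    (α : A →+* A') (j : A' →+* K) (hjα : j.comp α = algebraMap A K)
    (hint : ∀ a', IsIntegral A (j a'))
    (hB : IsNormalRing B) (γ : A →+* B) (hγ : ∀ a : A, a ≠ 0 → γ a ∈ nonZeroDivisors B) :
    ∃ φ : A' →+* B, φ.comp α = γ := by
  classical
  have hinjQ : Function.Injective (algebraMap B (FractionRing B)) :=
    IsFractionRing.injective B (FractionRing B)
  let ψK : K →+* FractionRing B :=
    IsLocalization.lift (M := nonZeroDivisors A)
      (g := (algebraMap B (FractionRing B)).comp γ) (fun y => by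
        rw [RingHom.comp_apply]
        exact IsLocalization.map_units (FractionRing B)
          (⟨γ y, hγ y (nonZeroDivisors.ne_zero y.2)⟩ : nonZeroDivisors B))
  have hψK : ∀ a : A, ψK (algebraMap A K a) = algebraMap B (FractionRing B) (γ a) :=
    fun a => IsLocalization.lift_eq _ a
  have hmem : ∀ a' : A', ψK (j a') ∈ (algebraMap B (FractionRing B)).range := by
    intro a'
    apply mem_range_of_isIntegral hB
    refine IsIntegral.map_of_comp_eq γ ψK ?_ (hint a')
    ext a
    exact (hψK a).symm
  choose f hf using hmem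
  have hf' : ∀ a', algebraMap B (FractionRing B) (f a') = ψK (j a') := hf
  let φ : A' →+* B :=
    { toFun := f
      map_one' := hinjQ (by rw [hf', map_one, map_one, map_one])
      map_mul' := fun a b => hinjQ (by rw [hf', map_mul, map_mul, map_mul, hf', hf'])
      map_zero' := hinjQ (by rw [hf', map_zero, map_zero, map_zero])
      map_add' := fun a b => hinjQ (by rw [hf', map_add, map_add, map_add, hf', hf']) }
  refine ⟨φ, ?_⟩
  ext a
  apply hinjQ
  change algebraMap B (FractionRing B) (f (α a)) = _
  rw [hf']
  have : j (α a) = algebraMap A K a := congr($hjα a)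
  rw [this, hψK]

end Groth.Agent.H38.NormUP
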