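import Groth.Agent.H38.OneDimLocal3
import Mathlib.RingTheory.IntegralClosure.IntegrallyClosed
import Mathlib.RingTheory.Localization.FractionRing
import Mathlib.RingTheory.Spectrum.Prime.RingHom
import Mathlib.RingTheory.Localization.AtPrime.Basic

set_option autoImplicit false
universe u

open scoped nonZeroDivisors

namespace Groth.Agent.H38

variable {A : Type u} [CommRing A]

/-- The fraction field of the quotient by a minimal prime. -/
abbrev KK (p : MinPrime A) := FractionRing (A ⧸ p.1.asIdeal)

theorem algebraMap_KK_eq_zero_iff (p : MinPrime A) (a : A) :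
    algebraMap A (KK p) a = 0 ↔ a ∈ p.1.asIdeal := by
  rw [IsScalarTower.algebraMap_apply A (A ⧸ p.1.asIdeal) (KK p),
    map_eq_zero_iff _ (IsFractionRing.injective (A ⧸ p.1.asIdeal) (KK p)),
    Ideal.Quotient.algebraMap_eq, Ideal.Quotient.eq_zero_iff_mem]

theorem isUnit_algebraMap_KK (p : MinPrime A) (s : A⁰) : IsUnit (algebraMap A (KK p) s) := by
  rw [isUnit_iff_ne_zero, Ne, algebraMap_KK_eq_zero_iff]
  exact fun h => Set.disjoint_left.mp
    (Ideal.disjoint_nonZeroDivisors_of_mem_minimalPrimes p.2) h s.2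

/-- The projection of the total ring of fractions to one of the fields. -/
noncomputable def toKK (p : MinPrime A) : FractionRing A →ₐ[A] KK p :=
  IsLocalization.liftAlgHom (M := A⁰) (f := Algebra.ofId A (KK p)) (isUnit_algebraMap_KK p)

/-- The comparison of the total ring of fractions with the product of fields. -/
noncomputable def toKProd : FractionRing A →ₐ[A] (∀ p : MinPrime A, KK p) :=
  AlgHom.pi toKK

theorem toKProd_apply (x : FractionRing A) (p : MinPrime A) : toKProd x p = toKK p x := rfl

theorem mem_nonZeroDivisors_of_forall_notMem [IsReduced A] {s : A}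
    (hs : ∀ p : MinPrime A, s ∉ p.1.asIdeal) : s ∈ A⁰ := by
  rw [mem_nonZeroDivisors_iff_right]
  intro x hx
  have hx' : x ∈ nilradical A := by
    rw [nilradical, ← Ideal.sInf_minimalPrimes]
    refine Ideal.mem_sInf.mpr fun {p} hp => ?_
    have : x * s ∈ p := by rw [hx]; exact p.zero_mem
    exact (hp.1.1.mem_or_mem this).resolve_right (hs ⟨⟨p, hp.1.1⟩, hp⟩)
  rw [nilradical_eq_zero] at hx'
  exact hx'

theorem toKProd_injective [IsReduced A] : Function.Injective (toKProd (A := A)) := by
  rw [injective_iff_map_eq_zero]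
  intro x hx
  obtain ⟨a, s, rfl⟩ := IsLocalization.exists_mk'_eq A⁰ x
  have ha : a = 0 := by
    have ha' : a ∈ nilradical A := by
      rw [nilradical, ← Ideal.sInf_minimalPrimes]
      refine Ideal.mem_sInf.mpr fun {p} hp => ?_
      let p' : MinPrime A := ⟨⟨p, hp.1.1⟩, hp⟩
      have h1 : toKK p' (IsLocalization.mk' (FractionRing A) a s) = 0 := by
        rw [← toKProd_apply, hx]; rfl
      have h2 : algebraMap A (KK p') a = 0 := by
        have : algebraMap A (FractionRing A) a =
            IsLocalization.mk' (FractionRing A) a s * algebraMap A (FractionRing A) s :=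
          (IsLocalization.mk'_spec _ _ _).symm
        rw [← (toKK p').commutes a, this, map_mul, h1, zero_mul]
      exact (algebraMap_KK_eq_zero_iff p' a).mp h2
    rw [nilradical_eq_zero] at ha'
    exact ha'
  rw [ha, IsLocalization.mk'_zero]

instance instFiniteMinPrime [IsNoetherianRing A] : Finite (MinPrime A) := finite_minPrime

/-- Orthogonal elements for a ring with finitely many minimal primes. -/
theorem exists_orthogonal' [Finite (MinPrime A)] (p : MinPrime A) :
    ∃ e : A, e ∉ p.1.asIdeal ∧ ∀ q : MinPrime A, q ≠ p → e ∈ q.1.asIdeal := by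
  classical
  have : Fintype (MinPrime A) := Fintype.ofFinite _
  have hinf : ¬ ((Finset.univ.erase p).inf (fun q : MinPrime A => q.1.asIdeal) ≤ p.1.asIdeal) := by
    intro hle
    obtain ⟨q, hq, hqle⟩ := p.1.isPrime.inf_le'.mp hle
    have hpq : p.1.asIdeal ≤ q.1.asIdeal := p.2.2 ⟨q.1.isPrime, bot_le⟩ hqle
    exact (Finset.ne_of_mem_erase hq)
      (Subtype.ext (PrimeSpectrum.ext (le_antisymm hqle hpq)))
  obtain ⟨e, he, hep⟩ := SetLike.not_le_iff_exists.mp hinf
  refine ⟨e, hep, fun q hq => ?_⟩
  exact (Finset.inf_le (Finset.mem_erase.mpr ⟨hq, Finset.mem_univ q⟩) :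
    (Finset.univ.erase p).inf (fun q : MinPrime A => q.1.asIdeal) ≤ q.1.asIdeal) he

theorem toKProd_surjective [IsReduced A] [Finite (MinPrime A)] :
    Function.Surjective (toKProd (A := A)) := by
  classical
  have : Fintype (MinPrime A) := Fintype.ofFinite _
  intro z
  have hz : ∀ p : MinPrime A, ∃ x s : A, s ∉ p.1.asIdeal ∧
      algebraMap A (KK p) s * z p = algebraMap A (KK p) x := by
    intro p
    obtain ⟨xb, sb, hxs⟩ := IsLocalization.exists_mk'_eq (A ⧸ p.1.asIdeal)⁰ (z p)
    obtain ⟨x, rfl⟩ := Ideal.Quotient.mk_surjective xb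
    obtain ⟨s, hs⟩ := Ideal.Quotient.mk_surjective (sb : A ⧸ p.1.asIdeal)
    refine ⟨x, s, fun hsp => ?_, ?_⟩
    · have : (sb : A ⧸ p.1.asIdeal) = 0 := by
        rw [← hs]; exact Ideal.Quotient.eq_zero_iff_mem.mpr hsp
      exact nonZeroDivisors.coe_ne_zero sb this
    · rw [IsScalarTower.algebraMap_apply A (A ⧸ p.1.asIdeal) (KK p),
        IsScalarTower.algebraMap_apply A (A ⧸ p.1.asIdeal) (KK p), Ideal.Quotient.algebraMap_eq,
        hs, ← hxs, mul_comm, IsLocalization.mk'_spec]
  choose x s hs hxs using hz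
  choose e he1 he2 using fun p : MinPrime A => exists_orthogonal' p
  have hsum : ∀ (f : MinPrime A → A) (p : MinPrime A),
      algebraMap A (KK p) (∑ q, e q * f q) = algebraMap A (KK p) (e p * f p) := by
    intro f p
    rw [map_sum]
    refine Finset.sum_eq_single p (fun q _ hqp => ?_) (fun h => absurd (Finset.mem_univ p) h)
    rw [map_mul, (algebraMap_KK_eq_zero_iff p (e q)).mpr (he2 q p (Ne.symm hqp)), zero_mul]
  have hS : ∀ p : MinPrime A, (∑ q, e q * s q) ∉ p.1.asIdeal := by
    intro p hp
    have h1 := (algebraMap_KK_eq_zero_iff p _).mpr hp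
    rw [hsum] at h1
    have h2 := (algebraMap_KK_eq_zero_iff p _).mp h1
    rcases p.1.isPrime.mem_or_mem h2 with h | h
    · exact he1 p h
    · exact hs p h
  have hS' : (∑ q, e q * s q) ∈ A⁰ := mem_nonZeroDivisors_of_forall_notMem hS
  refine ⟨IsLocalization.mk' (FractionRing A) (∑ q, e q * x q) ⟨_, hS'⟩, ?_⟩
  funext p
  rw [toKProd_apply]
  have hne : algebraMap A (KK p) (∑ q, e q * s q) ≠ 0 := fun h =>
    hS p ((algebraMap_KK_eq_zero_iff p _).mp h)
  apply mul_right_cancel₀ hne
  have h3 : toKK p (IsLocalization.mk' (FractionRing A) (∑ q, e q * x q) ⟨_, hS'⟩) *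
      algebraMap A (KK p) (∑ q, e q * s q) = algebraMap A (KK p) (∑ q, e q * x q) := by
    rw [← (toKK p).commutes (∑ q, e q * s q), ← map_mul]
    have := IsLocalization.mk'_spec (FractionRing A) (∑ q, e q * x q)
      (⟨_, hS'⟩ : A⁰)
    rw [this, (toKK p).commutes]
  rw [h3, hsum, hsum, map_mul, map_mul, ← hxs p]
  ring

/-- The total ring of fractions of a reduced Noetherian ring is the product of the fraction
fields of the quotients by minimal primes (finitely many minimal primes suffice). -/
noncomputable def totalFracEquiv [IsReduced A] [Finite (MinPrime A)] :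
    FractionRing A ≃ₐ[A] (∀ p : MinPrime A, KK p) :=
  AlgEquiv.ofBijective toKProd ⟨toKProd_injective, toKProd_surjective⟩

theorem totalFracEquiv_apply [IsReduced A] [Finite (MinPrime A)] (x : FractionRing A) :
    totalFracEquiv x = toKProd x := rfl

end Groth.Agent.H38
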