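import Mathlib
import Groth.Prelude.Def_Pi1
import Groth.Agent.H38.NormUP1
import Groth.Agent.H38.NormExt3
import Groth.Agent.H38.NormAffine2
import Groth.Agent.H38.MinPrimesComp
import Groth.Agent.H38.FibreHom
import Groth.Agent.H38.TotalFrac

/-!
# Universal property of the normalization: local statement
-/

set_option autoImplicit false
universe u

open AlgebraicGeometry CategoryTheory

namespace Groth.Agent.H38.NormUP

theorem isReduced_of_isNormalScheme {Z : Scheme.{u}} (hZ : Pi1.IsNormalScheme Z) :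
    IsReduced Z := by
  haveI : ∀ z : Z, _root_.IsReduced (Z.presheaf.stalk z) := fun z => by
    haveI := (hZ z).1
    infer_instance
  exact isReduced_of_isReduced_stalk Z

theorem isNormalRing_sections {Z : Scheme.{u}} (hZ : Pi1.IsNormalScheme Z) {W : Z.Opens}
    (hW : IsAffineOpen W) : IsNormalRing Γ(Z, W) := by
  intro p hp
  have hzW : hW.fromSpec ⟨p, hp⟩ ∈ W := Groth.Agent.H38.fromSpec_mem hW _
  letI : Algebra Γ(Z, W) (Z.presheaf.stalk (hW.fromSpec ⟨p, hp⟩)) :=
    TopCat.Presheaf.algebra_section_stalk Z.presheaf ⟨hW.fromSpec ⟨p, hp⟩, hzW⟩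
  have hloc : IsLocalization.AtPrime (Z.presheaf.stalk (hW.fromSpec ⟨p, hp⟩))
      (hW.primeIdealOf ⟨hW.fromSpec ⟨p, hp⟩, hzW⟩).asIdeal :=
    hW.isLocalization_stalk ⟨hW.fromSpec ⟨p, hp⟩, hzW⟩
  rw [Groth.Agent.H38.primeIdealOf_fromSpec hW ⟨p, hp⟩ hzW] at hloc
  exact ⟨Z.presheaf.stalk (hW.fromSpec ⟨p, hp⟩), inferInstance, inferInstance, hloc,
    (hZ _).1, (hZ _).2⟩

variable (X : Scheme.{u}) [IsIntegral X]

theorem appLE_mem_nonZeroDivisors {Z : Scheme.{u}} [IsReduced Z] (g : Z ⟶ X)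
    (hdom : ∀ z : Z, closure {z} ∈ irreducibleComponents ↥Z → g.base z = genericPoint ↥X)
    {W : Z.Opens} (hW : IsAffineOpen W) {U : X.Opens} (hU : IsAffineOpen U) (e : W ≤ g ⁻¹ᵁ U)
    (a : Γ(X, U)) (ha : a ≠ 0) : (g.appLE U W e).hom a ∈ nonZeroDivisors Γ(Z, W) := by
  apply Groth.Agent.H38.mem_nonZeroDivisors_of_forall_notMem
  intro q hmem
  have hzW : hW.fromSpec q.1 ∈ W := Groth.Agent.H38.fromSpec_mem hW q.1
  have hgen := MinPrimesComp.closure_fromSpec_mem_irreducibleComponents hW q.1 q.2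
  have hgz := hdom _ hgen
  have hzU : g (hW.fromSpec q.1) ∈ U := e hzW
  have h1 : (Z.evaluation W (hW.fromSpec q.1) hzW).hom ((g.appLE U W e).hom a) = 0 := by
    have : (g.appLE U W e).hom a ∈ RingHom.ker (Z.evaluation W (hW.fromSpec q.1) hzW).hom := by
      rw [Groth.Agent.H38.ker_evaluation hW _ hzW,
        Groth.Agent.H38.primeIdealOf_fromSpec hW q.1 hzW]
      exact hmem
    exact this
  have key : g.appLE U W e ≫ Z.evaluation W (hW.fromSpec q.1) hzW =
      X.evaluation U (g (hW.fromSpec q.1)) hzU ≫ g.residueFieldMap (hW.fromSpec q.1) := by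
    have k1 := Scheme.evaluation_naturality g (V := U) (hW.fromSpec q.1) hzU
    have k2 : g.appLE U W e ≫ Z.evaluation W (hW.fromSpec q.1) hzW =
        g.app U ≫ Z.evaluation (g ⁻¹ᵁ U) (hW.fromSpec q.1) hzU := by
      rw [Scheme.Hom.appLE, Category.assoc]
      congr 1
      exact Z.presheaf.germ_res_assoc (homOfLE e) _ hzW _
    rw [k2, k1]
  have h2 : (g.residueFieldMap (hW.fromSpec q.1)).hom
      ((X.evaluation U (g (hW.fromSpec q.1)) hzU).hom a) = 0 := by
    have := congr($(key).hom a)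
    rw [CommRingCat.comp_apply, CommRingCat.comp_apply] at this
    rw [← this]
    exact h1
  have h3 : (X.evaluation U (g (hW.fromSpec q.1)) hzU).hom a = 0 :=
    (g.residueFieldMap (hW.fromSpec q.1)).hom.injective (by rw [h2, map_zero])
  have h4 : a ∈ RingHom.ker (X.evaluation U (g (hW.fromSpec q.1)) hzU).hom := h3
  rw [Groth.Agent.H38.ker_evaluation hU _ hzU] at h4
  have h5 : ∀ (x : X) (hx : x ∈ U), x = genericPoint X →
      (hU.primeIdealOf ⟨x, hx⟩).asIdeal = ⊥ := by
    rintro x hx rfl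
    exact Groth.Agent.H38.NormExt.primeIdealOf_genericPoint_eq_bot hU hx
  rw [h5 _ hzU hgz] at h4
  exact ha h4

end Groth.Agent.H38.NormUP
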