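import Mathlib

/-!
# Augmented integral algebras over a field without nontrivial idempotents
-/

set_option autoImplicit false

namespace Groth.Agent.H38.AugAlg

open Polynomial

/-- An integral reduced algebra over a field with only trivial idempotents and an augmentation is
the base field. -/
theorem bijective_algebraMap_of_augmentation {k R : Type*} [Field k] [CommRing R] [Algebra k R]
    [Nontrivial R] [IsReduced R] [Algebra.IsIntegral k R]
    (hidem : ∀ e : R, IsIdempotentElem e → e = 0 ∨ e = 1) (aug : R →ₐ[k] k) :
    Function.Bijective (algebraMap k R) := by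
  have hinj : Function.Injective aug := by
    rw [injective_iff_map_eq_zero]
    intro a ha
    have hint : IsIntegral k a := Algebra.IsIntegral.isIntegral a
    set mp := minpoly k a with hmp
    have hmp0 : mp ≠ 0 := minpoly.ne_zero hint
    obtain ⟨m, nu, hnu, hmpnu⟩ : ∃ (m : ℕ) (nu : k[X]), ¬ (X : k[X]) ∣ nu ∧ mp = X ^ m * nu := by
      obtain ⟨nu, h, hnu⟩ := Polynomial.exists_eq_pow_rootMultiplicity_mul_and_not_dvd mp hmp0 0
      refine ⟨mp.rootMultiplicity 0, nu, ?_, ?_⟩
      · simpa using hnu
      · simpa using h
    have hcop : IsCoprime ((X : k[X]) ^ m) nu :=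
      (Polynomial.irreducible_X.coprime_iff_not_dvd.mpr hnu).pow_left
    obtain ⟨u, v, huv⟩ := hcop
    have hmpa : aeval a mp = 0 := minpoly.aeval k a
    have h1 : aeval a u * a ^ m + aeval a v * aeval a nu = 1 := by
      have := congrArg (aeval a) huv
      simpa using this
    have h0 : a ^ m * aeval a nu = 0 := by
      have := hmpa
      rw [hmpnu] at this
      simpa using this
    set e := aeval a v * aeval a nu with he
    have hide : IsIdempotentElem e := by
      have : e * (1 - e) = 0 := by
        have h2 : 1 - e = aeval a u * a ^ m := by rw [← h1]; ring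
        rw [h2, he]
        calc aeval a v * aeval a nu * (aeval a u * a ^ m)
            = aeval a v * aeval a u * (a ^ m * aeval a nu) := by ring
          _ = 0 := by rw [h0, mul_zero]
      change e * e = e
      have h3 : e * e = e - e * (1 - e) := by ring
      rw [h3, this, sub_zero]
    rcases hidem e hide with h | h
    · rw [h, add_zero] at h1
      have : aug (aeval a u * a ^ m) = 1 := by rw [h1, map_one]
      rw [map_mul, map_pow, ha] at this
      rcases Nat.eq_zero_or_pos m with hm | hm
      · exfalso
        apply hnu
        rw [hm, pow_zero, one_mul] at hmpnu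
        rw [← hmpnu, Polynomial.X_dvd_iff]
        have h4 : aug (aeval a mp) = 0 := by rw [hmpa, map_zero]
        rw [← Polynomial.aeval_algHom_apply, ha] at h4
        rw [Polynomial.coeff_zero_eq_aeval_zero]
        simpa using h4
      · rw [zero_pow hm.ne', mul_zero] at this
        exact absurd this zero_ne_one
    · have h5 : a ^ m = 0 := by
        calc a ^ m = a ^ m * e := by rw [h, mul_one]
          _ = aeval a v * (a ^ m * aeval a nu) := by rw [he]; ring
          _ = 0 := by rw [h0, mul_zero]
      exact IsReduced.eq_zero _ ⟨m, h5⟩
  have hcomp : ∀ c : k, aug (algebraMap k R c) = c := fun c => by simp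
  refine ⟨(algebraMap k R).injective, fun r => ⟨aug r, ?_⟩⟩
  apply hinj
  rw [hcomp]

end Groth.Agent.H38.AugAlg
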