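import Mathlib
import Groth.Agent.H42.AntiAffGrp
import Groth.Agent.H67.ConstFun
import Groth.Agent.H38.GrpComp
import Groth.Agent.H38.AugAlg
import Groth.Agent.H12.RedClosure

/-!
# Translates of connected components of fibres of a morphism from an abelian variety
-/

set_option autoImplicit false

universe u

namespace Groth.Agent.H38.AbVarFibre

open CategoryTheory CategoryTheory.Limits MonoidalCategory CartesianMonoidalCategory MonObj GrpObj
  AlgebraicGeometry Polynomial

/-- The connected component of a point in a closed subset is closed. -/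
lemma isClosed_connectedComponentIn {α : Type*} [TopologicalSpace α] {F : Set α}
    (hF : IsClosed F) (x : α) : IsClosed (connectedComponentIn F x) := by
  by_cases hx : x ∈ F
  · rw [connectedComponentIn_eq_image hx]
    exact hF.isClosedEmbedding_subtypeVal.isClosedMap _ isClosed_connectedComponent
  · rw [connectedComponentIn_eq_empty hx]
    exact isClosed_empty

section Field

variable (k : Type u) [Field k]

local notation "𝕊" => Spec (CommRingCat.of k)

lemma eq_pt (s : ↥𝕊) : s = IsLocalRing.closedPoint k :=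
  Subsingleton.elim (α := PrimeSpectrum k) _ _

/-- A reduced, connected scheme universally closed over a field, with a rational point, has only
constant global functions. -/
theorem bijective_of_rational_point (Z : Over 𝕊) [UniversallyClosed Z.hom] [IsReduced Z.left]
    [ConnectedSpace ↥Z.left] (a : 𝟙_ (Over 𝕊) ⟶ Z) :
    Function.Bijective ((Scheme.ΓSpecIso (CommRingCat.of k)).inv ≫ Z.hom.appTop).hom := by
  let F := (Scheme.ΓSpecIso (CommRingCat.of k)).inv ≫ Z.hom.appTop
  have hint : F.hom.IsIntegral := by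
    apply RingHom.isIntegral_respectsIso.2
      (e := (Scheme.ΓSpecIso _).symm.commRingCatIsoToRingEquiv)
    exact isIntegral_appTop_of_universallyClosed Z.hom
  letI : Algebra k Γ(Z.left, ⊤) := F.hom.toAlgebra
  haveI : Algebra.IsIntegral k Γ(Z.left, ⊤) := ⟨hint⟩
  haveI : Nonempty ↥Z.left := inferInstance
  haveI : Nonempty (⊤ : Z.left.Opens) := ⟨⟨Classical.arbitrary _, trivial⟩⟩
  haveI : Nontrivial Γ(Z.left, ⊤) := inferInstance
  -- the augmentation
  have ha : a.left ≫ Z.hom = 𝟙 _ := Over.w a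
  let G : Γ(Z.left, ⊤) ⟶ CommRingCat.of k :=
    a.left.appTop ≫ (Scheme.ΓSpecIso (CommRingCat.of k)).hom
  have hFG : F ≫ G = 𝟙 _ := by
    change ((Scheme.ΓSpecIso (CommRingCat.of k)).inv ≫ Z.hom.appTop) ≫
      a.left.appTop ≫ (Scheme.ΓSpecIso (CommRingCat.of k)).hom = 𝟙 _
    rw [Category.assoc, ← Category.assoc Z.hom.appTop, ← Scheme.Hom.comp_appTop, ha]
    have h1 : Scheme.Hom.appTop (𝟙 (𝟙_ (Over 𝕊)).left) = 𝟙 _ := rfl
    rw [h1]
    exact ((Scheme.ΓSpecIso (CommRingCat.of k)).inv ≫= Category.id_comp _).trans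
      (Iso.inv_hom_id _)
  let aug : Γ(Z.left, ⊤) →ₐ[k] k :=
    { toRingHom := G.hom
      commutes' := fun c => by
        change (F ≫ G).hom c = c
        rw [hFG]
        rfl }
  exact Groth.Agent.H38.AugAlg.bijective_algebraMap_of_augmentation (Groth.Agent.H67.ConstFun.idem_trivial Z.left) aug

end Field

/-- a morphism from a reduced scheme with range in a closed set factors through the reduced closed
subscheme on that set. -/
lemma exists_lift_of_isReduced {W X : Scheme.{u}} [IsReduced W] (T : TopologicalSpace.Closeds X)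
    (h : W ⟶ X) (hT : Set.range h ⊆ (T : Set X)) :
    ∃ l : W ⟶ (Scheme.IdealSheafData.vanishingIdeal T).subscheme,
      l ≫ (Scheme.IdealSheafData.vanishingIdeal T).subschemeι = h := by
  refine ⟨IsClosedImmersion.lift (Scheme.IdealSheafData.vanishingIdeal T).subschemeι h ?_,
    IsClosedImmersion.lift_fac _ _ _⟩
  rw [Scheme.IdealSheafData.ker_subschemeι, Groth.Agent.H12.RedClosure.ker_eq_vanishingIdeal]
  apply Scheme.IdealSheafData.vanishingIdeal_antimono
  exact closure_minimal hT T.isClosed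

/-- a morphism from a reduced scheme whose range lies in the range of a closed immersion from a
reduced scheme factors through it. -/
lemma exists_lift_of_isReduced' {W X C : Scheme.{u}} [IsReduced W] [IsReduced C] (c : C ⟶ X)
    [IsClosedImmersion c] (h : W ⟶ X) (hT : Set.range h ⊆ Set.range c) :
    ∃ l : W ⟶ C, l ≫ c = h := by
  refine ⟨IsClosedImmersion.lift c h ?_, IsClosedImmersion.lift_fac _ _ _⟩
  rw [Groth.Agent.H22.ker_eq_vanishingIdeal_of_isReduced,
    Groth.Agent.H12.RedClosure.ker_eq_vanishingIdeal]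
  apply Scheme.IdealSheafData.vanishingIdeal_antimono
  exact closure_minimal hT c.isClosedEmbedding.isClosed_range

section Main

variable (k : Type u) [Field k]

local notation "𝕊" => Spec (CommRingCat.of k)

variable (X : Over (Spec (CommRingCat.of k))) [GrpObj X]

/-- left translation by a rational point -/
noncomputable def tr (g : 𝟙_ (Over 𝕊) ⟶ X) : X ⟶ X := (toUnit X ≫ g) * 𝟙 X

lemma tr_eq (g : 𝟙_ (Over 𝕊) ⟶ X) : tr k X g = lift (toUnit X ≫ g) (𝟙 X) ≫ μ[X] := rfl

lemma comp_tr {T : Over 𝕊} (t : T ⟶ X) (g : 𝟙_ (Over 𝕊) ⟶ X) :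
    t ≫ tr k X g = (toUnit T ≫ g) * t := by
  rw [tr, MonObj.comp_mul, Category.comp_id, ← Category.assoc,
    toUnit_unique (t ≫ toUnit X) (toUnit T)]

lemma pt_comp_tr (a g : 𝟙_ (Over 𝕊) ⟶ X) : a ≫ tr k X g = g * a := by
  rw [comp_tr, toUnit_unique (toUnit (𝟙_ (Over 𝕊))) (𝟙 _), Category.id_comp]

lemma tr_inv_tr (g : 𝟙_ (Over 𝕊) ⟶ X) : tr k X g⁻¹ ≫ tr k X g = 𝟙 X := by
  rw [comp_tr, tr, ← _root_.mul_assoc, ← MonObj.comp_mul, mul_inv_cancel, MonObj.comp_one,
    _root_.one_mul]

lemma tr_tr_inv (g : 𝟙_ (Over 𝕊) ⟶ X) : tr k X g ≫ tr k X g⁻¹ = 𝟙 X := by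
  have := tr_inv_tr k X g⁻¹
  rwa [_root_.inv_inv] at this

end Main

section Main2

variable (k : Type u) [Field k]

local notation "𝕊" => Spec (CommRingCat.of k)

variable (X : Over (Spec (CommRingCat.of k))) [GrpObj X]
  {Y : Scheme.{u}} (q : Y ⟶ Spec (CommRingCat.of k)) [IsSeparated q] (f : X.left ⟶ Y)
  (hf : f ≫ q = X.hom)

lemma toUnit_left' (T : Over 𝕊) : (toUnit T).left = T.hom := by
  have h := Over.w (toUnit T)
  exact (Category.comp_id _).symm.trans h

lemma toUnit_left_apply (T : Over 𝕊) (t : ↥T.left) :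
    (toUnit T).left t = IsLocalRing.closedPoint k := eq_pt k _

include hf

lemma isClosedImmersion_section (a : 𝟙_ (Over 𝕊) ⟶ X) : IsClosedImmersion (a.left ≫ f) := by
  have hsec : (a.left ≫ f) ≫ q = 𝟙 _ := by rw [Category.assoc, hf]; exact Over.w a
  haveI : IsClosedImmersion ((a.left ≫ f) ≫ q) := by rw [hsec]; infer_instance
  exact IsClosedImmersion.of_comp (a.left ≫ f) q

lemma range_section (a : 𝟙_ (Over 𝕊) ⟶ X) :
    Set.range (a.left ≫ f) = {f (a.left (IsLocalRing.closedPoint k))} := by
  ext y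
  constructor
  · rintro ⟨s, rfl⟩
    rw [eq_pt k s]
    rfl
  · rintro rfl
    exact ⟨IsLocalRing.closedPoint k, rfl⟩

lemma isClosed_singleton (a : 𝟙_ (Over 𝕊) ⟶ X) :
    IsClosed ({f (a.left (IsLocalRing.closedPoint k))} : Set Y) := by
  haveI := isClosedImmersion_section k X q f hf a
  rw [← range_section k X q f hf a]
  exact (a.left ≫ f).isClosedEmbedding.isClosed_range

variable [IsProper X.hom] [GeometricallyIntegral X.hom]

/-- Rigidity: if `f ∘ j` is constant on a reduced connected closed subscheme `Z` through a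
rational point, then `f ∘ (translation) ∘ j` is constant as well. -/
theorem map_tr_const_aux (Z : Over 𝕊) (j : Z ⟶ X) [IsClosedImmersion j.left] [IsReduced Z.left]
    [ConnectedSpace ↥Z.left] (a' : 𝟙_ (Over 𝕊) ⟶ Z)
    (hconst : ∀ z : ↥Z.left, f (j.left z) = f ((a' ≫ j).left (IsLocalRing.closedPoint k)))
    (g : 𝟙_ (Over 𝕊) ⟶ X) (z : ↥Z.left) :
    f ((tr k X g).left (j.left z)) = f ((g * (a' ≫ j)).left (IsLocalRing.closedPoint k)) := by
  haveI : IsReduced (𝟙_ (Over 𝕊)).left := inferInstanceAs (IsReduced (Spec (CommRingCat.of k)))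
  haveI : IsProper Z.hom := by rw [← Over.w j]; infer_instance
  have hX := bijective_of_rational_point k Z a'
  haveI : IsSeparated (Over.mk q).hom := ‹IsSeparated q›
  haveI : IsIntegral X.left := GeometricallyIntegral.isIntegral_of_subsingleton X.hom
  haveI : IsLocallyNoetherian X.left := LocallyOfFiniteType.isLocallyNoetherian X.hom
  -- `f ∘ j` is constant, scheme-theoretically
  have hconst' : j ≫ (Over.homMk f hf : X ⟶ Over.mk q) =
      toUnit Z ≫ ((a' ≫ j) ≫ (Over.homMk f hf : X ⟶ Over.mk q)) := by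
    haveI := isClosedImmersion_section k X q f hf (a' ≫ j)
    obtain ⟨l2, hl2⟩ := exists_lift_of_isReduced' ((a' ≫ j).left ≫ f) (j.left ≫ f) (by
      rintro _ ⟨z, rfl⟩
      rw [range_section k X q f hf (a' ≫ j)]
      exact hconst z)
    have hl2' : l2 = Z.hom := by
      have h1 := congrArg (fun m => m ≫ q) hl2
      simp only [Category.assoc] at h1
      rw [hf, Over.w j, Over.w (a' ≫ j)] at h1
      exact (Category.comp_id _).symm.trans h1
    apply Over.OverMorphism.ext
    change j.left ≫ f = (toUnit Z).left ≫ (a' ≫ j).left ≫ f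
    rw [toUnit_left', ← hl2, hl2']
  -- the morphism `(z, b) ↦ f (b · j z)`
  obtain ⟨φ, hφdef⟩ : ∃ φ : Z ⊗ X ⟶ Over.mk q,
      φ = ((snd Z X) * (fst Z X ≫ j)) ≫ (Over.homMk f hf : X ⟶ Over.mk q) := ⟨_, rfl⟩
  have hφ : (Z ◁ η[X]) ≫ φ =
      toUnit _ ≫ ((a' ≫ j) ≫ (Over.homMk f hf : X ⟶ Over.mk q)) := by
    rw [hφdef, ← Category.assoc, MonObj.comp_mul, whiskerLeft_snd, ← Category.assoc,
      whiskerLeft_fst, toUnit_unique (snd Z (𝟙_ (Over 𝕊))) (toUnit _), ← Hom.one_def,
      _root_.one_mul, Category.assoc, hconst', ← Category.assoc,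
      toUnit_unique (fst Z (𝟙_ (Over 𝕊)) ≫ toUnit Z) (toUnit _)]
  have key := Groth.Agent.H42.AntiAff.rigidity_over k Z X (Over.mk q) hX a' η[X]
    ((a' ≫ j) ≫ (Over.homMk f hf : X ⟶ Over.mk q)) φ hφ
  -- evaluate on `(z, g)`
  have hw1 : lift (𝟙 Z) (toUnit Z ≫ g) ≫ φ =
      (j ≫ tr k X g) ≫ (Over.homMk f hf : X ⟶ Over.mk q) := by
    rw [hφdef, ← Category.assoc, MonObj.comp_mul, lift_snd, ← Category.assoc, lift_fst,
      Category.id_comp, comp_tr]
  have hw2 : lift (𝟙 Z) (toUnit Z ≫ g) ≫ φ =
      toUnit Z ≫ (g ≫ lift (toUnit X ≫ a') (𝟙 X) ≫ φ) := by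
    conv_lhs => rw [key]
    rw [← Category.assoc, lift_snd, Category.assoc]
  have hval : ∀ z' : ↥Z.left, f ((tr k X g).left (j.left z')) =
      (g ≫ lift (toUnit X ≫ a') (𝟙 X) ≫ φ).left (IsLocalRing.closedPoint k) := by
    intro z'
    have h := congrArg (fun m : Z ⟶ Over.mk q => m.left z') (hw1.symm.trans hw2)
    simp only [Over.comp_left, Scheme.Hom.comp_apply] at h
    rw [toUnit_left_apply k Z z'] at h
    exact h
  rw [hval z, ← hval (a'.left (IsLocalRing.closedPoint k))]
  have h3 : j.left (a'.left (IsLocalRing.closedPoint k)) =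
      (a' ≫ j).left (IsLocalRing.closedPoint k) := by
    rw [Over.comp_left, Scheme.Hom.comp_apply]
  have h4 : (tr k X g).left ((a' ≫ j).left (IsLocalRing.closedPoint k)) =
      (g * (a' ≫ j)).left (IsLocalRing.closedPoint k) := by
    rw [← pt_comp_tr]
    rfl
  rw [h3, h4]

/-- On the connected component through a rational point `a` of the fibre of `f` through `a`, the
composite of `f` with a translation is constant. -/
theorem map_tr_const (a g : 𝟙_ (Over 𝕊) ⟶ X) (d : ↥X.left)
    (hd : d ∈ connectedComponentIn (f ⁻¹' {f (a.left (IsLocalRing.closedPoint k))})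
      (a.left (IsLocalRing.closedPoint k))) :
    f ((tr k X g).left d) = f ((g * a).left (IsLocalRing.closedPoint k)) := by
  haveI : IsReduced (𝟙_ (Over 𝕊)).left := inferInstanceAs (IsReduced (Spec (CommRingCat.of k)))
  have hAcl : IsClosed (f ⁻¹' {f (a.left (IsLocalRing.closedPoint k))}) :=
    (isClosed_singleton k X q f hf a).preimage f.continuous
  have haA : a.left (IsLocalRing.closedPoint k) ∈
      f ⁻¹' {f (a.left (IsLocalRing.closedPoint k))} := rfl
  obtain ⟨D, hD⟩ : ∃ D : Set ↥X.left, D = connectedComponentIn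
      (f ⁻¹' {f (a.left (IsLocalRing.closedPoint k))}) (a.left (IsLocalRing.closedPoint k)) :=
    ⟨_, rfl⟩
  rw [← hD] at hd
  have hDcl : IsClosed D := hD ▸ isClosed_connectedComponentIn hAcl _
  have hDconn : _root_.IsConnected D := hD ▸ isConnected_connectedComponentIn_iff.mpr haA
  have haD : a.left (IsLocalRing.closedPoint k) ∈ D := hD ▸ mem_connectedComponentIn haA
  have hDA : D ⊆ f ⁻¹' {f (a.left (IsLocalRing.closedPoint k))} :=
    hD ▸ connectedComponentIn_subset _ _
  -- the reduced closed subscheme on `D`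
  have hjr : Set.range (Scheme.IdealSheafData.vanishingIdeal
      (⟨D, hDcl⟩ : TopologicalSpace.Closeds ↥X.left)).subschemeι = D := by
    rw [Scheme.IdealSheafData.range_subschemeι, Scheme.IdealSheafData.coe_support_vanishingIdeal]
    rfl
  haveI hred : IsReduced (Scheme.IdealSheafData.vanishingIdeal
      (⟨D, hDcl⟩ : TopologicalSpace.Closeds ↥X.left)).subscheme :=
    Groth.Agent.H22.isReduced_subscheme_vanishingIdeal _
  haveI hconn : ConnectedSpace ↥(Scheme.IdealSheafData.vanishingIdeal
      (⟨D, hDcl⟩ : TopologicalSpace.Closeds ↥X.left)).subscheme := by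
    rw [connectedSpace_iff_univ]
    have hemb := (Scheme.IdealSheafData.vanishingIdeal
      (⟨D, hDcl⟩ : TopologicalSpace.Closeds ↥X.left)).subschemeι.isClosedEmbedding.isEmbedding
    constructor
    · obtain ⟨d0, hd0⟩ := hDconn.1
      rw [← hjr] at hd0
      obtain ⟨z, -⟩ := hd0
      exact ⟨z, trivial⟩
    · rw [← hemb.isInducing.isPreconnected_image, Set.image_univ, hjr]
      exact hDconn.2
  -- the rational point of `Z`
  obtain ⟨l, hl⟩ := exists_lift_of_isReduced (⟨D, hDcl⟩ : TopologicalSpace.Closeds ↥X.left)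
    a.left (by
      rintro _ ⟨s, rfl⟩
      rw [eq_pt k s]
      exact haD)
  have ha'j : (Over.homMk l (by
        change l ≫ (Scheme.IdealSheafData.vanishingIdeal
          (⟨D, hDcl⟩ : TopologicalSpace.Closeds ↥X.left)).subschemeι ≫ X.hom = _
        rw [← Category.assoc, hl]
        exact Over.w a) : 𝟙_ (Over 𝕊) ⟶ Over.mk ((Scheme.IdealSheafData.vanishingIdeal
          (⟨D, hDcl⟩ : TopologicalSpace.Closeds ↥X.left)).subschemeι ≫ X.hom)) ≫
      (Over.homMk (Scheme.IdealSheafData.vanishingIdeal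
          (⟨D, hDcl⟩ : TopologicalSpace.Closeds ↥X.left)).subschemeι rfl :
        Over.mk ((Scheme.IdealSheafData.vanishingIdeal
          (⟨D, hDcl⟩ : TopologicalSpace.Closeds ↥X.left)).subschemeι ≫ X.hom) ⟶ X) = a :=
    Over.OverMorphism.ext hl
  obtain ⟨z, rfl⟩ : d ∈ Set.range (Scheme.IdealSheafData.vanishingIdeal
      (⟨D, hDcl⟩ : TopologicalSpace.Closeds ↥X.left)).subschemeι := by rw [hjr]; exact hd
  have key := @map_tr_const_aux k _ X _ Y q _ f hf _ _
    (Over.mk ((Scheme.IdealSheafData.vanishingIdeal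
      (⟨D, hDcl⟩ : TopologicalSpace.Closeds ↥X.left)).subschemeι ≫ X.hom))
    (Over.homMk (Scheme.IdealSheafData.vanishingIdeal
      (⟨D, hDcl⟩ : TopologicalSpace.Closeds ↥X.left)).subschemeι rfl)
    (inferInstanceAs (IsClosedImmersion (Scheme.IdealSheafData.vanishingIdeal
      (⟨D, hDcl⟩ : TopologicalSpace.Closeds ↥X.left)).subschemeι)) hred hconn
    (Over.homMk l (by
        change l ≫ (Scheme.IdealSheafData.vanishingIdeal
          (⟨D, hDcl⟩ : TopologicalSpace.Closeds ↥X.left)).subschemeι ≫ X.hom = _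
        rw [← Category.assoc, hl]
        exact Over.w a))
    (by
      intro z'
      rw [ha'j]
      have hz' : (Scheme.IdealSheafData.vanishingIdeal
          (⟨D, hDcl⟩ : TopologicalSpace.Closeds ↥X.left)).subschemeι z' ∈ D :=
        hjr.subset ⟨z', rfl⟩
      exact hDA hz')
    g z
  rw [ha'j] at key
  exact key

/-- The translate by `g` of the connected component through `a` of the fibre of `f` through `a`
lies in the connected component through `g · a` of the fibre through `g · a`. -/
theorem image_tr_subset (a g : 𝟙_ (Over 𝕊) ⟶ X) :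
    (tr k X g).left '' connectedComponentIn (f ⁻¹' {f (a.left (IsLocalRing.closedPoint k))})
      (a.left (IsLocalRing.closedPoint k)) ⊆
    connectedComponentIn (f ⁻¹' {f ((g * a).left (IsLocalRing.closedPoint k))})
      ((g * a).left (IsLocalRing.closedPoint k)) := by
  apply IsPreconnected.subset_connectedComponentIn
  · exact isPreconnected_connectedComponentIn.image _ (tr k X g).left.continuous.continuousOn
  · refine ⟨a.left (IsLocalRing.closedPoint k), mem_connectedComponentIn rfl, ?_⟩
    rw [← pt_comp_tr]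
    rfl
  · rintro _ ⟨d, hd, rfl⟩
    exact map_tr_const k X q f hf a g d hd

omit [IsSeparated q] [IsProper X.hom] [GeometricallyIntegral X.hom] in
omit hf in
lemma unit_eq_one : η[X] = (1 : 𝟙_ (Over 𝕊) ⟶ X) := by
  rw [Hom.one_def, toUnit_unique (toUnit (𝟙_ (Over 𝕊))) (𝟙 _), Category.id_comp]

/-- Translation by a rational point `x` carries the connected component of the unit in its fibre
onto the connected component of `x` in its fibre. -/
theorem image_tr_eq (x : 𝟙_ (Over 𝕊) ⟶ X) :
    (tr k X x).left '' connectedComponentIn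
        (f ⁻¹' {f (η[X].left (IsLocalRing.closedPoint k))})
        (η[X].left (IsLocalRing.closedPoint k)) =
      connectedComponentIn (f ⁻¹' {f (x.left (IsLocalRing.closedPoint k))})
        (x.left (IsLocalRing.closedPoint k)) := by
  apply Set.Subset.antisymm
  · have h := image_tr_subset k X q f hf η[X] x
    rwa [unit_eq_one, _root_.mul_one] at h
  · intro c hc
    have h1 := image_tr_subset k X q f hf x x⁻¹
    rw [inv_mul_cancel, ← unit_eq_one] at h1
    refine ⟨(tr k X x⁻¹).left c, h1 ⟨c, hc, rfl⟩, ?_⟩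
    rw [← Scheme.Hom.comp_apply, ← Over.comp_left, tr_inv_tr]
    rfl

end Main2

end Groth.Agent.H38.AbVarFibre
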