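import Groth.Agent.H38.AbVarFibre
import Groth.Agent.H38.GrpConnComp
import Groth.Agent.H49.FibreDimAtBC
import Groth.Agent.H17.Chev.CompDim
import Groth.Agent.H17.Chev.DimOneBase
import Groth.Agent.H17.Chev.DimEqScheme
import Groth.Agent.H12.Topo

/-!
# Fibres of a morphism from an abelian variety are equidimensional of constant dimension
-/

set_option autoImplicit false
set_option linter.style.haveILetI false
set_option linter.unusedSectionVars false
universe u
open CategoryTheory CategoryTheory.Limits MonoidalCategory CartesianMonoidalCategory MonObj GrpObj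
  AlgebraicGeometry TopologicalSpace Topology

namespace Groth.Agent.H38.AbVarFibreDim

open Groth.Agent.H38.AbVarFibre Groth.Agent.H17.Chev

/-- In a Noetherian space, the connected component of a point in a subset is relatively open:
there is an open set meeting the subset inside the component. -/
lemma exists_open_inter_subset_connectedComponentIn {T : Type*} [TopologicalSpace T]
    [NoetherianSpace T] (F : Set T) (a : T) (ha : a ∈ F) :
    ∃ W : Set T, IsOpen W ∧ a ∈ W ∧ W ∩ F ⊆ connectedComponentIn F a := by
  have ho : IsOpen (connectedComponent (⟨a, ha⟩ : ↥F)) :=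
    Groth.Agent.H12.isOpen_connectedComponent_of_noetherian _
  obtain ⟨W, hW, hWe⟩ := isOpen_induced_iff.mp ho
  refine ⟨W, hW, ?_, ?_⟩
  · have : (⟨a, ha⟩ : ↥F) ∈ Subtype.val ⁻¹' W := by rw [hWe]; exact mem_connectedComponent
    exact this
  · rintro t ⟨htW, htF⟩
    rw [connectedComponentIn_eq_image ha]
    refine ⟨⟨t, htF⟩, ?_, rfl⟩
    rw [← hWe]
    exact htW

/-- A topological embedding carrying the connected component of `a` in `F₁` onto the connected
component of `b` in `F₂` preserves local dimensions of the two subspaces at these points. -/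
theorem localDim_eq_of_image_connectedComponentIn {T : Type*} [TopologicalSpace T]
    [NoetherianSpace T] (φ : T → T) (hφ : IsEmbedding φ) (F₁ F₂ : Set T) (a b : T)
    (hab : φ a = b) (ha : a ∈ F₁) (hb : b ∈ F₂)
    (h : φ '' connectedComponentIn F₁ a = connectedComponentIn F₂ b) :
    FlatMor.localDim ↥F₁ ⟨a, ha⟩ = FlatMor.localDim ↥F₂ ⟨b, hb⟩ := by
  subst hab
  obtain ⟨W₁, hW₁, haW₁, hWF₁⟩ := exists_open_inter_subset_connectedComponentIn F₁ a ha
  obtain ⟨W₂, hW₂, haW₂, hWF₂⟩ := exists_open_inter_subset_connectedComponentIn F₂ (φ a) hb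
  have h1 := localDim_eq_of_inter_subset F₁ (connectedComponentIn F₁ a) W₁ hW₁
    (connectedComponentIn_subset F₁ a) hWF₁ a (mem_connectedComponentIn ha) haW₁
  have h2 := localDim_eq_of_inter_subset F₂ (connectedComponentIn F₂ (φ a)) W₂ hW₂
    (connectedComponentIn_subset F₂ (φ a)) hWF₂ (φ a) (mem_connectedComponentIn hb) haW₂
  rw [← h1, ← h2]
  have hg : IsEmbedding (fun z : ↥(connectedComponentIn F₁ a) => φ z.1) :=
    hφ.comp IsEmbedding.subtypeVal
  have hr : Set.range (fun z : ↥(connectedComponentIn F₁ a) => φ z.1) =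
      connectedComponentIn F₂ (φ a) := by
    rw [← h]
    ext t
    constructor
    · rintro ⟨z, rfl⟩
      exact ⟨z.1, z.2, rfl⟩
    · rintro ⟨z, hz, rfl⟩
      exact ⟨⟨z, hz⟩, rfl⟩
  exact localDim_eq_of_isEmbedding _ hg _ hr ⟨a, mem_connectedComponentIn ha⟩
    (mem_connectedComponentIn hb)

section Rational

variable (k : Type u) [Field k]

local notation "𝕊" => Spec (CommRingCat.of k)

variable (X : Over (Spec (CommRingCat.of k))) [GrpObj X]
  {Y : Scheme.{u}} (q : Y ⟶ Spec (CommRingCat.of k)) [IsSeparated q] (f : X.left ⟶ Y)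
  (hf : f ≫ q = X.hom)

lemma noetherianSpace_of_isProper [IsProper X.hom] : NoetherianSpace ↥X.left := by
  haveI : IsLocallyNoetherian X.left := LocallyOfFiniteType.isLocallyNoetherian X.hom
  haveI : CompactSpace ↥X.left := QuasiCompact.compactSpace_of_compactSpace X.hom
  haveI : IsNoetherian X.left := {}
  infer_instance

include hf

variable [IsProper X.hom] [GeometricallyIntegral X.hom]

/-- The local fibre dimension of `f` at a rational point equals the one at the unit point. -/
theorem fibreDimAt_rational (x : 𝟙_ (Over 𝕊) ⟶ X) :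
    FlatMor.fibreDimAt f (x.left (IsLocalRing.closedPoint k)) =
      FlatMor.fibreDimAt f (η[X].left (IsLocalRing.closedPoint k)) := by
  haveI := noetherianSpace_of_isProper k X
  rw [fibreDimAt_eq, fibreDimAt_eq]
  symm
  have hiso : IsIso (tr k X x).left :=
    ⟨(tr k X x⁻¹).left, by rw [← Over.comp_left, tr_tr_inv]; rfl,
      by rw [← Over.comp_left, tr_inv_tr]; rfl⟩
  have hemb : IsEmbedding (tr k X x).left := (tr k X x).left.homeomorph.isEmbedding
  have hab : (tr k X x).left (η[X].left (IsLocalRing.closedPoint k)) =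
      x.left (IsLocalRing.closedPoint k) := by
    rw [← Scheme.Hom.comp_apply, ← Over.comp_left, pt_comp_tr, unit_eq_one, _root_.mul_one]
  exact localDim_eq_of_image_connectedComponentIn _ hemb
    (f ⁻¹' {f (η[X].left (IsLocalRing.closedPoint k))})
    (f ⁻¹' {f (x.left (IsLocalRing.closedPoint k))}) _ _ hab rfl rfl
    (image_tr_eq k X q f hf x)

end Rational

section FieldPoint

variable (k : Type u) [Field k] (X : Over (Spec (CommRingCat.of k))) [GrpObj X]
  [IsProper X.hom] [GeometricallyIntegral X.hom]
  {Y : Scheme.{u}} (q : Y ⟶ Spec (CommRingCat.of k)) [IsSeparated q] (f : X.left ⟶ Y)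
  (hf : f ≫ q = X.hom)
  (K : Type u) [Field K] (t : Spec (CommRingCat.of K) ⟶ Spec (CommRingCat.of k))
  (xK : Spec (CommRingCat.of K) ⟶ X.left) (hxK : xK ≫ X.hom = t)

include hf hxK

/-- The local fibre dimension of `f` at the image of a field-valued point equals the one at the
unit point. -/
theorem fibreDimAt_fieldPoint :
    FlatMor.fibreDimAt f (xK (IsLocalRing.closedPoint K)) =
      FlatMor.fibreDimAt f (η[X].left (IsLocalRing.closedPoint k)) := by
  haveI : LocallyOfFiniteType (f ≫ q) := by rw [hf]; infer_instance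
  haveI : LocallyOfFiniteType f := locallyOfFiniteType_of_comp f q
  let f' : pullback X.hom t ⟶ pullback q t := pullback.map X.hom t q t f (𝟙 _) (𝟙 _)
    (by rw [Category.comp_id, hf]) (by rw [Category.comp_id, Category.id_comp])
  have hf' : f' ≫ pullback.snd q t = (Red.bc t X).hom := by
    have : f' ≫ pullback.snd q t = pullback.snd X.hom t ≫ 𝟙 _ := pullback.lift_snd _ _ _
    rw [this, Category.comp_id]
    rfl
  have hfst : f' ≫ pullback.fst q t = pullback.fst X.hom t ≫ f := pullback.lift_fst _ _ _
  have hpb : IsPullback (pullback.fst X.hom t) f' f (pullback.fst q t) := by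
    refine IsPullback.of_bot ?_ hfst.symm (IsPullback.of_hasPullback q t)
    have h0 := IsPullback.of_hasPullback X.hom t
    have e1 : f' ≫ pullback.snd q t = pullback.snd X.hom t := hf'
    rw [e1, hf]
    exact h0
  let x' : 𝟙_ (Over (Spec (CommRingCat.of K))) ⟶ Red.bc t X :=
    Over.homMk (pullback.lift xK (𝟙 _) (by rw [hxK, Category.id_comp]))
      (by
        have : pullback.lift xK (𝟙 _) (by rw [hxK, Category.id_comp]) ≫ pullback.snd X.hom t =
          𝟙 _ := pullback.lift_snd _ _ _
        exact this)
  have h1 := Groth.Agent.H49.FibreDimAtBC.fibreDimAt_eq_of_isPullback f (pullback.fst q t) f'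
    (pullback.fst X.hom t) hpb (x'.left (IsLocalRing.closedPoint K))
  have h2 := Groth.Agent.H49.FibreDimAtBC.fibreDimAt_eq_of_isPullback f (pullback.fst q t) f'
    (pullback.fst X.hom t) hpb (η[Red.bc t X].left (IsLocalRing.closedPoint K))
  haveI : IsProper (Red.bc t X).hom := inferInstanceAs (IsProper (pullback.snd X.hom t))
  haveI : GeometricallyIntegral (Red.bc t X).hom :=
    inferInstanceAs (GeometricallyIntegral (pullback.snd X.hom t))
  have h3 := fibreDimAt_rational K (Red.bc t X) (pullback.snd q t) f' hf' x'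
  have e1 : (pullback.fst X.hom t) (x'.left (IsLocalRing.closedPoint K)) =
      xK (IsLocalRing.closedPoint K) := by
    rw [← Scheme.Hom.comp_apply]
    have : x'.left ≫ pullback.fst X.hom t = xK := pullback.lift_fst _ _ _
    rw [this]
  have e2 : (pullback.fst X.hom t) (η[Red.bc t X].left (IsLocalRing.closedPoint K)) =
      η[X].left (IsLocalRing.closedPoint k) := by
    have h : η[Red.bc t X].left ≫ pullback.fst X.hom t = t ≫ η[X].left := by
      letI : GrpObj (Over.mk X.hom) := ‹GrpObj X›
      exact Groth.Agent.H38.GrpConnComp.one_left_fst X.hom t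
    rw [← Scheme.Hom.comp_apply, h, Scheme.Hom.comp_apply, eq_pt k (t _)]
  rw [e1] at h1
  rw [e2] at h2
  rw [← h1, ← h2]
  exact h3

end FieldPoint

section Final

variable (k : Type u) [Field k] (X : Over (Spec (CommRingCat.of k))) [GrpObj X]
  [IsProper X.hom] [GeometricallyIntegral X.hom]
  {Y : Scheme.{u}} (q : Y ⟶ Spec (CommRingCat.of k)) [IsSeparated q] (f : X.left ⟶ Y)
  (hf : f ≫ q = X.hom)

include hf

/-- The local fibre dimension of a morphism from an abelian variety to a separated scheme is the
same at every point. -/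
theorem fibreDimAt_eq_unit (x : ↥X.left) :
    FlatMor.fibreDimAt f x = FlatMor.fibreDimAt f (η[X].left (IsLocalRing.closedPoint k)) := by
  have h := fibreDimAt_fieldPoint k X q f hf (X.left.residueField x)
    (X.left.fromSpecResidueField x ≫ X.hom) (X.left.fromSpecResidueField x) rfl
  have e : (X.left.fromSpecResidueField x) (IsLocalRing.closedPoint (X.left.residueField x)) = x :=
    Scheme.fromSpecResidueField_apply _ _
  rw [e] at h
  exact h

/-- All irreducible components of all fibres of a morphism from an abelian variety to a separated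
scheme have the same dimension. -/
theorem exists_dim_irreducibleComponents_fiber :
    ∃ d : ℕ, ∀ (y : Y) (Z : Set ↥(f.fiber y)), Z ∈ irreducibleComponents ↥(f.fiber y) →
      topologicalKrullDim ↥Z = d := by
  haveI : LocallyOfFiniteType (f ≫ q) := by rw [hf]; infer_instance
  haveI : LocallyOfFiniteType f := locallyOfFiniteType_of_comp f q
  obtain ⟨d, hd⟩ := exists_nat_eq_fibreDimAt f (η[X].left (IsLocalRing.closedPoint k))
  refine ⟨d, fun y Z hZ => ?_⟩
  have hZc : IsClosed Z := isClosed_of_mem_irreducibleComponents Z hZ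
  have hZi : IsIrreducible Z := hZ.1
  obtain ⟨ξ, hξ⟩ := QuasiSober.sober hZi hZc
  haveI : LocallyOfFiniteType (f.fiberToSpecResidueField y) :=
    inferInstanceAs (LocallyOfFiniteType (pullback.snd f (Y.fromSpecResidueField y)))
  rw [dim_irreducibleComponent_eq_localDim (Y.residueField y) (f.fiberToSpecResidueField y) Z hZ
    ξ hξ, localDim_fiber_eq_fibreDimAt, fibreDimAt_eq_unit k X q f hf, hd]

end Final

end Groth.Agent.H38.AbVarFibreDim
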