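import Mathlib
import Groth.Prelude.Def_AlgGrp
import Groth.Agent.H90.GrpBase

/-!
# Calculus of group scheme actions: `T`-valued points and orbit sets
-/

set_option autoImplicit false
universe u

open CategoryTheory MonoidalCategory CartesianMonoidalCategory MonObj GrpObj AlgebraicGeometry
open Limits

namespace Groth.Agent.H38.ActCalc

section general

variable {S : Scheme.{u}} {G X : Over S} [GrpObj G] (a : AlgGrp.Action G X)

/-- `(g₁ g₂) · x = g₁ · (g₂ · x)` on `T`-valued points. -/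
lemma lift_mul_act {T : Over S} (g₁ g₂ : T ⟶ G) (x : T ⟶ X) :
    lift (g₁ * g₂) x ≫ a.act = lift g₁ (lift g₂ x ≫ a.act) ≫ a.act := by
  rw [Hom.mul_def, ← lift_whiskerRight, Category.assoc, a.mul_act, ← Category.assoc,
    lift_lift_associator_hom, ← Category.assoc, lift_whiskerLeft]

/-- `1 · x = x` on `T`-valued points. -/
lemma lift_one_act {T : Over S} (x : T ⟶ X) : lift (1 : T ⟶ G) x ≫ a.act = x := by
  rw [Hom.one_def, ← lift_whiskerRight, Category.assoc, a.one_act, lift_leftUnitor_hom]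

/-- `g⁻¹ · (g · x) = x`. -/
lemma lift_inv_act {T : Over S} (g : T ⟶ G) (x : T ⟶ X) :
    lift g⁻¹ (lift g x ≫ a.act) ≫ a.act = x := by
  rw [← lift_mul_act, inv_mul_cancel, lift_one_act]

/-- `g · (g⁻¹ · x) = x`. -/
lemma lift_act_inv {T : Over S} (g : T ⟶ G) (x : T ⟶ X) :
    lift g (lift g⁻¹ x ≫ a.act) ≫ a.act = x := by
  rw [← lift_mul_act, mul_inv_cancel, lift_one_act]

variable {H : Over S} (h : H ⟶ G)

/-- The action morphism restricted along `h : H ⟶ G`. -/
noncomputable abbrev actOf : H ⊗ X ⟶ X := (h ▷ X) ≫ a.act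

lemma lift_actOf {T : Over S} (z : T ⟶ H) (x : T ⟶ X) :
    lift z x ≫ actOf a h = lift (z ≫ h) x ≫ a.act := by
  rw [← Category.assoc, lift_whiskerRight]

/-- The orbit set `H · A`. -/
def orb (A : Set ↥X.left) : Set ↥X.left :=
  (actOf a h).left '' ((snd H X).left ⁻¹' A)

lemma mem_orb_iff (A : Set ↥X.left) (v : ↥X.left) :
    v ∈ orb a h A ↔ ∃ (T : Over S) (p : ↥T.left) (z : T ⟶ H) (x : T ⟶ X),
      x.left p ∈ A ∧ (lift (z ≫ h) x ≫ a.act).left p = v := by
  constructor
  · rintro ⟨t, ht, rfl⟩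
    refine ⟨H ⊗ X, t, fst H X, snd H X, ht, ?_⟩
    rw [← lift_actOf, lift_fst_snd, Category.id_comp]
  · rintro ⟨T, p, z, x, hx, rfl⟩
    refine ⟨(lift z x).left p, ?_, ?_⟩
    · rw [Set.mem_preimage, ← Scheme.Hom.comp_apply, ← Over.comp_left, lift_snd]
      exact hx
    · rw [← Scheme.Hom.comp_apply, ← Over.comp_left, lift_actOf]

lemma orb_mono {A B : Set ↥X.left} (hAB : A ⊆ B) : orb a h A ⊆ orb a h B :=
  Set.image_mono (Set.preimage_mono hAB)

variable [GrpObj H] [IsMonHom h]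

lemma subset_orb (A : Set ↥X.left) : A ⊆ orb a h A := by
  intro v hv
  rw [mem_orb_iff]
  refine ⟨X, v, 1, 𝟙 X, hv, ?_⟩
  rw [MonObj.one_comp, lift_one_act]
  rfl

lemma orb_orb_subset (A : Set ↥X.left) : orb a h (orb a h A) ⊆ orb a h A := by
  intro v hv
  rw [mem_orb_iff] at hv
  obtain ⟨T, p, z, x, hx, rfl⟩ := hv
  rw [mem_orb_iff] at hx
  obtain ⟨T', p', z', x', hx', hy⟩ := hx
  obtain ⟨y', hy'⟩ : ∃ y' : T' ⟶ X, y' = lift (z' ≫ h) x' ≫ a.act := ⟨_, rfl⟩
  rw [← hy'] at hy
  obtain ⟨q, hq1, hq2⟩ := Scheme.Pullback.exists_preimage_pullback (f := x.left) (g := y'.left)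
    p p' hy.symm
  obtain ⟨Q, hQ⟩ : ∃ Q : Over S, Q = Over.mk (pullback.fst x.left y'.left ≫ T.hom) := ⟨_, rfl⟩
  subst hQ
  obtain ⟨α₁, hα₁⟩ : ∃ α₁ : Over.mk (pullback.fst x.left y'.left ≫ T.hom) ⟶ T,
      α₁ = Over.homMk (pullback.fst x.left y'.left) rfl := ⟨_, rfl⟩
  obtain ⟨α₂, hα₂⟩ : ∃ α₂ : Over.mk (pullback.fst x.left y'.left ≫ T.hom) ⟶ T',
      α₂ = Over.homMk (pullback.snd x.left y'.left) (by
        change pullback.snd x.left y'.left ≫ T'.hom = pullback.fst x.left y'.left ≫ T.hom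
        rw [← Over.w y', ← Over.w x, ← Category.assoc, ← Category.assoc, pullback.condition]) :=
    ⟨_, rfl⟩
  have hα : α₁ ≫ x = α₂ ≫ y' := by
    apply Over.OverMorphism.ext
    rw [Over.comp_left, Over.comp_left, hα₁, hα₂]
    exact pullback.condition
  rw [mem_orb_iff]
  refine ⟨_, q, (α₁ ≫ z) * (α₂ ≫ z'), α₂ ≫ x', ?_, ?_⟩
  · rw [Over.comp_left, Scheme.Hom.comp_apply, hα₂]
    change x'.left (pullback.snd x.left y'.left q) ∈ A
    rw [hq2]
    exact hx'
  · rw [MonObj.mul_comp, lift_mul_act]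
    have e2 : α₂ ≫ y' = α₂ ≫ (lift (z' ≫ h) x' ≫ a.act) := congrArg (fun m => α₂ ≫ m) hy'
    have e1 : lift ((α₂ ≫ z') ≫ h) (α₂ ≫ x') ≫ a.act = α₁ ≫ x := by
      rw [hα, e2, ← Category.assoc, comp_lift, Category.assoc]
    rw [e1, Category.assoc, ← comp_lift, Category.assoc, Over.comp_left, Scheme.Hom.comp_apply,
      hα₁]
    change (lift (z ≫ h) x ≫ a.act).left (pullback.fst x.left y'.left q) = _
    rw [hq1]

lemma mem_orb_singleton_symm {v w : ↥X.left} (hv : v ∈ orb a h {w}) : w ∈ orb a h {v} := by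
  rw [mem_orb_iff] at hv ⊢
  obtain ⟨T, p, z, x, hx, hv⟩ := hv
  refine ⟨T, p, z⁻¹, lift (z ≫ h) x ≫ a.act, hv, ?_⟩
  rw [GrpObj.inv_comp, lift_inv_act]
  exact hx

/-- The shear morphism `(z, x) ↦ (z, z · x)`. -/
noncomputable abbrev shear : H ⊗ X ⟶ H ⊗ X := lift (fst H X) (actOf a h)

/-- The inverse shear morphism `(z, x) ↦ (z, z⁻¹ · x)`. -/
noncomputable abbrev shearInv : H ⊗ X ⟶ H ⊗ X :=
  lift (fst H X) (lift ((fst H X)⁻¹ ≫ h) (snd H X) ≫ a.act)

omit [GrpObj H] [IsMonHom h] in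
lemma actOf_eq : actOf a h = lift (fst H X ≫ h) (snd H X) ≫ a.act := by
  rw [← lift_actOf, lift_fst_snd, Category.id_comp]

lemma shear_shearInv : shear a h ≫ shearInv a h = 𝟙 _ := by
  unfold shear shearInv
  rw [comp_lift, lift_fst, ← Category.assoc, comp_lift, ← Category.assoc, GrpObj.comp_inv,
    lift_fst, lift_snd, GrpObj.inv_comp, actOf_eq, lift_inv_act, lift_fst_snd]

lemma shearInv_shear : shearInv a h ≫ shear a h = 𝟙 _ := by
  unfold shear shearInv
  rw [comp_lift, lift_fst, actOf_eq, ← Category.assoc, comp_lift, ← Category.assoc, lift_fst,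
    lift_snd, GrpObj.inv_comp, lift_act_inv, lift_fst_snd]

omit [GrpObj H] [IsMonHom h] in
lemma shear_snd : shear a h ≫ snd H X = actOf a h := lift_snd _ _

omit [GrpObj H] [IsMonHom h] in
lemma orb_range_eq {W : Over S} (w : W ⟶ X) :
    orb a h (Set.range ⇑w.left) = Set.range ⇑((H ◁ w) ≫ actOf a h).left := by
  unfold orb
  rw [← Groth.Agent.H90.Base.range_whiskerLeft_left]
  ext v
  simp only [Set.mem_image, Set.mem_range, exists_exists_eq_and, Over.comp_left,
    Scheme.Hom.comp_apply]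

end general

section field

variable {k : Type u} [Field k] {G X : Over (Spec (CommRingCat.of k))} [GrpObj G]
  (a : AlgGrp.Action G X) {H : Over (Spec (CommRingCat.of k))} (h : H ⟶ G) [GrpObj H] [IsMonHom h]

/-- The restricted action morphism is an open map. -/
lemma isOpenMap_actOf : IsOpenMap ⇑(actOf a h).left := by
  have h1 : IsIso (shear a h) := ⟨shearInv a h, shear_shearInv a h, shearInv_shear a h⟩
  have h2 : IsIso (shear a h).left :=
    inferInstanceAs (IsIso ((Over.forget _).map (shear a h)))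
  have h3 : UniversallyOpen (snd H X).left :=
    Groth.Agent.H90.Base.universallyOpen_snd
      (fun f => Groth.Agent.H90.universallyOpen_of_iso_spec_field (Iso.refl _) f) H X
  have h4 : (actOf a h).left = (shear a h).left ≫ (snd H X).left := by
    rw [← Over.comp_left, shear_snd]
  rw [h4]
  intro U hU
  have : ⇑((shear a h).left ≫ (snd H X).left) '' U =
      (snd H X).left '' ((shear a h).left '' U) := by
    rw [Set.image_image]
    apply Set.image_congr
    intro x _
    exact Scheme.Hom.comp_apply _ _ _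
  rw [this]
  exact (snd H X).left.isOpenMap _ ((shear a h).left.homeomorph.isOpenMap _ hU)

lemma isOpen_orb {A : Set ↥X.left} (hA : IsOpen A) : IsOpen (orb a h A) :=
  isOpenMap_actOf a h _ (hA.preimage (Scheme.Hom.continuous _))

omit [GrpObj H] [IsMonHom h] in
lemma isCompact_orb_range [CompactSpace ↥H.left] {W : Over (Spec (CommRingCat.of k))}
    (w : W ⟶ X) [CompactSpace ↥W.left] : IsCompact (orb a h (Set.range ⇑w.left)) := by
  rw [orb_range_eq]
  haveI : QuasiCompact W.hom := inferInstance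
  haveI : CompactSpace ↥(H ⊗ W).left :=
    inferInstanceAs (CompactSpace ↥(pullback H.hom W.hom))
  exact isCompact_range (Scheme.Hom.continuous _)

omit [GrpObj H] [IsMonHom h] in
lemma isIrreducible_orb_range [GeometricallyIrreducible H.hom]
    {W : Over (Spec (CommRingCat.of k))} (w : W ⟶ X) [IrreducibleSpace ↥W.left] :
    IsIrreducible (orb a h (Set.range ⇑w.left)) := by
  rw [orb_range_eq]
  haveI : IrreducibleSpace ↥(H ⊗ W).left :=
    inferInstanceAs (IrreducibleSpace ↥(pullback H.hom W.hom))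
  rw [← Set.image_univ]
  exact (IrreducibleSpace.isIrreducible_univ _).image _ (Scheme.Hom.continuous _).continuousOn

end field

end Groth.Agent.H38.ActCalc
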