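import Mathlib.Topology.LocallyClosed
import Mathlib.Topology.Constructible
import Mathlib.Data.Fintype.Powerset
import Mathlib.Data.Fintype.Sum
import Mathlib.Data.Fintype.Sigma

set_option autoImplicit false

namespace Groth.Agent.H38

open Topology TopologicalSpace Set

universe u
variable {X : Type u}

/-- The atoms of the Boolean algebra generated by a finite family of sets. -/
def atom {ι : Type} (O : ι → Set X) (J : Finset ι) : Set X := {x | ∀ i, x ∈ O i ↔ i ∈ J}

theorem atom_eq {ι : Type} (O : ι → Set X) (J : Finset ι) :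
    atom O J = (⋂ i ∈ J, O i) ∩ (⋂ i ∈ (↑J : Set ι)ᶜ, (O i)ᶜ) := by
  ext x
  simp only [atom, mem_ofPred_eq, mem_inter_iff, mem_iInter, mem_compl_iff, Finset.mem_coe]
  constructor
  · intro h
    exact ⟨fun i hi => (h i).mpr hi, fun i hi hx => hi ((h i).mp hx)⟩
  · rintro ⟨h₁, h₂⟩ i
    exact ⟨fun hx => by_contra fun hi => h₂ i hi hx, h₁ i⟩

theorem iUnion_atom {ι : Type} [Fintype ι] (O : ι → Set X) : ⋃ J, atom O J = univ := by
  classical
  refine eq_univ_of_forall fun x => mem_iUnion.mpr ⟨Finset.univ.filter fun i => x ∈ O i, ?_⟩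
  intro i
  simp

theorem atom_disjoint {ι : Type} (O : ι → Set X) {J J' : Finset ι} (h : J ≠ J') :
    Disjoint (atom O J) (atom O J') := by
  rw [Set.disjoint_left]
  intro x hx hx'
  apply h
  ext i
  rw [← hx i, ← hx' i]

/-- A set is saturated for a family if membership only depends on the pattern of memberships in
the family. -/
def IsSaturatedFor {ι : Type} (O : ι → Set X) (s : Set X) : Prop :=
  ∀ x y, (∀ i, x ∈ O i ↔ y ∈ O i) → (x ∈ s ↔ y ∈ s)

theorem atom_subset_of_nonempty_inter {ι : Type} {O : ι → Set X} {s : Set X}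
    (hs : IsSaturatedFor O s) {J : Finset ι} (h : (atom O J ∩ s).Nonempty) : atom O J ⊆ s := by
  obtain ⟨x, hxJ, hxs⟩ := h
  intro y hy
  exact (hs x y fun i => by rw [hxJ i, hy i]).mp hxs

theorem IsSaturatedFor.comp {ι κ : Type} {O : ι → Set X} {s : Set X} (hs : IsSaturatedFor O s)
    (O' : κ → Set X) (f : ι → κ) (hf : ∀ i, O' (f i) = O i) : IsSaturatedFor O' s := by
  intro x y h
  apply hs
  intro i
  rw [← hf i]
  exact h (f i)

variable [TopologicalSpace X]

theorem isLocallyClosed_atom_of_isOpen {ι : Type} [Finite ι] {O : ι → Set X}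
    (hO : ∀ i, IsOpen (O i)) (J : Finset ι) : IsLocallyClosed (atom O J) := by
  rw [atom_eq]
  refine ⟨_, _, ?_, ?_, rfl⟩
  · exact J.finite_toSet.isOpen_biInter fun i _ => hO i
  · exact isClosed_biInter fun i _ => (hO i).isClosed_compl

theorem isLocallyClosed_atom_of_isClosed {ι : Type} [Finite ι] {O : ι → Set X}
    (hO : ∀ i, IsClosed (O i)) (J : Finset ι) : IsLocallyClosed (atom O J) := by
  rw [atom_eq, inter_comm]
  refine ⟨_, _, ?_, ?_, rfl⟩
  · exact (Set.toFinite _).isOpen_biInter fun i _ => (hO i).isOpen_compl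
  · exact isClosed_biInter fun i _ => hO i

theorem closure_atom_subset_of_isOpen {ι : Type} [Fintype ι] {O : ι → Set X}
    (hO : ∀ i, IsOpen (O i)) (J : Finset ι) :
    closure (atom O J) ⊆ ⋃ J' ∈ Set.Iic J, atom O J' := by
  classical
  have hsub : closure (atom O J) ⊆ ⋂ i ∈ (↑J : Set ι)ᶜ, (O i)ᶜ := by
    refine closure_minimal ?_ (isClosed_biInter fun i _ => (hO i).isClosed_compl)
    rw [atom_eq]
    exact inter_subset_right
  intro x hx
  have hx' := hsub hx
  simp only [mem_iInter, mem_compl_iff, Finset.mem_coe] at hx'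
  refine mem_iUnion₂.mpr ⟨Finset.univ.filter fun i => x ∈ O i, ?_, ?_⟩
  · intro i hi
    simp only [Finset.mem_filter, Finset.mem_univ, true_and] at hi
    by_contra hiJ
    exact hx' i hiJ hi
  · intro i
    simp

theorem closure_atom_subset_of_isClosed {ι : Type} [Fintype ι] {O : ι → Set X}
    (hO : ∀ i, IsClosed (O i)) (J : Finset ι) :
    closure (atom O J) ⊆ ⋃ J' ∈ Set.Ici J, atom O J' := by
  classical
  have hsub : closure (atom O J) ⊆ ⋂ i ∈ J, O i := by
    refine closure_minimal ?_ (isClosed_biInter fun i _ => hO i)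
    rw [atom_eq]
    exact inter_subset_left
  intro x hx
  have hx' := hsub hx
  simp only [mem_iInter] at hx'
  refine mem_iUnion₂.mpr ⟨Finset.univ.filter fun i => x ∈ O i, ?_, ?_⟩
  · intro i hi
    simp only [Finset.mem_filter, Finset.mem_univ, true_and]
    exact hx' i hi
  · intro i
    simp

theorem isConstructible_atom {ι : Type} [Finite ι] {O : ι → Set X}
    (hO : ∀ i, IsOpen (O i) ∧ IsRetrocompact (O i)) (J : Finset ι) :
    IsConstructible (atom O J) := by
  rw [atom_eq]
  refine IsConstructible.inter ?_ ?_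
  · exact IsConstructible.biInter J.finite_toSet fun i _ => (hO i).2.isConstructible (hO i).1
  · exact IsConstructible.biInter (Set.toFinite _) fun i _ =>
      ((hO i).2.isConstructible (hO i).1).compl

/-- Every constructible set is saturated for a finite family of retrocompact opens. -/
theorem exists_family_of_isConstructible {s : Set X} (hs : IsConstructible s) :
    ∃ (ι : Type) (_ : Fintype ι) (O : ι → Set X),
      (∀ i, IsOpen (O i) ∧ IsRetrocompact (O i)) ∧ IsSaturatedFor O s := by
  induction s, hs using BooleanSubalgebra.closure_sdiff_sup_induction with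
  | isSublattice =>
    exact ⟨fun s hs t ht ↦ ⟨hs.1.union ht.1, hs.2.union ht.2⟩,
      fun s hs t ht ↦ ⟨hs.1.inter ht.1, hs.2.inter_isOpen ht.2 ht.1⟩⟩
  | bot_mem => exact ⟨isOpen_empty, .empty⟩
  | top_mem => exact ⟨isOpen_univ, .univ⟩
  | sdiff U hU V hV =>
    refine ⟨Bool, inferInstance, fun b => cond b U V, ?_, ?_⟩
    · rintro (_ | _)
      · exact hV
      · exact hU
    · intro x y h
      have h1 := h true
      have h2 := h false
      simp only [cond_true, cond_false] at h1 h2
      change x ∈ U \ V ↔ y ∈ U \ V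
      simp only [mem_sdiff, h1, h2]
  | sup s _ t _ hs' ht' =>
    obtain ⟨ι, hι, O, hO, hsat⟩ := hs'
    obtain ⟨ι', hι', O', hO', hsat'⟩ := ht'
    refine ⟨ι ⊕ ι', inferInstance, Sum.elim O O', ?_, ?_⟩
    · rintro (i | i)
      · exact hO i
      · exact hO' i
    · intro x y h
      have h1 := hsat x y fun i => h (Sum.inl i)
      have h2 := hsat' x y fun i => h (Sum.inr i)
      change x ∈ s ∪ t ↔ y ∈ s ∪ t
      simp only [mem_union, h1, h2]

end Groth.Agent.H38
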