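import Groth.Agent.H38.BranchSum3

set_option autoImplicit false
universe u

namespace Groth.Agent.H38

section PiHom

variable {ι : Type*} [Finite ι] (R : ι → Type*) [∀ i, CommRing (R i)]
  {S : Type*} [CommRing S] [∀ i, Algebra S (R i)]
  {Ω : Type*} [CommRing Ω] [IsDomain Ω] (φ : S →+* Ω)

/-- Homomorphisms out of a factor give homomorphisms out of the product. -/
def sigmaToPiHom :
    (Σ i, {σ : R i →+* Ω // σ.comp (algebraMap S (R i)) = φ}) →
      {τ : (∀ i, R i) →+* Ω // τ.comp (algebraMap S (∀ i, R i)) = φ} := fun x =>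
  ⟨x.2.1.comp (Pi.evalRingHom R x.1), by
    rw [RingHom.comp_assoc]
    exact x.2.2⟩

omit [Finite ι] in
theorem sigmaToPiHom_injective : Function.Injective (sigmaToPiHom R φ) := by
  classical
  rintro ⟨i, σ⟩ ⟨j, σ'⟩ h
  have h0 : σ.1.comp (Pi.evalRingHom R i) = σ'.1.comp (Pi.evalRingHom R j) :=
    congrArg Subtype.val h
  have hij : i = j := by
    by_contra hne
    have h1 := RingHom.congr_fun h0 (Pi.single i 1)
    simp only [RingHom.comp_apply, Pi.evalRingHom_apply, Pi.single_eq_same, map_one] at h1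
    rw [Pi.single_eq_of_ne (Ne.symm hne), map_zero] at h1
    exact one_ne_zero h1
  subst hij
  congr 1
  apply Subtype.ext
  exact RingHom.cancel_right (Function.surjective_eval i) |>.mp h0

theorem sigmaToPiHom_surjective : Function.Surjective (sigmaToPiHom R φ) := by
  intro τ
  have hprime : (RingHom.ker τ.1).IsPrime := RingHom.ker_isPrime τ.1
  obtain ⟨i, q, hq⟩ := PrimeSpectrum.exists_comap_evalRingHom_eq
    (⟨RingHom.ker τ.1, hprime⟩ : PrimeSpectrum (∀ i, R i))
  have hq' : q.asIdeal.comap (Pi.evalRingHom R i) = RingHom.ker τ.1 :=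
    congrArg PrimeSpectrum.asIdeal hq
  have hsurj : Function.Surjective (Pi.evalRingHom R i) := Function.surjective_eval i
  have hle : RingHom.ker (Pi.evalRingHom R i) ≤ RingHom.ker τ.1 := by
    rw [← hq']
    intro x hx
    rw [Ideal.mem_comap, (RingHom.mem_ker).mp hx]
    exact q.asIdeal.zero_mem
  let σ : R i →+* Ω := (Pi.evalRingHom R i).liftOfSurjective hsurj ⟨τ.1, hle⟩
  have hσ : σ.comp (Pi.evalRingHom R i) = τ.1 :=
    (Pi.evalRingHom R i).liftOfRightInverse_comp _ _ ⟨τ.1, hle⟩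
  refine ⟨⟨i, ⟨σ, ?_⟩⟩, Subtype.ext hσ⟩
  have : (σ.comp (Pi.evalRingHom R i)).comp (algebraMap S (∀ i, R i)) = φ := by
    rw [hσ]; exact τ.2
  rw [RingHom.comp_assoc] at this
  exact this

end PiHom

end Groth.Agent.H38
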