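import Groth.Agent.H38.BranchSum4
import Mathlib.FieldTheory.IsAlgClosed.AlgebraicClosure
import Mathlib.RingTheory.LocalRing.ResidueField.Basic

set_option autoImplicit false
universe u

namespace Groth.Agent.H38

variable {A : Type u} [CommRing A]

theorem redQuotEquiv_mk (P : MinPrime (CAlg2.red A)) (a : A) :
    redQuotEquiv P (Ideal.Quotient.mk _ (Ideal.Quotient.mk (minPrimeRedMap A P).1 a)) =
      Ideal.Quotient.mk P.1.asIdeal (Ideal.Quotient.mk (nilradical A) a) := by
  haveI : (minPrimeRedMap A P).1.IsPrime := (minPrimeRedMap A P).2.1.1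
  unfold redQuotEquiv
  simp only [RingEquiv.trans_apply]
  have h1 : (redEquiv (A := A ⧸ (minPrimeRedMap A P).1)).symm
      (Ideal.Quotient.mk _ (Ideal.Quotient.mk (minPrimeRedMap A P).1 a)) =
      Ideal.Quotient.mk (minPrimeRedMap A P).1 a := by
    rw [RingEquiv.symm_apply_eq]; rfl
  rw [h1]
  rfl

/-- The normalization of `A/p` is the factor of the normalization of `A_red` at the
corresponding minimal prime. -/
noncomputable def normQuotEquiv (P : MinPrime (CAlg2.red A)) :
    CAlg2.normRed (A ⧸ (minPrimeRedMap A P).1) ≃+* BB P :=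
  integralClosureFracEquiv (redQuotEquiv P)

theorem normQuotEquiv_algebraMap (P : MinPrime (CAlg2.red A)) (a : A) :
    normQuotEquiv P (algebraMap (A ⧸ (minPrimeRedMap A P).1)
      (CAlg2.normRed (A ⧸ (minPrimeRedMap A P).1)) (Ideal.Quotient.mk _ a)) =
      algebraMap (CAlg2.red A) (BB P) (Ideal.Quotient.mk (nilradical A) a) := by
  apply Subtype.ext
  change fracEquivOfRingEquiv (redQuotEquiv P)
    (algebraMap (A ⧸ (minPrimeRedMap A P).1)
      (FractionRing (CAlg2.red (A ⧸ (minPrimeRedMap A P).1))) (Ideal.Quotient.mk _ a)) =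
    algebraMap (CAlg2.red A) (KK P) (Ideal.Quotient.mk (nilradical A) a)
  rw [IsScalarTower.algebraMap_apply (A ⧸ (minPrimeRedMap A P).1)
    (CAlg2.red (A ⧸ (minPrimeRedMap A P).1))
    (FractionRing (CAlg2.red (A ⧸ (minPrimeRedMap A P).1))),
    fracEquivOfRingEquiv_algebraMap,
    IsScalarTower.algebraMap_apply (CAlg2.red A) (CAlg2.red A ⧸ P.1.asIdeal) (KK P)]
  congr 1
  exact redQuotEquiv_mk P a

end Groth.Agent.H38

namespace Groth.Agent.H38

section Closure

variable {A B : Type u} [CommRing A] [IsLocalRing A] [CommRing B] [IsLocalRing B]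

/-- A surjection of local rings identifies the algebraic closures of the residue fields,
compatibly with the canonical maps. -/
theorem exists_closureEquiv (f : A →+* B) (hf : Function.Surjective f) :
    ∃ ψ : AlgebraicClosure (IsLocalRing.ResidueField B) ≃+*
        AlgebraicClosure (IsLocalRing.ResidueField A),
      ∀ a : A, ψ (Brnch.toClosure B (f a)) = Brnch.toClosure A a := by
  haveI : IsLocalHom f := IsLocalHom.of_surjective f hf
  let g : IsLocalRing.ResidueField A →+* IsLocalRing.ResidueField B :=
    IsLocalRing.ResidueField.map f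
  have hgs : Function.Surjective g := by
    intro y
    obtain ⟨b, rfl⟩ := IsLocalRing.residue_surjective y
    obtain ⟨a, rfl⟩ := hf b
    exact ⟨IsLocalRing.residue A a, IsLocalRing.ResidueField.map_residue f a⟩
  letI : Algebra (IsLocalRing.ResidueField A) (IsLocalRing.ResidueField B) := g.toAlgebra
  haveI : Algebra.IsIntegral (IsLocalRing.ResidueField A) (IsLocalRing.ResidueField B) :=
    Algebra.isIntegral_of_surjective hgs
  haveI : Algebra.IsAlgebraic (IsLocalRing.ResidueField A) (IsLocalRing.ResidueField B) :=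
    Algebra.IsIntegral.isAlgebraic
  haveI : Algebra.IsAlgebraic (IsLocalRing.ResidueField A)
      (AlgebraicClosure (IsLocalRing.ResidueField B)) :=
    Algebra.IsAlgebraic.trans (IsLocalRing.ResidueField A) (IsLocalRing.ResidueField B)
      (AlgebraicClosure (IsLocalRing.ResidueField B))
  haveI : IsAlgClosure (IsLocalRing.ResidueField A)
      (AlgebraicClosure (IsLocalRing.ResidueField B)) := ⟨inferInstance, inferInstance⟩
  let ψ0 : AlgebraicClosure (IsLocalRing.ResidueField A) ≃ₐ[IsLocalRing.ResidueField A]
      AlgebraicClosure (IsLocalRing.ResidueField B) :=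
    IsAlgClosure.equiv (IsLocalRing.ResidueField A) _ _
  refine ⟨ψ0.symm.toRingEquiv, fun a => ?_⟩
  have h1 : Brnch.toClosure B (f a) =
      algebraMap (IsLocalRing.ResidueField A) (AlgebraicClosure (IsLocalRing.ResidueField B))
        (IsLocalRing.residue A a) := by
    rw [IsScalarTower.algebraMap_apply (IsLocalRing.ResidueField A)
      (IsLocalRing.ResidueField B) (AlgebraicClosure (IsLocalRing.ResidueField B))]
    change algebraMap (IsLocalRing.ResidueField B) _ (IsLocalRing.residue B (f a)) =
      algebraMap (IsLocalRing.ResidueField B) _ (g (IsLocalRing.residue A a))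
    rw [IsLocalRing.ResidueField.map_residue]
  rw [h1]
  change ψ0.symm (algebraMap _ _ (IsLocalRing.residue A a)) = _
  rw [AlgEquiv.commutes]
  rfl

end Closure

end Groth.Agent.H38
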