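import Groth.Agent.H38.BranchSum5

set_option autoImplicit false
universe u

namespace Groth.Agent.H38

variable (A : Type u) [CommRing A] [IsLocalRing A]

/-- The canonical map from the reduction to the algebraic closure of the residue field. -/
noncomputable def redToClosure :
    CAlg2.red A →+* AlgebraicClosure (IsLocalRing.ResidueField A) :=
  Ideal.Quotient.lift (nilradical A) (Brnch.toClosure A) (fun a ha => by
    have h1 : IsNilpotent (Brnch.toClosure A a) := (mem_nilradical.mp ha).map _
    exact h1.eq_zero)

theorem redToClosure_mk (a : A) :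
    redToClosure A (Ideal.Quotient.mk (nilradical A) a) = Brnch.toClosure A a :=
  Ideal.Quotient.lift_mk _ _ _

theorem redToClosure_comp_mk :
    (redToClosure A).comp (Ideal.Quotient.mk (nilradical A)) = Brnch.toClosure A :=
  Ideal.Quotient.lift_comp_mk _ _ _

/-- Homomorphisms out of one factor, over the reduction. -/
abbrev FactorHom (P : MinPrime (CAlg2.red A)) : Type u :=
  {σ : BB P →+* AlgebraicClosure (IsLocalRing.ResidueField A) //
    σ.comp (algebraMap (CAlg2.red A) (BB P)) = redToClosure A}

theorem closureHom_cond_iff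
    (τ : CAlg2.normRed A →+* AlgebraicClosure (IsLocalRing.ResidueField A)) :
    τ.comp (algebraMap A (CAlg2.normRed A)) = Brnch.toClosure A ↔
      τ.comp (algebraMap (CAlg2.red A) (CAlg2.normRed A)) = redToClosure A := by
  rw [algebraMap_normRed_eq, ← RingHom.comp_assoc]
  constructor
  · intro h
    apply Ideal.Quotient.ringHom_ext
    rw [h, redToClosure_comp_mk]
  · intro h
    rw [h, redToClosure_comp_mk]

/-- The count of homomorphisms splits over the minimal primes. -/
theorem card_closureHom_eq_sum [Fintype (MinPrime (CAlg2.red A))] :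
    ENat.card (ClosureHom A) = ∑ P : MinPrime (CAlg2.red A), ENat.card (FactorHom A P) := by
  have hredR : IsReduced (CAlg2.red A) :=
    (Ideal.isRadical_iff_quotient_reduced _).mp (Ideal.radical_isRadical _)
  let e : CAlg2.normRed A ≃ₐ[CAlg2.red A] (∀ P : MinPrime (CAlg2.red A), BB P) :=
    BEquiv (A := CAlg2.red A)
  let E1 : ClosureHom A ≃
      {τ : CAlg2.normRed A →+* AlgebraicClosure (IsLocalRing.ResidueField A) //
        τ.comp (algebraMap (CAlg2.red A) (CAlg2.normRed A)) = redToClosure A} :=
    Equiv.subtypeEquivRight (closureHom_cond_iff A)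
  let E2 : {τ : CAlg2.normRed A →+* AlgebraicClosure (IsLocalRing.ResidueField A) //
        τ.comp (algebraMap (CAlg2.red A) (CAlg2.normRed A)) = redToClosure A} ≃
      {τ : (∀ P : MinPrime (CAlg2.red A), BB P) →+*
          AlgebraicClosure (IsLocalRing.ResidueField A) //
        τ.comp (algebraMap (CAlg2.red A) (∀ P : MinPrime (CAlg2.red A), BB P)) =
          redToClosure A} :=
    { toFun := fun τ => ⟨τ.1.comp e.symm.toRingEquiv.toRingHom, by
        ext r
        have h := RingHom.congr_fun τ.2 r
        simp only [RingHom.comp_apply] at h ⊢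
        rw [← h]
        congr 1
        exact e.symm.commutes r⟩
      invFun := fun τ => ⟨τ.1.comp e.toRingEquiv.toRingHom, by
        ext r
        have h := RingHom.congr_fun τ.2 r
        simp only [RingHom.comp_apply] at h ⊢
        rw [← h]
        congr 1
        exact e.commutes r⟩
      left_inv := fun τ => by
        apply Subtype.ext
        ext x
        change τ.1 (e.symm (e x)) = τ.1 x
        rw [e.symm_apply_apply]
      right_inv := fun τ => by
        apply Subtype.ext
        ext x
        change τ.1 (e (e.symm x)) = τ.1 x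
        rw [e.apply_symm_apply] }
  let E3 : (Σ P : MinPrime (CAlg2.red A), FactorHom A P) ≃
      {τ : (∀ P : MinPrime (CAlg2.red A), BB P) →+*
          AlgebraicClosure (IsLocalRing.ResidueField A) //
        τ.comp (algebraMap (CAlg2.red A) (∀ P : MinPrime (CAlg2.red A), BB P)) =
          redToClosure A} :=
    Equiv.ofBijective _
      ⟨sigmaToPiHom_injective (fun P : MinPrime (CAlg2.red A) => BB P) (redToClosure A),
       sigmaToPiHom_surjective (fun P : MinPrime (CAlg2.red A) => BB P) (redToClosure A)⟩
  rw [ENat.card_congr ((E1.trans E2).trans E3.symm)]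
  exact enat_card_sigma _

end Groth.Agent.H38

namespace Groth.Agent.H38

variable (A : Type u) [CommRing A] [IsLocalRing A]

/-- Homomorphisms out of the factor at `P` correspond to homomorphisms out of the
normalization of `A/p`. -/
theorem card_factorHom_eq (P : MinPrime (CAlg2.red A))
    [inst : IsLocalRing (A ⧸ (minPrimeRedMap A P).1)] :
    ENat.card (FactorHom A P) = ENat.card (ClosureHom (A ⧸ (minPrimeRedMap A P).1)) := by
  obtain ⟨ψ, hψ⟩ := exists_closureEquiv (Ideal.Quotient.mk (minPrimeRedMap A P).1)
    Ideal.Quotient.mk_surjective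
  let ε := normQuotEquiv P
  have hε : ∀ a : A, ε (algebraMap (A ⧸ (minPrimeRedMap A P).1)
      (CAlg2.normRed (A ⧸ (minPrimeRedMap A P).1)) (Ideal.Quotient.mk _ a)) =
      algebraMap (CAlg2.red A) (BB P) (Ideal.Quotient.mk (nilradical A) a) :=
    normQuotEquiv_algebraMap P
  have hε' : ∀ a : A, ε.symm (algebraMap (CAlg2.red A) (BB P)
      (Ideal.Quotient.mk (nilradical A) a)) =
      algebraMap (A ⧸ (minPrimeRedMap A P).1)
        (CAlg2.normRed (A ⧸ (minPrimeRedMap A P).1)) (Ideal.Quotient.mk _ a) := by
    intro a
    rw [RingEquiv.symm_apply_eq, hε]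
  refine ENat.card_congr
    { toFun := fun σ => ⟨ψ.symm.toRingHom.comp (σ.1.comp ε.toRingHom), ?_⟩
      invFun := fun τ => ⟨ψ.toRingHom.comp (τ.1.comp ε.symm.toRingHom), ?_⟩
      left_inv := fun σ => ?_
      right_inv := fun τ => ?_ }
  · apply Ideal.Quotient.ringHom_ext
    ext a
    have h := RingHom.congr_fun σ.2 (Ideal.Quotient.mk (nilradical A) a)
    simp only [RingHom.comp_apply] at h ⊢
    change ψ.symm (σ.1 (ε (algebraMap _ _ (Ideal.Quotient.mk _ a)))) = _
    rw [hε, h, redToClosure_mk, RingEquiv.symm_apply_eq, hψ]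
  · apply Ideal.Quotient.ringHom_ext
    ext a
    have h := RingHom.congr_fun τ.2 (Ideal.Quotient.mk _ a)
    simp only [RingHom.comp_apply] at h ⊢
    change ψ (τ.1 (ε.symm (algebraMap _ _ (Ideal.Quotient.mk _ a)))) = _
    rw [hε', h, hψ, redToClosure_mk]
  · apply Subtype.ext
    ext x
    change ψ (ψ.symm (σ.1 (ε (ε.symm x)))) = σ.1 x
    rw [ψ.apply_symm_apply, ε.apply_symm_apply]
  · apply Subtype.ext
    ext x
    change ψ.symm (ψ (τ.1 (ε.symm (ε x)))) = τ.1 x
    rw [ψ.symm_apply_apply, ε.symm_apply_apply]

end Groth.Agent.H38
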