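import Mathlib.Topology.Separation.Hausdorff
import Mathlib.Topology.Separation.Regular
import Mathlib.Topology.Compactness.LocallyCompact
import Mathlib.Data.Fintype.Pi

set_option autoImplicit false
universe u v

open Set Filter Topology

namespace Groth.Agent.H38

variable {X : Type u} [TopologicalSpace X] {ι : Type v}

/-- Finite shrinking of a cover of a compact set, for a property of sets stable under finite
unions. -/
theorem exists_finite_shrinking {Z : Set X} (hZ : IsCompact Z) (P : ι → Set X → Prop)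
    (hP0 : ∀ i, P i ∅) (hPU : ∀ i A B, P i A → P i B → P i (A ∪ B))
    (h : ∀ z ∈ Z, ∃ (i : ι) (A : Set X), IsOpen A ∧ z ∈ A ∧ P i A) :
    ∃ (I₀ : Finset ι) (V : ι → Set X), (∀ i, IsOpen (V i)) ∧ (Z ⊆ ⋃ i, V i) ∧
      (∀ i, P i (V i)) ∧ (∀ i, i ∉ I₀ → V i = ∅) := by
  classical
  choose i A hAo hzA hPA using fun z : Z => h z.1 z.2
  obtain ⟨T, hT⟩ := hZ.elim_finite_subcover (fun z : Z => A z) hAo
    (fun z hz => mem_iUnion.mpr ⟨⟨z, hz⟩, hzA ⟨z, hz⟩⟩)
  have key : ∀ (j : ι) (S : Finset Z), (∀ z ∈ S, i z = j) → P j (⋃ z ∈ S, A z) := by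
    intro j S
    induction S using Finset.induction_on with
    | empty => intro _; simpa using hP0 j
    | insert a S ha ih =>
      intro hS
      rw [Finset.set_biUnion_insert]
      refine hPU j _ _ ?_ (ih fun z hz => hS z (Finset.mem_insert_of_mem hz))
      rw [← hS a (Finset.mem_insert_self a S)]
      exact hPA a
  refine ⟨T.image i, fun j => ⋃ z ∈ T.filter (fun z => i z = j), A z, ?_, ?_, ?_, ?_⟩
  · intro j
    exact isOpen_biUnion fun z _ => hAo z
  · intro x hx
    obtain ⟨z, hzT, hxz⟩ := mem_iUnion₂.mp (hT hx)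
    exact mem_iUnion.mpr ⟨i z, mem_iUnion₂.mpr ⟨z, Finset.mem_filter.mpr ⟨hzT, rfl⟩, hxz⟩⟩
  · intro j
    exact key j _ fun z hz => (Finset.mem_filter.mp hz).2
  · intro j hj
    have : T.filter (fun z => i z = j) = ∅ := by
      rw [Finset.filter_eq_empty_iff]
      intro z hz hzj
      exact hj (Finset.mem_image.mpr ⟨z, hz, hzj⟩)
    show (⋃ z ∈ T.filter (fun z => i z = j), A z) = ∅
    rw [this]
    simp

/-- The refinement step: shrink by a neighbourhood of `Z` so that the intersections land in the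
prescribed opens. -/
theorem exists_nhd_refinement {Z : Set X} (U : ι → Set X) (p : ℕ)
    (W : (Fin (p + 1) → ι) → Set X) (hWo : ∀ t, IsOpen (W t))
    (hWZ : ∀ t, W t ∩ Z = (⋂ l, U (t l)) ∩ Z) (I₀ : Finset ι) (V₀ : ι → Set X)
    (hcl : ∀ i, closure (V₀ i) ∩ Z ⊆ U i) (hemp : ∀ i, i ∉ I₀ → V₀ i = ∅) :
    ∃ N : Set X, IsOpen N ∧ Z ⊆ N ∧ ∀ t : Fin (p + 1) → ι, (⋂ l, (V₀ (t l) ∩ N)) ⊆ W t := by
  classical
  let Nt : (Fin (p + 1) → ι) → Set X := fun t => W t ∪ ⋃ l, (closure (V₀ (t l)))ᶜ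
  have hNt : ∀ t, IsOpen (Nt t) := fun t =>
    (hWo t).union (isOpen_iUnion fun l => isClosed_closure.isOpen_compl)
  have hZNt : ∀ t, Z ⊆ Nt t := by
    intro t z hz
    by_cases hzc : ∀ l, z ∈ closure (V₀ (t l))
    · left
      have : z ∈ (⋂ l, U (t l)) ∩ Z := ⟨mem_iInter.mpr fun l => hcl _ ⟨hzc l, hz⟩, hz⟩
      rw [← hWZ] at this
      exact this.1
    · right
      push Not at hzc
      obtain ⟨l, hl⟩ := hzc
      exact mem_iUnion.mpr ⟨l, hl⟩
  refine ⟨⋂ t ∈ Fintype.piFinset (fun _ : Fin (p + 1) => I₀), Nt t, ?_, ?_, ?_⟩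
  · exact isOpen_biInter_finset fun t _ => hNt t
  · exact subset_iInter₂ fun t _ => hZNt t
  · intro t x hx
    rw [mem_iInter] at hx
    by_cases ht : t ∈ Fintype.piFinset (fun _ : Fin (p + 1) => I₀)
    · have hxN : x ∈ Nt t := by
        have := (hx 0).2
        rw [mem_iInter₂] at this
        exact this t ht
      rcases hxN with hxW | hxc
      · exact hxW
      · obtain ⟨l, hl⟩ := mem_iUnion.mp hxc
        exact absurd (subset_closure (hx l).1) hl
    · rw [Fintype.mem_piFinset] at ht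
      push Not at ht
      obtain ⟨l, hl⟩ := ht
      have := (hx l).1
      rw [hemp _ hl] at this
      exact absurd this (notMem_empty x)

end Groth.Agent.H38
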