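import Mathlib.Topology.Connected.Clopen
import Mathlib.Topology.Spectral.Prespectral
import Mathlib.Topology.QuasiSeparated

set_option autoImplicit false

namespace Groth.Agent.H38

open Topology TopologicalSpace

universe u
variable {X : Type u} [TopologicalSpace X]

/-- In a quasi-compact space with a basis of quasi-compact opens stable under pairwise
intersection, the connected component of a point is the intersection of the clopen sets containing
it. -/
theorem connectedComponent_eq_sInter_isClopen [CompactSpace X] [PrespectralSpace X]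
    [QuasiSeparatedSpace X] (x : X) :
    connectedComponent x = ⋂₀ {Z : Set X | IsClopen Z ∧ x ∈ Z} := by
  apply subset_antisymm
  · exact Set.subset_sInter fun Z hZ => hZ.1.connectedComponent_subset hZ.2
  set S := ⋂₀ {Z : Set X | IsClopen Z ∧ x ∈ Z} with hS
  have hxS : x ∈ S := Set.mem_sInter.mpr fun Z hZ => hZ.2
  have hSc : IsClosed S := isClosed_sInter fun Z hZ => hZ.1.1
  refine IsPreconnected.subset_connectedComponent ?_ hxS
  rw [isPreconnected_iff_subset_of_disjoint_closed]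
  intro u v hu hv hSuv hdisj
  -- the index type of clopen neighbourhoods
  let ι := {Z : Set X // IsClopen Z ∧ x ∈ Z}
  have : Nonempty ι := ⟨⟨Set.univ, isClopen_univ, Set.mem_univ x⟩⟩
  have hdir : Directed (· ⊇ ·) (fun Z : ι => Z.1) := fun Z₁ Z₂ =>
    ⟨⟨Z₁.1 ∩ Z₂.1, Z₁.2.1.inter Z₂.2.1, Z₁.2.2, Z₂.2.2⟩, Set.inter_subset_left,
      Set.inter_subset_right⟩
  have hSι : S = ⋂ Z : ι, Z.1 := by
    rw [hS, Set.sInter_eq_iInter]
    rfl
  have hBc : IsCompact (S ∩ u) := (hSc.inter hu).isCompact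
  have hCc : IsCompact (S ∩ v) := (hSc.inter hv).isCompact
  have hBv : S ∩ u ⊆ vᶜ := fun z hz hzv => by
    have : z ∈ S ∩ (u ∩ v) := ⟨hz.1, hz.2, hzv⟩
    rw [hdisj] at this
    exact this
  have hCu : S ∩ v ⊆ uᶜ := fun z hz hzu => by
    have : z ∈ S ∩ (u ∩ v) := ⟨hz.1, hzu, hz.2⟩
    rw [hdisj] at this
    exact this
  obtain ⟨U, hUc, hUo, hBU, hUv⟩ :=
    PrespectralSpace.exists_isCompact_and_isOpen_between hBc hv.isOpen_compl hBv
  obtain ⟨V, hVc, hVo, hCV, hVu⟩ :=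
    PrespectralSpace.exists_isCompact_and_isOpen_between hCc hu.isOpen_compl hCu
  -- `S ∩ U ∩ V = ∅`
  have hSUV : (U ∩ V) ∩ ⋂ Z : ι, Z.1 = ∅ := by
    rw [← hSι]
    ext z
    simp only [Set.mem_inter_iff, Set.mem_empty_iff_false, iff_false, not_and]
    rintro ⟨hzU, hzV⟩ hzS
    rcases hSuv hzS with hzu | hzv
    · exact hVu hzV hzu
    · exact hUv hzU hzv
  obtain ⟨Z₁, hZ₁⟩ := (hUc.inter_of_isOpen hVc hUo hVo).elim_directed_family_closed
    (fun Z : ι => Z.1) (fun Z => Z.2.1.1) hSUV hdir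
  have hSUV' : (U ∪ V)ᶜ ∩ ⋂ Z : ι, Z.1 = ∅ := by
    rw [← hSι]
    ext z
    simp only [Set.mem_inter_iff, Set.mem_compl_iff, Set.mem_union, Set.mem_empty_iff_false,
      iff_false, not_and]
    intro hz hzS
    apply hz
    rcases hSuv hzS with hzu | hzv
    · exact Or.inl (hBU ⟨hzS, hzu⟩)
    · exact Or.inr (hCV ⟨hzS, hzv⟩)
  obtain ⟨Z₂, hZ₂⟩ := (hUo.union hVo).isClosed_compl.isCompact.elim_directed_family_closed
    (fun Z : ι => Z.1) (fun Z => Z.2.1.1) hSUV' hdir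
  set Z : Set X := Z₁.1 ∩ Z₂.1 with hZ
  have hZclopen : IsClopen Z := Z₁.2.1.inter Z₂.2.1
  have hxZ : x ∈ Z := ⟨Z₁.2.2, Z₂.2.2⟩
  have hZsub : Z ⊆ U ∪ V := by
    intro z hz
    by_contra hzn
    have : z ∈ (U ∪ V)ᶜ ∩ Z₂.1 := ⟨hzn, hz.2⟩
    rw [hZ₂] at this
    exact this
  have hZdisj : ∀ z ∈ Z, z ∈ U → z ∈ V → False := by
    intro z hz hzU hzV
    have : z ∈ (U ∩ V) ∩ Z₁.1 := ⟨⟨hzU, hzV⟩, hz.1⟩
    rw [hZ₁] at this
    exact this
  have hUZ : IsClopen (U ∩ Z) := by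
    refine ⟨?_, hUo.inter hZclopen.2⟩
    have : U ∩ Z = Z ∩ Vᶜ := by
      ext z
      constructor
      · rintro ⟨hzU, hzZ⟩
        exact ⟨hzZ, fun hzV => hZdisj z hzZ hzU hzV⟩
      · rintro ⟨hzZ, hzV⟩
        rcases hZsub hzZ with h | h
        · exact ⟨h, hzZ⟩
        · exact absurd h hzV
    rw [this]
    exact hZclopen.1.inter hVo.isClosed_compl
  have hVZ : IsClopen (V ∩ Z) := by
    refine ⟨?_, hVo.inter hZclopen.2⟩
    have : V ∩ Z = Z ∩ Uᶜ := by
      ext z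
      constructor
      · rintro ⟨hzV, hzZ⟩
        exact ⟨hzZ, fun hzU => hZdisj z hzZ hzU hzV⟩
      · rintro ⟨hzZ, hzU⟩
        rcases hZsub hzZ with h | h
        · exact absurd h hzU
        · exact ⟨h, hzZ⟩
    rw [this]
    exact hZclopen.1.inter hUo.isClosed_compl
  rcases hSuv hxS with hxu | hxv
  · left
    have hxU : x ∈ U := hBU ⟨hxS, hxu⟩
    have hSU : S ⊆ U ∩ Z := Set.sInter_subset_of_mem ⟨hUZ, hxU, hxZ⟩
    intro z hzS
    rcases hSuv hzS with h | h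
    · exact h
    · exact absurd h (hUv (hSU hzS).1)
  · right
    have hxV : x ∈ V := hCV ⟨hxS, hxv⟩
    have hSV : S ⊆ V ∩ Z := Set.sInter_subset_of_mem ⟨hVZ, hxV, hxZ⟩
    intro z hzS
    rcases hSuv hzS with h | h
    · exact absurd h (hVu (hSV hzS).1)
    · exact h

end Groth.Agent.H38
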