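import Mathlib
import Groth.Agent.H11.FtChart
import Groth.Agent.H51.GrpFieldDim

/-!
# Dimension of the local ring at a closed point of a scheme locally of finite type over a field
-/

set_option autoImplicit false
universe u

open CategoryTheory AlgebraicGeometry

namespace Groth.Agent.H38.ClosedPtDim

/-- At a closed point of a scheme locally of finite type over a field, the dimension of the local
ring is the local dimension. -/
theorem ringKrullDim_stalk_eq_localDim (k : Type u) [Field k] (X : Scheme.{u})
    [X.Over (Spec (CommRingCat.of k))] [LocallyOfFiniteType (X ↘ Spec (CommRingCat.of k))]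
    (x : X) (hx : IsClosed ({x} : Set X)) :
    ringKrullDim (X.presheaf.stalk x) = FlatMor.localDim X x := by
  obtain ⟨U, hU, hxU, -⟩ := exists_isAffineOpen_mem_and_subset (x := x) (U := ⊤) trivial
  letI := Groth.Agent.H11.FtChart.secAlgebra k X U
  haveI : Algebra.FiniteType k Γ(X, U) := Groth.Agent.H11.FtChart.finiteType_sec k X hU
  rw [Groth.Agent.H11.FtChart.localDim_eq hU x hxU,
    Groth.Agent.H11.FtDim.localDim_eq_height_add_coheight (k := k),
    ← Groth.Agent.H11.FtChart.height_eq hU x hxU]
  have hcl : IsClosed ({hU.primeIdealOf ⟨x, hxU⟩} : Set (PrimeSpectrum Γ(X, U))) := by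
    have h1 : ({hU.primeIdealOf ⟨x, hxU⟩} : Set (PrimeSpectrum Γ(X, U))) =
        hU.fromSpec ⁻¹' {x} := by
      ext P
      simp only [Set.mem_singleton_iff]
      constructor
      · rintro rfl
        exact hU.fromSpec_primeIdealOf ⟨x, hxU⟩
      · intro hP
        have h2 := hU.fromSpec_primeIdealOf ⟨x, hxU⟩
        have h3 : hU.fromSpec P = hU.fromSpec (hU.primeIdealOf ⟨x, hxU⟩) := by
          rw [h2]; exact hP
        exact hU.fromSpec.isOpenEmbedding.injective h3
    rw [h1]
    exact hx.preimage hU.fromSpec.continuous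
  have hmax : IsMax (hU.primeIdealOf ⟨x, hxU⟩) := by
    rw [PrimeSpectrum.isMax_iff]
    exact (PrimeSpectrum.isClosed_singleton_iff_isMaximal _).mp hcl
  rw [Order.coheight_eq_zero.mpr hmax, add_zero]

end Groth.Agent.H38.ClosedPtDim
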