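import Mathlib
import Groth.Prelude.Def_Curv2
import Groth.Agent.H38.GalTower

/-!
# Points of `X_K` and `X_{k'}` over the same point of `X` come from a point of `X_Ω` for a common
extension `Ω`
-/

set_option autoImplicit false
universe u

open CategoryTheory CategoryTheory.Limits AlgebraicGeometry

namespace Groth.Agent.H38.CommonExt

open Groth.Agent.H38.GalTower

variable (k : Type u) [Field k] (X : Scheme.{u}) [X.Over (Spec (CommRingCat.of k))]
  (K k' : Type u) [Field K] [Field k'] [Algebra k K] [Algebra k k']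

theorem exists_common_point (y : ↥(Curv2.bc k X K)) (x' : ↥(Curv2.bc k X k'))
    (h : Curv2.bcFst k X K y = Curv2.bcFst k X k' x') :
    ∃ (Ω : Type u) (_ : Field Ω) (_ : Algebra k Ω) (_ : Algebra K Ω) (_ : Algebra k' Ω)
      (_ : IsScalarTower k K Ω) (_ : IsScalarTower k k' Ω) (u : ↥(Curv2.bc k X Ω)),
      bcMap k X K Ω u = y ∧ bcMap k X k' Ω u = x' := by
  obtain ⟨w, hw1, hw2⟩ := Scheme.Pullback.exists_preimage_pullback
    (f := Curv2.bcFst k X K) (g := Curv2.bcFst k X k') y x' h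
  let P : Scheme.{u} := pullback (Curv2.bcFst k X K) (Curv2.bcFst k X k')
  obtain ⟨s₁, hs₁⟩ : ∃ s₁ : Spec (P.residueField w) ⟶ Curv2.bc k X K,
      s₁ = P.fromSpecResidueField w ≫ pullback.fst _ _ := ⟨_, rfl⟩
  obtain ⟨s₂, hs₂⟩ : ∃ s₂ : Spec (P.residueField w) ⟶ Curv2.bc k X k',
      s₂ = P.fromSpecResidueField w ≫ pullback.snd _ _ := ⟨_, rfl⟩
  have hs : s₁ ≫ Curv2.bcFst k X K = s₂ ≫ Curv2.bcFst k X k' := by
    rw [hs₁, hs₂, Category.assoc, Category.assoc, pullback.condition]
  let φ₁ : CommRingCat.of K ⟶ P.residueField w := Spec.preimage (s₁ ≫ Curv2.bcSnd k X K)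
  let φ₂ : CommRingCat.of k' ⟶ P.residueField w := Spec.preimage (s₂ ≫ Curv2.bcSnd k X k')
  have hφ₁ : Spec.map φ₁ = s₁ ≫ Curv2.bcSnd k X K := Spec.map_preimage _
  have hφ₂ : Spec.map φ₂ = s₂ ≫ Curv2.bcSnd k X k' := Spec.map_preimage _
  have hφ : CommRingCat.ofHom (algebraMap k K) ≫ φ₁ = CommRingCat.ofHom (algebraMap k k') ≫ φ₂ := by
    apply Spec.map_injective
    rw [Spec.map_comp, Spec.map_comp, hφ₁, hφ₂, Category.assoc, Category.assoc]
    rw [← pullback.condition, ← pullback.condition]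
    change s₁ ≫ Curv2.bcFst k X K ≫ _ = s₂ ≫ Curv2.bcFst k X k' ≫ _
    rw [← Category.assoc, hs, Category.assoc]
  letI : Algebra K (P.residueField w) := φ₁.hom.toAlgebra
  letI : Algebra k' (P.residueField w) := φ₂.hom.toAlgebra
  letI : Algebra k (P.residueField w) := (φ₁.hom.comp (algebraMap k K)).toAlgebra
  haveI : IsScalarTower k K (P.residueField w) := IsScalarTower.of_algebraMap_eq fun _ => rfl
  haveI : IsScalarTower k k' (P.residueField w) := IsScalarTower.of_algebraMap_eq fun c =>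
    congrArg (fun f => f.hom c) hφ
  have hK : Spec.map (CommRingCat.ofHom (algebraMap K (P.residueField w))) = Spec.map φ₁ := rfl
  have hk' : Spec.map (CommRingCat.ofHom (algebraMap k' (P.residueField w))) = Spec.map φ₂ := rfl
  have hcond : (s₁ ≫ Curv2.bcFst k X K) ≫ (X ↘ Spec (CommRingCat.of k)) =
      𝟙 _ ≫ Spec.map (CommRingCat.ofHom (algebraMap k (P.residueField w))) := by
    rw [Category.id_comp, Category.assoc]
    rw [pullback.condition]
    change s₁ ≫ Curv2.bcSnd k X K ≫ _ = _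
    rw [← Category.assoc, ← hφ₁, ← hK, specMap_tower]
  let a : Spec (P.residueField w) ⟶ Curv2.bc k X (P.residueField w) :=
    pullback.lift (s₁ ≫ Curv2.bcFst k X K) (𝟙 _) hcond
  have ha1 : a ≫ Curv2.bcFst k X (P.residueField w) = s₁ ≫ Curv2.bcFst k X K :=
    pullback.lift_fst _ _ _
  have ha2 : a ≫ Curv2.bcSnd k X (P.residueField w) = 𝟙 _ := pullback.lift_snd _ _ _
  have hb1 : a ≫ bcMap k X K (P.residueField w) = s₁ := by
    apply pullback.hom_ext
    · change (a ≫ bcMap k X K (P.residueField w)) ≫ Curv2.bcFst k X K = s₁ ≫ Curv2.bcFst k X K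
      rw [Category.assoc, bcMap_fst, ha1]
    · change (a ≫ bcMap k X K (P.residueField w)) ≫ Curv2.bcSnd k X K = s₁ ≫ Curv2.bcSnd k X K
      rw [Category.assoc, bcMap_snd, ← Category.assoc, ha2, Category.id_comp, hK, hφ₁]
  have hb2 : a ≫ bcMap k X k' (P.residueField w) = s₂ := by
    apply pullback.hom_ext
    · change (a ≫ bcMap k X k' (P.residueField w)) ≫ Curv2.bcFst k X k' =
        s₂ ≫ Curv2.bcFst k X k'
      rw [Category.assoc, bcMap_fst, ha1, hs]
    · change (a ≫ bcMap k X k' (P.residueField w)) ≫ Curv2.bcSnd k X k' =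
        s₂ ≫ Curv2.bcSnd k X k'
      rw [Category.assoc, bcMap_snd, ← Category.assoc, ha2, Category.id_comp, hk', hφ₂]
  refine ⟨P.residueField w, inferInstance, inferInstance, inferInstance, inferInstance,
    inferInstance, inferInstance, a (IsLocalRing.closedPoint _), ?_, ?_⟩
  · rw [← Scheme.Hom.comp_apply, hb1, hs₁, Scheme.Hom.comp_apply,
      Scheme.fromSpecResidueField_apply]
    exact hw1
  · rw [← Scheme.Hom.comp_apply, hb2, hs₂, Scheme.Hom.comp_apply,
      Scheme.fromSpecResidueField_apply]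
    exact hw2

end Groth.Agent.H38.CommonExt
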