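import Mathlib.Topology.Constructible
import Mathlib.Topology.Spectral.Prespectral
import Mathlib.Topology.QuasiSeparated
import Mathlib.Topology.LocallyClosed

set_option autoImplicit false

namespace Groth.Agent.H38

open Topology TopologicalSpace Set

universe u
variable {X : Type u} [TopologicalSpace X]

/-- Induction principle for constructible sets via differences of retrocompact opens and unions. -/
theorem constructible_sdiff_union_induction {P : ∀ s : Set X, IsConstructible s → Prop}
    (sdiff : ∀ U V (hUo : IsOpen U) (hUr : IsRetrocompact U) (hVo : IsOpen V)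
      (hVr : IsRetrocompact V), P (U \ V) ((hUr.isConstructible hUo).sdiff (hVr.isConstructible hVo)))
    (union : ∀ s hs t ht, P s hs → P t ht → P (s ∪ t) (hs.union ht))
    (s : Set X) (hs : IsConstructible s) : P s hs := by
  induction s, hs using BooleanSubalgebra.closure_sdiff_sup_induction with
  | isSublattice =>
    exact ⟨fun s hs t ht ↦ ⟨hs.1.union ht.1, hs.2.union ht.2⟩,
      fun s hs t ht ↦ ⟨hs.1.inter ht.1, hs.2.inter_isOpen ht.2 ht.1⟩⟩
  | bot_mem => exact ⟨isOpen_empty, .empty⟩
  | top_mem => exact ⟨isOpen_univ, .univ⟩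
  | sdiff U hU V hV => exact sdiff U V hU.1 hU.2 hV.1 hV.2
  | sup s _ t _ hs' ht' => exact union _ _ _ _ hs' ht'

/-- Constructible sets are retrocompact. -/
theorem isRetrocompact_of_isConstructible {s : Set X} (hs : IsConstructible s) :
    IsRetrocompact s := by
  induction s, hs using constructible_sdiff_union_induction with
  | sdiff U V hUo hUr hVo hVr =>
    intro W hWc hWo
    have : (U \ V) ∩ W = (U ∩ W) ∩ Vᶜ := by
      ext x; simp only [mem_inter_iff, mem_sdiff, mem_compl_iff]; tauto
    rw [this]
    exact (hUr hWc hWo).inter_right hVo.isClosed_compl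
  | union s _ t _ hs' ht' => exact hs'.union ht'

/-- Compact opens of a retrocompact subspace of a prespectral space are traces of compact opens. -/
theorem exists_isCompact_isOpen_preimage_val_eq [PrespectralSpace X] {T : Set X}
    {W : Set T} (hWc : IsCompact W) (hWo : IsOpen W) :
    ∃ V : Set X, IsOpen V ∧ IsCompact V ∧ W = (Subtype.val : T → X) ⁻¹' V := by
  obtain ⟨O, hO, rfl⟩ := isOpen_induced_iff.mp hWo
  have hc : IsCompact ((Subtype.val : T → X) '' ((Subtype.val : T → X) ⁻¹' O)) :=
    hWc.image continuous_subtype_val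
  obtain ⟨V, hVc, hVo, hWV, hVO⟩ :=
    PrespectralSpace.exists_isCompact_and_isOpen_between hc hO (by
      rintro _ ⟨x, hx, rfl⟩; exact hx)
  refine ⟨V, hVo, hVc, ?_⟩
  ext x
  constructor
  · intro hx
    exact hWV ⟨x, hx, rfl⟩
  · intro hx
    exact hVO hx

/-- The trace of a retrocompact open on a retrocompact subset of a prespectral space is
retrocompact in the subspace. -/
theorem isRetrocompact_preimage_val [PrespectralSpace X] {T : Set X} (hT : IsRetrocompact T)
    {U : Set X} (hUo : IsOpen U) (hUr : IsRetrocompact U) :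
    IsRetrocompact ((Subtype.val : T → X) ⁻¹' U) := by
  intro W hWc hWo
  obtain ⟨V, hVo, hVc, rfl⟩ := exists_isCompact_isOpen_preimage_val_eq hWc hWo
  rw [← preimage_inter, IsEmbedding.subtypeVal.isCompact_iff, Subtype.image_preimage_coe]
  exact hT (hUr hVc hVo) (hUo.inter hVo)

/-- Stacks 005I-type statement: traces of constructible sets on retrocompact subsets. -/
theorem isConstructible_preimage_val_of_isRetrocompact [PrespectralSpace X] {T : Set X}
    (hT : IsRetrocompact T) {E : Set X} (hE : IsConstructible E) :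
    IsConstructible ((Subtype.val : T → X) ⁻¹' E) :=
  hE.preimage continuous_subtype_val fun _ hUo hUr => isRetrocompact_preimage_val hT hUo hUr

/-- A locally closed, quasi-compact subset with retrocompact complement is constructible. -/
theorem isConstructible_of_isLocallyClosed_isCompact [CompactSpace X] [PrespectralSpace X]
    [QuasiSeparatedSpace X] {T : Set X} (hT : IsLocallyClosed T) (hTc : IsCompact T)
    (hTr : IsRetrocompact Tᶜ) : IsConstructible T := by
  obtain ⟨O, Z, hO, hZ, rfl⟩ := hT
  obtain ⟨U, hUc, hUo, hTU, hUO⟩ :=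
    PrespectralSpace.exists_isCompact_and_isOpen_between hTc hO inter_subset_left
  have h1 : O ∩ Z = U \ (U \ Z) := by
    ext x
    simp only [mem_inter_iff, mem_sdiff, not_and, not_not]
    constructor
    · rintro ⟨hxO, hxZ⟩
      exact ⟨hTU ⟨hxO, hxZ⟩, fun _ => hxZ⟩
    · rintro ⟨hxU, hx⟩
      exact ⟨hUO hxU, hx hxU⟩
  have h2 : U \ Z = (O ∩ Z)ᶜ ∩ U := by
    ext x
    simp only [mem_inter_iff, mem_sdiff, mem_compl_iff, not_and]
    constructor
    · rintro ⟨hxU, hxZ⟩
      exact ⟨fun _ => hxZ, hxU⟩
    · rintro ⟨hx, hxU⟩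
      exact ⟨hxU, hx (hUO hxU)⟩
  have hVc : IsCompact (U \ Z) := h2 ▸ hTr hUc hUo
  have hVo : IsOpen (U \ Z) := hUo.sdiff hZ
  rw [h1]
  exact (hUc.isConstructible hUo).sdiff (hVc.isConstructible hVo)

end Groth.Agent.H38
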