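import Groth.Agent.H38.Spectral
import Mathlib.Topology.Compactness.LocallyCompact
import Mathlib.Topology.Connected.TotallyDisconnected
import Mathlib.Topology.Separation.Regular
import Mathlib.Topology.Maps.Proper.CompactlyGenerated

set_option autoImplicit false
universe u

open Topology TopologicalSpace

namespace Groth.Agent.H38

variable {X : Type u} [TopologicalSpace X]

/-- A compact open subset of a quasi-separated, quasi-sober, prespectral space is compact for the
constructible topology (no quasi-compactness of the whole space needed). -/
theorem isCompact_constructibleTopology_of_isCompact_isOpen [QuasiSober X] [PrespectralSpace X]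
    [QuasiSeparatedSpace X] {U : Set X} (hU : IsOpen U) (hUc : IsCompact U) :
    @IsCompact X (constructibleTopology X) U := by
  have hemb : IsOpenEmbedding (Subtype.val : U → X) := hU.isOpenEmbedding_subtypeVal
  have h1 : CompactSpace U := isCompact_iff_compactSpace.mp hUc
  have h2 : QuasiSober U := hemb.quasiSober
  have h3 : PrespectralSpace U := hemb.prespectralSpace
  have h4 : QuasiSeparatedSpace U := QuasiSeparatedSpace.of_isOpenEmbedding hemb
  have hspec : IsSpectralMap (Subtype.val : U → X) := by
    refine ⟨continuous_subtype_val, fun V hV hVc => ?_⟩
    have h5 : IsCompact (U ∩ V) := QuasiSeparatedSpace.inter_isCompact U V hU hUc hV hVc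
    have h6 : (Subtype.val : U → X) ⁻¹' V = (Subtype.val : U → X) ⁻¹' (U ∩ V) := by
      ext x; simp
    rw [h6]
    exact IsInducing.subtypeVal.isCompact_preimage' h5
      (by rw [Subtype.range_coe]; exact Set.inter_subset_left)
  have hcont := spectral_continuous_constr hspec
  have hcomp : @IsCompact U (constructibleTopology U) Set.univ :=
    @isCompact_univ U (constructibleTopology U) compactSpace_constructibleTopology
  have := @IsCompact.image U X (constructibleTopology U) (constructibleTopology X) _ _ hcomp hcont
  rwa [Set.image_univ, Subtype.range_coe] at this

/-- The identity homeomorphism between the type synonym and the space with the constructible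
topology. -/
def withConstructibleTopologyHomeo (X : Type u) [TopologicalSpace X] :
    @Homeomorph (WithConstructibleTopology X) X _ (constructibleTopology X) :=
  @Homeomorph.mk _ _ _ (constructibleTopology X) (WithTopology.equiv X (constructibleTopology X))
    (WithTopology.continuous_ofTopology _) (WithTopology.continuous_toTopology _)

theorem t2Space_withConstructibleTopology [T0Space X] [PrespectralSpace X] :
    T2Space (WithConstructibleTopology X) :=
  @T2Space.of_injective_continuous _ X _ (constructibleTopology X) t2Space_constructibleTopology
    WithTopology.ofTopology (WithTopology.ofTopology_injective _)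
    (WithTopology.continuous_ofTopology _)

theorem totallyDisconnectedSpace_withConstructibleTopology [T0Space X] [PrespectralSpace X] :
    TotallyDisconnectedSpace (WithConstructibleTopology X) := by
  have : TotallySeparatedSpace (WithConstructibleTopology X) := by
    rw [totallySeparatedSpace_iff_exists_isClopen]
    intro x y hxy
    have hxy' : WithTopology.ofTopology x ≠ WithTopology.ofTopology y := fun h =>
      hxy (WithTopology.ofTopology_injective _ h)
    obtain ⟨U, hU, hxU, hyU⟩ := (@totallySeparatedSpace_iff_exists_isClopen X
      (constructibleTopology X)).mp totallySeparatedSpace_constructibleTopology hxy'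
    refine ⟨WithTopology.ofTopology ⁻¹' U, ⟨?_, ?_⟩, hxU, hyU⟩
    · exact @IsClosed.preimage _ X _ (constructibleTopology X) _
        (WithTopology.continuous_ofTopology _) _ hU.1
    · exact @IsOpen.preimage _ X _ (constructibleTopology X) _
        (WithTopology.continuous_ofTopology _) _ hU.2
  infer_instance

theorem weaklyLocallyCompactSpace_withConstructibleTopology [QuasiSober X] [PrespectralSpace X]
    [QuasiSeparatedSpace X] : WeaklyLocallyCompactSpace (WithConstructibleTopology X) := by
  refine ⟨fun x => ?_⟩
  obtain ⟨U, ⟨hUo, hUc⟩, hxU, -⟩ :=
    (PrespectralSpace.isTopologicalBasis (X := X)).exists_subset_of_mem_open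
      (Set.mem_univ (WithTopology.ofTopology x)) isOpen_univ
  refine ⟨WithTopology.toTopology _ '' U, ?_, ?_⟩
  · exact @IsCompact.image X _ (constructibleTopology X) _ _ _
      (isCompact_constructibleTopology_of_isCompact_isOpen hUo hUc)
      (WithTopology.continuous_toTopology _)
  · refine IsOpen.mem_nhds ?_ ⟨_, hxU, rfl⟩
    rw [WithConstructibleTopology.isOpen_iff]
    have : WithTopology.toTopology (constructibleTopology X) ⁻¹'
        (WithTopology.toTopology (constructibleTopology X) '' U) = U :=
      Set.preimage_image_eq _ (WithTopology.toTopology_injective _)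
    rw [this]
    exact hUc.isOpen_constructibleTopology_of_isOpen hUo

theorem locallyCompactSpace_withConstructibleTopology [T0Space X] [QuasiSober X]
    [PrespectralSpace X] [QuasiSeparatedSpace X] :
    LocallyCompactSpace (WithConstructibleTopology X) := by
  have := t2Space_withConstructibleTopology (X := X)
  have := weaklyLocallyCompactSpace_withConstructibleTopology (X := X)
  infer_instance

theorem weaklyLocallyCompactSpace_constructibleTopology [QuasiSober X] [PrespectralSpace X]
    [QuasiSeparatedSpace X] : @WeaklyLocallyCompactSpace X (constructibleTopology X) := by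
  refine @WeaklyLocallyCompactSpace.mk X (constructibleTopology X) fun x => ?_
  obtain ⟨U, ⟨hUo, hUc⟩, hxU, -⟩ :=
    (PrespectralSpace.isTopologicalBasis (X := X)).exists_subset_of_mem_open
      (Set.mem_univ x) isOpen_univ
  exact ⟨U, isCompact_constructibleTopology_of_isCompact_isOpen hUo hUc,
    @IsOpen.mem_nhds X (constructibleTopology X) x U
      (hUc.isOpen_constructibleTopology_of_isOpen hUo) hxU⟩

/-- A compact set for the constructible topology is contained in a compact open set. -/
theorem exists_isCompact_isOpen_superset_of_isCompact_constructibleTopology [PrespectralSpace X]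
    {K : Set X} (hK : @IsCompact X (constructibleTopology X) K) :
    ∃ V : Set X, IsOpen V ∧ IsCompact V ∧ K ⊆ V := by
  let ι := {V : Set X // IsOpen V ∧ IsCompact V}
  obtain ⟨t, ht⟩ := @IsCompact.elim_finite_subcover X (constructibleTopology X) K ι hK
    (fun V => V.1) (fun V => V.2.2.isOpen_constructibleTopology_of_isOpen V.2.1) (by
      intro x _
      obtain ⟨U, hU, hxU, -⟩ :=
        (PrespectralSpace.isTopologicalBasis (X := X)).exists_subset_of_mem_open
          (Set.mem_univ x) isOpen_univ
      exact Set.mem_iUnion.mpr ⟨⟨U, hU⟩, hxU⟩)
  exact ⟨⋃ V ∈ t, V.1, isOpen_biUnion fun V _ => V.2.1,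
    t.isCompact_biUnion fun V _ => V.2.2, ht⟩

/-- A continuous map of quasi-separated, sober, prespectral spaces is spectral iff it is proper for
the constructible topologies. -/
theorem isSpectralMap_iff_isProperMap_constructibleTopology {Y : Type u} [TopologicalSpace Y]
    [QuasiSober X] [PrespectralSpace X] [QuasiSeparatedSpace X]
    [T0Space Y] [QuasiSober Y] [PrespectralSpace Y] [QuasiSeparatedSpace Y]
    {f : X → Y} (hf : Continuous f) :
    IsSpectralMap f ↔ @IsProperMap X Y (constructibleTopology X) (constructibleTopology Y) f := by
  have hT2 : @T2Space Y (constructibleTopology Y) := t2Space_constructibleTopology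
  have hWLC : @WeaklyLocallyCompactSpace Y (constructibleTopology Y) :=
    weaklyLocallyCompactSpace_constructibleTopology
  have hCC : @CompactlyCoherentSpace Y (constructibleTopology Y) :=
    @CompactlyCoherentSpace.of_weaklyLocallyCompactSpace Y (constructibleTopology Y) hWLC
  rw [@isProperMap_iff_isCompact_preimage X Y (constructibleTopology X) (constructibleTopology Y)
    hT2 hCC f]
  constructor
  · intro hspec
    refine ⟨spectral_continuous_constr hspec, fun K hK => ?_⟩
    obtain ⟨V, hVo, hVc, hKV⟩ :=
      exists_isCompact_isOpen_superset_of_isCompact_constructibleTopology hK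
    have h1 : @IsCompact X (constructibleTopology X) (f ⁻¹' V) :=
      isCompact_constructibleTopology_of_isCompact_isOpen (hVo.preimage hf)
        (hspec.isCompact_preimage_of_isOpen hVo hVc)
    have h2 : @IsClosed Y (constructibleTopology Y) K :=
      @IsCompact.isClosed Y (constructibleTopology Y) hT2 K hK
    have h3 : @IsClosed X (constructibleTopology X) (f ⁻¹' K) :=
      @IsClosed.preimage X Y (constructibleTopology X) (constructibleTopology Y) f
        (spectral_continuous_constr hspec) K h2
    exact @IsCompact.of_isClosed_subset X (constructibleTopology X) _ _ h1 h3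
      (Set.preimage_mono hKV)
  · rintro ⟨-, hpre⟩
    refine ⟨hf, fun V hVo hVc => ?_⟩
    exact isCompact_of_isCompact_constructibleTopology
      (hpre (isCompact_constructibleTopology_of_isCompact_isOpen hVo hVc))

end Groth.Agent.H38
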