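import Groth.Agent.H38.SpecLim3
import Groth.Agent.H38.Constr

set_option autoImplicit false
universe u

open CategoryTheory CategoryTheory.Limits Topology TopologicalSpace

namespace Groth.Agent.H38

section General

variable {X Y : Type u} [TopologicalSpace X] [TopologicalSpace Y]

theorem isRetrocompact_of_isCompact_isOpen [QuasiSeparatedSpace X] {U : Set X}
    (hU : IsOpen U) (hUc : IsCompact U) : IsRetrocompact U := fun V hVc hVo =>
  QuasiSeparatedSpace.inter_isCompact U V hU hUc hVo hVc

theorem isConstructible_of_isCompact_isOpen [QuasiSeparatedSpace X] {U : Set X}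
    (hU : IsOpen U) (hUc : IsCompact U) : IsConstructible U :=
  (isRetrocompact_of_isCompact_isOpen hU hUc).isConstructible hU

theorem isCompact_of_isRetrocompact [CompactSpace X] {U : Set X} (hU : IsRetrocompact U) :
    IsCompact U := by
  have := hU isCompact_univ isOpen_univ
  simpa using this

theorem isConstructible_preimage_of_isSpectralMap [CompactSpace Y] [QuasiSeparatedSpace X]
    {f : X → Y} (hf : IsSpectralMap f) {s : Set Y} (hs : IsConstructible s) :
    IsConstructible (f ⁻¹' s) :=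
  hs.preimage hf.continuous fun _ ht htr => isRetrocompact_of_isCompact_isOpen
    (ht.preimage hf.continuous) (hf.isCompact_preimage_of_isOpen ht (isCompact_of_isRetrocompact htr))

end General

section Cofiltered

variable {J : Type u} [SmallCategory J] [IsCofiltered J] {F : J ⥤ TopCat.{u}}

/-- Every compact open of the limit comes from a finite stage. -/
theorem mem_limBasis_of_isCompact_isOpen (hF : ∀ j, SpectralSpace (F.obj j))
    (hFm : ∀ {i j : J} (a : i ⟶ j), IsSpectralMap (F.map a : F.obj i → F.obj j))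
    (c : Cone F) (hc : IsLimit c) {U : Set c.pt} (hU : IsOpen U) (hUc : IsCompact U) :
    U ∈ limBasis c := by
  have hb : IsTopologicalBasis (Set.range (Subtype.val : limBasis c → Set c.pt)) := by
    rw [Subtype.range_coe]
    exact isTopologicalBasis_limBasis hF hFm c hc
  obtain ⟨s, hs, rfl⟩ := (isCompact_open_iff_eq_finite_iUnion_of_isTopologicalBasis _ hb
    (fun V => limBasis_isCompact hF hFm c hc V.2) U).mp ⟨hUc, hU⟩
  have : (⋃ i ∈ s, (i : Set c.pt)) = ⋃ i ∈ hs.toFinset, (i : Set c.pt) := by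
    simp
  rw [this]
  exact limBasis_biUnion hFm c _ _ fun V _ => V.2

theorem lim_exists_preimage_eq (hF : ∀ j, SpectralSpace (F.obj j))
    (hFm : ∀ {i j : J} (a : i ⟶ j), IsSpectralMap (F.map a : F.obj i → F.obj j))
    (c : Cone F) (hc : IsLimit c) (i : J) (A B : Set (F.obj i))
    (hA : @IsClopen _ (constructibleTopology (F.obj i)) A)
    (hB : @IsClopen _ (constructibleTopology (F.obj i)) B)
    (h : c.π.app i ⁻¹' A = c.π.app i ⁻¹' B) :
    ∃ (j : J) (a : j ⟶ i), F.map a ⁻¹' A = F.map a ⁻¹' B := by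
  have hZ : IsClosed[constructibleTopology (F.obj i)] ((A \ B) ∪ (B \ A)) :=
    @IsClosed.union _ _ _ (constructibleTopology (F.obj i))
      (@IsClosed.sdiff _ _ _ (constructibleTopology (F.obj i)) hA.1 hB.2)
      (@IsClosed.sdiff _ _ _ (constructibleTopology (F.obj i)) hB.1 hA.2)
  have h1 : c.π.app i ⁻¹' ((A \ B) ∪ (B \ A)) = ∅ := by
    rw [Set.preimage_union, Set.preimage_sdiff, Set.preimage_sdiff, h]
    simp
  obtain ⟨j, a, ha⟩ := lim_exists_preimage_eq_empty hF hFm c hc i _ hZ h1
  refine ⟨j, a, ?_⟩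
  rw [Set.preimage_union, Set.preimage_sdiff, Set.preimage_sdiff, Set.union_empty_iff,
    Set.sdiff_eq_empty, Set.sdiff_eq_empty] at ha
  exact subset_antisymm ha.1 ha.2

theorem lim_constructible_descent (hF : ∀ j, SpectralSpace (F.obj j))
    (hFm : ∀ {i j : J} (a : i ⟶ j), IsSpectralMap (F.map a : F.obj i → F.obj j))
    (c : Cone F) (hc : IsLimit c) {E : Set c.pt} (hE : IsConstructible E) :
    ∃ (i : J) (Ei : Set (F.obj i)), IsConstructible Ei ∧ c.π.app i ⁻¹' Ei = E := by
  have hcomp : CompactSpace c.pt := lim_compactSpace hF hFm c hc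
  induction hE using IsConstructible.empty_union_induction with
  | open_retrocompact U hUopen hUcomp =>
    obtain ⟨i, Ui, h1, h2, h3⟩ := mem_limBasis_of_isCompact_isOpen hF hFm c hc hUopen
      (isCompact_of_isRetrocompact hUcomp)
    exact ⟨i, Ui, isConstructible_of_isCompact_isOpen h1 h2, h3⟩
  | union s hs t ht hs' ht' =>
    obtain ⟨i, Ei, h1, rfl⟩ := hs'
    obtain ⟨j, Ej, h2, rfl⟩ := ht'
    let k := IsCofiltered.min i j
    let a : k ⟶ i := IsCofiltered.minToLeft i j
    let b : k ⟶ j := IsCofiltered.minToRight i j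
    refine ⟨k, F.map a ⁻¹' Ei ∪ F.map b ⁻¹' Ej, ?_, ?_⟩
    · exact (isConstructible_preimage_of_isSpectralMap (hFm a) h1).union
        (isConstructible_preimage_of_isSpectralMap (hFm b) h2)
    · ext x
      simp only [Set.mem_preimage, Set.mem_union, lim_π_comp]
  | compl s hs hs' =>
    obtain ⟨i, Ei, h1, rfl⟩ := hs'
    exact ⟨i, Eiᶜ, h1.compl, Set.preimage_compl⟩

theorem lim_constructible_descent_open (hF : ∀ j, SpectralSpace (F.obj j))
    (hFm : ∀ {i j : J} (a : i ⟶ j), IsSpectralMap (F.map a : F.obj i → F.obj j))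
    (c : Cone F) (hc : IsLimit c) {E : Set c.pt} (hE : IsConstructible E) (hEo : IsOpen E) :
    ∃ (i : J) (Ei : Set (F.obj i)), IsConstructible Ei ∧ IsOpen Ei ∧ c.π.app i ⁻¹' Ei = E := by
  have hcomp : CompactSpace c.pt := lim_compactSpace hF hFm c hc
  obtain ⟨i, Ui, h1, h2, h3⟩ := mem_limBasis_of_isCompact_isOpen hF hFm c hc hEo
    (isCompact_of_isRetrocompact (isRetrocompact_of_isConstructible hE))
  exact ⟨i, Ui, isConstructible_of_isCompact_isOpen h1 h2, h1, h3⟩

theorem lim_constructible_descent_closed (hF : ∀ j, SpectralSpace (F.obj j))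
    (hFm : ∀ {i j : J} (a : i ⟶ j), IsSpectralMap (F.map a : F.obj i → F.obj j))
    (c : Cone F) (hc : IsLimit c) {E : Set c.pt} (hE : IsConstructible E) (hEc : IsClosed E) :
    ∃ (i : J) (Ei : Set (F.obj i)), IsConstructible Ei ∧ IsClosed Ei ∧ c.π.app i ⁻¹' Ei = E := by
  obtain ⟨i, Ui, h1, h2, h3⟩ := lim_constructible_descent_open hF hFm c hc hE.compl
    hEc.isOpen_compl
  refine ⟨i, Uiᶜ, h1.compl, h2.isClosed_compl, ?_⟩
  rw [Set.preimage_compl, h3, compl_compl]

end Cofiltered

end Groth.Agent.H38
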