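import Groth.Agent.H38.ConstrQS
import Groth.Agent.H38.SpecLim4

set_option autoImplicit false
universe u

open Topology TopologicalSpace

namespace Groth.Agent.H38

variable {X : Type u} [TopologicalSpace X]

/-- In a prespectral space, the complement of a retrocompact open is open for the constructible
topology. -/
theorem isOpen_constructibleTopology_compl_of_isRetrocompact [PrespectralSpace X] {V : Set X}
    (hV : IsOpen V) (hVr : IsRetrocompact V) : IsOpen[constructibleTopology X] Vᶜ := by
  rw [@isOpen_iff_forall_mem_open X (constructibleTopology X)]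
  intro x hx
  obtain ⟨U, ⟨hUo, hUc⟩, hxU, -⟩ :=
    (PrespectralSpace.isTopologicalBasis (X := X)).exists_subset_of_mem_open
      (Set.mem_univ x) isOpen_univ
  refine ⟨U ∩ (V ∩ U)ᶜ, ?_, ?_, ⟨hxU, fun h => hx h.1⟩⟩
  · rintro y ⟨hyU, hyn⟩ hyV
    exact hyn ⟨hyV, hyU⟩
  · refine @IsOpen.inter X (constructibleTopology X) _ _
      (hUc.isOpen_constructibleTopology_of_isOpen hUo) ?_
    exact IsCompact.isOpen_constructibleTopology_of_isClosed
      (by rw [compl_compl]; exact hVr hUc hUo) (hV.inter hUo).isClosed_compl

/-- Constructible subsets of a prespectral space are clopen in the constructible topology. -/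
theorem isClopen_constructibleTopology_of_isConstructible' [PrespectralSpace X] {s : Set X}
    (hs : IsConstructible s) : @IsClopen X (constructibleTopology X) s := by
  induction hs using IsConstructible.empty_union_induction with
  | open_retrocompact U hUopen hUcomp =>
    refine ⟨?_, isOpen_constructibleTopology_of_isOpen hUopen⟩
    rw [← @isOpen_compl_iff X _ (constructibleTopology X)]
    exact isOpen_constructibleTopology_compl_of_isRetrocompact hUopen hUcomp
  | union s hs t ht hs' ht' => exact @IsClopen.union X (constructibleTopology X) s t hs' ht'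
  | compl s hs hs' => exact @IsClopen.compl X (constructibleTopology X) s hs'

/-- In a spectral space (T0 not needed), clopen sets of the constructible topology are
constructible. -/
theorem isConstructible_of_isClopen_constructibleTopology [CompactSpace X] [QuasiSober X]
    [PrespectralSpace X] [QuasiSeparatedSpace X] {E : Set X}
    (hE : @IsClopen X (constructibleTopology X) E) : IsConstructible E := by
  have hsub : ∀ s ∈ constructibleTopologySubbasis X, IsConstructible s := by
    rintro s (⟨hs1, hs2⟩ | ⟨hs1, hs2⟩)
    · exact isConstructible_of_isCompact_isOpen hs1 hs2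
    · have := isConstructible_of_isCompact_isOpen hs1.isOpen_compl hs2
      exact this.of_compl
  have hbasis := @isTopologicalBasis_of_subbasis X (constructibleTopology X)
    (constructibleTopologySubbasis X) rfl
  obtain ⟨S, hS, hES⟩ := @IsTopologicalBasis.open_eq_sUnion X (constructibleTopology X) _
    hbasis E hE.2
  have hScons : ∀ s ∈ S, IsConstructible s := by
    intro s hs
    obtain ⟨f, ⟨hf1, hf2⟩, rfl⟩ := hS hs
    exact IsConstructible.sInter hf1 fun t ht => hsub t (hf2 ht)
  have hSopen : ∀ s ∈ S, IsOpen[constructibleTopology X] s := fun s hs =>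
    @IsTopologicalBasis.isOpen X (constructibleTopology X) _ _ hbasis (hS hs)
  have hEc : @IsCompact X (constructibleTopology X) E :=
    @IsClosed.isCompact X (constructibleTopology X) E compactSpace_constructibleTopology hE.1
  obtain ⟨t, ht⟩ := @IsCompact.elim_finite_subcover X (constructibleTopology X) E S hEc
    (fun s => s.1) (fun s => hSopen s.1 s.2) (by
      rw [hES, Set.sUnion_eq_iUnion])
  have hEeq : E = ⋃ s ∈ t, (s : Set X) := by
    apply subset_antisymm ht
    refine Set.iUnion₂_subset fun s _ => ?_
    rw [hES]
    exact Set.subset_sUnion_of_mem s.2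
  rw [hEeq]
  exact IsConstructible.biUnion t.finite_toSet fun s _ => hScons s.1 s.2

/-- For a quasi-separated, quasi-sober prespectral space, the locally constructible sets are the
clopen sets of the constructible topology. -/
theorem isLocallyConstructible_iff_isClopen_constructibleTopology [QuasiSober X]
    [PrespectralSpace X] [QuasiSeparatedSpace X] (E : Set X) :
    IsLocallyConstructible E ↔
      (IsOpen[constructibleTopology X] E ∧ IsClosed[constructibleTopology X] E) := by
  constructor
  · intro hE
    have key : ∀ U : Set X, IsOpen U → IsCompact U →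
        @IsClopen X (constructibleTopology X) (E ∩ U) := fun U hUo hUc =>
      isClopen_constructibleTopology_of_isConstructible' (hE.inter_of_isOpen_isCompact hUo hUc)
    constructor
    · rw [@isOpen_iff_forall_mem_open X (constructibleTopology X)]
      intro x hx
      obtain ⟨U, ⟨hUo, hUc⟩, hxU, -⟩ :=
        (PrespectralSpace.isTopologicalBasis (X := X)).exists_subset_of_mem_open
          (Set.mem_univ x) isOpen_univ
      exact ⟨E ∩ U, Set.inter_subset_left, (key U hUo hUc).2, hx, hxU⟩
    · rw [← @isOpen_compl_iff X _ (constructibleTopology X),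
        @isOpen_iff_forall_mem_open X (constructibleTopology X)]
      intro x hx
      obtain ⟨U, ⟨hUo, hUc⟩, hxU, -⟩ :=
        (PrespectralSpace.isTopologicalBasis (X := X)).exists_subset_of_mem_open
          (Set.mem_univ x) isOpen_univ
      refine ⟨U ∩ (E ∩ U)ᶜ, ?_, ?_, hxU, fun h => hx h.1⟩
      · rintro y ⟨hyU, hyn⟩ hyE
        exact hyn ⟨hyE, hyU⟩
      · refine @IsOpen.inter X (constructibleTopology X) _ _
          (hUc.isOpen_constructibleTopology_of_isOpen hUo) ?_
        rw [@isOpen_compl_iff X _ (constructibleTopology X)]
        exact (key U hUo hUc).1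
  · rintro ⟨hEo, hEc⟩ x
    obtain ⟨U, ⟨hUo, hUc⟩, hxU, -⟩ :=
      (PrespectralSpace.isTopologicalBasis (X := X)).exists_subset_of_mem_open
        (Set.mem_univ x) isOpen_univ
    refine ⟨U, hUo.mem_nhds hxU, hUo, ?_⟩
    have hemb : IsOpenEmbedding (Subtype.val : U → X) := hUo.isOpenEmbedding_subtypeVal
    have h1 : CompactSpace U := isCompact_iff_compactSpace.mp hUc
    have h2 : QuasiSober U := hemb.quasiSober
    have h3 : PrespectralSpace U := hemb.prespectralSpace
    have h4 : QuasiSeparatedSpace U := QuasiSeparatedSpace.of_isOpenEmbedding hemb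
    have hspec : IsSpectralMap (Subtype.val : U → X) := by
      refine ⟨continuous_subtype_val, fun V hV hVc => ?_⟩
      have h5 : IsCompact (U ∩ V) := QuasiSeparatedSpace.inter_isCompact U V hUo hUc hV hVc
      have h6 : (Subtype.val : U → X) ⁻¹' V = (Subtype.val : U → X) ⁻¹' (U ∩ V) := by
        ext x; simp
      rw [h6]
      exact IsInducing.subtypeVal.isCompact_preimage' h5
        (by rw [Subtype.range_coe]; exact Set.inter_subset_left)
    have hcont := spectral_continuous_constr hspec
    apply isConstructible_of_isClopen_constructibleTopology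
    exact ⟨@IsClosed.preimage U X (constructibleTopology U) (constructibleTopology X) _ hcont _ hEc,
      @IsOpen.preimage U X (constructibleTopology U) (constructibleTopology X) _ hcont _ hEo⟩

end Groth.Agent.H38
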