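import Groth.Agent.H38.Constr
import Groth.Agent.H38.Atoms

set_option autoImplicit false

namespace Groth.Agent.H38

open Topology TopologicalSpace Set

universe u
variable {X : Type u} [TopologicalSpace X]

theorem isRetrocompact_biInter_finset {ι : Type} {O : ι → Set X}
    (hO : ∀ i, IsOpen (O i) ∧ IsRetrocompact (O i)) (J : Finset ι) :
    IsOpen (⋂ i ∈ J, O i) ∧ IsRetrocompact (⋂ i ∈ J, O i) := by
  classical
  induction J using Finset.induction_on with
  | empty => simp
  | insert a J _ ih =>
    rw [Finset.set_biInter_insert]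
    exact ⟨(hO a).1.inter ih.1, (hO a).2.inter_isOpen ih.2 ih.1⟩

/-- Open retrocompact subsets of a constructible subspace are constructible in the ambient
prespectral space. -/
theorem isConstructible_image_val_of_isOpen_isRetrocompact [PrespectralSpace X] {E : Set X}
    (hE : IsConstructible E) {O' : Set E} (hO'o : IsOpen O') (hO'r : IsRetrocompact O') :
    IsConstructible ((Subtype.val : E → X) '' O') := by
  classical
  obtain ⟨ι, _, O, hO, hsat⟩ := exists_family_of_isConstructible hE
  obtain ⟨W, hW, rfl⟩ := isOpen_induced_iff.mp hO'o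
  have hEr : IsRetrocompact E := isRetrocompact_of_isConstructible hE
  have himg : (Subtype.val : E → X) '' ((Subtype.val : E → X) ⁻¹' W) = E ∩ W :=
    Subtype.image_preimage_coe E W
  rw [himg]
  -- decompose along atoms contained in `E`
  have hdecomp : E ∩ W = ⋃ J ∈ {J : Finset ι | atom O J ⊆ E}, (atom O J ∩ W) := by
    ext x
    simp only [mem_inter_iff, mem_iUnion, mem_ofPred_eq, exists_prop]
    constructor
    · rintro ⟨hxE, hxW⟩
      have hx : x ∈ ⋃ J, atom O J := by rw [iUnion_atom]; exact mem_univ x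
      obtain ⟨J, hJ⟩ := mem_iUnion.mp hx
      exact ⟨J, atom_subset_of_nonempty_inter hsat ⟨x, hJ, hxE⟩, hJ, hxW⟩
    · rintro ⟨J, hJE, hxJ, hxW⟩
      exact ⟨hJE hxJ, hxW⟩
  rw [hdecomp]
  refine IsConstructible.biUnion (Set.toFinite _) fun J hJ => ?_
  -- the atom `A = U_A \ V_A`
  set UA : Set X := ⋂ i ∈ J, O i with hUA
  set VA : Set X := ⋃ i ∈ (↑J : Set ι)ᶜ, O i with hVA
  have hUAo := (isRetrocompact_biInter_finset hO J).1
  have hUAr := (isRetrocompact_biInter_finset hO J).2
  have hVAo : IsOpen VA := isOpen_biUnion fun i _ => (hO i).1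
  have hVAr : IsRetrocompact VA := IsRetrocompact.biUnion (Set.toFinite _) fun i _ => (hO i).2
  have hA : atom O J = UA \ VA := by
    rw [atom_eq, hUA, hVA, sdiff_eq, compl_iUnion₂]
  set W' : Set X := UA ∩ (W ∪ VA) with hW'
  have hW'o : IsOpen W' := hUAo.inter (hW.union hVAo)
  have hAW : atom O J ∩ W = W' \ VA := by
    rw [hA, hW']
    ext x
    simp only [mem_inter_iff, mem_sdiff, mem_union]
    tauto
  have hW'r : IsRetrocompact W' := by
    intro Q hQc hQo
    have hUQc : IsCompact (UA ∩ Q) := hUAr hQc hQo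
    have hUQo : IsOpen (UA ∩ Q) := hUAo.inter hQo
    have h1 : IsCompact (VA ∩ (UA ∩ Q)) := hVAr hUQc hUQo
    -- the trace of `UA ∩ Q` on `E` is a compact open of `E`
    have hc : IsCompact ((Subtype.val : E → X) ⁻¹' (UA ∩ Q)) := by
      rw [IsEmbedding.subtypeVal.isCompact_iff, Subtype.image_preimage_coe]
      exact hEr hUQc hUQo
    have h2 : IsCompact ((Subtype.val : E → X) ⁻¹' W ∩ (Subtype.val : E → X) ⁻¹' (UA ∩ Q)) :=
      hO'r hc (hUQo.preimage continuous_subtype_val)
    have h3 : IsCompact (E ∩ (W ∩ (UA ∩ Q))) := by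
      have := h2.image continuous_subtype_val
      rwa [← preimage_inter, Subtype.image_preimage_coe] at this
    have h4 : IsCompact ((E ∩ (W ∩ (UA ∩ Q))) ∩ VAᶜ) := h3.inter_right hVAo.isClosed_compl
    have heq : W' ∩ Q = ((E ∩ (W ∩ (UA ∩ Q))) ∩ VAᶜ) ∪ (VA ∩ (UA ∩ Q)) := by
      ext x
      simp only [hW', mem_inter_iff, mem_union, mem_compl_iff]
      constructor
      · rintro ⟨⟨hxU, hxWV⟩, hxQ⟩
        by_cases hxV : x ∈ VA
        · exact Or.inr ⟨hxV, hxU, hxQ⟩
        · rcases hxWV with hxW | hxV'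
          · refine Or.inl ⟨⟨hJ ?_, hxW, hxU, hxQ⟩, hxV⟩
            rw [hA]
            exact ⟨hxU, hxV⟩
          · exact absurd hxV' hxV
      · rintro (⟨⟨-, hxW, hxU, hxQ⟩, -⟩ | ⟨hxV, hxU, hxQ⟩)
        · exact ⟨⟨hxU, Or.inl hxW⟩, hxQ⟩
        · exact ⟨⟨hxU, Or.inr hxV⟩, hxQ⟩
    rw [heq]
    exact h4.union h1
  rw [hAW]
  exact (hW'r.isConstructible hW'o).sdiff (hVAr.isConstructible hVAo)

/-- Stacks 09YH-type statement: a constructible subset of a constructible subspace is
constructible. -/
theorem isConstructible_image_val_of_isConstructible [PrespectralSpace X] {E : Set X}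
    (hE : IsConstructible E) {F : Set E} (hF : IsConstructible F) :
    IsConstructible ((Subtype.val : E → X) '' F) := by
  induction hF using IsConstructible.empty_union_induction with
  | open_retrocompact U hUopen hUcomp =>
    exact isConstructible_image_val_of_isOpen_isRetrocompact hE hUopen hUcomp
  | union s hs t ht hs' ht' => rw [image_union]; exact hs'.union ht'
  | compl s hs hs' =>
    rw [image_compl_eq_range_sdiff_image Subtype.val_injective, Subtype.range_coe]
    exact hE.sdiff hs'

end Groth.Agent.H38
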