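import Mathlib.RingTheory.Ideal.Operations
import Mathlib.RingTheory.Ideal.Quotient.Basic
import Mathlib.Order.Preorder.Finite

set_option autoImplicit false
universe u

namespace Groth.Agent.H38

/-- Prime avoidance for cosets: if an ideal `I` is contained in none of finitely many primes, then
every coset `f₀ + I` contains an element lying in none of them. -/
theorem exists_add_mem_notMem_of_primes {A : Type u} [CommRing A] (I : Ideal A) :
    ∀ (n : ℕ) (s : Finset (Ideal A)), s.card = n → (∀ p ∈ s, p.IsPrime) → (∀ p ∈ s, ¬ I ≤ p) →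
      ∀ f₀ : A, ∃ x ∈ I, ∀ p ∈ s, f₀ + x ∉ p := by
  classical
  intro n
  induction n with
  | zero =>
    intro s hs _ _ f₀
    rw [Finset.card_eq_zero] at hs
    subst hs
    exact ⟨0, I.zero_mem, fun p hp => absurd hp (Finset.notMem_empty p)⟩
  | succ n ih =>
    intro s hs hprime hI f₀
    have hne : s.Nonempty := by
      rw [← Finset.card_pos, hs]; exact Nat.succ_pos n
    obtain ⟨p, hps, hpmin⟩ := s.exists_minimal hne
    have hcard : (s.erase p).card = n := by
      rw [Finset.card_erase_of_mem hps, hs]; rfl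
    obtain ⟨x₁, hx₁I, hx₁⟩ := ih (s.erase p) hcard
      (fun q hq => hprime q (Finset.mem_of_mem_erase hq))
      (fun q hq => hI q (Finset.mem_of_mem_erase hq)) f₀
    by_cases hfp : f₀ + x₁ ∈ p
    · have hpp : p.IsPrime := hprime p hps
      have hJ : ¬ (I ⊓ (s.erase p).inf id ≤ p) := by
        intro hle
        rcases hpp.inf_le.mp hle with h | h
        · exact hI p hps h
        · obtain ⟨q, hq, hqp⟩ := hpp.inf_le'.mp h
          have hqs : q ∈ s := Finset.mem_of_mem_erase hq
          have hpq : p ≤ q := hpmin hqs hqp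
          exact (Finset.ne_of_mem_erase hq) (le_antisymm hqp hpq)
      obtain ⟨y, hyJ, hyp⟩ := SetLike.not_le_iff_exists.mp hJ
      have hyI : y ∈ I := hyJ.1
      have hyq : ∀ q ∈ s.erase p, y ∈ q := fun q hq =>
        (Finset.inf_le (f := id) hq : (s.erase p).inf id ≤ q) hyJ.2
      refine ⟨x₁ + y, I.add_mem hx₁I hyI, fun q hq => ?_⟩
      by_cases hqp : q = p
      · subst hqp
        intro hmem
        rw [← add_assoc] at hmem
        exact hyp ((q.add_mem_iff_right hfp).mp hmem)
      · have hq' : q ∈ s.erase p := Finset.mem_erase.mpr ⟨hqp, hq⟩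
        intro hmem
        rw [← add_assoc] at hmem
        exact hx₁ q hq' ((q.add_mem_iff_left (hyq q hq')).mp hmem)
    · refine ⟨x₁, hx₁I, fun q hq => ?_⟩
      by_cases hqp : q = p
      · subst hqp; exact hfp
      · exact hx₁ q (Finset.mem_erase.mpr ⟨hqp, hq⟩)

end Groth.Agent.H38
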