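import Mathlib
import Groth.Agent.H38.BranchSum

set_option autoImplicit false

namespace Groth.Agent.H38

open scoped Classical in
theorem enat_tsum_eq_iSup {α : Type*} (f : α → ℕ∞) :
    ∑' a, f a = ⨆ s : Finset α, ∑ a ∈ s, f a :=
  (hasSum_of_isLUB _ (isLUB_iSup (f := fun s : Finset α => ∑ a ∈ s, f a))).tsum_eq

theorem enat_card_sigma_finset {α : Type*} (β : α → Type*) (s : Finset α) :
    ENat.card (Σ a : {a // a ∈ s}, β a.1) = ∑ a ∈ s, ENat.card (β a) := by
  rw [enat_card_sigma]
  exact Finset.sum_coe_sort s (fun a => ENat.card (β a))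

/-- The cardinality of a sigma type as an infinite sum in `ℕ∞`. -/
theorem enat_card_sigma_tsum {α : Type*} (β : α → Type*) :
    ENat.card (Σ a, β a) = ∑' a, ENat.card (β a) := by
  classical
  rw [enat_tsum_eq_iSup]
  -- the canonical injection
  have hinj : ∀ s : Finset α, Function.Injective
      (fun x : (Σ a : {a // a ∈ s}, β a.1) => (⟨x.1.1, x.2⟩ : Σ a, β a)) := by
    intro s
    rintro ⟨⟨a, ha⟩, b⟩ ⟨⟨a', ha'⟩, b'⟩ h
    simp only [Sigma.mk.injEq] at h
    obtain ⟨h1, h2⟩ := h
    subst h1
    simp only [heq_eq_eq] at h2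
    subst h2
    rfl
  apply le_antisymm
  · by_cases htop : (⨆ s : Finset α, ∑ a ∈ s, ENat.card (β a)) = ⊤
    · rw [htop]; exact le_top
    · -- the set of indices with nonempty fibre is finite
      have hS : {a : α | Nonempty (β a)}.Finite := by
        by_contra hinf
        apply htop
        rw [ENat.eq_top_iff_forall_ge]
        intro n
        obtain ⟨t, htS, htn⟩ := (Set.not_finite.mp hinf : Set.Infinite _).exists_subset_card_eq n
        refine le_trans ?_ (le_iSup (fun s : Finset α => ∑ a ∈ s, ENat.card (β a)) t)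
        calc (n : ℕ∞) = ∑ a ∈ t, (1 : ℕ∞) := by simp [htn]
          _ ≤ ∑ a ∈ t, ENat.card (β a) := by
            apply Finset.sum_le_sum
            intro a ha
            have : Nonempty (β a) := htS ha
            exact ENat.one_le_card_iff_nonempty _ |>.mpr this
      set s := hS.toFinset with hs
      have hsurj : Function.Surjective
          (fun x : (Σ a : {a // a ∈ s}, β a.1) => (⟨x.1.1, x.2⟩ : Σ a, β a)) := by
        rintro ⟨a, b⟩
        have ha : a ∈ s := by
          rw [hs, Set.Finite.mem_toFinset]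
          exact ⟨b⟩
        exact ⟨⟨⟨a, ha⟩, b⟩, rfl⟩
      have heq : ENat.card (Σ a, β a) = ENat.card (Σ a : {a // a ∈ s}, β a.1) :=
        (ENat.card_congr (Equiv.ofBijective _ ⟨hinj s, hsurj⟩)).symm
      rw [heq, enat_card_sigma_finset]
      exact le_iSup (fun s : Finset α => ∑ a ∈ s, ENat.card (β a)) s
  · apply iSup_le
    intro s
    rw [← enat_card_sigma_finset]
    exact ENat.card_le_card_of_injective (hinj s)

end Groth.Agent.H38
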