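import Mathlib
import Groth.Prelude.Def_CurvBase
import Groth.Agent.Lead.Coh.FiniteLES
import Groth.Agent.H85.EulerLES
import Groth.Agent.S0016

/-!
helper38: additivity of the Euler characteristic `Curv2.euler` on short exact sequences of
`O_X`-modules, given finite-dimensionality of all cohomology groups and vanishing in large degrees.
-/

set_option autoImplicit false
universe u
open CategoryTheory CategoryTheory.Limits AlgebraicGeometry

namespace Groth.Agent.H38.EulerAdd

open Groth.Agent.Lead.FiniteLES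

variable (k : Type u) [Field k] (X : Scheme.{u}) [X.Over (Spec (CommRingCat.of k))]

/-- the Euler characteristic as a finite sum, given vanishing in degrees `> d` -/
theorem euler_eq_sum (M : X.Modules) (d : ℕ)
    (hv : ∀ n, d < n → Subsingleton (Coh.HH X M n)) :
    Curv2.euler k X M =
      ∑ i ∈ Finset.range (d + 1), (-1 : ℤ) ^ i * (Module.finrank k (Coh.HH X M i) : ℤ) := by
  unfold Curv2.euler
  refine finsum_eq_sum_of_support_subset _ (fun i hi => ?_)
  rw [Finset.coe_range, Set.mem_Iio]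
  by_contra hlt
  have hlt' : d < i := by omega
  have := hv i hlt'
  apply hi
  show (-1 : ℤ) ^ i * (Module.finrank k (Coh.HH X M i) : ℤ) = 0
  rw [Module.finrank_zero_of_subsingleton]
  simp

theorem len_eq_finrank (V : Type u) [AddCommGroup V] [Module k V] [Module.Finite k V] :
    Groth.Agent.H85.EulerLES.len (S := k) V = (Module.finrank k V : ℤ) := by
  unfold Groth.Agent.H85.EulerLES.len
  rw [Module.length_eq_finrank]
  rfl

/-- additivity of the Euler characteristic, conditionally on finiteness and vanishing -/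
theorem euler_additive_of_finite (E : ShortComplex X.Modules) (hE : E.ShortExact)
    (h₁ : ∀ n, Module.Finite k (Coh.HH X E.X₁ n)) (h₂ : ∀ n, Module.Finite k (Coh.HH X E.X₂ n))
    (h₃ : ∀ n, Module.Finite k (Coh.HH X E.X₃ n)) (d : ℕ)
    (v₁ : ∀ n, d < n → Subsingleton (Coh.HH X E.X₁ n))
    (v₂ : ∀ n, d < n → Subsingleton (Coh.HH X E.X₂ n))
    (v₃ : ∀ n, d < n → Subsingleton (Coh.HH X E.X₃ n)) :
    Curv2.euler k X E.X₂ = Curv2.euler k X E.X₁ + Curv2.euler k X E.X₃ := by
  rw [euler_eq_sum k X E.X₁ d v₁, euler_eq_sum k X E.X₂ d v₂, euler_eq_sum k X E.X₃ d v₃]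
  have hfl : ∀ (V : Type u) [AddCommGroup V] [Module k V] [Module.Finite k V],
      Module.length k V ≠ ⊤ := by
    intro V _ _ _
    rw [Module.length_eq_finrank]
    exact ENat.natCast_ne_top _
  have key := Groth.Agent.H85.EulerLES.euler (S := k)
    (fun i => Coh.HH X E.X₁ i) (fun i => Coh.HH X E.X₂ i) (fun i => Coh.HH X E.X₃ i)
    (fun i => toA k (HHmap E.f i)) (fun i => toA k (HHmap E.g i)) (fun i => toA k (HHδ E hE i))
    (HHmap_f_zero_injective E hE)
    (fun i => (LinearMap.exact_iff).mpr (by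
      ext x; rw [ker_toA, range_toA, ker_HHmap_g E hE i]))
    (fun i => (LinearMap.exact_iff).mpr (by
      ext x; rw [ker_toA, range_toA, ker_HHδ E hE i]))
    (fun i => (LinearMap.exact_iff).mpr (by
      ext x; rw [ker_toA, range_toA, ker_HHmap_f_succ E hE i]))
    (fun i => hfl _) (fun i => hfl _) (fun i => hfl _) d (v₁ (d + 1) (Nat.lt_succ_self d))
  simp only [len_eq_finrank] at key
  have : ∑ i ∈ Finset.range (d + 1), (-1 : ℤ) ^ i * (Module.finrank k (Coh.HH X E.X₂ i) : ℤ) =
      ∑ i ∈ Finset.range (d + 1), (-1 : ℤ) ^ i * (Module.finrank k (Coh.HH X E.X₁ i) : ℤ) +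
      ∑ i ∈ Finset.range (d + 1), (-1 : ℤ) ^ i * (Module.finrank k (Coh.HH X E.X₃ i) : ℤ) := by
    rw [← Finset.sum_add_distrib]
    have h0 : ∑ i ∈ Finset.range (d + 1), ((-1 : ℤ) ^ i * (Module.finrank k (Coh.HH X E.X₁ i) : ℤ) +
        (-1 : ℤ) ^ i * (Module.finrank k (Coh.HH X E.X₃ i) : ℤ) -
        (-1 : ℤ) ^ i * (Module.finrank k (Coh.HH X E.X₂ i) : ℤ)) = 0 := by
      rw [← key]
      refine Finset.sum_congr rfl (fun i _ => ?_)
      ring
    rw [Finset.sum_sub_distrib] at h0
    linarith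
  exact this

/-- additivity of the Euler characteristic for quasi-coherent modules on a qcqs scheme, given
finiteness -/
theorem euler_additive_of_finite_qcqs [CompactSpace X] [QuasiSeparatedSpace X]
    (E : ShortComplex X.Modules) (hE : E.ShortExact)
    (q₁ : E.X₁.IsQuasicoherent) (q₂ : E.X₂.IsQuasicoherent) (q₃ : E.X₃.IsQuasicoherent)
    (h₁ : ∀ n, Module.Finite k (Coh.HH X E.X₁ n)) (h₂ : ∀ n, Module.Finite k (Coh.HH X E.X₂ n))
    (h₃ : ∀ n, Module.Finite k (Coh.HH X E.X₃ n)) :
    Curv2.euler k X E.X₂ = Curv2.euler k X E.X₁ + Curv2.euler k X E.X₃ := by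
  obtain ⟨d, hd⟩ := Groth.Agent.S0016.result X
  exact euler_additive_of_finite k X E hE h₁ h₂ h₃ d
    (fun n hn => hd _ q₁ n hn.le) (fun n hn => hd _ q₂ n hn.le) (fun n hn => hd _ q₃ n hn.le)

end Groth.Agent.H38.EulerAdd
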