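import Mathlib

/-!
# The fibre of a base change `X_U ⟶ U` over a point `u` above `s` is the base change of the fibre
of `f` over `s` to `κ(u)`
-/

set_option autoImplicit false
universe u

open CategoryTheory CategoryTheory.Limits AlgebraicGeometry

namespace Groth.Agent.H38.FibreEtale

variable {X S U : Scheme.{u}} (f : X ⟶ S) (g : U ⟶ S) (u : U) (s : S) (hu : g u = s)

lemma fromSpecResidueField_comp :
    U.fromSpecResidueField u ≫ g =
      Spec.map ((S.residueFieldCongr hu).inv ≫ g.residueFieldMap u) ≫
        S.fromSpecResidueField s := by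
  rw [Spec.map_comp, Category.assoc, ← Scheme.Hom.SpecMap_residueFieldMap_fromSpecResidueField]
  congr 1
  rw [← Scheme.residueFieldCongr_fromSpecResidueField hu, ← Category.assoc, ← Spec.map_comp,
    Iso.hom_inv_id, Spec.map_id, Category.id_comp]

/-- The fibre of `X_U ⟶ U` over `u`, as a base change of the fibre of `f` over `s = g u`. -/
noncomputable def fibreBCIso :
    (pullback.snd f g).fiber u ≅
      pullback (f.fiberToSpecResidueField s)
        (Spec.map ((S.residueFieldCongr hu).inv ≫ g.residueFieldMap u)) :=
  pullbackLeftPullbackSndIso f g (U.fromSpecResidueField u) ≪≫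
    pullback.congrHom rfl (fromSpecResidueField_comp g u s hu) ≪≫
    (pullbackLeftPullbackSndIso f (S.fromSpecResidueField s)
      (Spec.map ((S.residueFieldCongr hu).inv ≫ g.residueFieldMap u))).symm

end Groth.Agent.H38.FibreEtale
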