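import Mathlib
import Groth.Agent.H20.EtaleNormal

/-!
# Descent of properties of local rings along flat morphisms of schemes
-/

set_option autoImplicit false
universe u

open CategoryTheory AlgebraicGeometry

namespace Groth.Agent.H38.FlatDescentStalk

variable {X Y : Scheme.{u}} (f : X ⟶ Y)

/-- The stalk map of a flat morphism is faithfully flat. -/
theorem faithfullyFlat_stalkMap [Flat f] (x : X) :
    letI := (f.stalkMap x).hom.toAlgebra
    Module.FaithfullyFlat (Y.presheaf.stalk (f x)) (X.presheaf.stalk x) := by
  algebraize [(f.stalkMap x).hom]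
  have hloc : IsLocalHom (algebraMap (Y.presheaf.stalk (f x)) (X.presheaf.stalk x)) :=
    inferInstanceAs <| IsLocalHom (f.stalkMap x).hom
  have hflat : Module.Flat (Y.presheaf.stalk (f x)) (X.presheaf.stalk x) := by
    have := Flat.stalkMap f x
    rwa [RingHom.flat_algebraMap_iff.symm, RingHom.algebraMap_toAlgebra]
  exact Module.FaithfullyFlat.of_flat_of_isLocalHom

/-- Normality of local rings descends along flat morphisms. -/
theorem normal_stalk_of_flat [Flat f] (x : X)
    (h : IsDomain (X.presheaf.stalk x) ∧ IsIntegrallyClosed (X.presheaf.stalk x)) :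
    IsDomain (Y.presheaf.stalk (f x)) ∧ IsIntegrallyClosed (Y.presheaf.stalk (f x)) := by
  letI := (f.stalkMap x).hom.toAlgebra
  haveI := faithfullyFlat_stalkMap f x
  obtain ⟨h1, h2⟩ := h
  exact Groth.Agent.H20.isDomain_and_isIntegrallyClosed_of_faithfullyFlat
    (A := Y.presheaf.stalk (f x)) (B := X.presheaf.stalk x)

/-- Reducedness of local rings descends along flat morphisms. -/
theorem reduced_stalk_of_flat [Flat f] (x : X) (h : IsReduced (X.presheaf.stalk x)) :
    IsReduced (Y.presheaf.stalk (f x)) := by
  letI := (f.stalkMap x).hom.toAlgebra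
  haveI := faithfullyFlat_stalkMap f x
  exact isReduced_of_injective (algebraMap (Y.presheaf.stalk (f x)) (X.presheaf.stalk x))
    (FaithfulSMul.algebraMap_injective _ _)

end Groth.Agent.H38.FlatDescentStalk
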