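import Mathlib.RingTheory.Length
import Mathlib.RingTheory.SimpleModule.Basic
import Mathlib.RingTheory.Ideal.Over
import Mathlib.LinearAlgebra.FreeModule.Finite.Matrix
import Mathlib.RingTheory.Ideal.Quotient.Operations
import Mathlib.Algebra.Exact.Basic

set_option autoImplicit false
universe u

namespace Groth.Agent.H38

variable {A : Type u} [CommRing A] (m : Ideal A) [hm : m.IsMaximal]
  (B : Type u) [CommRing B] [Algebra A B]

/-- The length of `B/mB` is at most one more than the length of `B/A`. -/
theorem length_quotient_map_le :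
    Module.length A (B ⧸ m.map (algebraMap A B)) ≤
      Module.length A (B ⧸ LinearMap.range (Algebra.linearMap A B)) + 1 := by
  let C := B ⧸ m.map (algebraMap A B)
  let π : B →ₗ[A] C := Submodule.mkQ ((m.map (algebraMap A B)).restrictScalars A)
  let ℓ : A →ₗ[A] C := π.comp (Algebra.linearMap A B)
  let N' : Submodule A C := LinearMap.range ℓ
  have h1 : Module.length A C = Module.length A N' + Module.length A (C ⧸ N') :=
    Module.length_eq_add_of_exact N'.subtype N'.mkQ N'.injective_subtype
      N'.mkQ_surjective (LinearMap.exact_subtype_mkQ N')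
  have h2 : Module.length A N' ≤ 1 := by
    have hker : (m.restrictScalars A : Submodule A A) ≤ LinearMap.ker ℓ.rangeRestrict := by
      intro a ha
      rw [LinearMap.mem_ker]
      apply Subtype.ext
      change π (algebraMap A B a) = 0
      change Submodule.Quotient.mk (algebraMap A B a) = 0
      rw [Submodule.Quotient.mk_eq_zero]
      exact Ideal.mem_map_of_mem _ ha
    have hsimple : IsSimpleModule A (A ⧸ m) :=
      isSimpleModule_iff_quot_maximal.mpr ⟨m, hm, ⟨LinearEquiv.refl _ _⟩⟩
    have hlen : Module.length A (A ⧸ m) = 1 := Module.length_eq_one _ _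
    rw [← hlen]
    refine Module.length_le_of_surjective (Submodule.liftQ _ ℓ.rangeRestrict hker) ?_
    intro y
    obtain ⟨a, ha⟩ := ℓ.surjective_rangeRestrict y
    exact ⟨Submodule.Quotient.mk a, ha⟩
  have h3 : Module.length A (C ⧸ N') ≤
      Module.length A (B ⧸ LinearMap.range (Algebra.linearMap A B)) := by
    have hle : LinearMap.range (Algebra.linearMap A B) ≤ LinearMap.ker (N'.mkQ.comp π) := by
      rintro _ ⟨a, rfl⟩
      rw [LinearMap.mem_ker, LinearMap.comp_apply, Submodule.mkQ_apply,
        Submodule.Quotient.mk_eq_zero]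
      exact ⟨a, rfl⟩
    refine Module.length_le_of_surjective (Submodule.liftQ _ (N'.mkQ.comp π) hle) ?_
    intro y
    obtain ⟨c, rfl⟩ := N'.mkQ_surjective y
    obtain ⟨b, rfl⟩ := Submodule.mkQ_surjective _ c
    exact ⟨Submodule.Quotient.mk b, rfl⟩
  calc Module.length A C = Module.length A N' + Module.length A (C ⧸ N') := h1
    _ ≤ 1 + Module.length A (B ⧸ LinearMap.range (Algebra.linearMap A B)) :=
        add_le_add h2 h3
    _ = _ := add_comm _ _

end Groth.Agent.H38

namespace Groth.Agent.H38

variable {A : Type u} [CommRing A] (m : Ideal A) [hm : m.IsMaximal]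
  (B : Type u) [CommRing B] [Algebra A B]

/-- The number of ring homomorphisms from a finite `A`-algebra `B` to a field, extending a given
homomorphism on `A` that kills the maximal ideal `m`, is at most the length of `B/mB`. -/
theorem card_liftHom_le [Module.Finite A B] {Ω : Type u} [Field Ω] (φ : A →+* Ω)
    (hφ : m ≤ RingHom.ker φ) :
    ENat.card {τ : B →+* Ω // τ.comp (algebraMap A B) = φ} ≤
      Module.length A (B ⧸ m.map (algebraMap A B)) := by
  let _ : Field (A ⧸ m) := Ideal.Quotient.field m
  let _ : Algebra (A ⧸ m) Ω := (Ideal.Quotient.lift m φ (fun a ha => hφ ha)).toAlgebra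
  have hfinA : Module.Finite A (B ⧸ m.map (algebraMap A B)) :=
    Module.Finite.of_surjective
      (Submodule.mkQ ((m.map (algebraMap A B)).restrictScalars A))
      (Submodule.mkQ_surjective _)
  have hfin : Module.Finite (A ⧸ m) (B ⧸ m.map (algebraMap A B)) :=
    Module.Finite.of_restrictScalars_finite A (A ⧸ m) (B ⧸ m.map (algebraMap A B))
  have hlen : Module.length A (B ⧸ m.map (algebraMap A B)) =
      Module.finrank (A ⧸ m) (B ⧸ m.map (algebraMap A B)) := by
    rw [Module.length_eq_of_surjective (S := A) (R := A ⧸ m)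
      (M := B ⧸ m.map (algebraMap A B)) Ideal.Quotient.mk_surjective,
      Module.length_eq_finrank]
  have hkill : ∀ τ : {τ : B →+* Ω // τ.comp (algebraMap A B) = φ},
      ∀ b ∈ m.map (algebraMap A B), τ.1 b = 0 := by
    intro τ
    have : m.map (algebraMap A B) ≤ RingHom.ker τ.1 := by
      rw [Ideal.map_le_iff_le_comap]
      intro a ha
      rw [Ideal.mem_comap, RingHom.mem_ker]
      have h1 : τ.1 (algebraMap A B a) = φ a := RingHom.congr_fun τ.2 a
      rw [h1]
      exact hφ ha
    exact fun b hb => this hb
  let Φ : {τ : B →+* Ω // τ.comp (algebraMap A B) = φ} →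
      ((B ⧸ m.map (algebraMap A B)) →ₐ[A ⧸ m] Ω) := fun τ =>
    { toRingHom := Ideal.Quotient.lift (m.map (algebraMap A B)) τ.1 (hkill τ)
      commutes' := by
        intro r
        obtain ⟨a, rfl⟩ := Ideal.Quotient.mk_surjective r
        change Ideal.Quotient.lift (m.map (algebraMap A B)) τ.1 (hkill τ)
          (Ideal.Quotient.mk _ (algebraMap A B a)) = Ideal.Quotient.lift m φ _ (Ideal.Quotient.mk _ a)
        rw [Ideal.Quotient.lift_mk, Ideal.Quotient.lift_mk]
        exact RingHom.congr_fun τ.2 a }
  have hΦ : Function.Injective Φ := by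
    intro τ τ' h
    apply Subtype.ext
    ext b
    have := congrArg (fun f => f (Ideal.Quotient.mk _ b)) h
    exact this
  calc ENat.card {τ : B →+* Ω // τ.comp (algebraMap A B) = φ}
      ≤ ENat.card ((B ⧸ m.map (algebraMap A B)) →ₐ[A ⧸ m] Ω) :=
        ENat.card_le_card_of_injective hΦ
    _ = (Nat.card ((B ⧸ m.map (algebraMap A B)) →ₐ[A ⧸ m] Ω) : ℕ∞) :=
        ENat.card_eq_coe_natCard _
    _ ≤ (Module.finrank (A ⧸ m) (B ⧸ m.map (algebraMap A B)) : ℕ∞) :=
        Nat.cast_le.mpr (card_algHom_le_finrank _ _ _)
    _ = _ := hlen.symm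

end Groth.Agent.H38
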