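import Mathlib
import Groth.Agent.H24.FlatMono

/-!
# Local rings of a fibre product as localizations of a tensor product

Given flat monomorphisms `a : Spec A ⟶ X` and `b : Spec B ⟶ Y` over `Spec k`, the induced morphism
`Spec (A ⊗[k] B) ⟶ X ×_k Y` is a flat monomorphism, so it induces isomorphisms on local rings.
-/

set_option autoImplicit false
universe u

open CategoryTheory CategoryTheory.Limits AlgebraicGeometry TensorProduct

namespace Groth.Agent.H38.StalkTensor

variable {k : Type u} [CommRing k] {X Y : Scheme.{u}} (f : X ⟶ Spec (CommRingCat.of k))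
  (g : Y ⟶ Spec (CommRingCat.of k)) (A B : Type u) [CommRing A] [CommRing B] [Algebra k A]
  [Algebra k B] (a : Spec (CommRingCat.of A) ⟶ X) (b : Spec (CommRingCat.of B) ⟶ Y)
  (ha : Spec.map (CommRingCat.ofHom (algebraMap k A)) = a ≫ f)
  (hb : Spec.map (CommRingCat.ofHom (algebraMap k B)) = b ≫ g)

/-- The morphism `Spec (A ⊗[k] B) ⟶ X ×_k Y`. -/
noncomputable def tensorHom : Spec (CommRingCat.of (A ⊗[k] B)) ⟶ pullback f g :=
  (pullbackSpecIso k A B).inv ≫
    pullback.map (Spec.map (CommRingCat.ofHom (algebraMap k A)))
      (Spec.map (CommRingCat.ofHom (algebraMap k B))) f g a b (𝟙 _)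
      ((Category.comp_id _).trans ha) ((Category.comp_id _).trans hb)

lemma tensorHom_fst : tensorHom f g A B a b ha hb ≫ pullback.fst f g =
    Spec.map (CommRingCat.ofHom (Algebra.TensorProduct.includeLeftRingHom : A →+* A ⊗[k] B)) ≫
      a := by
  unfold tensorHom
  rw [Category.assoc, pullback.lift_fst, pullbackSpecIso_inv_fst_assoc]

lemma tensorHom_snd : tensorHom f g A B a b ha hb ≫ pullback.snd f g =
    Spec.map (CommRingCat.ofHom (Algebra.TensorProduct.includeRight :
      B →ₐ[k] A ⊗[k] B).toRingHom) ≫ b := by
  unfold tensorHom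
  rw [Category.assoc, pullback.lift_snd, pullbackSpecIso_inv_snd_assoc]
  rfl

instance flat_tensorHom [Flat a] [Flat b] : Flat (tensorHom f g A B a b ha hb) := by
  unfold tensorHom
  haveI : Flat (pullback.map (Spec.map (CommRingCat.ofHom (algebraMap k A)))
      (Spec.map (CommRingCat.ofHom (algebraMap k B))) f g a b (𝟙 _)
      ((Category.comp_id _).trans ha) ((Category.comp_id _).trans hb)) :=
    MorphismProperty.pullbackMap (P := @Flat) inferInstance inferInstance ha hb
  infer_instance

instance mono_tensorHom [Mono a] [Mono b] : Mono (tensorHom f g A B a b ha hb) := by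
  unfold tensorHom
  haveI : Mono (pullback.map (Spec.map (CommRingCat.ofHom (algebraMap k A)))
      (Spec.map (CommRingCat.ofHom (algebraMap k B))) f g a b (𝟙 _)
      ((Category.comp_id _).trans ha) ((Category.comp_id _).trans hb)) :=
    MorphismProperty.pullbackMap (P := MorphismProperty.monomorphisms Scheme.{u})
      (show Mono a from inferInstance) (show Mono b from inferInstance) ha hb
  infer_instance

lemma range_tensorHom : Set.range (tensorHom f g A B a b ha hb) =
    pullback.fst f g ⁻¹' Set.range a ∩ pullback.snd f g ⁻¹' Set.range b := by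
  unfold tensorHom
  have hs : Set.range ⇑(pullbackSpecIso k A B).inv = Set.univ :=
    Set.range_eq_univ.mpr (pullbackSpecIso k A B).inv.homeomorph.surjective
  rw [Scheme.Hom.comp_base, TopCat.coe_comp, Set.range_comp, hs, Set.image_univ,
    Scheme.Pullback.range_map]

/-- The local ring of `X ×_k Y` at the image of a prime `p` of `A ⊗[k] B` is the localization of
`A ⊗[k] B` at `p`. -/
noncomputable def stalkEquiv [Flat a] [Mono a] [Flat b] [Mono b]
    (p : ↥(Spec (CommRingCat.of (A ⊗[k] B)))) :
    (pullback f g).presheaf.stalk (tensorHom f g A B a b ha hb p) ≃+*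
      Localization.AtPrime p.asIdeal :=
  haveI := Groth.Agent.H24.isIso_stalkMap_of_flat_of_mono (tensorHom f g A B a b ha hb) p
  (asIso ((tensorHom f g A B a b ha hb).stalkMap p)).commRingCatIsoToRingEquiv.trans
    (StructureSheaf.stalkIso (A ⊗[k] B) p).symm.toRingEquiv

end Groth.Agent.H38.StalkTensor
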