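import Mathlib
import Groth.Prelude.Def_Curv2
import Groth.Agent.H38.StalkTensor
import Groth.Agent.H51.FlatValLift

/-!
# Local rings of `X_K` and of `X ×_k Y` through tensor products of local rings
-/

set_option autoImplicit false
universe u

open CategoryTheory CategoryTheory.Limits AlgebraicGeometry TensorProduct

attribute [local instance] Curv2.stalkAlgebra

namespace Groth.Agent.H38.StalkBC

open Groth.Agent.H38.StalkTensor

variable (k : Type u) [Field k] (X : Scheme.{u}) [X.Over (Spec (CommRingCat.of k))]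

lemma fromSpecStalk_over (x : X) :
    Spec.map (CommRingCat.ofHom (algebraMap k (X.presheaf.stalk x))) =
      X.fromSpecStalk x ≫ (X ↘ Spec (CommRingCat.of k)) := by
  rw [← Scheme.SpecMap_stalkMap_fromSpecStalk, Spec.fromSpecStalk_eq, ← Spec.map_comp]
  congr 1
  rw [Category.assoc, Scheme.Hom.germ_stalkMap]
  rfl

instance (x : X) : Flat (X.fromSpecStalk x) := Groth.Agent.H51.flat_fromSpecStalk X x

section bc

variable (K : Type u) [Field K] [Algebra k K] (x : X)

/-- `Spec (O_{X,x} ⊗[k] K) ⟶ X_K`. -/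
noncomputable def bcHom : Spec (CommRingCat.of (X.presheaf.stalk x ⊗[k] K)) ⟶ Curv2.bc k X K :=
  tensorHom (X ↘ Spec (CommRingCat.of k)) (Spec.map (CommRingCat.ofHom (algebraMap k K)))
    (X.presheaf.stalk x) K (X.fromSpecStalk x) (𝟙 _) (fromSpecStalk_over k X x)
    (Category.id_comp _).symm

lemma bcHom_fst : bcHom k X K x ≫ Curv2.bcFst k X K =
    Spec.map (CommRingCat.ofHom (Algebra.TensorProduct.includeLeftRingHom :
      X.presheaf.stalk x →+* X.presheaf.stalk x ⊗[k] K)) ≫ X.fromSpecStalk x :=
  tensorHom_fst _ _ _ _ _ _ _ _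

lemma range_bcHom : Set.range (bcHom k X K x) =
    Curv2.bcFst k X K ⁻¹' Set.range (X.fromSpecStalk x) := by
  unfold bcHom
  rw [range_tensorHom]
  simp

/-- Every point of `X_K` over `x` comes from a prime of `O_{X,x} ⊗[k] K`. -/
lemma exists_bcHom_eq (x' : ↥(Curv2.bc k X K)) (hx' : Curv2.bcFst k X K x' = x) :
    ∃ p, bcHom k X K x p = x' := by
  have : x' ∈ Set.range (bcHom k X K x) := by
    rw [range_bcHom, Set.mem_preimage, hx', Scheme.range_fromSpecStalk]
    exact specializes_rfl
  exact this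

/-- The local ring of `X_K` at the image of `p` is the localization of `O_{X,x} ⊗[k] K` at `p`. -/
noncomputable def bcStalkEquiv (p : ↥(Spec (CommRingCat.of (X.presheaf.stalk x ⊗[k] K)))) :
    (Curv2.bc k X K).presheaf.stalk (bcHom k X K x p) ≃+* Localization.AtPrime p.asIdeal :=
  stalkEquiv _ _ _ _ _ _ _ _ p

end bc

end Groth.Agent.H38.StalkBC
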