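import Mathlib
import Groth.Prelude.Def_Curv2
import Groth.Prelude.Def_EGA4b
import Groth.Agent.H38.StalkBC
import Groth.Agent.H48.GeomNormal
import Groth.Agent.H47.SmoothNormal

/-!
# Geometric normality at a point through `K ⊗[k] O_{X,x}`
-/

set_option autoImplicit false
universe u

open CategoryTheory CategoryTheory.Limits AlgebraicGeometry TensorProduct

attribute [local instance] Curv2.stalkAlgebra

namespace Groth.Agent.H38.GeomNormalAt

open Groth.Agent.H38.StalkBC EGA4

variable (k : Type u) [Field k] (X : Scheme.{u}) [X.Over (Spec (CommRingCat.of k))]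
  (K : Type u) [Field K] [Algebra k K] (x : X)

/-- If `O_{X,x} ⊗[k] K` is a normal ring then all local rings of `X_K` at points over `x` are
normal domains. -/
theorem normal_stalk_of_isNormalRing (h : IsNormalRing (X.presheaf.stalk x ⊗[k] K))
    (x' : ↥(Curv2.bc k X K)) (hx' : Curv2.bcFst k X K x' = x) :
    IsDomain ↥((Curv2.bc k X K).presheaf.stalk x') ∧
      IsIntegrallyClosed ↥((Curv2.bc k X K).presheaf.stalk x') := by
  obtain ⟨p, rfl⟩ := exists_bcHom_eq k X K x x' hx'
  obtain ⟨h1, h2⟩ := h p.asIdeal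
  let e := bcStalkEquiv k X K x p
  exact ⟨e.toMulEquiv.isDomain_iff.mpr h1, IsIntegrallyClosed.of_equiv e.symm⟩

/-- The image of a maximal ideal of `O_{X,x} ⊗[k] K` (for `K/k` algebraic) in `X_K` lies over
`x`. -/
lemma bcFst_bcHom_of_isMaximal [Algebra.IsAlgebraic k K]
    (p : ↥(Spec (CommRingCat.of (X.presheaf.stalk x ⊗[k] K)))) (hp : p.asIdeal.IsMaximal) :
    Curv2.bcFst k X K (bcHom k X K x p) = x := by
  rw [← Scheme.Hom.comp_apply, bcHom_fst, Scheme.Hom.comp_apply]
  have hint : (Algebra.TensorProduct.includeLeftRingHom :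
      X.presheaf.stalk x →+* X.presheaf.stalk x ⊗[k] K).IsIntegral := by
    have : Algebra.IsIntegral (X.presheaf.stalk x) (X.presheaf.stalk x ⊗[k] K) :=
      inferInstance
    exact this.isIntegral
  have hmax : (p.asIdeal.comap (Algebra.TensorProduct.includeLeftRingHom :
      X.presheaf.stalk x →+* X.presheaf.stalk x ⊗[k] K)).IsMaximal :=
    Ideal.isMaximal_comap_of_isIntegral_of_isMaximal' _ hint p.asIdeal
  have hcl : Spec.map (CommRingCat.ofHom (Algebra.TensorProduct.includeLeftRingHom :
      X.presheaf.stalk x →+* X.presheaf.stalk x ⊗[k] K)) p =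
        IsLocalRing.closedPoint (X.presheaf.stalk x) := by
    apply PrimeSpectrum.ext
    exact IsLocalRing.eq_maximalIdeal hmax
  rw [hcl, Scheme.fromSpecStalk_closedPoint]

/-- For `K/k` algebraic: if all local rings of `X_K` at points over `x` are normal domains then
`O_{X,x} ⊗[k] K` is a normal ring. -/
theorem isNormalRing_of_normal_stalk [Algebra.IsAlgebraic k K]
    (h : ∀ x' : ↥(Curv2.bc k X K), Curv2.bcFst k X K x' = x →
      IsDomain ↥((Curv2.bc k X K).presheaf.stalk x') ∧
        IsIntegrallyClosed ↥((Curv2.bc k X K).presheaf.stalk x')) :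
    IsNormalRing (X.presheaf.stalk x ⊗[k] K) := by
  intro q hq
  obtain ⟨m, hm, hqm⟩ := Ideal.exists_le_maximal q hq.ne_top
  let p : ↥(Spec (CommRingCat.of (X.presheaf.stalk x ⊗[k] K))) := ⟨m, hm.isPrime⟩
  obtain ⟨h1, h2⟩ := h (bcHom k X K x p) (bcFst_bcHom_of_isMaximal k X K x p hm)
  let e := bcStalkEquiv k X K x p
  haveI : IsDomain (Localization.AtPrime p.asIdeal) := e.toMulEquiv.isDomain_iff.mp h1
  haveI : IsIntegrallyClosed (Localization.AtPrime p.asIdeal) := IsIntegrallyClosed.of_equiv e
  have hS : IsNormalRing (Localization.AtPrime p.asIdeal) :=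
    Groth.Agent.H47.SN.isNormalRing_of_isIntegrallyClosed _
  refine Groth.Agent.H47.SN.normalAt_of_isLocalization p.asIdeal.primeCompl hS q ?_
  rw [Set.disjoint_left]
  intro a ha haq
  exact ha (hqm haq)

end Groth.Agent.H38.GeomNormalAt
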