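import Mathlib

/-!
# From a geometrically reduced morphism `Spec K ⟶ Spec k` to `Algebra.IsGeometricallyReduced k K`
-/

set_option autoImplicit false
universe u

open CategoryTheory CategoryTheory.Limits AlgebraicGeometry TensorProduct

namespace Groth.Agent.H38.GeomRedField

theorem isGeometricallyReduced_of_specMap (k K : Type u) [Field k] [Field K] [Algebra k K]
    [h : GeometricallyReduced (Spec.map (CommRingCat.ofHom (algebraMap k K)))] :
    Algebra.IsGeometricallyReduced k K := by
  rw [Algebra.isGeometricallyReduced_field_iff]
  have h0 : IsReduced (pullback (Spec.map (CommRingCat.ofHom (algebraMap k K)))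
      (Spec.map (CommRingCat.ofHom (algebraMap k (AlgebraicClosure k))))) :=
    pullback_of_geometrically h.1 (AlgebraicClosure k) _
  have h1 : IsReduced (Spec (CommRingCat.of (K ⊗[k] AlgebraicClosure k))) :=
    isReduced_of_isOpenImmersion (pullbackSpecIso k K (AlgebraicClosure k)).inv
  have h2 : _root_.IsReduced (K ⊗[k] AlgebraicClosure k) :=
    (affine_isReduced_iff (CommRingCat.of (K ⊗[k] AlgebraicClosure k))).mp h1
  exact isReduced_of_injective (Algebra.TensorProduct.comm k (AlgebraicClosure k) K)
    (Algebra.TensorProduct.comm k (AlgebraicClosure k) K).injective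

end Groth.Agent.H38.GeomRedField
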