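import Mathlib.Topology.ExtremallyDisconnected
import Mathlib.Topology.Homeomorph.Defs
import Mathlib.Topology.Compactification.StoneCech

set_option autoImplicit false
universe u

open Set Function

namespace Groth.Agent.H38

/-- A copy of a type with the discrete topology. -/
def Discr (X : Type u) : Type u := X

instance (X : Type u) : TopologicalSpace (Discr X) := ⊥

instance (X : Type u) : DiscreteTopology (Discr X) := ⟨rfl⟩

/-- The identity map out of the discrete copy. -/
def Discr.out {X : Type u} (x : Discr X) : X := x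

/-- The identity map into the discrete copy. -/
def Discr.mk {X : Type u} (x : X) : Discr X := x

theorem Discr.out_mk {X : Type u} (x : X) : (Discr.mk x).out = x := rfl

/-- An endomorphism of an irreducible cover over the base is the identity. -/
theorem eq_id_of_irreducible_cover {E A : Type u} [TopologicalSpace E] [TopologicalSpace A]
    [T2Space E] {ρ : E → A} (hsurj : Surjective ρ)
    (hmin : ∀ E₀ : Set E, IsClosed E₀ → E₀ ≠ univ → ρ '' E₀ ≠ univ) {g : E → E}
    (hg : Continuous g) (hρg : ρ ∘ g = ρ) : g = id := by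
  by_contra hne
  obtain ⟨x, hx⟩ : ∃ x, g x ≠ x := by
    by_contra h
    push Not at h
    exact hne (funext h)
  obtain ⟨V, U, hV, hU, hgxV, hxU, hdisj⟩ := t2_separation hx
  let U' := U ∩ g ⁻¹' V
  have hU' : IsOpen U' := hU.inter (hV.preimage hg)
  have hxU' : x ∈ U' := ⟨hxU, hgxV⟩
  have h1 : ρ '' U'ᶜ ≠ univ := hmin _ hU'.isClosed_compl (fun h => by
    have : x ∈ U'ᶜ := h ▸ mem_univ x
    exact this hxU')
  obtain ⟨a, ha⟩ := (ne_univ_iff_exists_notMem _).mp h1
  obtain ⟨e, rfl⟩ := hsurj a
  have he : e ∈ U' := by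
    by_contra h
    exact ha ⟨e, h, rfl⟩
  have hge : g e ∈ U' := by
    by_contra h
    exact ha ⟨g e, h, congrFun hρg e⟩
  exact disjoint_left.mp hdisj he.2 hge.1

theorem projective_of_retract {D E : Type u} [TopologicalSpace D] [TopologicalSpace E]
    (hD : CompactT2.Projective D) (i : E → D) (r : D → E) (hi : Continuous i) (hr : Continuous r)
    (hri : r ∘ i = id) : CompactT2.Projective E := by
  intro Y Z _ _ _ _ _ _ f g hf hg gsurj
  obtain ⟨h, hh, hgh⟩ := hD (hf.comp hr) hg gsurj
  refine ⟨h ∘ i, hh.comp hi, ?_⟩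
  rw [← comp_assoc, hgh, comp_assoc, hri, comp_id]

/-- Existence of the Gleason cover. -/
theorem exists_gleason_cover (X : Type u) [TopologicalSpace X] [CompactSpace X] [T2Space X] :
    ∃ (X' : Type u) (_ : TopologicalSpace X') (_ : CompactSpace X') (_ : T2Space X')
      (_ : ExtremallyDisconnected X') (p : X' → X), Continuous p ∧ Function.Surjective p ∧
        ∀ E : Set X', IsClosed E → E ≠ Set.univ → p '' E ≠ Set.univ := by
  let D := StoneCech (Discr X)
  have hD : CompactT2.Projective D := StoneCech.projective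
  have hidc : Continuous (Discr.out : Discr X → X) := continuous_of_discreteTopology
  let π : D → X := stoneCechExtend hidc
  have hπ : Continuous π := continuous_stoneCechExtend hidc
  have hπs : Surjective π := fun x =>
    ⟨stoneCechUnit (Discr.mk x), congrFun (stoneCechExtend_extends hidc) (Discr.mk x)⟩
  obtain ⟨E, hEc, hEsurj, hEmin⟩ := exists_compact_surjective_zorn_subset hπ hπs
  let ρ : E → X := E.domRestrict π
  have hρ : Continuous ρ := hπ.continuousOn.domRestrict
  have hρs : Surjective ρ := fun a => by
    rcases (hEsurj ▸ mem_univ a : a ∈ π '' E) with ⟨d, hd, rfl⟩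
    exact ⟨⟨d, hd⟩, rfl⟩
  have hmin : ∀ E₀ : Set E, IsClosed E₀ → E₀ ≠ univ → ρ '' E₀ ≠ univ :=
    fun E₀ h1 h2 => hEmin E₀ h2 h1
  obtain ⟨r, hr, hρr⟩ := hD hπ hρ hρs
  have hret : r ∘ (Subtype.val : E → D) = id := by
    apply eq_id_of_irreducible_cover hρs hmin (hr.comp continuous_subtype_val)
    rw [← comp_assoc, hρr]
    rfl
  have hproj : CompactT2.Projective E :=
    projective_of_retract hD Subtype.val r continuous_subtype_val hr hret
  exact ⟨E, inferInstance, hEc, inferInstance, hproj.extremallyDisconnected, ρ, hρ, hρs, hmin⟩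

/-- Uniqueness of the Gleason cover. -/
theorem gleason_cover_unique {X X' X'' : Type u} [TopologicalSpace X] [CompactSpace X] [T2Space X]
    [TopologicalSpace X'] [CompactSpace X'] [T2Space X'] [ExtremallyDisconnected X']
    [TopologicalSpace X''] [CompactSpace X''] [T2Space X''] [ExtremallyDisconnected X'']
    (p : X' → X) (q : X'' → X) (hp : Continuous p) (hps : Surjective p)
    (hpm : ∀ E : Set X', IsClosed E → E ≠ Set.univ → p '' E ≠ Set.univ)
    (hq : Continuous q) (hqs : Surjective q)
    (hqm : ∀ E : Set X'', IsClosed E → E ≠ Set.univ → q '' E ≠ Set.univ) :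
    ∃ h : X' ≃ₜ X'', q ∘ h = p := by
  have hproj : CompactT2.Projective X' := CompactT2.ExtremallyDisconnected.projective
  obtain ⟨h, hh, hqh⟩ := hproj hp hq hqs
  have hsurj : Surjective h := by
    have hcl : IsClosed (range h) := (isCompact_range hh).isClosed
    have : range h = univ := by
      by_contra hne
      apply hqm _ hcl hne
      rw [← range_comp, hqh]
      exact hps.range_eq
    exact range_eq_univ.mp this
  have hzorn : ∀ E₀ : Set X', E₀ ≠ univ → IsClosed E₀ → h '' E₀ ≠ univ := by
    intro E₀ hne hcl hE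
    apply hpm E₀ hcl hne
    rw [← hqh, image_comp, hE, image_univ]
    exact hqs.range_eq
  refine ⟨ExtremallyDisconnected.homeoCompactToT2 hh hsurj hzorn, ?_⟩
  rw [← hqh]
  rfl

end Groth.Agent.H38
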