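import Mathlib
import Groth.Agent.H38.GeomConnProper
import Groth.Agent.H97.FibCount
import Groth.Prelude.Def_CurvBase
import Groth.Prelude.Def_Coh

/-!
helper38: global functions of a proper, reduced, connected scheme over a field `k` form a finite
field extension `κ` of `k`, and `[κ : k]` divides the `k`-dimension of every cohomology group, every
Euler characteristic and the degree of every point.
-/

set_option autoImplicit false
universe u
open CategoryTheory CategoryTheory.Limits AlgebraicGeometry
attribute [local instance] Curv2.resAlgebra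

namespace Groth.Agent.H38.GlobalSectionsField

open Groth.Agent.H38.GeomConnProper

section alg

/-- a reduced ring with at most one prime which is nontrivial is a field -/
theorem isField_of_subsingleton_primeSpectrum (R : Type*) [CommRing R] [Nontrivial R] [IsReduced R]
    [Subsingleton (PrimeSpectrum R)] : IsField R := by
  by_contra h
  obtain ⟨p, hp0, hp⟩ := Ring.not_isField_iff_exists_prime.mp h
  obtain ⟨q, hq⟩ := Ideal.exists_maximal R
  have hq' : q.IsPrime := hq.isPrime
  have hpq : p = q := by
    have := Subsingleton.elim (⟨p, hp⟩ : PrimeSpectrum R) ⟨q, hq'⟩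
    exact congrArg PrimeSpectrum.asIdeal this
  apply hp0
  have hnil : nilradical R = p := by
    rw [nilradical_eq_sInf]
    refine le_antisymm (sInf_le hp) (le_sInf fun J hJ => ?_)
    have := Subsingleton.elim (⟨p, hp⟩ : PrimeSpectrum R) ⟨J, hJ⟩
    exact (congrArg PrimeSpectrum.asIdeal this).le
  rw [← hnil]
  exact nilradical_eq_zero R

/-- divisibility of dimensions in a tower -/
theorem finrank_dvd_finrank (k κ V : Type*) [Field k] [CommRing κ] (hκ : IsField κ) [Algebra k κ]
    [AddCommGroup V] [Module κ V] [Module k V] [IsScalarTower k κ V] :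
    Module.finrank k κ ∣ Module.finrank k V := by
  let := hκ.toField
  exact ⟨Module.finrank κ V, (Module.finrank_mul_finrank k κ V).symm⟩

theorem dvd_finsum {ι : Type*} (w : ℤ) (f : ι → ℤ) (h : ∀ i, w ∣ f i) : w ∣ ∑ᶠ i, f i :=
  finsum_induction (fun x => w ∣ x) (dvd_zero w) (fun _ _ hx hy => dvd_add hx hy) h

end alg

variable (k : Type u) [Field k] (X : Scheme.{u}) [X.Over (Spec (CommRingCat.of k))]

/-- the `k`-algebra structure on global functions -/
noncomputable abbrev algΓX : Algebra k Γ(X, ⊤) :=
  ((X ↘ (Spec (CommRingCat.of k))).appTop.hom.comp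
      (Scheme.ΓSpecIso (CommRingCat.of k)).inv.hom).toAlgebra

/-- global functions of a proper reduced connected `k`-scheme form a field -/
theorem isField_sections [IsProper (X ↘ (Spec (CommRingCat.of k)))] [IsReduced X]
    [ConnectedSpace X] : IsField Γ(X, ⊤) := by
  let := algΓX k X
  have hint : Algebra.IsIntegral k Γ(X, ⊤) := isIntegral_sections k (X ↘ (Spec (CommRingCat.of k)))
  have hconn : ConnectedSpace (PrimeSpectrum Γ(X, ⊤)) :=
    (connectedSpace_iff_of_ringEquiv_ring (X := X) (RingEquiv.refl _)).mp inferInstance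
  have hsub : Subsingleton (PrimeSpectrum Γ(X, ⊤)) :=
    Groth.Agent.H38.GeomConnAlg.subsingleton_primeSpectrum_of_preconnected k Γ(X, ⊤)
  have hnt : Nontrivial Γ(X, ⊤) := ((connectedSpace_iff_idem X).mp inferInstance).1
  exact isField_of_subsingleton_primeSpectrum Γ(X, ⊤)

/-- evaluation of global functions in a residue field -/
noncomputable def evalΓ (x : X) : Γ(X, ⊤) →+* X.residueField x :=
  (X.residue x).hom.comp (X.presheaf.germ ⊤ x trivial).hom

theorem evalΓ_algebraMap (x : X) (a : k) :
    letI := algΓX k X
    evalΓ X x (algebraMap k Γ(X, ⊤) a) = algebraMap k (X.residueField x) a := rfl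

/-- global functions of a proper reduced connected `k`-scheme are finite over `k` -/
theorem finite_sections [IsProper (X ↘ (Spec (CommRingCat.of k)))] [IsReduced X]
    [ConnectedSpace X] :
    letI := algΓX k X
    Module.Finite k Γ(X, ⊤) := by
  let := algΓX k X
  have hF := isField_sections k X
  let := hF.toField
  have : CompactSpace X := QuasiCompact.compactSpace_of_compactSpace (X ↘ Spec (CommRingCat.of k))
  obtain ⟨x, -, hx⟩ := (isClosed_univ (X := X)).exists_closed_singleton Set.univ_nonempty
  have hfin : Module.Finite k (X.residueField x) :=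
    Groth.Agent.H97.FibCount.finite_residueField_of_isClosed k X x hx
  let ψ : Γ(X, ⊤) →ₗ[k] X.residueField x :=
    { toFun := evalΓ X x
      map_add' := map_add _
      map_smul' := fun a b => by
        simp only [Algebra.smul_def, map_mul, RingHom.id_apply]
        rw [evalΓ_algebraMap] }
  have hinj : Function.Injective ψ := (evalΓ X x).injective
  exact Module.Finite.of_injective ψ hinj

/-- `[κ : k]` divides `dim_k H^i(X, M)` -/
theorem finrank_dvd_finrank_HH (hF : IsField Γ(X, ⊤)) (M : X.Modules) (i : ℕ) :
    letI := algΓX k X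
    Module.finrank k Γ(X, ⊤) ∣ Module.finrank k (Coh.HH X M i) := by
  let := algΓX k X
  let : Module Γ(X, ⊤) (Coh.HH X M i) := Coh.moduleΓtop M i
  have : IsScalarTower k Γ(X, ⊤) (Coh.HH X M i) :=
    ⟨fun a b v => mul_smul (Coh.toGlobal (X ↘ Spec (CommRingCat.of k)) a)
      (show Coh.Γtop X from b) v⟩
  exact finrank_dvd_finrank k Γ(X, ⊤) (Coh.HH X M i) hF

/-- `[κ : k]` divides `χ(X, M)` -/
theorem finrank_dvd_euler (hF : IsField Γ(X, ⊤)) (M : X.Modules) :
    letI := algΓX k X
    (Module.finrank k Γ(X, ⊤) : ℤ) ∣ Curv2.euler k X M := by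
  let := algΓX k X
  unfold Curv2.euler
  refine dvd_finsum _ _ (fun i => Dvd.dvd.mul_left ?_ _)
  exact Int.natCast_dvd_natCast.mpr (finrank_dvd_finrank_HH k X hF M i)

/-- `[κ : k]` divides the degree of every point -/
theorem finrank_dvd_finrank_residueField (hF : IsField Γ(X, ⊤)) (x : X) :
    letI := algΓX k X
    Module.finrank k Γ(X, ⊤) ∣ Module.finrank k (X.residueField x) := by
  let := algΓX k X
  let : Algebra Γ(X, ⊤) (X.residueField x) := (evalΓ X x).toAlgebra
  have : IsScalarTower k Γ(X, ⊤) (X.residueField x) :=
    IsScalarTower.of_algebraMap_eq (fun a => rfl)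
  exact finrank_dvd_finrank k Γ(X, ⊤) (X.residueField x) hF

end Groth.Agent.H38.GlobalSectionsField
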