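import Groth.Agent.H38.GlueSub
import Mathlib.RingTheory.Localization.Finiteness
import Mathlib.RingTheory.Ideal.Height
import Mathlib.RingTheory.Localization.Ideal

set_option autoImplicit false
universe u

open AlgebraicGeometry CategoryTheory

namespace Groth.Agent.H38

variable {K : Type u} [Field K] {ι : Type} [Fintype ι]

section

variable (A : ι → Subring K) (s : ι → K)

/-- The data of a partition of unity adapted to a finite family of subrings of a field. -/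
structure IsPartUnity : Prop where
  mem : ∀ i k, s i ∈ A k
  sum : ∑ i, s i = 1
  inv_mem : ∀ i, (s i)⁻¹ ∈ A i
  ne_zero : ∀ i, s i ≠ 0
  loc : ∀ i j, i ≠ j → ∀ x : K, ∃ n : ℕ, x * (s i) ^ n ∈ A j

variable {A s}

namespace IsPartUnity

variable (h : IsPartUnity A s)

include h

theorem mem_iInf (i : ι) : s i ∈ ⨅ k, A k := Subring.mem_iInf.mpr (h.mem i)

theorem exists_pow_mul_mem_iInf (i : ι) {a : K} (ha : a ∈ A i) :
    ∃ n : ℕ, a * (s i) ^ n ∈ ⨅ k, A k := by
  classical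
  have hex : ∀ j, ∃ n : ℕ, a * (s i) ^ n ∈ A j := by
    intro j
    by_cases hij : i = j
    · exact ⟨0, by rw [pow_zero, mul_one]; exact hij ▸ ha⟩
    · exact h.loc i j hij a
  choose n hn using hex
  refine ⟨∑ j, n j, Subring.mem_iInf.mpr fun k => ?_⟩
  have hle : n k ≤ ∑ j, n j := Finset.single_le_sum (fun _ _ => Nat.zero_le _) (Finset.mem_univ k)
  have : a * (s i) ^ (∑ j, n j) = a * (s i) ^ (n k) * (s i) ^ ((∑ j, n j) - n k) := by
    rw [mul_assoc, ← pow_add, Nat.add_sub_cancel' hle]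
  rw [this]
  exact (A k).mul_mem (hn k) ((A k).pow_mem (h.mem i k) _)

theorem isLocalization (i : ι) :
    letI := (Subring.inclusion (iInf_le A i)).toAlgebra
    IsLocalization.Away (⟨s i, h.mem_iInf i⟩ : ↥(⨅ k, A k)) (A i) :=
  isLocalization_away_of_subring (iInf_le A i) (s i) (h.mem_iInf i) (h.ne_zero i) (h.inv_mem i)
    (fun _ ha => h.exists_pow_mul_mem_iInf i ha)

theorem isOpenImmersion (i : ι) :
    IsOpenImmersion (Spec.map (CommRingCat.ofHom (Subring.inclusion (iInf_le A i)))) := by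
  letI := (Subring.inclusion (iInf_le A i)).toAlgebra
  have := h.isLocalization i
  exact IsOpenImmersion.of_isLocalization (R := ↥(⨅ k, A k)) (S := A i) ⟨s i, h.mem_iInf i⟩

theorem range_eq (i : ι) :
    Set.range (Spec.map (CommRingCat.ofHom (Subring.inclusion (iInf_le A i)))).base =
      (PrimeSpectrum.basicOpen (⟨s i, h.mem_iInf i⟩ : ↥(⨅ k, A k)) :
        Set (PrimeSpectrum ↥(⨅ k, A k))) := by
  letI := (Subring.inclusion (iInf_le A i)).toAlgebra
  have := h.isLocalization i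
  exact PrimeSpectrum.localization_away_comap_range (A i) (⟨s i, h.mem_iInf i⟩ : ↥(⨅ k, A k))

theorem sum_eq_one : ∑ i, (⟨s i, h.mem_iInf i⟩ : ↥(⨅ k, A k)) = 1 := by
  apply Subtype.ext
  rw [Subring.coe_one, ← h.sum]
  exact map_sum (Subring.subtype (⨅ k, A k)) _ _

theorem exists_notMem (P : Ideal ↥(⨅ k, A k)) (hP : P ≠ ⊤) :
    ∃ i, (⟨s i, h.mem_iInf i⟩ : ↥(⨅ k, A k)) ∉ P := by
  by_contra hall
  push Not at hall
  apply hP
  rw [Ideal.eq_top_iff_one, ← h.sum_eq_one]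
  exact P.sum_mem fun i _ => hall i

theorem iUnion_range_eq_univ :
    (⋃ i, Set.range (Spec.map (CommRingCat.ofHom (Subring.inclusion (iInf_le A i)))).base) =
      Set.univ := by
  rw [Set.eq_univ_iff_forall]
  intro P
  obtain ⟨i, hi⟩ := h.exists_notMem P.asIdeal P.isPrime.ne_top
  refine Set.mem_iUnion.mpr ⟨i, ?_⟩
  rw [h.range_eq i]
  exact (PrimeSpectrum.mem_basicOpen _ _).mpr hi

/-- A prime of the intersection lying in two of the opens is zero. -/
theorem eq_bot_of_notMem_of_notMem (P : Ideal ↥(⨅ k, A k)) [P.IsPrime] {i j : ι} (hij : i ≠ j)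
    (hi : (⟨s i, h.mem_iInf i⟩ : ↥(⨅ k, A k)) ∉ P)
    (hj : (⟨s j, h.mem_iInf j⟩ : ↥(⨅ k, A k)) ∉ P) : P = ⊥ := by
  rw [Submodule.eq_bot_iff]
  intro x hx
  by_contra hx0
  have hxK : (x : K) ≠ 0 := fun h0 => hx0 (Subtype.ext h0)
  obtain ⟨n, hn⟩ := h.loc j i (Ne.symm hij) ((x : K)⁻¹)
  obtain ⟨m, hm⟩ := h.exists_pow_mul_mem_iInf i hn
  have hprod : (⟨(x : K)⁻¹ * s j ^ n * s i ^ m, hm⟩ : ↥(⨅ k, A k)) * x =
      (⟨s j, h.mem_iInf j⟩ : ↥(⨅ k, A k)) ^ n * (⟨s i, h.mem_iInf i⟩ : ↥(⨅ k, A k)) ^ m := by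
    apply Subtype.ext
    change (x : K)⁻¹ * s j ^ n * s i ^ m * (x : K) = s j ^ n * s i ^ m
    field_simp
  have hmem : (⟨s j, h.mem_iInf j⟩ : ↥(⨅ k, A k)) ^ n *
      (⟨s i, h.mem_iInf i⟩ : ↥(⨅ k, A k)) ^ m ∈ P := by
    rw [← hprod]
    exact P.mul_mem_left _ hx
  rcases (Ideal.IsPrime.mem_or_mem inferInstance hmem) with h1 | h1
  · exact hj (Ideal.IsPrime.mem_of_pow_mem inferInstance _ h1)
  · exact hi (Ideal.IsPrime.mem_of_pow_mem inferInstance _ h1)

/-- If the intersection is a field then so is every member. -/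
theorem isField_of_isField_iInf (hf : IsField ↥(⨅ k, A k)) (i : ι) : IsField (A i) := by
  refine ⟨⟨0, 1, zero_ne_one⟩, mul_comm, ?_⟩
  intro a ha0
  have haK : (a : K) ≠ 0 := fun h0 => ha0 (Subtype.ext h0)
  obtain ⟨n, hn⟩ := h.exists_pow_mul_mem_iInf i a.2
  have hne : (⟨(a : K) * s i ^ n, hn⟩ : ↥(⨅ k, A k)) ≠ 0 := by
    intro h0
    have : (a : K) * s i ^ n = 0 := congrArg Subtype.val h0
    exact mul_ne_zero haK (pow_ne_zero n (h.ne_zero i)) this
  obtain ⟨w, hw⟩ := hf.mul_inv_cancel hne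
  have hwK : (a : K) * s i ^ n * (w : K) = 1 := congrArg Subtype.val hw
  have hwA : (w : K) ∈ A i := (iInf_le A i) w.2
  refine ⟨⟨s i ^ n * (w : K), (A i).mul_mem ((A i).pow_mem (h.mem i i) n) hwA⟩, ?_⟩
  apply Subtype.ext
  change (a : K) * (s i ^ n * (w : K)) = 1
  rw [← mul_assoc, hwK]

theorem isNoetherianRing_iInf [∀ i, IsNoetherianRing (A i)] : IsNoetherianRing ↥(⨅ k, A k) := by
  rw [isNoetherianRing_iff_ideal_fg]
  intro I
  refine Ideal.fg_of_localizationSpan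
    (Set.range fun i => (⟨s i, h.mem_iInf i⟩ : ↥(⨅ k, A k))) ?_ ?_
  · rw [Ideal.eq_top_iff_one, ← h.sum_eq_one]
    exact Submodule.sum_mem _ fun i _ => Ideal.subset_span ⟨i, rfl⟩
  · rintro ⟨_, i, rfl⟩
    letI := (Subring.inclusion (iInf_le A i)).toAlgebra
    have := h.isLocalization i
    have hN : IsNoetherianRing (Localization.Away (⟨s i, h.mem_iInf i⟩ : ↥(⨅ k, A k))) :=
      isNoetherianRing_of_ringEquiv (A i)
        (IsLocalization.algEquiv (Submonoid.powers (⟨s i, h.mem_iInf i⟩ : ↥(⨅ k, A k)))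
          (A i) (Localization.Away (⟨s i, h.mem_iInf i⟩ : ↥(⨅ k, A k)))).toRingEquiv
    exact IsNoetherian.noetherian _


/-- The extension of a prime of the intersection not containing `s i` to `A i`, together with
its basic properties. -/
theorem exists_prime_extension (P : Ideal ↥(⨅ k, A k)) [hP : P.IsPrime] (i : ι)
    (hi : (⟨s i, h.mem_iInf i⟩ : ↥(⨅ k, A k)) ∉ P) :
    ∃ Q : Ideal (A i), Q.IsPrime ∧ Q.comap (Subring.inclusion (iInf_le A i)) = P := by
  letI := (Subring.inclusion (iInf_le A i)).toAlgebra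
  have := h.isLocalization i
  have hd : Disjoint (Submonoid.powers (⟨s i, h.mem_iInf i⟩ : ↥(⨅ k, A k)) : Set ↥(⨅ k, A k))
      (P : Set ↥(⨅ k, A k)) := (Ideal.disjoint_powers_iff_notMem_of_isPrime _).mpr hi
  exact ⟨P.map (algebraMap ↥(⨅ k, A k) (A i)),
    IsLocalization.isPrime_of_isPrime_disjoint _ (A i) P hP hd,
    IsLocalization.under_map_of_isPrime_disjoint _ (A i) hP hd⟩

theorem isMaximal_of_ne_bot [∀ i, Ring.KrullDimLE 1 (A i)] (P : Ideal ↥(⨅ k, A k))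
    [hP : P.IsPrime] (hP0 : P ≠ ⊥) : P.IsMaximal := by
  obtain ⟨Q, hQmax, hPQ⟩ := Ideal.exists_le_maximal P hP.ne_top
  have hQprime : Q.IsPrime := hQmax.isPrime
  obtain ⟨i, hi⟩ := h.exists_notMem Q hQmax.ne_top
  have hiP : (⟨s i, h.mem_iInf i⟩ : ↥(⨅ k, A k)) ∉ P := fun hmem => hi (hPQ hmem)
  obtain ⟨P', hP'prime, hP'⟩ := h.exists_prime_extension P i hiP
  obtain ⟨Q', hQ'prime, hQ'⟩ := h.exists_prime_extension Q i hi
  have hinj : Function.Injective (Subring.inclusion (iInf_le A i)) :=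
    Subring.inclusion_injective _
  have hP'0 : P' ≠ ⊥ := by
    rintro rfl
    apply hP0
    rw [← hP', Ideal.comap_bot_of_injective _ hinj]
  have hP'max : P'.IsMaximal := hP'prime.isMaximal_of_ne_bot hP'0
  -- `P' ≤ Q'`
  have hle : P' ≤ Q' := by
    letI := (Subring.inclusion (iInf_le A i)).toAlgebra
    have := h.isLocalization i
    have h1 : P' = (P'.comap (algebraMap ↥(⨅ k, A k) (A i))).map
        (algebraMap ↥(⨅ k, A k) (A i)) :=
      (IsLocalization.map_comap (Submonoid.powers (⟨s i, h.mem_iInf i⟩ : ↥(⨅ k, A k)))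
        (A i) P').symm
    have h2 : Q' = (Q'.comap (algebraMap ↥(⨅ k, A k) (A i))).map
        (algebraMap ↥(⨅ k, A k) (A i)) :=
      (IsLocalization.map_comap (Submonoid.powers (⟨s i, h.mem_iInf i⟩ : ↥(⨅ k, A k)))
        (A i) Q').symm
    rw [h1, h2]
    apply Ideal.map_mono
    change P'.comap (Subring.inclusion (iInf_le A i)) ≤ Q'.comap (Subring.inclusion (iInf_le A i))
    rw [hP', hQ']
    exact hPQ
  have heq : P' = Q' := hP'max.eq_of_le hQ'prime.ne_top hle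
  have : P = Q := by rw [← hP', ← hQ', heq]
  rw [this]
  exact hQmax


theorem krullDimLE_one [∀ i, Ring.KrullDimLE 1 (A i)] : Ring.KrullDimLE 1 ↥(⨅ k, A k) := by
  rw [Ring.krullDimLE_one_iff_of_noZeroDivisors]
  intro P hP0 hP
  exact h.isMaximal_of_ne_bot P hP0

theorem ringKrullDim_eq_one [Nonempty ι] [∀ i, Ring.KrullDimLE 1 (A i)]
    (hnf : ∀ i, ¬ IsField (A i)) : ringKrullDim ↥(⨅ k, A k) = 1 := by
  have hle : Ring.KrullDimLE 1 ↥(⨅ k, A k) := h.krullDimLE_one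
  apply le_antisymm (Ring.krullDimLE_iff.mp hle)
  have hRnf : ¬ IsField ↥(⨅ k, A k) := fun hf =>
    hnf (Classical.arbitrary ι) (h.isField_of_isField_iInf hf _)
  obtain ⟨m, hm⟩ := Ideal.exists_maximal ↥(⨅ k, A k)
  have hmprime : m.IsPrime := hm.isPrime
  have hm0 : m ≠ ⊥ := fun h0 => hRnf (Ring.isField_iff_maximal_bot.2 (h0 ▸ hm))
  have h1 : (1 : ℕ∞) ≤ m.height := by
    apply Order.one_le_iff_pos.mpr
    apply pos_iff_ne_zero.mpr
    intro h0
    exact hm0 (Ideal.height_eq_zero_iff_eq_bot.mp h0)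
  refine le_trans ?_ (Ideal.height_le_ringKrullDim_of_isPrime (I := m))
  exact_mod_cast h1

theorem finite_maximalSpectrum [Nonempty ι] [∀ i, Ring.KrullDimLE 1 (A i)]
    [∀ i, Finite (MaximalSpectrum (A i))] (hnf : ∀ i, ¬ IsField (A i)) :
    Finite (MaximalSpectrum ↥(⨅ k, A k)) := by
  have hRnf : ¬ IsField ↥(⨅ k, A k) := fun hf =>
    hnf (Classical.arbitrary ι) (h.isField_of_isField_iInf hf _)
  -- the map from the maximal ideals of the members
  have hcomap : ∀ (i : ι) (M : MaximalSpectrum (A i)),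
      (M.asIdeal.comap (Subring.inclusion (iInf_le A i))).IsMaximal := by
    intro i M
    have hprime : (M.asIdeal.comap (Subring.inclusion (iInf_le A i))).IsPrime :=
      Ideal.comap_isPrime _ _
    refine h.isMaximal_of_ne_bot _ ?_
    have hM0 : M.asIdeal ≠ ⊥ := fun h0 => hnf i (Ring.isField_iff_maximal_bot.2 (h0 ▸ M.isMaximal))
    obtain ⟨a, haM, ha0⟩ := Submodule.exists_mem_ne_zero_of_ne_bot hM0
    have haK : (a : K) ≠ 0 := fun h0 => ha0 (Subtype.ext h0)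
    obtain ⟨n, hn⟩ := h.exists_pow_mul_mem_iInf i a.2
    intro hbot
    have hmem : (⟨(a : K) * s i ^ n, hn⟩ : ↥(⨅ k, A k)) ∈
        M.asIdeal.comap (Subring.inclusion (iInf_le A i)) := by
      change (⟨(a : K) * s i ^ n, (iInf_le A i) hn⟩ : A i) ∈ M.asIdeal
      have : (⟨(a : K) * s i ^ n, (iInf_le A i) hn⟩ : A i) =
          a * (⟨s i, h.mem i i⟩ : A i) ^ n := rfl
      rw [this]
      exact M.asIdeal.mul_mem_right _ haM
    rw [hbot] at hmem
    have : (a : K) * s i ^ n = 0 := congrArg Subtype.val (Ideal.mem_bot.mp hmem)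
    exact mul_ne_zero haK (pow_ne_zero n (h.ne_zero i)) this
  let f : (Σ i, MaximalSpectrum (A i)) → MaximalSpectrum ↥(⨅ k, A k) := fun p =>
    ⟨p.2.asIdeal.comap (Subring.inclusion (iInf_le A p.1)), hcomap p.1 p.2⟩
  refine Finite.of_surjective f ?_
  intro m
  obtain ⟨i, hi⟩ := h.exists_notMem m.asIdeal m.isMaximal.ne_top
  have hmprime : m.asIdeal.IsPrime := m.isMaximal.isPrime
  obtain ⟨Q, hQprime, hQ⟩ := h.exists_prime_extension m.asIdeal i hi
  have hm0 : m.asIdeal ≠ ⊥ := fun h0 => hRnf (Ring.isField_iff_maximal_bot.2 (h0 ▸ m.isMaximal))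
  have hQ0 : Q ≠ ⊥ := by
    rintro rfl
    apply hm0
    rw [← hQ, Ideal.comap_bot_of_injective (Subring.inclusion (iInf_le A i))
      (Subring.inclusion_injective _)]
  have hQmax : Q.IsMaximal := hQprime.isMaximal_of_ne_bot hQ0
  exact ⟨⟨i, ⟨Q, hQmax⟩⟩, MaximalSpectrum.ext hQ⟩

theorem isFractionRing_iInf [Nonempty ι] [∀ i, IsFractionRing (A i) K] :
    IsFractionRing ↥(⨅ k, A k) K := by
  have hinj : Function.Injective (algebraMap ↥(⨅ k, A k) K) := Subtype.val_injective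
  have : FaithfulSMul ↥(⨅ k, A k) K := (faithfulSMul_iff_algebraMap_injective _ K).mpr hinj
  refine IsFractionRing.of_field _ K fun z => ?_
  let i : ι := Classical.arbitrary ι
  obtain ⟨a, a', ha', rfl⟩ := IsFractionRing.div_surjective (A := A i) z
  have ha'0 : a' ≠ 0 := nonZeroDivisors.ne_zero ha'
  have ha'K : (a' : K) ≠ 0 := fun h0 => ha'0 (Subtype.ext h0)
  obtain ⟨n, hn⟩ := h.exists_pow_mul_mem_iInf i a.2
  obtain ⟨m, hm⟩ := h.exists_pow_mul_mem_iInf i a'.2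
  have hsi : s i ≠ 0 := h.ne_zero i
  refine ⟨⟨(a : K) * s i ^ n, hn⟩ * ⟨s i, h.mem_iInf i⟩ ^ m,
    ⟨(a' : K) * s i ^ m, hm⟩ * ⟨s i, h.mem_iInf i⟩ ^ n, ?_⟩
  change (a : K) / (a' : K) = ((a : K) * s i ^ n * s i ^ m) / ((a' : K) * s i ^ m * s i ^ n)
  field_simp

theorem existsUnique_mem_range [Nonempty ι] (hnf : ∀ i, ¬ IsField (A i))
    (m : PrimeSpectrum ↥(⨅ k, A k)) (hm : m.asIdeal.IsMaximal) :
    ∃! i, m ∈ Set.range (Spec.map (CommRingCat.ofHom (Subring.inclusion (iInf_le A i)))).base := by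
  have hRnf : ¬ IsField ↥(⨅ k, A k) := fun hf =>
    hnf (Classical.arbitrary ι) (h.isField_of_isField_iInf hf _)
  have hm0 : m.asIdeal ≠ ⊥ := fun h0 => hRnf (Ring.isField_iff_maximal_bot.2 (h0 ▸ hm))
  have hiff : ∀ i, m ∈ Set.range (Spec.map (CommRingCat.ofHom
      (Subring.inclusion (iInf_le A i)))).base ↔
      (⟨s i, h.mem_iInf i⟩ : ↥(⨅ k, A k)) ∉ m.asIdeal := by
    intro i
    rw [h.range_eq i]
    exact PrimeSpectrum.mem_basicOpen _ _
  obtain ⟨i, hi⟩ := h.exists_notMem m.asIdeal hm.ne_top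
  refine ⟨i, (hiff i).mpr hi, fun j hj => ?_⟩
  by_contra hji
  have := m.isPrime
  exact hm0 (h.eq_bot_of_notMem_of_notMem m.asIdeal (Ne.symm hji) hi ((hiff j).mp hj))


end IsPartUnity

end

end Groth.Agent.H38
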