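import Groth.Agent.H38.GlueMany
import Groth.Agent.H9.KrullAkizuki
import Groth.Agent.S1640
import Mathlib.RingTheory.KrullDimension.Field

set_option autoImplicit false
universe u

namespace Groth.Agent.H38

variable {K : Type u} [Field K]

/-- From an element of the Jacobson radical of `A` whose inverse lies in the Jacobson radicals
of finitely many other subrings, produce a unit of `A` lying in those Jacobson radicals. -/
theorem unit_of_jacobson_inv {ι : Type} (A : Subring K) (B : ι → Subring K)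
    (z : K) (hz0 : z ≠ 0) (hzA : z ∈ A) (hzJ : (⟨z, hzA⟩ : A) ∈ (⊥ : Ideal A).jacobson)
    (hzB : ∀ j, ∃ hmem : z⁻¹ ∈ B j, (⟨z⁻¹, hmem⟩ : B j) ∈ (⊥ : Ideal (B j)).jacobson) :
    (z + 1)⁻¹ ≠ 0 ∧ (z + 1)⁻¹ ∈ A ∧ ((z + 1)⁻¹)⁻¹ ∈ A ∧
      ∀ j, ∃ hmem : (z + 1)⁻¹ ∈ B j, (⟨(z + 1)⁻¹, hmem⟩ : B j) ∈ (⊥ : Ideal (B j)).jacobson := by
  obtain ⟨w, hw⟩ := ((Ideal.mem_jacobson_bot.mp hzJ) 1).exists_right_inv
  have hwK : (z * 1 + 1) * (w : K) = 1 := congrArg (fun a : A => (a : K)) hw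
  rw [mul_one] at hwK
  have h1z : z + 1 ≠ 0 := left_ne_zero_of_mul_eq_one hwK
  have hwt : (w : K) = (z + 1)⁻¹ := eq_inv_of_mul_eq_one_right hwK
  refine ⟨inv_ne_zero h1z, hwt ▸ w.2, ?_, ?_⟩
  · rw [inv_inv]
    exact A.add_mem hzA A.one_mem
  · intro j
    obtain ⟨hmem, hJ⟩ := hzB j
    obtain ⟨w', hw'⟩ := ((Ideal.mem_jacobson_bot.mp hJ) 1).exists_right_inv
    have hw'K : (z⁻¹ * 1 + 1) * (w' : K) = 1 := congrArg (fun a : B j => (a : K)) hw'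
    rw [mul_one] at hw'K
    have hw's : (w' : K) = (z⁻¹ + 1)⁻¹ := eq_inv_of_mul_eq_one_right hw'K
    have h1z' : z⁻¹ + 1 ≠ 0 := left_ne_zero_of_mul_eq_one hw'K
    have heq : (z + 1)⁻¹ = z⁻¹ * (w' : K) := by
      rw [hw's, ← mul_inv]
      congr 1
      rw [mul_add, mul_inv_cancel₀ hz0, mul_one, add_comm]
    have hmem' : (z + 1)⁻¹ ∈ B j := heq ▸ (B j).mul_mem hmem w'.2
    refine ⟨hmem', ?_⟩
    have : (⟨(z + 1)⁻¹, hmem'⟩ : B j) = ⟨z⁻¹, hmem⟩ * w' := Subtype.ext heq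
    rw [this]
    exact Ideal.mul_mem_right _ _ hJ

theorem exists_jacobson_elt {r : ℕ} (A : Fin r → Subring K) [∀ i, IsNoetherianRing (A i)]
    [∀ i, IsFractionRing (A i) K] (hdim : ∀ i, ringKrullDim (A i) = 1)
    (hsl : ∀ i, Finite (MaximalSpectrum (A i))) (hgen : ∀ i j, i ≠ j → A i ⊔ A j = ⊤)
    (i i' : Fin r) (hi' : i' ≠ i) :
    ∃ z : K, z ≠ 0 ∧ ∃ hzA : z ∈ A i, (⟨z, hzA⟩ : A i) ∈ (⊥ : Ideal (A i)).jacobson ∧
      ∀ j, j ≠ i → ∃ hmem : z⁻¹ ∈ A j, (⟨z⁻¹, hmem⟩ : A j) ∈ (⊥ : Ideal (A j)).jacobson := by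
  classical
  have hd : ∀ j, Ring.KrullDimLE 1 (A j) := fun j => Ring.krullDimLE_iff.mpr (le_of_eq (hdim j))
  have hnf : ∀ j, ¬ IsField (A j) := by
    intro j hf
    have := ringKrullDim_eq_zero_of_isField hf
    rw [hdim j] at this
    exact one_ne_zero this
  let f : Fin r → Fin r := fun j => if j = i then i' else j
  have hf : ∀ j, f j ≠ i := by
    intro j
    by_cases hj : j = i
    · simp only [f, hj, if_true]; exact hi'
    · simp only [f, hj, if_false]; exact hj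
  obtain ⟨x, hxA, hx0, hx⟩ := Groth.Agent.S1640.result K (A i) r (fun j => A (f j))
    (fun j => hdim (f j)) (fun j => hsl (f j)) (fun j => hgen i (f j) (Ne.symm (hf j)))
  have hx' : ∀ j, j ≠ i → ∃ hmem : x⁻¹ ∈ A j, (⟨x⁻¹, hmem⟩ : A j) ∈ (⊥ : Ideal (A j)).jacobson := by
    intro j hj
    have key : ∀ k, f j = k →
        ∃ hmem : x⁻¹ ∈ A k, (⟨x⁻¹, hmem⟩ : A k) ∈ (⊥ : Ideal (A k)).jacobson := by
      rintro k rfl
      exact hx j
    exact key j (by simp only [f, hj, if_false])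
  -- an element of the Jacobson radical of `A i`
  have hmax : ∀ m : MaximalSpectrum (A i), m.asIdeal ≠ ⊥ := by
    intro m hm
    exact hnf i (Ring.isField_iff_maximal_bot.2 (hm ▸ m.isMaximal))
  have := hsl i
  obtain ⟨y, hy0, hy⟩ := Groth.Agent.H9.KA.exists_ne_zero_mem_all_maximal (B := A i) hmax
  have hyK : (y : K) ≠ 0 := fun h => hy0 (Subtype.ext h)
  have hyJ : y ∈ (⊥ : Ideal (A i)).jacobson := by
    rw [Ideal.jacobson, Ideal.mem_sInf]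
    rintro M ⟨-, hMmax⟩
    exact hy ⟨M, hMmax⟩
  -- exponents
  have hex : ∀ j, ∃ n : ℕ, j ≠ i → (y : K)⁻¹ * (x⁻¹) ^ n ∈ A j := by
    intro j
    by_cases hj : j = i
    · exact ⟨0, fun h => absurd hj h⟩
    · obtain ⟨hmem, hJ⟩ := hx' j hj
      obtain ⟨n, hn⟩ := exists_pow_mul_mem_of_mem_jacobson (A j) ⟨x⁻¹, hmem⟩ hJ ((y : K)⁻¹)
      exact ⟨n, fun _ => hn⟩
  choose n hn using hex
  let N : ℕ := (∑ j, n j) + 1
  have hzA : (y : K) * x ^ N ∈ A i := (A i).mul_mem y.2 ((A i).pow_mem hxA N)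
  refine ⟨(y : K) * x ^ N, mul_ne_zero hyK (pow_ne_zero N hx0), hzA, ?_, ?_⟩
  · have : (⟨(y : K) * x ^ N, hzA⟩ : A i) = y * (⟨x, hxA⟩ : A i) ^ N := rfl
    rw [this]
    exact Ideal.mul_mem_right _ _ hyJ
  · intro j hj
    obtain ⟨hmem, hJ⟩ := hx' j hj
    have hle : n j ≤ ∑ k, n k := Finset.single_le_sum (fun _ _ => Nat.zero_le _) (Finset.mem_univ j)
    have hinv : ((y : K) * x ^ N)⁻¹ = ((y : K)⁻¹ * (x⁻¹) ^ (n j)) * (x⁻¹) ^ (N - n j) := by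
      rw [mul_inv, ← inv_pow, mul_assoc, ← pow_add]
      congr 2
      omega
    have hpos : N - n j = (N - n j - 1) + 1 := by omega
    have hpowmem : (x⁻¹) ^ (N - n j) ∈ A j := (A j).pow_mem hmem _
    have hpowJ : (⟨(x⁻¹) ^ (N - n j), hpowmem⟩ : A j) ∈ (⊥ : Ideal (A j)).jacobson := by
      have : (⟨(x⁻¹) ^ (N - n j), hpowmem⟩ : A j) =
          (⟨x⁻¹, hmem⟩ : A j) ^ (N - n j - 1) * ⟨x⁻¹, hmem⟩ := by
        rw [← pow_succ, ← hpos]
        rfl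
      rw [this]
      exact Ideal.mul_mem_left _ _ hJ
    have hmem' : ((y : K) * x ^ N)⁻¹ ∈ A j := by
      rw [hinv]
      exact (A j).mul_mem (hn j hj) hpowmem
    refine ⟨hmem', ?_⟩
    have : (⟨((y : K) * x ^ N)⁻¹, hmem'⟩ : A j) =
        ⟨(y : K)⁻¹ * (x⁻¹) ^ (n j), hn j hj⟩ * ⟨(x⁻¹) ^ (N - n j), hpowmem⟩ := Subtype.ext hinv
    rw [this]
    exact Ideal.mul_mem_left _ _ hpowJ


theorem exists_isPartUnity {r : ℕ} (hr : 1 ≤ r) (A : Fin r → Subring K)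
    [∀ i, IsNoetherianRing (A i)]
    [∀ i, IsFractionRing (A i) K] (hdim : ∀ i, ringKrullDim (A i) = 1)
    (hsl : ∀ i, Finite (MaximalSpectrum (A i))) (hgen : ∀ i j, i ≠ j → A i ⊔ A j = ⊤) :
    ∃ s : Fin r → K, IsPartUnity A s := by
  classical
  have hd : ∀ j, Ring.KrullDimLE 1 (A j) := fun j => Ring.krullDimLE_iff.mpr (le_of_eq (hdim j))
  -- Step E
  have hE : ∀ i, ∃ e : K, e ≠ 0 ∧ e ∈ A i ∧ e⁻¹ ∈ A i ∧
      ∀ j, j ≠ i → ∃ hmem : e ∈ A j, (⟨e, hmem⟩ : A j) ∈ (⊥ : Ideal (A j)).jacobson := by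
    intro i
    by_cases hex : ∃ i', i' ≠ i
    · obtain ⟨i', hi'⟩ := hex
      obtain ⟨z, hz0, hzA, hzJ, hzB⟩ := exists_jacobson_elt A hdim hsl hgen i i' hi'
      obtain ⟨h1, h2, h3, h4⟩ := unit_of_jacobson_inv (ι := {j : Fin r // j ≠ i}) (A i)
        (fun j => A j.1) z hz0 hzA hzJ (fun j => hzB j.1 j.2)
      exact ⟨(z + 1)⁻¹, h1, h2, h3, fun j hj => h4 ⟨j, hj⟩⟩
    · push Not at hex
      exact ⟨1, one_ne_zero, (A i).one_mem, by rw [inv_one]; exact (A i).one_mem,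
        fun j hj => absurd (hex j) hj⟩
  choose e he0 heA heinv heJ using hE
  have hemem : ∀ i k, e i ∈ A k := by
    intro i k
    by_cases hki : k = i
    · exact hki ▸ heA i
    · exact (heJ i k hki).1
  -- the sum is a unit of every member
  have hσ : ∀ k, ∃ w : K, w ∈ A k ∧ (∑ i, e i) * w = 1 := by
    intro k
    let g : Fin r → A k := fun i => ⟨e i, hemem i k⟩
    have hρJ : ∑ i ∈ Finset.univ.erase k, g i ∈ (⊥ : Ideal (A k)).jacobson := by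
      refine Submodule.sum_mem _ fun i hi => ?_
      exact (heJ i k (Finset.ne_of_mem_erase hi).symm).2
    have hρK : ((∑ i ∈ Finset.univ.erase k, g i : A k) : K) = ∑ i ∈ Finset.univ.erase k, e i :=
      map_sum (A k).subtype g _
    have hunit : IsUnit ((∑ i ∈ Finset.univ.erase k, g i) * ⟨(e k)⁻¹, heinv k⟩ + 1) :=
      Ideal.mem_jacobson_bot.mp hρJ _
    obtain ⟨w, hw⟩ := hunit.exists_right_inv
    have hwK : ((∑ i ∈ Finset.univ.erase k, e i) * (e k)⁻¹ + 1) * (w : K) = 1 := by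
      rw [← hρK]
      exact congrArg (fun a : A k => (a : K)) hw
    refine ⟨(e k)⁻¹ * (w : K), (A k).mul_mem (heinv k) w.2, ?_⟩
    rw [← Finset.add_sum_erase Finset.univ e (Finset.mem_univ k), ← hwK]
    have hek := he0 k
    field_simp
    ring
  choose w hwA hw using hσ
  let k₀ : Fin r := ⟨0, hr⟩
  have hσ0 : (∑ i, e i) ≠ 0 := left_ne_zero_of_mul_eq_one (hw k₀)
  have hweq : ∀ k, w k = w k₀ := fun k =>
    mul_left_cancel₀ hσ0 ((hw k).trans (hw k₀).symm)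
  have hωmem : ∀ k, w k₀ ∈ A k := fun k => hweq k ▸ hwA k
  have hω0 : w k₀ ≠ 0 := right_ne_zero_of_mul_eq_one (hw k₀)
  have hωinv : (w k₀)⁻¹ = ∑ i, e i := (eq_inv_of_mul_eq_one_left (hw k₀)).symm
  refine ⟨fun i => e i * w k₀, ?_⟩
  refine ⟨fun i k => (A k).mul_mem (hemem i k) (hωmem k), ?_, ?_, ?_, ?_⟩
  · rw [← Finset.sum_mul]
    exact hw k₀
  · intro i
    rw [mul_inv, hωinv]
    exact (A i).mul_mem (heinv i) ((A i).sum_mem fun j _ => hemem j i)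
  · intro i
    exact mul_ne_zero (he0 i) hω0
  · intro i j hij x
    obtain ⟨hmem, hJ⟩ := heJ i j (Ne.symm hij)
    have hsJ : (⟨e i * w k₀, (A j).mul_mem hmem (hωmem j)⟩ : A j) ∈
        (⊥ : Ideal (A j)).jacobson := by
      have : (⟨e i * w k₀, (A j).mul_mem hmem (hωmem j)⟩ : A j) =
          ⟨e i, hmem⟩ * ⟨w k₀, hωmem j⟩ := rfl
      rw [this]
      exact Ideal.mul_mem_right _ _ hJ
    exact exists_pow_mul_mem_of_mem_jacobson (A j) _ hsJ x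


end Groth.Agent.H38
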