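import Mathlib.AlgebraicGeometry.OpenImmersion
import Mathlib.Algebra.Category.Ring.Constructions
import Mathlib.RingTheory.Localization.Away.Basic
import Mathlib.RingTheory.Spectrum.Prime.Topology
import Mathlib.RingTheory.KrullDimension.Basic
import Mathlib.RingTheory.Jacobson.Ideal
import Mathlib.RingTheory.Localization.FractionRing
import Mathlib.RingTheory.Valuation.ValuationSubring
import Mathlib.RingTheory.Spectrum.Maximal.Basic
import Mathlib.RingTheory.Ideal.Quotient.Operations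

set_option autoImplicit false
universe u

open AlgebraicGeometry CategoryTheory

namespace Groth.Agent.H38

variable {K : Type u} [Field K]

/-- A subring `A` of a field is the localization of a smaller subring `R` at an element `t` as
soon as `t` is invertible in `A` and every element of `A` is carried into `R` by a power of
`t`. -/
theorem isLocalization_away_of_subring {R A : Subring K} (hRA : R ≤ A) (t : K) (htR : t ∈ R)
    (ht0 : t ≠ 0) (htinv : t⁻¹ ∈ A) (hsurj : ∀ a ∈ A, ∃ n : ℕ, a * t ^ n ∈ R) :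
    letI := (Subring.inclusion hRA).toAlgebra
    IsLocalization.Away (⟨t, htR⟩ : R) A := by
  letI := (Subring.inclusion hRA).toAlgebra
  change IsLocalization (Submonoid.powers (⟨t, htR⟩ : R)) A
  rw [isLocalization_iff]
  refine ⟨?_, ?_, ?_⟩
  · rintro ⟨y, n, rfl⟩
    refine IsUnit.of_mul_eq_one ⟨(t⁻¹) ^ n, A.pow_mem htinv n⟩ ?_
    apply Subtype.ext
    change t ^ n * (t⁻¹) ^ n = 1
    rw [← mul_pow, mul_inv_cancel₀ ht0, one_pow]
  · intro z
    obtain ⟨n, hn⟩ := hsurj z.1 z.2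
    refine ⟨(⟨z.1 * t ^ n, hn⟩, ⟨(⟨t, htR⟩ : R) ^ n, n, rfl⟩), ?_⟩
    apply Subtype.ext
    rfl
  · intro x y hxy
    refine ⟨1, ?_⟩
    have : (x : K) = (y : K) := congrArg (fun z : A => (z : K)) hxy
    rw [Subtype.ext this]

/-- Glueing two subrings of a field along a partition of unity: if `s + t = 1` with `t`
invertible in `A`, `s` invertible in `B`, `K = A[1/s] = B[1/t]`, then `Spec A` and `Spec B`
form an open cover of `Spec (A ⊓ B)` and `K` is the pushout. -/
theorem glue_subrings (A B : Subring K) (s t : K) (hsA : s ∈ A) (hsB : s ∈ B) (htA : t ∈ A)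
    (htB : t ∈ B) (hst : s + t = 1) (hs0 : s ≠ 0) (ht0 : t ≠ 0) (htinv : t⁻¹ ∈ A)
    (hsinv : s⁻¹ ∈ B) (hA : ∀ x : K, ∃ n : ℕ, x * s ^ n ∈ A)
    (hB : ∀ x : K, ∃ n : ℕ, x * t ^ n ∈ B) :
    IsOpenImmersion (Spec.map (CommRingCat.ofHom (Subring.inclusion (inf_le_left : A ⊓ B ≤ A)))) ∧
    IsOpenImmersion (Spec.map (CommRingCat.ofHom (Subring.inclusion (inf_le_right : A ⊓ B ≤ B)))) ∧
    Set.range (Spec.map (CommRingCat.ofHom (Subring.inclusion (inf_le_left : A ⊓ B ≤ A)))).base ∪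
      Set.range (Spec.map (CommRingCat.ofHom
        (Subring.inclusion (inf_le_right : A ⊓ B ≤ B)))).base = Set.univ ∧
    IsPushout (CommRingCat.ofHom (Subring.inclusion (inf_le_left : A ⊓ B ≤ A)))
      (CommRingCat.ofHom (Subring.inclusion (inf_le_right : A ⊓ B ≤ B)))
      (CommRingCat.ofHom A.subtype) (CommRingCat.ofHom B.subtype) := by
  have htR : t ∈ A ⊓ B := ⟨htA, htB⟩
  have hsR : s ∈ A ⊓ B := ⟨hsA, hsB⟩
  letI algA : Algebra ↥(A ⊓ B) A := (Subring.inclusion (inf_le_left : A ⊓ B ≤ A)).toAlgebra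
  letI algB : Algebra ↥(A ⊓ B) B := (Subring.inclusion (inf_le_right : A ⊓ B ≤ B)).toAlgebra
  have locA : IsLocalization.Away (⟨t, htR⟩ : ↥(A ⊓ B)) A :=
    isLocalization_away_of_subring (inf_le_left : A ⊓ B ≤ A) t htR ht0 htinv (fun a ha => by
      obtain ⟨n, hn⟩ := hB a
      exact ⟨n, A.mul_mem ha (A.pow_mem htA n), hn⟩)
  have locB : IsLocalization.Away (⟨s, hsR⟩ : ↥(A ⊓ B)) B :=
    isLocalization_away_of_subring (inf_le_right : A ⊓ B ≤ B) s hsR hs0 hsinv (fun b hb => by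
      obtain ⟨n, hn⟩ := hA b
      exact ⟨n, hn, B.mul_mem hb (B.pow_mem hsB n)⟩)
  have h1 : IsOpenImmersion (Spec.map (CommRingCat.ofHom
      (Subring.inclusion (inf_le_left : A ⊓ B ≤ A)))) :=
    IsOpenImmersion.of_isLocalization (R := ↥(A ⊓ B)) (S := A) ⟨t, htR⟩
  have h2 : IsOpenImmersion (Spec.map (CommRingCat.ofHom
      (Subring.inclusion (inf_le_right : A ⊓ B ≤ B)))) :=
    IsOpenImmersion.of_isLocalization (R := ↥(A ⊓ B)) (S := B) ⟨s, hsR⟩
  refine ⟨h1, h2, ?_, ?_⟩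
  · have r1 : Set.range (Spec.map (CommRingCat.ofHom
        (Subring.inclusion (inf_le_left : A ⊓ B ≤ A)))).base =
        (PrimeSpectrum.basicOpen (⟨t, htR⟩ : ↥(A ⊓ B)) : Set (PrimeSpectrum ↥(A ⊓ B))) :=
      PrimeSpectrum.localization_away_comap_range A (⟨t, htR⟩ : ↥(A ⊓ B))
    have r2 : Set.range (Spec.map (CommRingCat.ofHom
        (Subring.inclusion (inf_le_right : A ⊓ B ≤ B)))).base =
        (PrimeSpectrum.basicOpen (⟨s, hsR⟩ : ↥(A ⊓ B)) : Set (PrimeSpectrum ↥(A ⊓ B))) :=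
      PrimeSpectrum.localization_away_comap_range B (⟨s, hsR⟩ : ↥(A ⊓ B))
    rw [r1, r2, Set.eq_univ_iff_forall]
    intro P
    by_contra hP
    rw [Set.mem_union, not_or] at hP
    have hs' : (⟨s, hsR⟩ : ↥(A ⊓ B)) ∈ P.asIdeal := by
      by_contra h
      exact hP.2 ((PrimeSpectrum.mem_basicOpen _ _).mpr h)
    have ht' : (⟨t, htR⟩ : ↥(A ⊓ B)) ∈ P.asIdeal := by
      by_contra h
      exact hP.1 ((PrimeSpectrum.mem_basicOpen _ _).mpr h)
    have h1' : (⟨s, hsR⟩ + ⟨t, htR⟩ : ↥(A ⊓ B)) ∈ P.asIdeal := P.asIdeal.add_mem hs' ht'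
    have h2' : (⟨s, hsR⟩ + ⟨t, htR⟩ : ↥(A ⊓ B)) = 1 := Subtype.ext hst
    rw [h2'] at h1'
    exact P.isPrime.ne_top ((Ideal.eq_top_iff_one _).mpr h1')
  · letI algK : Algebra A K := A.subtype.toAlgebra
    have locK : IsLocalization ((Submonoid.powers (⟨s, hsR⟩ : ↥(A ⊓ B))).map
        (Subring.inclusion (inf_le_left : A ⊓ B ≤ A))) K := by
      rw [Submonoid.map_powers, isLocalization_iff]
      refine ⟨?_, ?_, ?_⟩
      · rintro ⟨y, n, rfl⟩
        have : (algebraMap A K) (Subring.inclusion (inf_le_left : A ⊓ B ≤ A) ⟨s, hsR⟩ ^ n) =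
            s ^ n := rfl
        rw [this]
        exact (isUnit_iff_ne_zero.mpr (pow_ne_zero n hs0))
      · intro z
        obtain ⟨n, hn⟩ := hA z
        exact ⟨(⟨z * s ^ n, hn⟩, ⟨Subring.inclusion (inf_le_left : A ⊓ B ≤ A) ⟨s, hsR⟩ ^ n,
          n, rfl⟩), rfl⟩
      · intro x y hxy
        refine ⟨1, ?_⟩
        have : (x : K) = (y : K) := hxy
        rw [Subtype.ext this]
    exact CommRingCat.isPushout_of_isLocalization (Subring.inclusion (inf_le_left : A ⊓ B ≤ A))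
      B.subtype (by ext; rfl) (Submonoid.powers (⟨s, hsR⟩ : ↥(A ⊓ B)))


/-- In a domain of dimension at most one with fraction field `K`, an element of the Jacobson
radical has a power carrying any given element of `K` into the ring. -/
theorem exists_pow_mul_mem_of_mem_jacobson (A : Subring K) [Ring.KrullDimLE 1 A]
    [IsFractionRing A K] (t : A) (ht : t ∈ (⊥ : Ideal A).jacobson) (x : K) :
    ∃ n : ℕ, x * (t : K) ^ n ∈ A := by
  obtain ⟨b₁, b₂, hb₂, rfl⟩ := IsFractionRing.div_surjective (A := A) x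
  have hb₂0 : b₂ ≠ 0 := nonZeroDivisors.ne_zero hb₂
  have hb₂K : (b₂ : K) ≠ 0 := fun h => hb₂0 (Subtype.ext h)
  have hrad : t ∈ (Ideal.span {b₂}).radical := by
    rw [Ideal.radical_eq_sInf, Ideal.mem_sInf]
    rintro P ⟨hP, hPprime⟩
    have hP0 : P ≠ ⊥ := by
      rintro rfl
      exact hb₂0 (by simpa using (Ideal.span_singleton_le_iff_mem _).mp hP)
    have hPmax : P.IsMaximal := hPprime.isMaximal_of_ne_bot hP0
    rw [Ideal.jacobson, Ideal.mem_sInf] at ht
    exact ht ⟨bot_le, hPmax⟩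
  obtain ⟨n, hn⟩ := hrad
  obtain ⟨c, hc⟩ := Ideal.mem_span_singleton'.mp hn
  refine ⟨n, ?_⟩
  have h1 : (t : K) ^ n = (c : K) * (b₂ : K) := by
    have := congrArg (fun z : A => (z : K)) hc
    simpa using this.symm
  have h2 : algebraMap A K b₁ / algebraMap A K b₂ * (t : K) ^ n = (b₁ : K) * (c : K) := by
    change (b₁ : K) / (b₂ : K) * (t : K) ^ n = _
    rw [h1]
    field_simp
  rw [h2]
  exact A.mul_mem b₁.2 c.2


/-- Glueing two one-dimensional subrings of a field along an element of the Jacobson radical of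
the first whose inverse lies in the Jacobson radical of the second. -/
theorem glue_of_jacobson (A B : Subring K) [Ring.KrullDimLE 1 A] [IsFractionRing A K]
    [Ring.KrullDimLE 1 B] [IsFractionRing B K]
    (z : K) (hz0 : z ≠ 0) (hzA : z ∈ A) (hzJ : (⟨z, hzA⟩ : A) ∈ (⊥ : Ideal A).jacobson)
    (hzB : z⁻¹ ∈ B) (hzJ' : (⟨z⁻¹, hzB⟩ : B) ∈ (⊥ : Ideal B).jacobson) :
    IsOpenImmersion (Spec.map (CommRingCat.ofHom (Subring.inclusion (inf_le_left : A ⊓ B ≤ A)))) ∧
    IsOpenImmersion (Spec.map (CommRingCat.ofHom (Subring.inclusion (inf_le_right : A ⊓ B ≤ B)))) ∧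
    Set.range (Spec.map (CommRingCat.ofHom (Subring.inclusion (inf_le_left : A ⊓ B ≤ A)))).base ∪
      Set.range (Spec.map (CommRingCat.ofHom
        (Subring.inclusion (inf_le_right : A ⊓ B ≤ B)))).base = Set.univ ∧
    IsPushout (CommRingCat.ofHom (Subring.inclusion (inf_le_left : A ⊓ B ≤ A)))
      (CommRingCat.ofHom (Subring.inclusion (inf_le_right : A ⊓ B ≤ B)))
      (CommRingCat.ofHom A.subtype) (CommRingCat.ofHom B.subtype) := by
  -- `1 + z` is a unit of `A`
  obtain ⟨w, hw⟩ := ((Ideal.mem_jacobson_bot.mp hzJ) 1).exists_right_inv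
  have hwK : (z * 1 + 1) * (w : K) = 1 := congrArg (fun a : A => (a : K)) hw
  rw [mul_one] at hwK
  have h1z : z + 1 ≠ 0 := left_ne_zero_of_mul_eq_one hwK
  have hwt : (w : K) = (z + 1)⁻¹ := eq_inv_of_mul_eq_one_right hwK
  -- `1 + z⁻¹` is a unit of `B`
  obtain ⟨w', hw'⟩ := ((Ideal.mem_jacobson_bot.mp hzJ') 1).exists_right_inv
  have hw'K : (z⁻¹ * 1 + 1) * (w' : K) = 1 := congrArg (fun a : B => (a : K)) hw'
  rw [mul_one] at hw'K
  have h1z' : z⁻¹ + 1 ≠ 0 := left_ne_zero_of_mul_eq_one hw'K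
  have hw's : (w' : K) = (z⁻¹ + 1)⁻¹ := eq_inv_of_mul_eq_one_right hw'K
  have hst' : z * (z + 1)⁻¹ = (z⁻¹ + 1)⁻¹ := by
    apply eq_inv_of_mul_eq_one_left
    have h3 : z⁻¹ + 1 = z⁻¹ * (z + 1) := by
      rw [mul_add, inv_mul_cancel₀ hz0, mul_one, add_comm]
    rw [h3, mul_assoc, ← mul_assoc ((z + 1)⁻¹), mul_comm ((z + 1)⁻¹), mul_assoc,
      inv_mul_cancel₀ h1z, mul_one, mul_inv_cancel₀ hz0]
  have htA : (z + 1)⁻¹ ∈ A := hwt ▸ w.2
  have hsA : z * (z + 1)⁻¹ ∈ A := A.mul_mem hzA htA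
  have hsB : z * (z + 1)⁻¹ ∈ B := by rw [hst', ← hw's]; exact w'.2
  have htB : (z + 1)⁻¹ ∈ B := by
    have : (z + 1)⁻¹ = z⁻¹ * (z * (z + 1)⁻¹) := by
      rw [← mul_assoc, inv_mul_cancel₀ hz0, one_mul]
    rw [this]
    exact B.mul_mem hzB hsB
  have hsJ : (⟨z * (z + 1)⁻¹, hsA⟩ : A) ∈ (⊥ : Ideal A).jacobson := by
    have : (⟨z * (z + 1)⁻¹, hsA⟩ : A) = ⟨z, hzA⟩ * ⟨(z + 1)⁻¹, htA⟩ := rfl
    rw [this]
    exact Ideal.mul_mem_right _ _ hzJ
  have htJ : (⟨(z + 1)⁻¹, htB⟩ : B) ∈ (⊥ : Ideal B).jacobson := by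
    have : (⟨(z + 1)⁻¹, htB⟩ : B) = ⟨z⁻¹, hzB⟩ * ⟨z * (z + 1)⁻¹, hsB⟩ := by
      apply Subtype.ext
      change (z + 1)⁻¹ = z⁻¹ * (z * (z + 1)⁻¹)
      rw [← mul_assoc, inv_mul_cancel₀ hz0, one_mul]
    rw [this]
    exact Ideal.mul_mem_right _ _ hzJ'
  refine glue_subrings A B (z * (z + 1)⁻¹) ((z + 1)⁻¹) hsA hsB htA htB ?_ ?_ ?_ ?_ ?_ ?_ ?_
  · rw [← add_one_mul, mul_inv_cancel₀ h1z]
  · exact mul_ne_zero hz0 (inv_ne_zero h1z)
  · exact inv_ne_zero h1z
  · rw [inv_inv]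
    exact A.add_mem hzA A.one_mem
  · rw [hst', inv_inv]
    exact B.add_mem hzB B.one_mem
  · intro x
    exact exists_pow_mul_mem_of_mem_jacobson A ⟨z * (z + 1)⁻¹, hsA⟩ hsJ x
  · intro x
    exact exists_pow_mul_mem_of_mem_jacobson B ⟨(z + 1)⁻¹, htB⟩ htJ x


/-- A semilocal subring of a field all of whose units lie in a valuation subring is contained
in that valuation subring. -/
theorem le_valuationSubring_of_units (A : Subring K) [Finite (MaximalSpectrum A)]
    (B : ValuationSubring K) (hU : ∀ u : A, IsUnit u → (u : K) ∈ B) : A ≤ B.toSubring := by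
  classical
  intro a ha
  by_contra haB
  have hcop : Pairwise (Function.onFun IsCoprime fun m : MaximalSpectrum A => m.asIdeal) := by
    intro m m' hmm'
    rw [Function.onFun, Ideal.isCoprime_iff_sup_eq]
    exact Ideal.IsMaximal.coprime_of_ne m.isMaximal m'.isMaximal
      (fun h => hmm' (MaximalSpectrum.ext h))
  obtain ⟨e, he⟩ := Ideal.exists_forall_sub_mem_ideal hcop
    (fun m : MaximalSpectrum A => if (⟨a, ha⟩ : A) ∈ m.asIdeal then (1 : A) else 0)
  -- `a + e` is a unit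
  have hunit1 : IsUnit ((⟨a, ha⟩ : A) + e) := by
    by_contra hnu
    obtain ⟨M, hMmax, hM⟩ := exists_max_ideal_of_mem_nonunits hnu
    have hem := he ⟨M, hMmax⟩
    by_cases haM : (⟨a, ha⟩ : A) ∈ M
    · simp only [haM, if_true] at hem
      have h1 : e ∈ M := by
        have := M.sub_mem hM haM
        simpa using this
      have : (1 : A) ∈ M := by
        have := M.sub_mem h1 hem
        simpa using this
      exact hMmax.ne_top ((Ideal.eq_top_iff_one M).mpr this)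
    · simp only [haM, if_false, sub_zero] at hem
      have := M.sub_mem hM hem
      exact haM (by simpa using this)
  -- `e ^ 2 - e` lies in the Jacobson radical
  have hjac : e * e - e ∈ (⊥ : Ideal A).jacobson := by
    rw [Ideal.jacobson, Ideal.mem_sInf]
    rintro M ⟨-, hMmax⟩
    have hem := he ⟨M, hMmax⟩
    by_cases haM : (⟨a, ha⟩ : A) ∈ M
    · simp only [haM, if_true] at hem
      have : e * e - e = e * (e - 1) := by ring
      rw [this]
      exact M.mul_mem_left _ hem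
    · simp only [haM, if_false, sub_zero] at hem
      have : e * e - e = (e - 1) * e := by ring
      rw [this]
      exact M.mul_mem_left _ hem
  have hunit2 : IsUnit ((e * e - e) * 1 + 1) := Ideal.mem_jacobson_bot.mp hjac 1
  have h1B : (a + (e : K)) ∈ B := hU _ hunit1
  have h2B : ((e : K) * e - e) * 1 + 1 ∈ B := hU _ hunit2
  have heB : (e : K) ∉ B := by
    intro h
    apply haB
    have : a = (a + (e : K)) - e := by ring
    rw [this]
    exact B.sub_mem h1B h
  have he0 : (e : K) ≠ 0 := fun h => heB (h ▸ B.zero_mem)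
  have heinv : (e : K)⁻¹ ∈ B := (B.mem_or_inv_mem (e : K)).resolve_left heB
  have h3B : (e : K) * e - e ∈ B := by
    have : (e : K) * e - e = (((e : K) * e - e) * 1 + 1) - 1 := by ring
    rw [this]
    exact B.sub_mem h2B B.one_mem
  apply heB
  have : (e : K) = 1 + ((e : K) * e - e) * (e : K)⁻¹ := by
    field_simp
    ring
  rw [this]
  exact B.add_mem _ _ B.one_mem (B.mul_mem _ _ h3B heinv)


end Groth.Agent.H38
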