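import Mathlib
import Groth.Agent.H90.GrpFlatBase
import Groth.Agent.S1386

/-!
# Fibrewise flatness of surjective homomorphisms onto group schemes with reduced fibres
-/

set_option autoImplicit false

universe u

namespace Groth.Agent.H38.GrpFibreFlat

open CategoryTheory CategoryTheory.Limits MonoidalCategory CartesianMonoidalCategory MonObj GrpObj
  AlgebraicGeometry
open Groth.Agent.H90

variable {S : Scheme.{u}}

/-- The fibre map of a homomorphism, as the base change. -/
lemma fiberMap_eq {X Y : Scheme.{u}} (u : X ⟶ Y) (h : Y ⟶ S) (s : S) :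
    MoreMor.fiberMap u h s =
      ((Over.pullback (S.fromSpecResidueField s)).map
        (Over.homMk u rfl : Over.mk (u ≫ h) ⟶ Over.mk h)).left := by
  apply pullback.hom_ext
  · simp only [MoreMor.fiberMap, Scheme.Hom.fiberι, Over.pullback_map_left, pullback.lift_fst]
    exact (pullback.lift_fst _ _ _).symm
  · simp only [MoreMor.fiberMap, Scheme.Hom.fiberToSpecResidueField, Over.pullback_map_left,
      pullback.lift_snd]
    exact (pullback.lift_snd _ _ _).symm

/-- On each fibre, a surjective homomorphism onto a group scheme with reduced fibres is flat. -/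
theorem flat_fiberMap_aux {X : Scheme.{u}} (H : Over S) [GrpObj H] (u : X ⟶ H.left)
    [GrpObj (Over.mk (u ≫ H.hom))]
    [IsMonHom (Over.homMk u rfl : Over.mk (u ≫ H.hom) ⟶ H)]
    [GeometricallyReduced H.hom] [Surjective u] (s : S) :
    Flat (MoreMor.fiberMap u H.hom s) := by
  let t := S.fromSpecResidueField s
  let hGs : GrpObj (Over.mk (pullback.snd (u ≫ H.hom) t)) := Over.grpObjMkPullbackSnd
  let hHs : GrpObj (Over.mk (pullback.snd H.hom t)) :=
    @Over.grpObjMkPullbackSnd _ _ _ _ _ _ H.hom t ‹GrpObj H›
  let F : Over.mk (u ≫ H.hom) ⟶ H := Over.homMk u rfl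
  let Fs : Over.mk (pullback.snd (u ≫ H.hom) t) ⟶ Over.mk (pullback.snd H.hom t) :=
    (Over.pullback t).map F
  have hFs : IsMonHom Fs := Functor.map.instIsMonHom (F := Over.pullback t) _ _ F
  rw [fiberMap_eq]
  change Flat Fs.left
  -- `Fs` is the base change of `u`
  have hsnd : Fs.left ≫ pullback.snd H.hom t = pullback.snd (u ≫ H.hom) t := by
    simp only [Fs, F, Over.pullback_map_left, Over.homMk_left]
    exact pullback.lift_snd _ _ _
  have hfst : Fs.left ≫ pullback.fst H.hom t = pullback.fst (u ≫ H.hom) t ≫ u := by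
    simp only [Fs, F, Over.pullback_map_left, Over.homMk_left]
    exact pullback.lift_fst _ _ _
  have hbig : IsPullback (Fs.left ≫ pullback.snd H.hom t) (pullback.fst (u ≫ H.hom) t) t
      (u ≫ H.hom) := by
    rw [hsnd]
    exact (IsPullback.of_hasPullback (u ≫ H.hom) t).flip
  have hsq : IsPullback Fs.left (pullback.fst (u ≫ H.hom) t) (pullback.fst H.hom t) u :=
    IsPullback.of_right hbig hfst (IsPullback.of_hasPullback H.hom t).flip
  have hsurj : Surjective Fs.left :=
    MorphismProperty.of_isPullback (P := @Surjective) hsq.flip ‹Surjective u›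
  have hred : IsReduced (pullback H.hom t) := inferInstanceAs (IsReduced (H.hom.fiber s))
  have hne : Nonempty ↥(pullback H.hom t) :=
    ⟨η[Over.mk (pullback.snd H.hom t)].left (Classical.arbitrary ↥(Spec (S.residueField s)))⟩
  obtain ⟨w, hw⟩ := exists_maximal_point (pullback H.hom t)
  obtain ⟨ξ, hξ⟩ := hsurj.surj w
  have hflat : Flat (Over.mk (pullback.snd (u ≫ H.hom) t)).hom := by
    change Flat (pullback.snd (u ≫ H.hom) t)
    infer_instance
  refine Base.flat_of_flatAt _ _ Fs ξ ?_
  have hred' : IsReduced (Over.mk (pullback.snd H.hom t)).left := hred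
  apply flatAt_of_maximal_of_isReduced
  rw [hξ]
  exact hw

theorem flat_aux {X : Scheme.{u}} (H : Over S) [GrpObj H] (p : X ⟶ S) (u : X ⟶ H.left)
    (hp : u ≫ H.hom = p) [GrpObj (Over.mk p)] [IsMonHom (Over.homMk u hp : Over.mk p ⟶ H)]
    [LocallyOfFinitePresentation p] [Flat p] [LocallyOfFiniteType H.hom]
    [GeometricallyReduced H.hom] [Surjective u] : Flat u ∧ Flat H.hom := by
  subst hp
  obtain ⟨h1, -⟩ := Groth.Agent.S1386.result u H.hom
  have key : ∀ x : X, (H.hom.stalkMap (u x)).hom.Flat ∧ (u.stalkMap x).hom.Flat := by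
    intro x
    refine (h1 x).mp ⟨Flat.stalkMap (u ≫ H.hom) x, ?_⟩
    have := flat_fiberMap_aux H u (H.hom (u x))
    exact Flat.stalkMap _ _
  refine ⟨Flat.of_stalkMap _ fun x => (key x).2, Flat.of_stalkMap _ fun y => ?_⟩
  obtain ⟨x, rfl⟩ := ‹Surjective u›.surj y
  exact (key x).1

/-- A surjective homomorphism from a flat, locally finitely presented group scheme onto a group
scheme locally of finite type with geometrically reduced fibres is flat, and so is the target. -/
theorem flat_of_surjective (G H : Over S) [GrpObj G] [GrpObj H]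
    [LocallyOfFinitePresentation G.hom] [Flat G.hom]
    [LocallyOfFiniteType H.hom] [GeometricallyReduced H.hom]
    (f : G ⟶ H) [IsMonHom f] [Surjective f.left] : Flat f.left ∧ Flat H.hom := by
  letI hG : GrpObj (Over.mk G.hom) := ‹GrpObj G›
  have hf0 : IsMonHom f := inferInstance
  have hf : IsMonHom (Over.homMk f.left (Over.w f) : Over.mk G.hom ⟶ H) := hf0
  exact flat_aux H G.hom f.left (Over.w f)

end Groth.Agent.H38.GrpFibreFlat
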