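import Mathlib
import Groth.Agent.H38.GrpFibreFlat
import Groth.Agent.H38.GrpConnIrr
import Groth.Agent.H90.GrpKerSmooth
import Groth.Agent.H50.LfpCancel
import Groth.Agent.H25.GeomRegSmooth
import Groth.Agent.S0084

/-!
# Base change of a homomorphism of group schemes; isogenies and fibres
-/

set_option autoImplicit false

universe u

namespace Groth.Agent.H38.GrpFibreHom

open CategoryTheory CategoryTheory.Limits MonoidalCategory CartesianMonoidalCategory MonObj GrpObj
  AlgebraicGeometry
open Groth.Agent.H90

section BC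

variable {S T : Scheme.{u}} (t : T ⟶ S) (H : Over S) [GrpObj H] {X : Scheme.{u}} (u : X ⟶ H.left)
  [GrpObj (Over.mk (u ≫ H.hom))] [IsMonHom (Over.homMk u rfl : Over.mk (u ≫ H.hom) ⟶ H)]

/-- The base change of the source. -/
noncomputable abbrev bcG : Over T := Over.mk (pullback.snd (u ≫ H.hom) t)

/-- The base change of the target. -/
noncomputable abbrev bcH : Over T := Over.mk (pullback.snd H.hom t)

noncomputable instance : GrpObj (bcG t H u) := Over.grpObjMkPullbackSnd

noncomputable instance : GrpObj (bcH t H) :=
  @Over.grpObjMkPullbackSnd _ _ _ _ _ _ H.hom t ‹GrpObj H›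

/-- The base change of the homomorphism. -/
noncomputable def bcF : bcG t H u ⟶ bcH t H :=
  (Over.pullback t).map (Over.homMk u rfl : Over.mk (u ≫ H.hom) ⟶ H)

instance : IsMonHom (bcF t H u) :=
  Functor.map.instIsMonHom (F := Over.pullback t) _ _
    (Over.homMk u rfl : Over.mk (u ≫ H.hom) ⟶ H)

lemma bcF_left_snd : (bcF t H u).left ≫ pullback.snd H.hom t = pullback.snd (u ≫ H.hom) t := by
  simp only [bcF, Over.pullback_map_left, Over.homMk_left]
  exact pullback.lift_snd _ _ _

lemma bcF_left_fst :
    (bcF t H u).left ≫ pullback.fst H.hom t = pullback.fst (u ≫ H.hom) t ≫ u := by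
  simp only [bcF, Over.pullback_map_left, Over.homMk_left]
  exact pullback.lift_fst _ _ _

/-- The base change of the homomorphism is a base change of the underlying morphism. -/
lemma isPullback_bcF :
    IsPullback (bcF t H u).left (pullback.fst (u ≫ H.hom) t) (pullback.fst H.hom t) u := by
  have hbig : IsPullback ((bcF t H u).left ≫ pullback.snd H.hom t) (pullback.fst (u ≫ H.hom) t) t
      (u ≫ H.hom) := by
    rw [bcF_left_snd]
    exact (IsPullback.of_hasPullback (u ≫ H.hom) t).flip
  exact IsPullback.of_right hbig (bcF_left_fst t H u) (IsPullback.of_hasPullback H.hom t).flip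

end BC

section Field

variable {S : Scheme.{u}} (K : Type u) [Field K] (t : Spec (CommRingCat.of K) ⟶ S)
  (H : Over S) [GrpObj H] {X : Scheme.{u}} (u : X ⟶ H.left)
  [GrpObj (Over.mk (u ≫ H.hom))] [IsMonHom (Over.homMk u rfl : Over.mk (u ≫ H.hom) ⟶ H)]

lemma quasiCompact_bcF [QuasiCompact (u ≫ H.hom)] [QuasiSeparated H.hom] :
    QuasiCompact (bcF t H u).left := by
  have : QuasiCompact ((bcF t H u).left ≫ pullback.snd H.hom t) := by
    rw [bcF_left_snd]; infer_instance
  exact QuasiCompact.of_comp _ (pullback.snd H.hom t)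

/-- On a connected fibre, a flat, locally finitely presented homomorphism is surjective. -/
theorem surjective_bcF [Flat u] [LocallyOfFinitePresentation u] [QuasiCompact (u ≫ H.hom)]
    [QuasiSeparated H.hom] [ConnectedSpace ↥(pullback H.hom t)] :
    Surjective (bcF t H u).left := by
  have hqc := quasiCompact_bcF K t H u
  have hflat : Flat (bcF t H u).left :=
    MorphismProperty.of_isPullback (P := @Flat) (isPullback_bcF t H u).flip inferInstance
  have hlfp : LocallyOfFinitePresentation (bcF t H u).left :=
    MorphismProperty.of_isPullback (P := @LocallyOfFinitePresentation)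
      (isPullback_bcF t H u).flip inferInstance
  have hopen : IsOpenMap (bcF t H u).left := (bcF t H u).left.isOpenMap
  have hconn : ConnectedSpace ↥(bcH t H).left := ‹ConnectedSpace ↥(pullback H.hom t)›
  have hirr : IrreducibleSpace ↥(bcH t H).left :=
    Groth.Agent.H38.GrpConnIrr.irreducibleSpace_of_connectedSpace K (bcH t H)
  have hne : Nonempty ↥(bcG t H u).left :=
    ⟨η[bcG t H u].left (Classical.arbitrary ↥(Spec (CommRingCat.of K)))⟩
  have hdense : DenseRange (bcF t H u).left.base :=
    hopen.isOpen_range.dense (Set.range_nonempty _)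
  exact ⟨surjective_of_quasiCompact_dominant K _ _ (bcF t H u) hdense⟩

/-- On a connected fibre, a flat, locally quasi-finite, locally finitely presented homomorphism
is finite. -/
theorem isFinite_bcF [Flat u] [LocallyQuasiFinite u] [LocallyOfFinitePresentation u]
    [QuasiCompact (u ≫ H.hom)] [QuasiSeparated H.hom] [ConnectedSpace ↥(pullback H.hom t)] :
    IsFinite (bcF t H u).left := by
  have hsurj := surjective_bcF K t H u
  have hqc := quasiCompact_bcF K t H u
  have hflat : Flat (bcF t H u).left :=
    MorphismProperty.of_isPullback (P := @Flat) (isPullback_bcF t H u).flip inferInstance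
  have hlqf : LocallyQuasiFinite (bcF t H u).left :=
    MorphismProperty.of_isPullback (P := @LocallyQuasiFinite) (isPullback_bcF t H u).flip
      inferInstance
  -- the kernel
  obtain ⟨N, i, hN⟩ : ∃ (N : Over (Spec (CommRingCat.of K))) (i : N ⟶ bcG t H u),
      IsPullback i (toUnit N) (bcF t H u) η[bcH t H] := by
    refine ⟨pullback (bcF t H u) η[bcH t H], pullback.fst _ _, ?_⟩
    have h := IsPullback.of_hasPullback (bcF t H u) η[bcH t H]
    rwa [toUnit_unique (pullback.snd (bcF t H u) η[bcH t H]) (toUnit _)] at h
  have sqN := hN.map (Over.forget (Spec (CommRingCat.of K)))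
  simp only [Over.forget_obj, Over.forget_map] at sqN
  have h1 : LocallyQuasiFinite (toUnit N).left :=
    MorphismProperty.of_isPullback (P := @LocallyQuasiFinite) sqN hlqf
  have h2 : QuasiCompact (toUnit N).left :=
    MorphismProperty.of_isPullback (P := @QuasiCompact) sqN hqc
  have hNhom : N.hom = (toUnit N).left ≫ (𝟙_ (Over (Spec (CommRingCat.of K)))).hom :=
    (Over.w (toUnit N)).symm
  have h3 : IsIso (𝟙_ (Over (Spec (CommRingCat.of K)))).hom :=
    inferInstanceAs (IsIso (𝟙 (Spec (CommRingCat.of K))))
  have hNfin : IsFinite N.hom := by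
    have : LocallyQuasiFinite N.hom := by rw [hNhom]; infer_instance
    have : QuasiCompact N.hom := by rw [hNhom]; infer_instance
    exact IsFinite.of_locallyQuasiFinite N.hom
  have sq := (isPullback_shear_of_isKernel (bcF t H u) i hN).map
    (Over.forget (Spec (CommRingCat.of K)))
  simp only [Over.forget_obj, Over.forget_map] at sq
  have hfst : IsFinite (fst (bcG t H u) N).left := by
    rw [Over.fst_left]; infer_instance
  haveI := Groth.Agent.S0084.result.{u}
  exact MorphismProperty.of_isPullback_of_descendsAlong (P := @IsFinite)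
    (Q := @Surjective ⊓ @Flat ⊓ @QuasiCompact) sq ⟨⟨hsurj, hflat⟩, hqc⟩ hfst

end Field

section Main

variable {S : Scheme.{u}} (H : Over S) [GrpObj H] {X : Scheme.{u}} (u : X ⟶ H.left)
  [GrpObj (Over.mk (u ≫ H.hom))] [IsMonHom (Over.homMk u rfl : Over.mk (u ≫ H.hom) ⟶ H)]

/-- The base change of `u` to the fibre `H_s` is the fibre homomorphism, up to an isomorphism of
the sources. -/
lemma exists_iso_snd_fiberι (s : S) :
    ∃ e : pullback u (H.hom.fiberι s) ≅ pullback (u ≫ H.hom) (S.fromSpecResidueField s),
      pullback.snd u (H.hom.fiberι s) = e.hom ≫ (bcF (S.fromSpecResidueField s) H u).left := by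
  have h := (isPullback_bcF (S.fromSpecResidueField s) H u).flip
  refine ⟨h.isoPullback.symm, ?_⟩
  change pullback.snd u (pullback.fst H.hom (S.fromSpecResidueField s)) = h.isoPullback.inv ≫ _
  rw [Iso.eq_inv_comp]
  exact h.isoPullback_hom_snd

theorem isogeny_iff_aux [Smooth (u ≫ H.hom)] [QuasiCompact (u ≫ H.hom)] [Smooth H.hom]
    [IsSeparated H.hom] [GeometricallyConnected H.hom] :
    (Flat u ∧ LocallyQuasiFinite u ∧ LocallyOfFinitePresentation u) ↔
      ∀ s : S, IsFinite (pullback.snd u (H.hom.fiberι s)) ∧
        Surjective (pullback.snd u (H.hom.fiberι s)) := by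
  constructor
  · rintro ⟨h1, h2, h3⟩ s
    obtain ⟨e, he⟩ := exists_iso_snd_fiberι H u s
    let K : Type u := S.residueField s
    let t : Spec (CommRingCat.of K) ⟶ S := S.fromSpecResidueField s
    have hconn : ConnectedSpace ↥(pullback H.hom t) :=
      inferInstanceAs (ConnectedSpace (H.hom.fiber s))
    have hfin : IsFinite (bcF (S.fromSpecResidueField s) H u).left := isFinite_bcF K t H u
    have hsurj : Surjective (bcF (S.fromSpecResidueField s) H u).left := surjective_bcF K t H u
    rw [he]
    exact ⟨(MorphismProperty.cancel_left_of_respectsIso @IsFinite e.hom _).mpr hfin,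
      (MorphismProperty.cancel_left_of_respectsIso @Surjective e.hom _).mpr hsurj⟩
  · intro h
    have hsurj : Surjective u := by
      refine ⟨fun y => ?_⟩
      have hy : y ∈ Set.range (H.hom.fiberι (H.hom y)) := by
        rw [Scheme.Hom.range_fiberι]; rfl
      obtain ⟨y', hy'⟩ := hy
      obtain ⟨z, hz⟩ := (h (H.hom y)).2.surj y'
      refine ⟨pullback.fst u (H.hom.fiberι _) z, ?_⟩
      rw [← Scheme.Hom.comp_apply, pullback.condition, Scheme.Hom.comp_apply, hz, hy']
    have hred : GeometricallyReduced H.hom :=
      Groth.Agent.H25.GeomRegSmooth.geometricallyReduced_of_smooth H.hom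
    have hflat : Flat u := (Groth.Agent.H38.GrpFibreFlat.flat_aux H (u ≫ H.hom) u rfl).1
    have hlfp : LocallyOfFinitePresentation u :=
      Groth.Agent.H50.locallyOfFinitePresentation_of_comp u H.hom inferInstance inferInstance
    refine ⟨hflat, ?_, hlfp⟩
    refine LocallyQuasiFinite.of_finite_preimage_singleton u fun y => ?_
    have hy : y ∈ Set.range (H.hom.fiberι (H.hom y)) := by
      rw [Scheme.Hom.range_fiberι]; rfl
    obtain ⟨y', hy'⟩ := hy
    have hfin := (h (H.hom y)).1
    have hfin' := (pullback.snd u (H.hom.fiberι (H.hom y))).finite_preimage_singleton y'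
    refine (hfin'.image (pullback.fst u (H.hom.fiberι (H.hom y)))).subset ?_
    intro x hx
    have hx' : u x = H.hom.fiberι (H.hom y) y' := by rw [hy']; exact hx
    obtain ⟨z, hz1, hz2⟩ := Scheme.Pullback.exists_preimage_pullback x y' hx'
    exact ⟨z, hz2, hz1⟩

theorem isogeny_iff_aux' {X : Scheme.{u}} (H : Over S) [GrpObj H] (p : X ⟶ S) (u : X ⟶ H.left)
    (hp : u ≫ H.hom = p) [GrpObj (Over.mk p)] [IsMonHom (Over.homMk u hp : Over.mk p ⟶ H)]
    [Smooth p] [QuasiCompact p] [Smooth H.hom]
    [IsSeparated H.hom] [GeometricallyConnected H.hom] :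
    (Flat u ∧ LocallyQuasiFinite u ∧ LocallyOfFinitePresentation u) ↔
      ∀ s : S, IsFinite (pullback.snd u (H.hom.fiberι s)) ∧
        Surjective (pullback.snd u (H.hom.fiberι s)) := by
  subst hp
  exact isogeny_iff_aux H u

/-- A homomorphism of smooth, separated, quasi-compact group schemes with geometrically connected
fibres is an isogeny iff it is finite and surjective on each fibre. -/
theorem isogeny_iff (G H : Over S) [GrpObj G] [GrpObj H]
    [Smooth G.hom] [QuasiCompact G.hom]
    [Smooth H.hom] [IsSeparated H.hom] [GeometricallyConnected H.hom]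
    (f : G ⟶ H) [IsMonHom f] :
    (Flat f.left ∧ LocallyQuasiFinite f.left ∧ LocallyOfFinitePresentation f.left) ↔
      ∀ s : S, IsFinite (pullback.snd f.left (H.hom.fiberι s)) ∧
        Surjective (pullback.snd f.left (H.hom.fiberι s)) := by
  letI hG : GrpObj (Over.mk G.hom) := ‹GrpObj G›
  have hf0 : IsMonHom f := inferInstance
  have hf : IsMonHom (Over.homMk f.left (Over.w f) : Over.mk G.hom ⟶ H) := hf0
  exact isogeny_iff_aux' H G.hom f.left (Over.w f)

end Main

end Groth.Agent.H38.GrpFibreHom
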