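import Mathlib
import Groth.Agent.H38.GrpFibreHom

/-!
# The locus of points of the base over which a homomorphism is flat
-/

set_option autoImplicit false

universe u

namespace Groth.Agent.H38.GrpFibreFlatLocus

open CategoryTheory CategoryTheory.Limits MonoidalCategory CartesianMonoidalCategory MonObj GrpObj
  AlgebraicGeometry
open Groth.Agent.H38.GrpFibreHom Groth.Agent.H38.GrpFibreFlat Groth.Agent.H90

variable {S : Scheme.{u}}

section

variable (H : Over S) [GrpObj H] {X : Scheme.{u}} (u : X ⟶ H.left)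
  [GrpObj (Over.mk (u ≫ H.hom))] [IsMonHom (Over.homMk u rfl : Over.mk (u ≫ H.hom) ⟶ H)]

/-- `u` is flat at `x` iff the fibre homomorphism through `x` is flat. -/
theorem flatAt_iff [Flat (u ≫ H.hom)] [LocallyOfFinitePresentation (u ≫ H.hom)]
    [LocallyOfFiniteType H.hom] (x : X) (s : S) (hs : (u ≫ H.hom) x = s) :
    (u.stalkMap x).hom.Flat ↔ Flat (bcF (S.fromSpecResidueField s) H u).left := by
  subst hs
  obtain ⟨h1, -⟩ := Groth.Agent.S1386.result u H.hom
  have hfl : Flat (bcG (S.fromSpecResidueField ((u ≫ H.hom) x)) H u).hom := by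
    change Flat (pullback.snd (u ≫ H.hom) _)
    infer_instance
  constructor
  · intro hx
    have hH : (H.hom.stalkMap (u x)).hom.Flat := by
      have hc : ((u ≫ H.hom).stalkMap x).hom.Flat := Flat.stalkMap _ x
      rw [Scheme.Hom.stalkMap_comp] at hc
      have : IsLocalHom (u.stalkMap x).hom := u.toLRSHom.prop x
      exact Groth.Agent.H40.ringHom_flat_of_comp _ _ hx hc
    have h2 := ((h1 x).mpr ⟨hH, hx⟩).2
    rw [fiberMap_eq] at h2
    exact Base.flat_of_flatAt _ _ (bcF (S.fromSpecResidueField ((u ≫ H.hom) x)) H u) _ h2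
  · intro hfl'
    have h2 : FlatAt (bcF (S.fromSpecResidueField ((u ≫ H.hom) x)) H u).left
        ((u ≫ H.hom).asFiber x) := flatAt_of_flat _ _
    refine ((h1 x).mp ⟨Flat.stalkMap _ x, ?_⟩).2
    rw [fiberMap_eq]
    exact h2

theorem flatLocus_aux0 [Flat (u ≫ H.hom)] [LocallyOfFinitePresentation (u ≫ H.hom)]
    [LocallyOfFiniteType H.hom] :
    IsOpen {s : S | Flat (bcF (S.fromSpecResidueField s) H u).left} ∧
    {x : X | (u.stalkMap x).hom.Flat} =
      (u ≫ H.hom).base ⁻¹' {s : S | Flat (bcF (S.fromSpecResidueField s) H u).left} := by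
  have hset : {x : X | (u.stalkMap x).hom.Flat} =
      (u ≫ H.hom).base ⁻¹' {s : S | Flat (bcF (S.fromSpecResidueField s) H u).left} := by
    ext x
    exact flatAt_iff H u x _ rfl
  refine ⟨?_, hset⟩
  obtain ⟨-, hopen⟩ := Groth.Agent.S1386.result u H.hom
  have hW : {x : X | (H.hom.stalkMap (u x)).hom.Flat ∧ (u.stalkMap x).hom.Flat} =
      {x : X | (u.stalkMap x).hom.Flat} := by
    ext x
    refine ⟨fun h => h.2, fun hx => ⟨?_, hx⟩⟩
    have hc : ((u ≫ H.hom).stalkMap x).hom.Flat := Flat.stalkMap _ x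
    rw [Scheme.Hom.stalkMap_comp] at hc
    have : IsLocalHom (u.stalkMap x).hom := u.toLRSHom.prop x
    exact Groth.Agent.H40.ringHom_flat_of_comp _ _ hx hc
  rw [hW] at hopen
  have himg : {s : S | Flat (bcF (S.fromSpecResidueField s) H u).left} =
      (u ≫ H.hom) '' {x : X | (u.stalkMap x).hom.Flat} := by
    ext s
    constructor
    · intro hs
      have hsec : η[Over.mk (u ≫ H.hom)].left ≫ (u ≫ H.hom) = 𝟙 S :=
        Over.w η[Over.mk (u ≫ H.hom)]
      have hx : (u ≫ H.hom) (η[Over.mk (u ≫ H.hom)].left s) = s := by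
        rw [← Scheme.Hom.comp_apply, hsec]; rfl
      exact ⟨η[Over.mk (u ≫ H.hom)].left s, (flatAt_iff H u _ s hx).mpr hs, hx⟩
    · rintro ⟨x, hx, rfl⟩
      exact (flatAt_iff H u x _ rfl).mp hx
  rw [himg]
  exact (u ≫ H.hom).isOpenMap _ hopen

end

theorem flatLocus_aux {X : Scheme.{u}} (H : Over S) [GrpObj H] (p : X ⟶ S) (u : X ⟶ H.left)
    (hp : u ≫ H.hom = p) [GrpObj (Over.mk p)] [IsMonHom (Over.homMk u hp : Over.mk p ⟶ H)]
    [Flat p] [LocallyOfFinitePresentation p] [LocallyOfFiniteType H.hom] :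
    IsOpen {s : S | Flat ((Over.pullback (S.fromSpecResidueField s)).map
      (Over.homMk u hp : Over.mk p ⟶ H)).left} ∧
    {x : X | (u.stalkMap x).hom.Flat} = p.base ⁻¹' {s : S |
      Flat ((Over.pullback (S.fromSpecResidueField s)).map
        (Over.homMk u hp : Over.mk p ⟶ H)).left} := by
  subst hp
  exact flatLocus_aux0 H u

/-- The set of points of the base over which a homomorphism (from a flat, locally finitely
presented group scheme) is flat is open, and the flat locus of the homomorphism is its inverse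
image. -/
theorem flatLocus (G H : Over S) [GrpObj G] [GrpObj H] (u : G ⟶ H) [IsMonHom u]
    [Flat G.hom] [LocallyOfFinitePresentation G.hom] [LocallyOfFiniteType H.hom] :
    IsOpen {s : S | Flat ((Over.pullback (S.fromSpecResidueField s)).map u).left} ∧
    {x : G.left | (u.left.stalkMap x).hom.Flat} = G.hom.base ⁻¹' {s : S |
      Flat ((Over.pullback (S.fromSpecResidueField s)).map u).left} := by
  letI hG : GrpObj (Over.mk G.hom) := ‹GrpObj G›
  have hf0 : IsMonHom u := inferInstance
  have hf : IsMonHom (Over.homMk u.left (Over.w u) : Over.mk G.hom ⟶ H) := hf0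
  exact flatLocus_aux H G.hom u.left (Over.w u)

end Groth.Agent.H38.GrpFibreFlatLocus
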