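import Mathlib
import Groth.Agent.H38.GrpConnComp
import Groth.Agent.H12.Topo
import Groth.Prelude.Def_Red
import Groth.Prelude.Def_SGA3x

/-!
# The union of the neutral components of the fibres of a group scheme
-/

set_option autoImplicit false

universe u

namespace Groth.Agent.H38.NeutralSet

open CategoryTheory CategoryTheory.Limits MonoidalCategory CartesianMonoidalCategory MonObj GrpObj
  AlgebraicGeometry
open Groth.Agent.H38.GrpComp

section Top

variable {X Y : Type*} [TopologicalSpace X] [TopologicalSpace Y]

/-- Connected components relative to the range of an embedding. -/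
theorem connectedComponentIn_eq_image_of_isEmbedding {j : Y → X} (hj : Topology.IsEmbedding j)
    (F : Set X) (hF : Set.range j = F) (y : Y) :
    connectedComponentIn F (j y) = j '' connectedComponent y := by
  subst hF
  apply subset_antisymm
  · have hsub : connectedComponentIn (Set.range j) (j y) ⊆ Set.range j :=
      connectedComponentIn_subset _ _
    have himg : j '' (j ⁻¹' connectedComponentIn (Set.range j) (j y)) =
        connectedComponentIn (Set.range j) (j y) :=
      Set.image_preimage_eq_of_subset hsub
    have hpre : IsPreconnected (j ⁻¹' connectedComponentIn (Set.range j) (j y)) := by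
      rw [← hj.isInducing.isPreconnected_image, himg]
      exact isPreconnected_connectedComponentIn
    have hy : y ∈ j ⁻¹' connectedComponentIn (Set.range j) (j y) :=
      mem_connectedComponentIn ⟨y, rfl⟩
    rw [← himg]
    exact Set.image_mono (hpre.subset_connectedComponent hy)
  · exact (isPreconnected_connectedComponent.image _ hj.continuous.continuousOn).subset_connectedComponentIn
      ⟨y, mem_connectedComponent, rfl⟩ (Set.image_subset_range _ _)

end Top

section Fibre

variable {S : Scheme.{u}} (G : Over S) [GrpObj G] (s : S)

/-- The point `s` as a morphism from the spectrum of its residue field. -/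
noncomputable abbrev ts : Spec (CommRingCat.of ↑(S.residueField s)) ⟶ S := S.fromSpecResidueField s

/-- The fibre of `G` over `s` as a group scheme over the residue field. -/
noncomputable abbrev Gs : Over (Spec (CommRingCat.of ↑(S.residueField s))) := Red.bc (ts s) G

/-- The unit point of the fibre. -/
noncomputable abbrev es : ↥(Gs G s).left := unitPt (S.residueField s) (Gs G s)

lemma fst_es : (pullback.fst G.hom (ts s)) (es G s) = η[G].left s := by
  have h : η[Red.bc (ts s) G].left ≫ pullback.fst G.hom (ts s) = ts s ≫ η[G].left := by
    letI : GrpObj (Over.mk G.hom) := ‹GrpObj G›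
    exact Groth.Agent.H38.GrpConnComp.one_left_fst G.hom (ts s)
  have h2 := congrArg (fun f => f (IsLocalRing.closedPoint (S.residueField s))) h
  simp only [Scheme.Hom.comp_apply] at h2
  refine h2.trans ?_
  congr 1
  exact Scheme.fromSpecResidueField_apply _ _

lemma range_fst : Set.range (pullback.fst G.hom (ts s)) = G.hom.base ⁻¹' {s} :=
  G.hom.range_fiberι s

lemma isEmbedding_fst : Topology.IsEmbedding (pullback.fst G.hom (ts s)) :=
  (G.hom.fiberι s).isEmbedding

/-- The neutral component of the topological fibre over `s`. -/
theorem connectedComponentIn_fibre_eq :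
    connectedComponentIn (G.hom.base ⁻¹' {s}) (η[G].left.base s) =
      (pullback.fst G.hom (ts s)) '' connectedComponent (es G s) := by
  have h := connectedComponentIn_eq_image_of_isEmbedding (isEmbedding_fst G s) _ (range_fst G s)
    (es G s)
  rw [fst_es] at h
  exact h

theorem neutralSet_eq :
    SGA3x.neutralSet G = ⋃ s : S, (pullback.fst G.hom (ts s)) '' connectedComponent (es G s) := by
  unfold SGA3x.neutralSet
  refine Set.iUnion_congr fun s => ?_
  exact connectedComponentIn_fibre_eq G s

lemma hom_fst (x : ↥(Gs G s).left) : G.hom (pullback.fst G.hom (ts s) x) = s := by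
  have h : pullback.fst G.hom (ts s) x ∈ Set.range (pullback.fst G.hom (ts s)) := ⟨x, rfl⟩
  rw [range_fst] at h
  exact h

/-- A point of the fibre over `s` lies in the neutral set iff it lies in the neutral component
of the fibre. -/
theorem fst_mem_neutralSet_iff (x : ↥(Gs G s).left) :
    pullback.fst G.hom (ts s) x ∈ SGA3x.neutralSet G ↔ x ∈ connectedComponent (es G s) := by
  rw [neutralSet_eq]
  constructor
  · intro h
    obtain ⟨s', x', hx', hxx'⟩ := Set.mem_iUnion.mp h
    have hs : s' = s := by
      rw [← hom_fst G s' x', hxx', hom_fst G s x]
    subst hs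
    rw [← (isEmbedding_fst G s').injective hxx']
    exact hx'
  · intro h
    exact Set.mem_iUnion.mpr ⟨s, x, h, rfl⟩

/-- Every point of the neutral set comes from the neutral component of a fibre. -/
theorem exists_of_mem_neutralSet {g : ↥G.left} (hg : g ∈ SGA3x.neutralSet G) :
    ∃ x : ↥(Gs G (G.hom g)).left, x ∈ connectedComponent (es G (G.hom g)) ∧
      pullback.fst G.hom (ts (G.hom g)) x = g := by
  rw [neutralSet_eq] at hg
  obtain ⟨s', x', hx', rfl⟩ := Set.mem_iUnion.mp hg
  have hs : G.hom (pullback.fst G.hom (ts s') x') = s' := hom_fst G s' x'
  rw [hs]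
  exact ⟨x', hx', rfl⟩

end Fibre

end Groth.Agent.H38.NeutralSet
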