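import Mathlib
import Groth.Agent.H38.NeutralSet
import Groth.Agent.H38.GrpFibreFlatLocus
import Groth.Agent.H90.GrpOpenClosed

/-!
# Neutral components and homomorphisms
-/

set_option autoImplicit false

universe u

namespace Groth.Agent.H38.NeutralSetHom

open CategoryTheory CategoryTheory.Limits MonoidalCategory CartesianMonoidalCategory MonObj GrpObj
  AlgebraicGeometry
open Groth.Agent.H38.GrpComp Groth.Agent.H38.NeutralSet Groth.Agent.H90

variable {S : Scheme.{u}} (G H : Over S) [GrpObj G] [GrpObj H] (u : G ⟶ H) [IsMonHom u] (s : S)

/-- The homomorphism induced on the fibres over `s`. -/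
noncomputable abbrev us : Gs G s ⟶ Gs H s := (Over.pullback (ts s)).map u

instance : IsMonHom (us G H u s) :=
  Functor.map.instIsMonHom (F := Over.pullback (ts s)) _ _ u

lemma us_left_fst :
    (us G H u s).left ≫ pullback.fst H.hom (ts s) = pullback.fst G.hom (ts s) ≫ u.left := by
  simp only [Over.pullback_map_left]
  exact pullback.lift_fst _ _ _

lemma us_left_snd :
    (us G H u s).left ≫ pullback.snd H.hom (ts s) = pullback.snd G.hom (ts s) := by
  simp only [Over.pullback_map_left]
  exact pullback.lift_snd _ _ _

lemma fst_us_apply (x : ↥(Gs G s).left) :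
    pullback.fst H.hom (ts s) ((us G H u s).left x) = u.left (pullback.fst G.hom (ts s) x) := by
  rw [← Scheme.Hom.comp_apply, us_left_fst, Scheme.Hom.comp_apply]

lemma isPullback_us :
    IsPullback (us G H u s).left (pullback.fst G.hom (ts s)) (pullback.fst H.hom (ts s)) u.left := by
  have hbig : IsPullback ((us G H u s).left ≫ pullback.snd H.hom (ts s))
      (pullback.fst G.hom (ts s)) (ts s) (u.left ≫ H.hom) := by
    rw [us_left_snd, Over.w u]
    exact (IsPullback.of_hasPullback G.hom (ts s)).flip
  exact IsPullback.of_right hbig (us_left_fst G H u s) (IsPullback.of_hasPullback H.hom (ts s)).flip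

lemma us_es : (us G H u s).left (es G s) = es H s := by
  have h : η[Gs G s] ≫ us G H u s = η[Gs H s] := IsMonHom.one_hom (us G H u s)
  have h2 := congrArg (fun f => f.left (IsLocalRing.closedPoint (S.residueField s))) h
  simpa only [Over.comp_left, Scheme.Hom.comp_apply] using h2

/-- A homomorphism maps the neutral set into the neutral set. -/
theorem image_neutralSet_subset : u.left.base '' SGA3x.neutralSet G ⊆ SGA3x.neutralSet H := by
  rintro _ ⟨g, hg, rfl⟩
  obtain ⟨x, hx, hxg⟩ := exists_of_mem_neutralSet G hg
  rw [← hxg, ← fst_us_apply, fst_mem_neutralSet_iff]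
  have h := Continuous.image_connectedComponent_subset (us G H u (G.hom g)).left.continuous
    (es G (G.hom g))
  rw [us_es] at h
  exact h ⟨x, hx, rfl⟩

/-- Fibres locally of finite type are locally connected. -/
lemma locallyConnectedSpace_Gs [LocallyOfFiniteType G.hom] :
    LocallyConnectedSpace ↥(Gs G s).left := by
  have hlft : LocallyOfFiniteType (Gs G s).hom := by
    change LocallyOfFiniteType (pullback.snd G.hom (ts s))
    infer_instance
  haveI : IsLocallyNoetherian (Gs G s).left := LocallyOfFiniteType.isLocallyNoetherian (Gs G s).hom
  apply Groth.Agent.H12.locallyConnectedSpace_of_locallyNoetherian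
  intro x
  obtain ⟨W, hW, hxW, -⟩ := exists_isAffineOpen_mem_and_subset (x := x) (U := ⊤) trivial
  haveI := IsLocallyNoetherian.component_noetherian ⟨W, hW⟩
  exact ⟨W, W.2.mem_nhds hxW, noetherianSpace_of_isAffineOpen W hW⟩

/-- On a fibre, a flat homomorphism maps the neutral component onto the neutral component. -/
theorem connectedComponent_subset_image [LocallyOfFinitePresentation G.hom]
    [LocallyOfFiniteType H.hom] [Flat u.left] :
    connectedComponent (es H s) ⊆ (us G H u s).left '' connectedComponent (es G s) := by
  obtain ⟨G₀, _, incl, _, -, -, hrange, -, -⟩ :=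
    Groth.Agent.H38.GrpConnComp.exists_identityComponent (S.residueField s) (Gs G s)
  have hlc := locallyConnectedSpace_Gs G s
  have hflat : Flat (us G H u s).left :=
    MorphismProperty.of_isPullback (P := @Flat) (isPullback_us G H u s).flip inferInstance
  have hlfp : LocallyOfFinitePresentation (us G H u s).left := by
    refine Groth.Agent.H50.locallyOfFinitePresentation_of_comp _ (pullback.snd H.hom (ts s)) ?_
      inferInstance
    rw [us_left_snd]
    infer_instance
  have hrange' : Set.range (incl ≫ us G H u s).left =
      (us G H u s).left '' connectedComponent (es G s) := by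
    rw [Over.comp_left, ← hrange]
    ext y
    simp only [Set.mem_range, Set.mem_image, Scheme.Hom.comp_apply, exists_exists_eq_and]
  have hopen : IsOpen (Set.range (incl ≫ us G H u s).left) := by
    rw [hrange']
    exact (us G H u s).left.isOpenMap _ isOpen_connectedComponent
  have hclosed := isClosed_range_of_isOpen (S.residueField s) G₀ (Gs H s) (incl ≫ us G H u s) hopen
  rw [← hrange']
  refine IsClopen.connectedComponent_subset ⟨hclosed, hopen⟩ ?_
  rw [hrange']
  exact ⟨es G s, mem_connectedComponent, us_es G H u s⟩

/-- A flat homomorphism maps the neutral set onto the neutral set. -/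
theorem image_neutralSet_eq [LocallyOfFinitePresentation G.hom] [LocallyOfFiniteType H.hom]
    [Flat u.left] : u.left.base '' SGA3x.neutralSet G = SGA3x.neutralSet H := by
  refine subset_antisymm (image_neutralSet_subset G H u) ?_
  intro h hh
  obtain ⟨y, hy, hyh⟩ := exists_of_mem_neutralSet H hh
  obtain ⟨x, hx, hxy⟩ := connectedComponent_subset_image G H u (H.hom h) hy
  refine ⟨pullback.fst G.hom (ts (H.hom h)) x, (fst_mem_neutralSet_iff G _ x).mpr hx, ?_⟩
  rw [← fst_us_apply, hxy, hyh]

/-- If the fibre `H_s` is reduced and the neutral set of `H` lies in the image of `u`, then the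
fibre homomorphism `u_s` is flat. -/
theorem flat_us_of_subset_image (hred : IsReduced (H.hom.fiber s))
    (himg : SGA3x.neutralSet H ⊆ u.left.base '' SGA3x.neutralSet G) :
    Flat (us G H u s).left := by
  have hred' : IsReduced (Gs H s).left := hred
  -- a maximal point of the neutral component of `H_s`
  have h1 : IsIrreducible (irreducibleComponent (es H s)) := isIrreducible_irreducibleComponent
  have h2 : IsClosed (irreducibleComponent (es H s)) := isClosed_irreducibleComponent
  obtain ⟨w, hw⟩ := QuasiSober.sober h1 h2
  have hwmax : closure {w} ∈ irreducibleComponents ↥(Gs H s).left := by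
    rw [hw.def]
    exact irreducibleComponent_mem_irreducibleComponents _
  have hwcc : w ∈ connectedComponent (es H s) := by
    have hsub : irreducibleComponent (es H s) ⊆ connectedComponent (es H s) :=
      h1.isConnected.isPreconnected.subset_connectedComponent mem_irreducibleComponent
    apply hsub
    rw [← hw.def]
    exact subset_closure rfl
  have hmem : pullback.fst H.hom (ts s) w ∈ SGA3x.neutralSet H :=
    (fst_mem_neutralSet_iff H s w).mpr hwcc
  obtain ⟨g, hg, hgw⟩ := himg hmem
  have hgs : G.hom g = s := by
    have e1 : H.hom (u.left g) = s := by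
      have : u.left g = pullback.fst H.hom (ts s) w := hgw
      rw [this]
      exact hom_fst H s w
    rw [← e1, ← Scheme.Hom.comp_apply, Over.w u]
  obtain ⟨x, -, hxg⟩ := exists_of_mem_neutralSet G hg
  subst hgs
  have hxw : (us G H u (G.hom g)).left x = w := by
    apply (isEmbedding_fst H (G.hom g)).injective
    rw [fst_us_apply, hxg]
    exact hgw
  have hfl : Flat (Gs G (G.hom g)).hom := by
    change Flat (pullback.snd G.hom (ts (G.hom g)))
    infer_instance
  refine Base.flat_of_flatAt _ _ (us G H u (G.hom g)) x ?_
  apply flatAt_of_maximal_of_isReduced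
  rw [hxw]
  exact hwmax

/-- A homomorphism which is flat on every fibre is flat. -/
theorem flat_of_forall_flat_us [Flat G.hom] [LocallyOfFinitePresentation G.hom]
    [LocallyOfFiniteType H.hom] (h : ∀ s : S, Flat (us G H u s).left) : Flat u.left := by
  have h2 := (Groth.Agent.H38.GrpFibreFlatLocus.flatLocus G H u).2
  apply Flat.of_stalkMap
  intro x
  have hx : x ∈ G.hom.base ⁻¹' {s : S | Flat ((Over.pullback (S.fromSpecResidueField s)).map u).left} :=
    h (G.hom x)
  rw [← h2] at hx
  exact hx

/-- If `G` is flat, the fibres of `H` are reduced and `u` maps the neutral set of `G` onto that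
of `H`, then `u` is flat. -/
theorem flat_of_image_neutralSet_eq [Flat G.hom] [LocallyOfFinitePresentation G.hom]
    [LocallyOfFiniteType H.hom] (hred : ∀ s : S, IsReduced (H.hom.fiber s))
    (himg : u.left.base '' SGA3x.neutralSet G = SGA3x.neutralSet H) : Flat u.left :=
  flat_of_forall_flat_us G H u fun s => flat_us_of_subset_image G H u s (hred s) himg.ge

end Groth.Agent.H38.NeutralSetHom
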