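import Mathlib
import Groth.Agent.H51.GrpFieldDim
import Groth.Agent.H49.CMFieldBCScheme
import Groth.Agent.H49.CMLocalize
import Groth.Agent.H72.FlatCM
import Groth.Agent.H90.GrpMinPrime

/-!
# The local rings of a group scheme locally of finite type over a field are Cohen–Macaulay
-/

set_option autoImplicit false
universe u

open CategoryTheory MonoidalCategory CartesianMonoidalCategory MonObj GrpObj AlgebraicGeometry
open Limits

namespace Groth.Agent.H38.GrpCM

/-- Cohen–Macaulayness of stalks is invariant under isomorphisms of schemes. -/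
theorem cm_stalk_iff_of_isIso {X Y : Scheme.{u}} (f : X ⟶ Y) [IsIso f] (x : X) :
    LocCoh.IsCohenMacaulayLocalRing (Y.presheaf.stalk (f x)) ↔
      LocCoh.IsCohenMacaulayLocalRing (X.presheaf.stalk x) := by
  have e : Y.presheaf.stalk (f x) ≃+* X.presheaf.stalk x :=
    (asIso (f.stalkMap x)).commRingCatIsoToRingEquiv
  exact ⟨fun h => Groth.Agent.H49.isCohenMacaulayLocalRing_of_ringEquiv e h,
    fun h => Groth.Agent.H49.isCohenMacaulayLocalRing_of_ringEquiv e.symm h⟩

/-- The stalk at a maximal point of a locally Noetherian scheme is Cohen–Macaulay. -/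
theorem cm_stalk_of_maximal (X : Scheme.{u}) [IsLocallyNoetherian X] (ξ : X)
    (hξ : ∀ c : X, c ⤳ ξ → c = ξ) : LocCoh.IsCohenMacaulayLocalRing (X.presheaf.stalk ξ) := by
  apply Groth.Agent.H72.FlatCM.isCohenMacaulayLocalRing_of_ringKrullDim_eq_zero
  rw [ringKrullDim_stalk_eq_coheight]
  have : Order.coheight ξ = 0 := by
    rw [Order.coheight_eq_zero]
    intro b hb
    have : b = ξ := hξ b hb
    rw [this]
  rw [this]
  rfl

/-- Cohen–Macaulayness of stalks and extension of the base field, for a general morphism between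
spectra of fields. -/
theorem cm_stalk_iff_of_isPullback {Z W : Scheme.{u}} (k K : Type u) [Field k] [Field K]
    (a : Spec (CommRingCat.of K) ⟶ Spec (CommRingCat.of k)) (z : Z ⟶ Spec (CommRingCat.of k))
    [LocallyOfFiniteType z] (p : W ⟶ Z) (q : W ⟶ Spec (CommRingCat.of K))
    (hpb : IsPullback p q z a) (w : W) :
    LocCoh.IsCohenMacaulayLocalRing (Z.presheaf.stalk (p w)) ↔
      LocCoh.IsCohenMacaulayLocalRing (W.presheaf.stalk w) := by
  haveI : IsLocallyNoetherian Z := LocallyOfFiniteType.isLocallyNoetherian z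
  obtain ⟨φ, rfl⟩ : ∃ φ : k →+* K, Spec.map (CommRingCat.ofHom φ) = a :=
    ⟨(Spec.preimage a).hom, Spec.map_preimage _⟩
  exact Groth.Agent.H49.CMFieldBC.cm_stalk_iff_of_isPullback_field k K φ z p q hpb
    (Or.inl inferInstance) w

/-- Homogeneity: Cohen–Macaulayness at any point is equivalent to Cohen–Macaulayness at the
unit. -/
theorem cm_stalk_iff_unit (k : Type u) [Field k] (G : Over (Spec (CommRingCat.of k)))
    [GrpObj G] [LocallyOfFiniteType G.hom] (g : G.left) (x₀ : Spec (CommRingCat.of k)) :
    LocCoh.IsCohenMacaulayLocalRing (G.left.presheaf.stalk g) ↔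
      LocCoh.IsCohenMacaulayLocalRing (G.left.presheaf.stalk (η[G].left x₀)) := by
  haveI : IsLocallyNoetherian G.left := LocallyOfFiniteType.isLocallyNoetherian G.hom
  set K := G.left.residueField g
  set ρ₀ := G.left.fromSpecResidueField g
  set T : Over (Spec (CommRingCat.of k)) := Over.mk (ρ₀ ≫ G.hom) with hT
  set ρ : T ⟶ G := Over.homMk ρ₀ rfl with hρ
  obtain ⟨φ, -, hφ⟩ := Groth.Agent.H51.exists_translation_iso G ρ
  have hpb : IsPullback (snd T G).left (fst T G).left G.hom T.hom :=
    (IsPullback.of_hasPullback T.hom G.hom).flip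
  set pt : Spec (CommRingCat.of K) := IsLocalRing.closedPoint K
  set p₁ := (lift (𝟙 T) ρ).left pt with hp₁
  have h1 : (snd T G).left p₁ = g := by
    rw [hp₁, ← Scheme.Hom.comp_apply, ← Over.comp_left, lift_snd]
    exact Scheme.fromSpecResidueField_apply _ _
  have h2 : (snd T G).left (φ.hom.left p₁) = η[G].left x₀ := by
    rw [hp₁, ← Scheme.Hom.comp_apply, ← Scheme.Hom.comp_apply, ← Over.comp_left, ← Over.comp_left,
      ← Category.assoc, hφ, lift_snd, Over.comp_left, Scheme.Hom.comp_apply]
    congr 1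
    exact (inferInstance : Subsingleton (Spec (CommRingCat.of k))).elim _ _
  have e1 := cm_stalk_iff_of_isPullback k K T.hom G.hom _ _ hpb p₁
  have e2 := cm_stalk_iff_of_isPullback k K T.hom G.hom _ _ hpb (φ.hom.left p₁)
  rw [h1] at e1
  rw [h2] at e2
  haveI : IsIso φ.hom.left := (Over.forget _).map_isIso φ.hom
  rw [e1, e2]
  exact (cm_stalk_iff_of_isIso φ.hom.left p₁).symm

/-- The local rings of a group scheme locally of finite type over a field are
Cohen–Macaulay. -/
theorem cm_stalk (k : Type u) [Field k] (G : Over (Spec (CommRingCat.of k)))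
    [GrpObj G] [LocallyOfFiniteType G.hom] (x : G.left) :
    LocCoh.IsCohenMacaulayLocalRing (G.left.presheaf.stalk x) := by
  haveI : IsLocallyNoetherian G.left := LocallyOfFiniteType.isLocallyNoetherian G.hom
  obtain ⟨ξ, -, hξ⟩ := Groth.Agent.H90.exists_maximal_generization G.left x
  have h1 := cm_stalk_of_maximal G.left ξ hξ
  have x₀ : Spec (CommRingCat.of k) := IsLocalRing.closedPoint k
  rw [cm_stalk_iff_unit k G x x₀, ← cm_stalk_iff_unit k G ξ x₀]
  exact h1

end Groth.Agent.H38.GrpCM
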