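import Mathlib
import Groth.Agent.H38.ActCalc
import Groth.Agent.H38.GrpConnComp

/-!
# Homogeneous spaces under a group scheme over a field: the orbit map of a field-valued point
-/

set_option autoImplicit false
universe u

open CategoryTheory MonoidalCategory CartesianMonoidalCategory MonObj GrpObj AlgebraicGeometry
open Limits

namespace Groth.Agent.H38.HomogOrbit

open Groth.Agent.H38.ActCalc Groth.Agent.H38.GrpComp

variable {k : Type u} [Field k] (G X : Over (Spec (CommRingCat.of k))) [GrpObj G]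
  (a : AlgGrp.Action G X) {Ω : Type u} [Field Ω] (ξt : Spec (CommRingCat.of Ω) ⟶ X.left)

/-- `G ×_k Ω` as a `k`-scheme. -/
noncomputable abbrev P : Over (Spec (CommRingCat.of k)) :=
  Over.mk (pullback.fst G.hom (ξt ≫ X.hom) ≫ G.hom)

/-- the projection `G_Ω ⟶ G`. -/
noncomputable abbrev prG : P G X ξt ⟶ G := Over.homMk (pullback.fst G.hom (ξt ≫ X.hom)) rfl

/-- the constant point `G_Ω ⟶ Spec Ω ⟶ X`. -/
noncomputable abbrev xP : P G X ξt ⟶ X :=
  Over.homMk (pullback.snd G.hom (ξt ≫ X.hom) ≫ ξt) (by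
    change (pullback.snd G.hom (ξt ≫ X.hom) ≫ ξt) ≫ X.hom = pullback.fst G.hom (ξt ≫ X.hom) ≫ G.hom
    rw [Category.assoc, ← pullback.condition])

/-- the pair `(g, ξ)`. -/
noncomputable abbrev jP : P G X ξt ⟶ G ⊗ X := lift (prG G X ξt) (xP G X ξt)

/-- the orbit map `g ↦ g · ξ` of the `Ω`-valued point `ξ`. -/
noncomputable abbrev rho : P G X ξt ⟶ X := jP G X ξt ≫ a.act

lemma jP_left : (jP G X ξt).left = pullback.map G.hom (ξt ≫ X.hom) G.hom X.hom (𝟙 _) ξt (𝟙 _)
    (by rw [Category.comp_id, Category.id_comp]) (by rw [Category.comp_id]) := by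
  apply pullback.hom_ext
  · rw [Over.lift_left, pullback.lift_fst, pullback.lift_fst, Category.comp_id]
    rfl
  · rw [Over.lift_left, pullback.lift_snd, pullback.lift_snd]
    rfl

lemma range_jP_left : Set.range ⇑(jP G X ξt).left = (snd G X).left ⁻¹' Set.range ⇑ξt := by
  rw [jP_left, Scheme.Pullback.range_map]
  have : Set.range ⇑(𝟙 G.left) = Set.univ := by
    rw [Set.range_eq_univ]; intro y; exact ⟨y, rfl⟩
  rw [this, Set.preimage_univ, Set.univ_inter]
  rfl

/-- the orbit map of a field-valued point of a homogeneous space is surjective. -/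
theorem rho_surjective (hΦ : Surjective (lift a.act (snd G X)).left) (v : ↥X.left) :
    ∃ p : ↥(P G X ξt).left, (rho G X a ξt).left p = v := by
  obtain ⟨s, hs1, hs2⟩ := Scheme.Pullback.exists_preimage_pullback (f := X.hom) (g := X.hom)
    v (ξt (IsLocalRing.closedPoint Ω))
    (@Subsingleton.elim _ (inferInstanceAs (Subsingleton (PrimeSpectrum k))) _ _)
  obtain ⟨t, ht⟩ := hΦ.surj s
  have ht1 : a.act.left t = v := by
    have := congrArg (fst X X).left ht
    rw [← Scheme.Hom.comp_apply, ← Over.comp_left, lift_fst] at this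
    rw [this]; exact hs1
  have ht2 : (snd G X).left t = ξt (IsLocalRing.closedPoint Ω) := by
    have := congrArg (snd X X).left ht
    rw [← Scheme.Hom.comp_apply, ← Over.comp_left, lift_snd] at this
    rw [this]; exact hs2
  have ht3 : t ∈ Set.range ⇑(jP G X ξt).left := by
    rw [range_jP_left, Set.mem_preimage, ht2]
    exact ⟨_, rfl⟩
  obtain ⟨p, rfl⟩ := ht3
  exact ⟨p, by rw [Over.comp_left, Scheme.Hom.comp_apply, ht1]⟩


section Gen

/-- generizations lift along the base change of a flat morphism followed by a preimmersion -/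
theorem gen_lift_of_flat_preimm {Y X S S' : Scheme.{u}} (q : Y ⟶ X) (i₀ : S ⟶ X)
    [IsPreimmersion i₀]
    (e : S' ⟶ S) [Flat e] (g : S' ⟶ X) (hg : g = e ≫ i₀) (p : ↥(pullback q g)) (t' : ↥Y)
    (ht : t' ⤳ pullback.fst q g p) (ht' : q t' ∈ Set.range ⇑i₀) :
    ∃ p' : ↥(pullback q g), p' ⤳ p ∧ pullback.fst q g p' = t' := by
  subst hg
  obtain ⟨φ, hφ⟩ : ∃ φ, φ = pullbackLeftPullbackSndIso q i₀ e := ⟨_, rfl⟩
  have h1 : pullback.fst q (e ≫ i₀) =
      φ.inv ≫ pullback.fst (pullback.snd q i₀) e ≫ pullback.fst q i₀ := by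
    rw [hφ, pullbackLeftPullbackSndIso_inv_fst]
  have h2 : t' ∈ Set.range ⇑(pullback.fst q i₀) := by
    rw [Scheme.Pullback.range_fst]; exact ht'
  obtain ⟨f', rfl⟩ := h2
  have h3 : pullback.fst q (e ≫ i₀) p =
      pullback.fst q i₀ (pullback.fst (pullback.snd q i₀) e (φ.inv p)) := by
    rw [h1]; rfl
  rw [h3] at ht
  have h4 : f' ⤳ pullback.fst (pullback.snd q i₀) e (φ.inv p) :=
    (pullback.fst q i₀).isEmbedding.isInducing.specializes_iff.mp ht
  obtain ⟨p₀, hp₀, hp₀'⟩ := (Flat.generalizingMap (pullback.fst (pullback.snd q i₀) e)) h4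
  refine ⟨φ.hom p₀, ?_, ?_⟩
  · have := hp₀.map (φ.hom.continuous)
    rw [← Scheme.Hom.comp_apply, Iso.inv_hom_id] at this; exact this
  · rw [h1, Scheme.Hom.comp_apply, Scheme.Hom.comp_apply, ← Scheme.Hom.comp_apply φ.hom φ.inv,
      Iso.hom_inv_id]; exact congrArg _ hp₀'

/-- generizations lift along the base change of a field-valued point, within the fibre. -/
theorem gen_lift_field {Y X : Scheme.{u}} (q : Y ⟶ X) {Ω : Type u} [Field Ω]
    (ξt : Spec (CommRingCat.of Ω) ⟶ X) (p : ↥(pullback q ξt)) (t' : ↥Y)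
    (ht : t' ⤳ pullback.fst q ξt p) (ht' : q t' = ξt (IsLocalRing.closedPoint Ω)) :
    ∃ p' : ↥(pullback q ξt), p' ⤳ p ∧ pullback.fst q ξt p' = t' := by
  have h := Scheme.descResidueField_stalkClosedPointTo_fromSpecResidueField Ω X ξt
  refine gen_lift_of_flat_preimm q (X.fromSpecResidueField (ξt (IsLocalRing.closedPoint Ω)))
    (Spec.map (Scheme.descResidueField (Scheme.stalkClosedPointTo ξt))) ξt h.symm p t' ht ?_
  rw [Scheme.range_fromSpecResidueField, ht']
  rfl

/-- the action morphism is flat. -/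
lemma flat_act_left : Flat a.act.left := by
  have h1 : IsIso (shear a (𝟙 G)) :=
    ⟨shearInv a (𝟙 G), shear_shearInv a (𝟙 G), shearInv_shear a (𝟙 G)⟩
  have h2 : IsIso (shear a (𝟙 G)).left :=
    inferInstanceAs (IsIso ((Over.forget _).map (shear a (𝟙 G))))
  have h3 : Flat (snd G X).left := by
    rw [Over.snd_left]; infer_instance
  have h5 : actOf a (𝟙 G) = a.act := by
    unfold actOf; rw [id_whiskerRight, Category.id_comp]
  have h4 : a.act.left = (shear a (𝟙 G)).left ≫ (snd G X).left := by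
    rw [← Over.comp_left, shear_snd, h5]
  rw [h4]; infer_instance

lemma jP_left_eq : (jP G X ξt).left = (pullbackLeftPullbackSndIso G.hom X.hom ξt).inv ≫
    pullback.fst (pullback.snd G.hom X.hom) ξt := by
  rw [jP_left]
  apply pullback.hom_ext
  · exact (pullback.lift_fst _ _ _).trans ((Category.comp_id _).trans
      ((Category.assoc _ _ _).trans (pullbackLeftPullbackSndIso_inv_fst G.hom X.hom ξt)).symm)
  · exact (pullback.lift_snd _ _ _).trans
      ((Category.assoc _ _ _).trans (pullbackLeftPullbackSndIso_inv_fst_snd G.hom X.hom ξt)).symm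

/-- the orbit map of a field-valued point lying over a maximal point is generalizing. -/
theorem gen_rho (hmax : ∀ ζ : ↥X.left, ζ ⤳ ξt (IsLocalRing.closedPoint Ω) →
    ζ = ξt (IsLocalRing.closedPoint Ω)) : GeneralizingMap ⇑(rho G X a ξt).left := by
  intro p v' hv'
  haveI := flat_act_left G X a
  have hrho : (rho G X a ξt).left p = a.act.left ((jP G X ξt).left p) := by
    rw [Over.comp_left, Scheme.Hom.comp_apply]
  rw [hrho] at hv'
  obtain ⟨t', ht', ht'v⟩ := (Flat.generalizingMap a.act.left) hv'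
  obtain ⟨φ, hφ⟩ : ∃ φ, φ = pullbackLeftPullbackSndIso G.hom X.hom ξt := ⟨_, rfl⟩
  have hj : (jP G X ξt).left = φ.inv ≫ pullback.fst (pullback.snd G.hom X.hom) ξt := by
    rw [hφ]; exact jP_left_eq G X ξt
  have hjp : (jP G X ξt).left p = pullback.fst (pullback.snd G.hom X.hom) ξt (φ.inv p) := by
    rw [hj]; rfl
  rw [hjp] at ht'
  -- the second coordinate of t' is ξ
  have hsnd : pullback.snd G.hom X.hom t' = ξt (IsLocalRing.closedPoint Ω) := by
    apply hmax
    have h1 := ht'.map (pullback.snd G.hom X.hom).continuous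
    have h2 : pullback.snd G.hom X.hom
        (pullback.fst (pullback.snd G.hom X.hom) ξt (φ.inv p)) =
        ξt (pullback.snd (pullback.snd G.hom X.hom) ξt (φ.inv p)) := by
      rw [← Scheme.Hom.comp_apply, pullback.condition, Scheme.Hom.comp_apply]
    rw [h2] at h1
    have h3 : pullback.snd (pullback.snd G.hom X.hom) ξt (φ.inv p) =
        IsLocalRing.closedPoint Ω :=
      @Subsingleton.elim _ (inferInstanceAs (Subsingleton (PrimeSpectrum Ω))) _ _
    rw [h3] at h1
    exact h1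
  obtain ⟨p₀, hp₀, hp₀'⟩ := gen_lift_field (pullback.snd G.hom X.hom) ξt (φ.inv p) t' ht' hsnd
  refine ⟨φ.hom p₀, ?_, ?_⟩
  · have := hp₀.map (φ.hom.continuous)
    rw [← Scheme.Hom.comp_apply, Iso.inv_hom_id] at this; exact this
  · rw [Over.comp_left, Scheme.Hom.comp_apply, hj, Scheme.Hom.comp_apply,
      ← Scheme.Hom.comp_apply φ.hom φ.inv, Iso.hom_inv_id]
    rw [← ht'v]
    exact congrArg _ hp₀'

end Gen


section Equivariance

/-- multiplication of a base-changed group scheme lies over multiplication. -/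
theorem mul_left_fst {X Y R : Scheme.{u}} (f : R ⟶ Y) (g : X ⟶ Y) [GrpObj (Over.mk f)] :
    letI : GrpObj (Over.mk (pullback.snd f g)) := Over.grpObjMkPullbackSnd (f := f) (g := g)
    (μ[Over.mk (pullback.snd f g)]).left ≫ pullback.fst f g =
      pullback.map (pullback.snd f g) (pullback.snd f g) f f (pullback.fst f g) (pullback.fst f g) g
        pullback.condition.symm pullback.condition.symm ≫ (μ[Over.mk f]).left := by
  rw [Over.grpObjMkPullbackSnd_mul]
  simp
  have h : Over.Hom.left (Functor.LaxMonoidal.μ (Over.pullback g) (Over.mk f) (Over.mk f)) ≫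
      pullback.fst (pullback.fst f f ≫ f) g =
      pullback.map (pullback.snd f g) (pullback.snd f g) f f (pullback.fst f g) (pullback.fst f g) g
        pullback.condition.symm pullback.condition.symm := by
    apply pullback.hom_ext
    · rw [Category.assoc, Over.μ_pullback_left_fst_fst', pullback.lift_fst]
      rfl
    · rw [Category.assoc, Over.μ_pullback_left_fst_snd', pullback.lift_snd]
      rfl
  rw [← h]
  have h2 := pullback.lift_fst (f := f) (g := g)
    (pullback.fst (pullback.fst f f ≫ f) g ≫ Over.Hom.left μ[Over.mk f])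
    (pullback.snd (pullback.fst f f ≫ f) g)
    (by rw [Category.assoc]; exact (Over.w μ[Over.mk f]) ▸ pullback.condition)
  exact (congrArg (_ ≫ ·) h2).trans (Category.assoc _ _ _).symm

/-- The base-changed group `G_Ω` over `Ω`. -/
noncomputable abbrev GΩ : Over (Spec (CommRingCat.of Ω)) :=
  Over.mk (pullback.snd G.hom (ξt ≫ X.hom))

/-- The group structure on `G_Ω`. -/
noncomputable abbrev grpGΩ : GrpObj (GΩ G X ξt) :=
  letI hG : GrpObj (Over.mk G.hom) := ‹GrpObj G›
  Over.grpObjMkPullbackSnd (f := G.hom) (g := ξt ≫ X.hom)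

attribute [local instance] grpGΩ

/-- An `Ω`-morphism to `G_Ω` seen as a `k`-morphism. -/
noncomputable abbrev dn {T' : Over (Spec (CommRingCat.of Ω))} (w : T' ⟶ GΩ G X ξt) :
    Over.mk (T'.hom ≫ ξt ≫ X.hom) ⟶ P G X ξt :=
  Over.homMk w.left (by
    change w.left ≫ pullback.fst G.hom (ξt ≫ X.hom) ≫ G.hom = T'.hom ≫ ξt ≫ X.hom
    rw [pullback.condition, ← Over.w w]
    rfl)

lemma dn_xP {T' : Over (Spec (CommRingCat.of Ω))} (w w' : T' ⟶ GΩ G X ξt) :
    dn G X ξt w ≫ xP G X ξt = dn G X ξt w' ≫ xP G X ξt := by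
  apply Over.OverMorphism.ext
  change w.left ≫ pullback.snd G.hom (ξt ≫ X.hom) ≫ ξt = w'.left ≫ pullback.snd G.hom (ξt ≫ X.hom) ≫ ξt
  have h1 : w.left ≫ pullback.snd G.hom (ξt ≫ X.hom) = T'.hom := Over.w w
  have h2 : w'.left ≫ pullback.snd G.hom (ξt ≫ X.hom) = T'.hom := Over.w w'
  rw [← Category.assoc, ← Category.assoc, h1, h2]

lemma dn_mul_prG : dn G X ξt μ[GΩ G X ξt] ≫ prG G X ξt =
    (dn G X ξt (fst (GΩ G X ξt) (GΩ G X ξt)) ≫ prG G X ξt) *
      (dn G X ξt (snd (GΩ G X ξt) (GΩ G X ξt)) ≫ prG G X ξt) := by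
  letI hG : GrpObj (Over.mk G.hom) := ‹GrpObj G›
  rw [Hom.mul_def]
  apply Over.OverMorphism.ext
  rw [Over.comp_left, Over.comp_left, Over.lift_left]
  have h := mul_left_fst G.hom (ξt ≫ X.hom)
  refine h.trans ?_
  congr 1

/-- equivariance of the orbit map. -/
theorem dn_mul_rho : dn G X ξt μ[GΩ G X ξt] ≫ rho G X a ξt =
    lift (dn G X ξt (fst (GΩ G X ξt) (GΩ G X ξt)) ≫ prG G X ξt)
      (dn G X ξt (snd (GΩ G X ξt) (GΩ G X ξt)) ≫ rho G X a ξt) ≫ a.act := by
  have h1 : dn G X ξt μ[GΩ G X ξt] ≫ jP G X ξt =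
      lift ((dn G X ξt (fst (GΩ G X ξt) (GΩ G X ξt)) ≫ prG G X ξt) *
        (dn G X ξt (snd (GΩ G X ξt) (GΩ G X ξt)) ≫ prG G X ξt))
        (dn G X ξt (snd (GΩ G X ξt) (GΩ G X ξt)) ≫ xP G X ξt) := by
    rw [comp_lift, dn_mul_prG, dn_xP G X ξt μ[GΩ G X ξt] (snd (GΩ G X ξt) (GΩ G X ξt))]
  have h2 : dn G X ξt (snd (GΩ G X ξt) (GΩ G X ξt)) ≫ rho G X a ξt =
      lift (dn G X ξt (snd (GΩ G X ξt) (GΩ G X ξt)) ≫ prG G X ξt)
        (dn G X ξt (snd (GΩ G X ξt) (GΩ G X ξt)) ≫ xP G X ξt) ≫ a.act := by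
    rw [← comp_lift, Category.assoc]
  rw [h2, ← lift_mul_act, ← h1, Category.assoc]

end Equivariance


section Points

attribute [local instance] grpGΩ

omit [GrpObj G] in
/-- a criterion for membership in an orbit set. -/
theorem mem_orb_of_point {S : Scheme.{u}} {G X : Over S} [GrpObj G] (a : AlgGrp.Action G X)
    {H : Over S} (h : H ⟶ G) (A : Set ↥X.left) {T : Over S} (p : ↥T.left) (g : T ⟶ G) (x : T ⟶ X)
    (hg : g.left p ∈ Set.range ⇑h.left) (hx : x.left p ∈ A) :
    (lift g x ≫ a.act).left p ∈ orb a h A := by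
  obtain ⟨z₀, hz₀⟩ := hg
  obtain ⟨q, hq1, hq2⟩ := Scheme.Pullback.exists_preimage_pullback (f := g.left) (g := h.left)
    p z₀ hz₀.symm
  obtain ⟨α, hα⟩ : ∃ α : Over.mk (pullback.fst g.left h.left ≫ T.hom) ⟶ T,
      α = Over.homMk (pullback.fst g.left h.left) rfl := ⟨_, rfl⟩
  obtain ⟨z, hz⟩ : ∃ z : Over.mk (pullback.fst g.left h.left ≫ T.hom) ⟶ H,
      z = Over.homMk (pullback.snd g.left h.left) (by
        change pullback.snd g.left h.left ≫ H.hom = pullback.fst g.left h.left ≫ T.hom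
        rw [← Over.w h, ← Over.w g, ← Category.assoc, ← Category.assoc, pullback.condition]) :=
    ⟨_, rfl⟩
  have hαz : α ≫ g = z ≫ h := by
    apply Over.OverMorphism.ext
    rw [Over.comp_left, Over.comp_left, hα, hz]
    exact pullback.condition
  rw [mem_orb_iff]
  refine ⟨_, q, z, α ≫ x, ?_, ?_⟩
  · rw [Over.comp_left, Scheme.Hom.comp_apply, hα]
    change x.left (pullback.fst g.left h.left q) ∈ A
    rw [hq1]; exact hx
  · rw [← hαz, ← comp_lift, Category.assoc, Over.comp_left, Scheme.Hom.comp_apply, hα]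
    change (lift g x ≫ a.act).left (pullback.fst g.left h.left q) = _
    rw [hq1]

/-- the projection `G_Ω ⟶ G` maps the identity component into the identity component. -/
theorem prG_mem (y₀ : ↥(GΩ G X ξt).left) (hy₀ : y₀ ∈ irreducibleComponent (unitPt Ω (GΩ G X ξt))) :
    (prG G X ξt).left y₀ ∈ irreducibleComponent (unitPt k G) := by
  letI hG : GrpObj (Over.mk G.hom) := ‹GrpObj G›
  have hirr : IsIrreducible ((prG G X ξt).left '' irreducibleComponent (unitPt Ω (GΩ G X ξt))) :=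
    isIrreducible_irreducibleComponent.image _ (Scheme.Hom.continuous _).continuousOn
  have he : unitPt k G ∈ (prG G X ξt).left '' irreducibleComponent (unitPt Ω (GΩ G X ξt)) := by
    refine ⟨unitPt Ω (GΩ G X ξt), mem_irreducibleComponent, ?_⟩
    have h5 := GrpConnComp.one_left_fst G.hom (ξt ≫ X.hom)
    change (pullback.fst G.hom (ξt ≫ X.hom))
      (η[GΩ G X ξt].left (IsLocalRing.closedPoint Ω)) = _
    rw [← Scheme.Hom.comp_apply, h5, Scheme.Hom.comp_apply]
    exact unit_left_apply k G _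
  exact subset_of_isIrreducible_of_mem k G (irreducibleComponent_mem_irreducibleComponents _)
    hirr _ he mem_irreducibleComponent ⟨y₀, hy₀, rfl⟩

/-- (R2) unique maximal generization in a homogeneous space. -/
theorem eq_of_specializes_of_maximal
    (hΦ : Surjective (lift a.act (snd G X)).left)
    (hmax : ∀ ζ : ↥X.left, ζ ⤳ ξt (IsLocalRing.closedPoint Ω) →
      ζ = ξt (IsLocalRing.closedPoint Ω))
    (v ζ₁ ζ₂ : ↥X.left) (h₁ : ζ₁ ⤳ v) (h₂ : ζ₂ ⤳ v)
    (m₁ : ∀ c : ↥X.left, c ⤳ ζ₁ → c = ζ₁) (m₂ : ∀ c : ↥X.left, c ⤳ ζ₂ → c = ζ₂) : ζ₁ = ζ₂ := by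
  obtain ⟨p, hp⟩ := rho_surjective G X a ξt hΦ v
  have hgen := gen_rho G X a ξt hmax
  rw [← hp] at h₁ h₂
  obtain ⟨p₁, hp₁, hp₁'⟩ := hgen h₁
  obtain ⟨p₂, hp₂, hp₂'⟩ := hgen h₂
  obtain ⟨w₁, hw₁, hw₁m⟩ := Groth.Agent.H90.exists_maximal_generization (GΩ G X ξt).left p₁
  obtain ⟨w₂, hw₂, hw₂m⟩ := Groth.Agent.H90.exists_maximal_generization (GΩ G X ξt).left p₂
  have e₁ : (rho G X a ξt).left w₁ = ζ₁ := by
    apply m₁
    rw [← hp₁']
    exact hw₁.map (Scheme.Hom.continuous _)
  have e₂ : (rho G X a ξt).left w₂ = ζ₂ := by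
    apply m₂
    rw [← hp₂']
    exact hw₂.map (Scheme.Hom.continuous _)
  have hw : w₁ = w₂ := Groth.Agent.H90.eq_of_specializes Ω (GΩ G X ξt) p w₁ w₂
    (hw₁.trans hp₁) (hw₂.trans hp₂) hw₁m hw₂m
  rw [← e₁, ← e₂, hw]

/-- (R1) every point of a homogeneous space lies in the orbit, under the identity component, of a
maximal point specializing to it. -/
theorem exists_maximal_mem_orb [IsAlgClosed Ω]
    (hΦ : Surjective (lift a.act (snd G X)).left)
    (hmax : ∀ ζ : ↥X.left, ζ ⤳ ξt (IsLocalRing.closedPoint Ω) →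
      ζ = ξt (IsLocalRing.closedPoint Ω))
    {H : Over (Spec (CommRingCat.of k))} (h : H ⟶ G)
    (hh : irreducibleComponent (unitPt k G) ⊆ Set.range ⇑h.left) (v : ↥X.left) :
    ∃ ξ' : ↥X.left, (∀ c : ↥X.left, c ⤳ ξ' → c = ξ') ∧ ξ' ⤳ v ∧ v ∈ orb a h {ξ'} := by
  obtain ⟨p, hp⟩ := rho_surjective G X a ξt hΦ v
  have hgen := gen_rho G X a ξt hmax
  obtain ⟨w, hwp, hwm⟩ := Groth.Agent.H90.exists_maximal_generization (GΩ G X ξt).left p
  have hwc : closure {w} ∈ irreducibleComponents ↥(GΩ G X ξt).left :=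
    Groth.Agent.H90.closure_mem_irreducibleComponents_of_forall _ w hwm
  obtain ⟨t, ht1, ht2, ht3⟩ := GrpConnIrr.exists_mul_eq_of_mem_closure Ω (GΩ G X ξt) w hwc p
    (specializes_iff_mem_closure.mp hwp)
  refine ⟨(rho G X a ξt).left w, ?_, ?_, ?_⟩
  · have h1 := Groth.Agent.H90.maximal_map_of_generalizing (rho G X a ξt).left hgen w hwc
    exact fun c hc => Groth.Agent.H90.eq_of_specializes_of_maximal _ _ h1 c hc
  · rw [← hp]
    exact hwp.map (Scheme.Hom.continuous _)
  · have h0 := congrArg (fun m => m.left t) (dn_mul_rho G X a ξt)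
    have h2 : (dn G X ξt μ[GΩ G X ξt]).left t = p := ht3
    have h1 : v = (lift (dn G X ξt (fst (GΩ G X ξt) (GΩ G X ξt)) ≫ prG G X ξt)
        (dn G X ξt (snd (GΩ G X ξt) (GΩ G X ξt)) ≫ rho G X a ξt) ≫ a.act).left t := by
      rw [← hp, ← h2]; exact h0
    have h3 := mem_orb_of_point a h {(rho G X a ξt).left w} t
      (dn G X ξt (fst (GΩ G X ξt) (GΩ G X ξt)) ≫ prG G X ξt)
      (dn G X ξt (snd (GΩ G X ξt) (GΩ G X ξt)) ≫ rho G X a ξt)
      (hh (prG_mem G X ξt _ ht1))
      (by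
        rw [Over.comp_left, Scheme.Hom.comp_apply]
        change (rho G X a ξt).left ((snd (GΩ G X ξt) (GΩ G X ξt)).left t) ∈ _
        rw [ht2]; exact rfl)
    rw [h1]
    exact h3

end Points

end Groth.Agent.H38.HomogOrbit
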