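import Mathlib
import Groth.Agent.H38.HomogOrbit

/-!
# Homogeneous spaces under a group scheme over a field: irreducible and connected components
-/

set_option autoImplicit false
universe u

open CategoryTheory MonoidalCategory CartesianMonoidalCategory MonObj GrpObj AlgebraicGeometry
open Limits

namespace Groth.Agent.H38.HomogConn

open Groth.Agent.H38.ActCalc Groth.Agent.H38.GrpComp Groth.Agent.H38.HomogOrbit

variable {k : Type u} [Field k] {G X : Over (Spec (CommRingCat.of k))} [GrpObj G]
  (a : AlgGrp.Action G X) {H : Over (Spec (CommRingCat.of k))} (h : H ⟶ G)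

lemma mem_orb_iff_exists (A : Set ↥X.left) (v : ↥X.left) :
    v ∈ orb a h A ↔ ∃ u ∈ A, v ∈ orb a h {u} := by
  constructor
  · rintro ⟨t, ht, rfl⟩
    exact ⟨_, ht, t, rfl, rfl⟩
  · rintro ⟨u, hu, t, ht, rfl⟩
    refine ⟨t, ?_, rfl⟩
    rw [Set.mem_preimage, Set.mem_singleton_iff] at ht
    rw [Set.mem_preimage, ht]; exact hu

/-- the point `v` as an object over `k`. -/
noncomputable abbrev ptObj (v : ↥X.left) : Over (Spec (CommRingCat.of k)) :=
  Over.mk (X.left.fromSpecResidueField v ≫ X.hom)

/-- the point `v` as a morphism over `k`. -/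
noncomputable abbrev ptHom (v : ↥X.left) : ptObj v ⟶ X :=
  Over.homMk (X.left.fromSpecResidueField v) rfl

lemma range_ptHom (v : ↥X.left) : Set.range ⇑(ptHom v).left = {v} :=
  Scheme.range_fromSpecResidueField v

lemma isIrreducible_orb_singleton [GeometricallyIrreducible H.hom] (v : ↥X.left) :
    IsIrreducible (orb a h {v}) := by
  rw [← range_ptHom v]
  haveI : IrreducibleSpace ↥(ptObj v).left :=
    inferInstanceAs (IrreducibleSpace ↥(Spec (X.left.residueField v)))
  exact isIrreducible_orb_range a h (ptHom v)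

lemma isCompact_orb_singleton [CompactSpace ↥H.left] (v : ↥X.left) :
    IsCompact (orb a h {v}) := by
  rw [← range_ptHom v]
  haveI : CompactSpace ↥(ptObj v).left :=
    inferInstanceAs (CompactSpace ↥(Spec (X.left.residueField v)))
  exact isCompact_orb_range a h (ptHom v)

section rel

variable [GrpObj H] [IsMonHom h]

lemma rel_refl (v : ↥X.left) : v ∈ orb a h {v} := subset_orb a h {v} rfl

lemma rel_symm {u v : ↥X.left} (huv : u ∈ orb a h {v}) : v ∈ orb a h {u} :=
  mem_orb_singleton_symm a h huv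

lemma rel_trans {u v w : ↥X.left} (huv : u ∈ orb a h {v}) (hvw : v ∈ orb a h {w}) :
    u ∈ orb a h {w} :=
  orb_orb_subset a h {w} (orb_mono a h (Set.singleton_subset_iff.mpr hvw) huv)

end rel

section main

variable (hΦ : Surjective (lift a.act (snd G X)).left)
  (hh : irreducibleComponent (unitPt k G) ⊆ Set.range ⇑h.left)

include hΦ hh in
/-- (R1) every point lies in the orbit of a maximal point specializing to it. -/
theorem exists_maximal (v : ↥X.left) :
    ∃ ξ' : ↥X.left, (∀ c : ↥X.left, c ⤳ ξ' → c = ξ') ∧ ξ' ⤳ v ∧ v ∈ orb a h {ξ'} := by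
  obtain ⟨ξ, -, hξ⟩ := Groth.Agent.H90.exists_maximal_generization X.left v
  obtain ⟨ξt, hξt⟩ : ∃ ξt : Spec (CommRingCat.of (AlgebraicClosure (X.left.residueField ξ))) ⟶
      X.left, ξt (IsLocalRing.closedPoint _) = ξ := by
    refine ⟨Spec.map (CommRingCat.ofHom (algebraMap (X.left.residueField ξ)
      (AlgebraicClosure (X.left.residueField ξ)))) ≫ X.left.fromSpecResidueField ξ, ?_⟩
    rw [Scheme.Hom.comp_apply]
    exact Scheme.fromSpecResidueField_apply _ _
  exact exists_maximal_mem_orb G X a ξt hΦ (by rw [hξt]; exact hξ) h hh v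

include hΦ in
/-- (R2) every point has a unique maximal generization. -/
theorem eq_of_maximal (v ζ₁ ζ₂ : ↥X.left) (h₁ : ζ₁ ⤳ v) (h₂ : ζ₂ ⤳ v)
    (m₁ : ∀ c : ↥X.left, c ⤳ ζ₁ → c = ζ₁) (m₂ : ∀ c : ↥X.left, c ⤳ ζ₂ → c = ζ₂) : ζ₁ = ζ₂ := by
  obtain ⟨ξ, -, hξ⟩ := Groth.Agent.H90.exists_maximal_generization X.left v
  obtain ⟨ξt, hξt⟩ : ∃ ξt : Spec (CommRingCat.of (AlgebraicClosure (X.left.residueField ξ))) ⟶
      X.left, ξt (IsLocalRing.closedPoint _) = ξ := by
    refine ⟨Spec.map (CommRingCat.ofHom (algebraMap (X.left.residueField ξ)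
      (AlgebraicClosure (X.left.residueField ξ)))) ≫ X.left.fromSpecResidueField ξ, ?_⟩
    rw [Scheme.Hom.comp_apply]
    exact Scheme.fromSpecResidueField_apply _ _
  exact eq_of_specializes_of_maximal G X a ξt hΦ (by rw [hξt]; exact hξ) v ζ₁ ζ₂ h₁ h₂ m₁ m₂

variable [GrpObj H] [IsMonHom h] [GeometricallyIrreducible H.hom]

include hΦ hh in
/-- (N1) the orbit of a maximal point is its closure. -/
theorem orb_eq_closure (ξ : ↥X.left) (hξ : ∀ c : ↥X.left, c ⤳ ξ → c = ξ) :
    orb a h {ξ} = closure {ξ} := by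
  apply subset_antisymm
  · have hc := Groth.Agent.H90.closure_mem_irreducibleComponents_of_forall X.left ξ hξ
    have h1 : IsIrreducible (closure (orb a h {ξ})) := (isIrreducible_orb_singleton a h ξ).closure
    have h2 : closure {ξ} ⊆ closure (orb a h {ξ}) :=
      closure_mono (Set.singleton_subset_iff.mpr (rel_refl a h ξ))
    exact subset_closure.trans (hc.2 h1 h2)
  · intro v hv
    obtain ⟨ξ', hξ'm, hξ'v, hv'⟩ := exists_maximal a h hΦ hh v
    have : ξ' = ξ := eq_of_maximal a hΦ v ξ' ξ hξ'v (specializes_iff_mem_closure.mpr hv) hξ'm hξ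
    rw [← this]; exact hv'

include hΦ hh in
/-- an irreducible homogeneous space is quasi-compact. -/
theorem compactSpace_of_irreducibleSpace [CompactSpace ↥H.left] [IrreducibleSpace ↥X.left] :
    CompactSpace ↥X.left := by
  obtain ⟨ξ, hξ⟩ : ∃ ξ : ↥X.left, ξ = genericPoint ↥X.left := ⟨_, rfl⟩
  have hgen : closure {ξ} = Set.univ := by
    rw [hξ]; exact (genericPoint_spec (α := ↥X.left)).def
  have hmax : ∀ c : ↥X.left, c ⤳ ξ → c = ξ := by
    intro c hc
    have h1 : ξ ⤳ c := by
      rw [specializes_iff_mem_closure, hgen]; exact Set.mem_univ _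
    exact (hc.antisymm h1).eq
  have h1 := orb_eq_closure a h hΦ hh ξ hmax
  rw [hgen] at h1
  rw [← isCompact_univ_iff, ← h1]
  exact isCompact_orb_singleton a h ξ

include hΦ hh in
/-- the connected components of a quasi-separated homogeneous space are the orbits of the
identity component. -/
theorem connectedComponent_eq_orb [CompactSpace ↥H.left] [QuasiSeparatedSpace ↥X.left]
    (x : ↥X.left) : connectedComponent x = orb a h {x} := by
  apply subset_antisymm
  · intro y hy
    by_contra hyx
    obtain ⟨ξy, my, sy, ry⟩ := exists_maximal a h hΦ hh y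
    have hTy : orb a h {ξy} = closure {ξy} := orb_eq_closure a h hΦ hh ξy my
    have hdisj : orb a h {x} ⊆ (orb a h {ξy})ᶜ := by
      intro u hu hu'
      exact hyx (rel_trans a h (rel_trans a h ry (rel_symm a h hu')) hu)
    obtain ⟨U, hUc, hxU, hUy⟩ := GrpConnIrr.exists_isCompact_opens_between (orb a h {x})
      (orb a h {ξy})ᶜ (isCompact_orb_singleton a h x)
      (by rw [hTy]; exact isClosed_closure.isOpen_compl) hdisj
    obtain ⟨W, hW⟩ : ∃ W : X.left.Opens, (W : Set ↥X.left) = orb a h (U : Set ↥X.left) :=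
      ⟨⟨orb a h (U : Set ↥X.left), isOpen_orb a h U.2⟩, rfl⟩
    have hWc : IsCompact (W : Set ↥X.left) := by
      rw [hW]
      haveI : CompactSpace ↥(U : Scheme.{u}) := isCompact_iff_compactSpace.mp hUc
      haveI : CompactSpace ↥(Over.mk (U.ι ≫ X.hom)).left :=
        inferInstanceAs (CompactSpace ↥(U : Scheme.{u}))
      have h1 := isCompact_orb_range a h
        (Over.homMk (U := Over.mk (U.ι ≫ X.hom)) (V := X) U.ι rfl)
      have h2 : Set.range ⇑(Over.homMk (U := Over.mk (U.ι ≫ X.hom)) (V := X) U.ι rfl).left =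
          (U : Set ↥X.left) := Scheme.Opens.range_ι U
      rw [h2] at h1
      exact h1
    have hWs : StableUnderSpecialization (W : Set ↥X.left) := by
      intro w w' hww' hw
      rw [hW] at hw ⊢
      rw [mem_orb_iff_exists] at hw ⊢
      obtain ⟨u, hu, hwu⟩ := hw
      refine ⟨u, hu, ?_⟩
      obtain ⟨ξw, mw, sw, rw'⟩ := exists_maximal a h hΦ hh w
      have hTw : orb a h {ξw} = closure {ξw} := orb_eq_closure a h hΦ hh ξw mw
      have h1 : w' ∈ orb a h {ξw} := by
        rw [hTw]; exact specializes_iff_mem_closure.mp (sw.trans hww')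
      exact rel_trans a h (rel_trans a h h1 (rel_symm a h rw')) hwu
    have hWcl : IsClosed (W : Set ↥X.left) :=
      ClosedOpen.isClosed_of_isCompact_of_stableUnderSpecialization W hWc hWs
    have hxW : x ∈ (W : Set ↥X.left) := by
      rw [hW]; exact subset_orb a h _ (hxU (rel_refl a h x))
    have hyW : y ∈ (W : Set ↥X.left) :=
      (IsClopen.connectedComponent_subset ⟨hWcl, W.2⟩ hxW) hy
    rw [hW, mem_orb_iff_exists] at hyW
    obtain ⟨u, hu, hyu⟩ := hyW
    exact hUy hu (rel_trans a h (rel_symm a h hyu) ry)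
  · exact (isIrreducible_orb_singleton a h x).isConnected.isPreconnected.subset_connectedComponent
      (rel_refl a h x)

end main

end Groth.Agent.H38.HomogConn
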