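import Mathlib
import Groth.Agent.H38.HomogConn

/-!
# Homogeneous spaces with a rational point: the orbit map of the identity component
-/

set_option autoImplicit false
universe u

open CategoryTheory MonoidalCategory CartesianMonoidalCategory MonObj GrpObj AlgebraicGeometry
open Limits

namespace Groth.Agent.H38.HomogRat

open Groth.Agent.H38.ActCalc Groth.Agent.H38.GrpComp Groth.Agent.H38.HomogOrbit
  Groth.Agent.H38.HomogConn

variable {k : Type u} [Field k] {G X : Over (Spec (CommRingCat.of k))} [GrpObj G]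
  (a : AlgGrp.Action G X) {H : Over (Spec (CommRingCat.of k))} [GrpObj H] (h : H ⟶ G)
  (x : 𝟙_ (Over (Spec (CommRingCat.of k))) ⟶ X)

lemma unit_pt_eq (p q : ↥(𝟙_ (Over (Spec (CommRingCat.of k)))).left) : p = q :=
  @Subsingleton.elim _ (inferInstanceAs (Subsingleton (PrimeSpectrum k))) _ _

/-- The orbit of a rational point under `H` is the image of `H` under the orbit map. -/
theorem orb_rational (pt : ↥(𝟙_ (Over (Spec (CommRingCat.of k)))).left) :
    orb a h {x.left pt} = (a.orbitMap x).left '' Set.range ⇑h.left := by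
  obtain ⟨ξt, hξt⟩ : ∃ ξt : Spec (CommRingCat.of k) ⟶ X.left, ξt = x.left := ⟨_, rfl⟩
  have hid : ξt ≫ X.hom = 𝟙 _ := by
    rw [hξt]; exact Over.w x
  have hr : Set.range ⇑ξt = {x.left pt} := by
    rw [hξt]
    ext v
    simp only [Set.mem_range, Set.mem_singleton_iff]
    constructor
    · rintro ⟨p, rfl⟩
      rw [unit_pt_eq p pt]
    · rintro rfl
      exact ⟨pt, rfl⟩
  -- the orbit is the range of `jP ≫ actOf`
  have h1 : orb a h {x.left pt} = Set.range ⇑(jP H X ξt ≫ actOf a h).left := by
    unfold orb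
    rw [← hr, ← range_jP_left H X ξt]
    ext v
    simp only [Set.mem_image, Set.mem_range, exists_exists_eq_and, Over.comp_left,
      Scheme.Hom.comp_apply]
  -- the constant point
  have h2 : xP H X ξt = toUnit (P H X ξt) ≫ x := by
    have h3 : toUnit (P H X ξt) = Over.homMk (pullback.snd H.hom (ξt ≫ X.hom)) (by
        change pullback.snd H.hom (ξt ≫ X.hom) ≫ 𝟙 _ = pullback.fst H.hom (ξt ≫ X.hom) ≫ H.hom
        rw [pullback.condition, hid]) := toUnit_unique _ _
    rw [h3]
    apply Over.OverMorphism.ext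
    rw [Over.comp_left, ← hξt]
    rfl
  have h4 : jP H X ξt ≫ actOf a h = prG H X ξt ≫ h ≫ a.orbitMap x := by
    unfold AlgGrp.Action.orbitMap actOf
    rw [← Category.assoc, lift_whiskerRight, ← Category.assoc h, comp_lift, Category.comp_id,
      ← Category.assoc, comp_lift, h2]
    have e1 : prG H X ξt ≫ h ≫ toUnit G ≫ x = toUnit (P H X ξt) ≫ x := by
      rw [← Category.assoc, ← Category.assoc]
      congr 1
      exact toUnit_unique _ _
    rw [e1]
  rw [h1, h4]
  -- `prG` is surjective
  have hsurj : Function.Surjective ⇑(prG H X ξt).left := by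
    haveI : IsIso (ξt ≫ X.hom) := by rw [hid]; infer_instance
    have : Surjective (pullback.fst H.hom (ξt ≫ X.hom)) := inferInstance
    exact this.surj
  ext v
  simp only [Set.mem_image, Set.mem_range, exists_exists_eq_and, Over.comp_left,
    Scheme.Hom.comp_apply]
  constructor
  · rintro ⟨p, rfl⟩
    exact ⟨_, rfl⟩
  · rintro ⟨z, rfl⟩
    obtain ⟨p, rfl⟩ := hsurj z
    exact ⟨p, rfl⟩

omit [GrpObj G] [GrpObj H] in
/-- The inverse image, after a field extension, of the image of a geometrically irreducible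
scheme is irreducible. -/
theorem isIrreducible_preimage_range [GeometricallyIrreducible H.hom] (φ : H ⟶ X)
    (K : Type u) [Field K] [Algebra k K] :
    IsIrreducible ((pullback.fst X.hom (Spec.map (CommRingCat.ofHom (algebraMap k K)))) ⁻¹'
      Set.range ⇑φ.left) := by
  obtain ⟨s, hs⟩ : ∃ s : Spec (CommRingCat.of K) ⟶ Spec (CommRingCat.of k),
      s = Spec.map (CommRingCat.ofHom (algebraMap k K)) := ⟨_, rfl⟩
  rw [← hs, ← Scheme.Pullback.range_snd φ.left (pullback.fst X.hom s)]
  obtain ⟨e, he⟩ : ∃ e, e = pullbackRightPullbackFstIso X.hom s φ.left := ⟨_, rfl⟩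
  have hw : φ.left ≫ X.hom = H.hom := Over.w φ
  haveI : GeometricallyIrreducible (φ.left ≫ X.hom) := by rw [hw]; infer_instance
  haveI : UniversallyOpen (φ.left ≫ X.hom) :=
    Groth.Agent.H90.universallyOpen_of_iso_spec_field (Iso.refl _) _
  haveI : IrreducibleSpace ↥(pullback (φ.left ≫ X.hom) s) := inferInstance
  have h1 : Set.range ⇑(pullback.snd φ.left (pullback.fst X.hom s)) =
      Set.range ⇑(e.inv ≫ pullback.snd φ.left (pullback.fst X.hom s)) := by
    ext v
    simp only [Set.mem_range, Scheme.Hom.comp_apply]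
    constructor
    · rintro ⟨p, rfl⟩
      refine ⟨e.hom p, ?_⟩
      rw [← Scheme.Hom.comp_apply e.hom e.inv, Iso.hom_inv_id]
      rfl
    · rintro ⟨p, rfl⟩
      exact ⟨_, rfl⟩
  rw [h1, ← Set.image_univ]
  exact (IrreducibleSpace.isIrreducible_univ _).image _ (Scheme.Hom.continuous _).continuousOn

end Groth.Agent.H38.HomogRat
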