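import Mathlib
import Groth.Prelude.Def_ActBC
import Groth.Agent.H38.HomogRat

/-!
# Base change of homogeneous spaces
-/

set_option autoImplicit false
universe u

open CategoryTheory MonoidalCategory CartesianMonoidalCategory MonObj GrpObj AlgebraicGeometry
open Limits

namespace Groth.Agent.H38.HomogBC

/-- the base change of a morphism over `S` sits in a cartesian square. -/
lemma isPullback_map {S T : Scheme.{u}} (j : T ⟶ S) {Z Z' : Over S} (c : Z' ⟶ Z) :
    IsPullback (pullback.fst Z'.hom j) ((Over.pullback j).map c).left c.left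
      (pullback.fst Z.hom j) := by
  have hbig : IsPullback (pullback.fst Z'.hom j) (pullback.snd Z'.hom j) (c.left ≫ Z.hom) j := by
    convert IsPullback.of_hasPullback Z'.hom j using 1
    exact Over.w c
  have hbot : IsPullback (pullback.fst Z.hom j) (pullback.snd Z.hom j) Z.hom j :=
    IsPullback.of_hasPullback _ _
  refine IsPullback.of_bot ?_ ?_ hbot
  · have : ((Over.pullback j).map c).left ≫ pullback.snd Z.hom j = pullback.snd Z'.hom j :=
      pullback.lift_snd _ _ _
    rw [this]
    exact hbig
  · exact (pullback.lift_fst _ _ _).symm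

/-- homogeneity is stable under base change. -/
theorem surjective_bc {S S' : Scheme.{u}} (f : S' ⟶ S) {G X : Over S} [GrpObj G]
    (a : AlgGrp.Action G X) (hΦ : Surjective (lift a.act (snd G X)).left) :
    Surjective (lift (a.bc f).act (snd (Red.bc f G) (Red.bc f X))).left := by
  have key : lift (a.bc f).act (snd _ _) ≫ Functor.LaxMonoidal.μ (Over.pullback f) X X =
      Functor.LaxMonoidal.μ (Over.pullback f) G X ≫
        (Over.pullback f).map (lift a.act (snd G X)) := by
    rw [← Functor.Monoidal.lift_μ, comp_lift_assoc, Functor.Monoidal.μ_snd, AlgGrp.Action.bc_act]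
  have h1 : Surjective ((Over.pullback f).map (lift a.act (snd G X))).left :=
    MorphismProperty.of_isPullback (P := @Surjective) (isPullback_map f (lift a.act (snd G X))) hΦ
  have h2 : lift (a.bc f).act (snd (Red.bc f G) (Red.bc f X)) =
      Functor.LaxMonoidal.μ (Over.pullback f) G X ≫
        (Over.pullback f).map (lift a.act (snd G X)) ≫
          inv (Functor.LaxMonoidal.μ (Over.pullback f) X X) := by
    rw [← Category.assoc, ← key, Category.assoc, IsIso.hom_inv_id, Category.comp_id]
  rw [h2, Over.comp_left, Over.comp_left]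
  haveI : IsIso (Functor.LaxMonoidal.μ (Over.pullback f) G X).left :=
    inferInstanceAs (IsIso ((Over.forget _).map (Functor.LaxMonoidal.μ (Over.pullback f) G X)))
  haveI : IsIso (inv (Functor.LaxMonoidal.μ (Over.pullback f) X X)).left :=
    inferInstanceAs (IsIso ((Over.forget _).map (inv (Functor.LaxMonoidal.μ (Over.pullback f) X X))))
  infer_instance

open Groth.Agent.H38.ActCalc Groth.Agent.H38.GrpComp Groth.Agent.H38.HomogOrbit
  Groth.Agent.H38.HomogConn Groth.Agent.H38.HomogRat

variable {k : Type u} [Field k] {G X : Over (Spec (CommRingCat.of k))} [GrpObj G]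
  (a : AlgGrp.Action G X) (hΦ : Surjective (lift a.act (snd G X)).left)

include hΦ in
/-- every point of a homogeneous space lies in exactly one irreducible component. -/
theorem existsUnique_irreducibleComponent (z : ↥X.left) :
    ∃! C, C ∈ irreducibleComponents ↥X.left ∧ z ∈ C := by
  refine ⟨irreducibleComponent z, ⟨irreducibleComponent_mem_irreducibleComponents z,
    mem_irreducibleComponent⟩, ?_⟩
  rintro C ⟨hC, hzC⟩
  obtain ⟨ξ, hξ⟩ := QuasiSober.sober hC.1 (isClosed_of_mem_irreducibleComponents _ hC)
  obtain ⟨ξ', hξ'⟩ := QuasiSober.sober (isIrreducible_irreducibleComponent (x := z))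
    isClosed_irreducibleComponent
  have m : ∀ c : ↥X.left, c ⤳ ξ → c = ξ :=
    Groth.Agent.H90.eq_of_specializes_of_maximal X.left ξ (by rw [hξ.def]; exact hC)
  have m' : ∀ c : ↥X.left, c ⤳ ξ' → c = ξ' :=
    Groth.Agent.H90.eq_of_specializes_of_maximal X.left ξ'
      (by rw [hξ'.def]; exact irreducibleComponent_mem_irreducibleComponents z)
  have e : ξ = ξ' := eq_of_maximal a hΦ z ξ ξ'
    (by rw [specializes_iff_mem_closure, hξ.def]; exact hzC)
    (by rw [specializes_iff_mem_closure, hξ'.def]; exact mem_irreducibleComponent) m m'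
  rw [← hξ.def, ← hξ'.def, e]

variable {H : Over (Spec (CommRingCat.of k))} [GrpObj H] (h : H ⟶ G) [IsMonHom h]
  [GeometricallyIrreducible H.hom]
  (hh : irreducibleComponent (unitPt k G) ⊆ Set.range ⇑h.left)

include hΦ hh in
/-- an irreducible component is the orbit of any of its points. -/
theorem irreducibleComponent_eq_orb {C : Set ↥X.left} (hC : C ∈ irreducibleComponents ↥X.left)
    {v : ↥X.left} (hv : v ∈ C) : C = orb a h {v} := by
  obtain ⟨ξ, hξ⟩ := QuasiSober.sober hC.1 (isClosed_of_mem_irreducibleComponents _ hC)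
  have m : ∀ c : ↥X.left, c ⤳ ξ → c = ξ :=
    Groth.Agent.H90.eq_of_specializes_of_maximal X.left ξ (by rw [hξ.def]; exact hC)
  have h1 : orb a h {ξ} = C := by
    rw [orb_eq_closure a h hΦ hh ξ m]; exact hξ.def
  have h2 : v ∈ orb a h {ξ} := by rw [h1]; exact hv
  rw [← h1]
  ext u
  exact ⟨fun hu => rel_trans a h hu (rel_symm a h h2), fun hu => rel_trans a h hu h2⟩

end Groth.Agent.H38.HomogBC
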