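import Mathlib
import Groth.Agent.H38.HomogBC
import Groth.Agent.H51.GrpFieldDim
import Groth.Agent.H17.Chev.CompDim

/-!
# Homogeneous spaces over a field are equidimensional
-/

set_option autoImplicit false
universe u

open CategoryTheory MonoidalCategory CartesianMonoidalCategory MonObj GrpObj AlgebraicGeometry
open Limits

namespace Groth.Agent.H38.HomogDim

open Groth.Agent.H38.ActCalc

section translation

variable {S : Scheme.{u}} {G X : Over S} [GrpObj G] (a : AlgGrp.Action G X)

/-- translation by a `T`-valued point of `G`, as an automorphism of `T ⊗ X` over `T` -/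
theorem exists_act_translation_iso {T : Over S} (g : T ⟶ G) :
    ∃ φ : (T ⊗ X) ≅ (T ⊗ X), φ.hom ≫ fst T X = fst T X ∧
      ∀ ξ : T ⟶ X, lift (𝟙 T) ξ ≫ φ.hom ≫ snd T X = lift g ξ ≫ a.act := by
  refine ⟨⟨lift (fst T X) (lift (fst T X ≫ g) (snd T X) ≫ a.act),
    lift (fst T X) (lift (fst T X ≫ g)⁻¹ (snd T X) ≫ a.act), ?_, ?_⟩, ?_, ?_⟩
  · apply CartesianMonoidalCategory.hom_ext
    · simp
    · rw [Category.assoc, lift_snd, ← Category.assoc, comp_lift, lift_snd, GrpObj.comp_inv,
        ← Category.assoc, lift_fst, Category.id_comp]
      exact lift_inv_act a _ _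
  · apply CartesianMonoidalCategory.hom_ext
    · simp
    · rw [Category.assoc, lift_snd, ← Category.assoc, comp_lift, lift_snd,
        ← Category.assoc, lift_fst, Category.id_comp]
      exact lift_act_inv a _ _
  · simp
  · intro ξ
    rw [lift_snd, ← Category.assoc, comp_lift, lift_snd, ← Category.assoc, lift_fst,
      Category.id_comp]

end translation

section field

variable {k : Type u} [Field k] {G X : Over (Spec (CommRingCat.of k))} [GrpObj G]
  (a : AlgGrp.Action G X) (hΦ : Surjective (lift a.act (snd G X)).left)

include hΦ in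
/-- a homogeneous space locally of finite type over a field has constant local dimension -/
theorem localDim_eq_of_homogeneous [LocallyOfFiniteType X.hom] (x y : ↥X.left) :
    FlatMor.localDim ↥X.left x = FlatMor.localDim ↥X.left y := by
  -- a point of `X × X` over `(x, y)`
  obtain ⟨w0, hw0x, hw0y⟩ := Scheme.Pullback.exists_preimage_pullback (f := X.hom) (g := X.hom)
    x y ((inferInstance : Subsingleton (Spec (CommRingCat.of k))).elim _ _)
  obtain ⟨w, hw⟩ := hΦ.surj (show ↥(X ⊗ X).left from w0)
  have hwx : a.act.left w = x := by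
    have h1 : (lift a.act (snd G X) ≫ fst X X).left w = x := by
      rw [Over.comp_left, Scheme.Hom.comp_apply, hw]
      exact hw0x
    rwa [lift_fst] at h1
  have hwy : (snd G X).left w = y := by
    have h1 : (lift a.act (snd G X) ≫ snd X X).left w = y := by
      rw [Over.comp_left, Scheme.Hom.comp_apply, hw]
      exact hw0y
    rwa [lift_snd] at h1
  -- the residue field point
  set K := (G ⊗ X).left.residueField w
  set ρ₀ := (G ⊗ X).left.fromSpecResidueField w
  set T : Over (Spec (CommRingCat.of k)) := Over.mk (ρ₀ ≫ (G ⊗ X).hom) with hT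
  set ρ : T ⟶ G ⊗ X := Over.homMk ρ₀ rfl with hρ
  obtain ⟨φ, -, hφ⟩ := exists_act_translation_iso a (ρ ≫ fst G X)
  have hpb : IsPullback (snd T X).left (fst T X).left X.hom T.hom :=
    (IsPullback.of_hasPullback T.hom X.hom).flip
  set pt : Spec (CommRingCat.of K) := IsLocalRing.closedPoint K
  have hρpt : ρ.left pt = w := Scheme.fromSpecResidueField_apply _ _
  set p₁ := (lift (𝟙 T) (ρ ≫ snd G X)).left pt with hp₁
  have h1 : (snd T X).left p₁ = y := by
    rw [hp₁, ← Scheme.Hom.comp_apply, ← Over.comp_left, lift_snd, Over.comp_left,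
      Scheme.Hom.comp_apply, hρpt, hwy]
  have h2 : (snd T X).left (φ.hom.left p₁) = x := by
    rw [hp₁, ← Scheme.Hom.comp_apply, ← Scheme.Hom.comp_apply, ← Over.comp_left, ← Over.comp_left,
      hφ, ← comp_lift, lift_fst_snd, Category.comp_id, Over.comp_left, Scheme.Hom.comp_apply,
      hρpt, hwx]
  have e1 := Groth.Agent.H51.localDim_of_isPullback_field k (Iso.refl _) X.hom T.hom _ _ hpb p₁
  have e2 := Groth.Agent.H51.localDim_of_isPullback_field k (Iso.refl _) X.hom T.hom _ _ hpb
    (φ.hom.left p₁)
  rw [h1] at e1
  rw [h2] at e2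
  rw [← e1, ← e2]
  haveI : IsIso φ.hom.left := (Over.forget _).map_isIso φ.hom
  exact (Groth.Agent.H17.Chev.localDim_eq_of_isOpenEmbedding φ.hom.left.isOpenEmbedding p₁).symm

include hΦ in
/-- the connected components of a homogeneous space over a field are irreducible -/
theorem isPreirreducible_connectedComponent [QuasiSeparatedSpace ↥X.left] (x : ↥X.left) :
    IsPreirreducible (connectedComponent x) := by
  obtain ⟨G₀, hgrp, incl, hmon, -, -, hrange, hgi, hc⟩ :=
    Groth.Agent.H38.GrpConnComp.exists_identityComponent k G
  have hh : irreducibleComponent (Groth.Agent.H38.GrpComp.unitPt k G) ⊆ Set.range ⇑incl.left := by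
    rw [hrange, Groth.Agent.H38.GrpConnComp.connectedComponent_unit_eq]
  rw [Groth.Agent.H38.HomogConn.connectedComponent_eq_orb a incl hΦ hh x]
  exact (Groth.Agent.H38.HomogConn.isIrreducible_orb_singleton a incl x).isPreirreducible

include hΦ in
/-- the dimension of a connected component of a homogeneous space locally of finite type over a
field is the local dimension at any point -/
theorem dim_connectedComponent_eq [LocallyOfFiniteType X.hom] (x y : ↥X.left) :
    topologicalKrullDim ↥(connectedComponent x) = FlatMor.localDim ↥X.left y := by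
  haveI : IsLocallyNoetherian X.left := LocallyOfFiniteType.isLocallyNoetherian X.hom
  haveI : QuasiSeparatedSpace ↥X.left := inferInstance
  have hirr : IsIrreducible (connectedComponent x) :=
    ⟨⟨x, mem_connectedComponent⟩, isPreirreducible_connectedComponent a hΦ x⟩
  have hZ : connectedComponent x ∈ irreducibleComponents ↥X.left := by
    refine ⟨hirr, fun Z hZ hle => ?_⟩
    exact hZ.isConnected.isPreconnected.subset_connectedComponent (hle mem_connectedComponent)
  obtain ⟨w, hw⟩ := QuasiSober.sober hirr isClosed_connectedComponent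
  rw [Groth.Agent.H17.Chev.dim_irreducibleComponent_eq_localDim k X.hom _ hZ w hw]
  exact localDim_eq_of_homogeneous a hΦ w y

include hΦ in
/-- **all connected components of a homogeneous space over a field have the same dimension** -/
theorem dim_connectedComponent_eq_dim_connectedComponent [LocallyOfFiniteType X.hom]
    (x y : ↥X.left) :
    topologicalKrullDim ↥(connectedComponent x) = topologicalKrullDim ↥(connectedComponent y) := by
  rw [dim_connectedComponent_eq a hΦ x x, dim_connectedComponent_eq a hΦ y x]

end field

end Groth.Agent.H38.HomogDim
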