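import Mathlib
import Groth.Agent.H38.HomogDim

/-!
# Reduction to the residue field over a local artinian base; equidimensionality of homogeneous
spaces over a local artinian ring
-/

set_option autoImplicit false
universe u

open CategoryTheory MonoidalCategory CartesianMonoidalCategory MonObj GrpObj AlgebraicGeometry
open Limits

namespace Groth.Agent.H38.HomogDimArtin

section red

variable (A : Type u) [CommRing A] [IsArtinianRing A] [IsLocalRing A]

/-- the spectrum of a local artinian ring is a point -/
theorem subsingleton_spec : Subsingleton (PrimeSpectrum A) := by
  constructor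
  intro p q
  have hp : p.asIdeal = IsLocalRing.maximalIdeal A :=
    IsLocalRing.eq_maximalIdeal (Ideal.IsPrime.isMaximal' p.isPrime)
  have hq : q.asIdeal = IsLocalRing.maximalIdeal A :=
    IsLocalRing.eq_maximalIdeal (Ideal.IsPrime.isMaximal' q.isPrime)
  ext1
  rw [hp, hq]

/-- the closed point of the spectrum of a local artinian ring, as a morphism -/
noncomputable abbrev clPt :
    Spec (CommRingCat.of (IsLocalRing.ResidueField A)) ⟶ Spec (CommRingCat.of A) :=
  Spec.map (CommRingCat.ofHom (IsLocalRing.residue A))

instance : IsClosedImmersion (clPt A) :=
  IsClosedImmersion.spec_of_surjective _ IsLocalRing.residue_surjective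

instance : Surjective (clPt A) := by
  constructor
  intro y
  haveI : Subsingleton ↥(Spec (CommRingCat.of A)) := subsingleton_spec A
  obtain ⟨z⟩ : Nonempty ↥(Spec (CommRingCat.of (IsLocalRing.ResidueField A))) := inferInstance
  exact ⟨z, Subsingleton.elim _ _⟩

/-- the special fibre of a scheme over a local artinian ring is homeomorphic to it -/
theorem isHomeomorph_fst (X : Over (Spec (CommRingCat.of A))) :
    IsHomeomorph ⇑(pullback.fst X.hom (clPt A)) := by
  have h1 : IsClosedImmersion (pullback.fst X.hom (clPt A)) := inferInstance
  have h2 : Surjective (pullback.fst X.hom (clPt A)) := inferInstance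
  exact (isHomeomorph_iff_isEmbedding_surjective).mpr
    ⟨(pullback.fst X.hom (clPt A)).isClosedEmbedding.isEmbedding, h2.surj⟩

end red

section top

/-- homeomorphisms preserve the dimension of connected components -/
theorem dim_connectedComponent_homeomorph {P Q : Type*} [TopologicalSpace P] [TopologicalSpace Q]
    (h : P ≃ₜ Q) (p : P) :
    topologicalKrullDim ↥(connectedComponent (h p)) = topologicalKrullDim ↥(connectedComponent p) := by
  have himg : h '' connectedComponent p = connectedComponent (h p) := by
    apply subset_antisymm
    · exact h.continuous.image_connectedComponent_subset p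
    · intro q hq
      have := h.symm.continuous.image_connectedComponent_subset (h p) ⟨q, hq, rfl⟩
      rw [h.symm_apply_apply] at this
      exact ⟨h.symm q, this, h.apply_symm_apply q⟩
  rw [← himg]
  exact ((h.image (connectedComponent p)).isHomeomorph.topologicalKrullDim_eq).symm

end top

section main

variable (A : Type u) [CommRing A] [IsArtinianRing A] [IsLocalRing A]
  {G X : Over (Spec (CommRingCat.of A))} [GrpObj G] [LocallyOfFiniteType X.hom]
  (a : AlgGrp.Action G X) (hΦ : Surjective (lift a.act (snd G X)).left)

include hΦ in
/-- **all connected components of a homogeneous space locally of finite type over a local artinian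
ring have the same dimension** -/
theorem dim_connectedComponent_eq (x y : ↥X.left) :
    topologicalKrullDim ↥(connectedComponent x) = topologicalKrullDim ↥(connectedComponent y) := by
  have hΦ₀ := Groth.Agent.H38.HomogBC.surjective_bc (clPt A) a hΦ
  haveI : LocallyOfFiniteType (Red.bc (clPt A) X).hom :=
    inferInstanceAs (LocallyOfFiniteType (pullback.snd X.hom (clPt A)))
  let h : ↥(Red.bc (clPt A) X).left ≃ₜ ↥X.left := (isHomeomorph_fst A X).homeomorph
  have key := Groth.Agent.H38.HomogDim.dim_connectedComponent_eq_dim_connectedComponent
    (a.bc (clPt A)) hΦ₀ (h.symm x) (h.symm y)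
  have hx := dim_connectedComponent_homeomorph h (h.symm x)
  have hy := dim_connectedComponent_homeomorph h (h.symm y)
  rw [h.apply_symm_apply] at hx hy
  rw [hx, hy]
  exact key

end main

end Groth.Agent.H38.HomogDimArtin
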