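import Mathlib
import Groth.Prelude.Def_NonAbH2
import Groth.Agent.H38.HomogDimArtin

/-!
# Connected components of a group scheme locally of finite type over a local artinian ring
-/

set_option autoImplicit false
universe u

open CategoryTheory MonoidalCategory CartesianMonoidalCategory MonObj GrpObj AlgebraicGeometry
open Limits

namespace Groth.Agent.H38.GrpCompArtin

section field

variable {k : Type u} [Field k] (G : Over (Spec (CommRingCat.of k))) [GrpObj G]

theorem surjective_trivialAction :
    Surjective (lift (NonAbH1.trivialAction G).act (snd G G)).left := by
  have : IsIso (lift (NonAbH1.trivialAction G).act (snd G G)) :=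
    NonAbH1.isPseudoTorsorSch_trivialAction G
  have : IsIso (lift (NonAbH1.trivialAction G).act (snd G G)).left :=
    inferInstanceAs (IsIso ((Over.forget _).map (lift (NonAbH1.trivialAction G).act (snd G G))))
  infer_instance

/-- the connected components of a quasi-separated group scheme over a field are quasi-compact -/
theorem isCompact_connectedComponent [QuasiSeparatedSpace ↥G.left] (g : ↥G.left) :
    IsCompact (connectedComponent g) := by
  obtain ⟨G₀, hgrp, incl, hmon, -, -, hrange, hgi, hc⟩ :=
    Groth.Agent.H38.GrpConnComp.exists_identityComponent k G
  have hh : irreducibleComponent (Groth.Agent.H38.GrpComp.unitPt k G) ⊆ Set.range ⇑incl.left := by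
    rw [hrange, Groth.Agent.H38.GrpConnComp.connectedComponent_unit_eq]
  rw [Groth.Agent.H38.HomogConn.connectedComponent_eq_orb (NonAbH1.trivialAction G) incl
    (surjective_trivialAction G) hh g]
  exact Groth.Agent.H38.HomogConn.isCompact_orb_singleton (NonAbH1.trivialAction G) incl g

end field

section artin

variable (A : Type u) [CommRing A] [IsArtinianRing A] [IsLocalRing A]
  (G : Over (Spec (CommRingCat.of A))) [GrpObj G] [LocallyOfFiniteType G.hom]

open Groth.Agent.H38.HomogDimArtin

/-- the connected components of a group scheme locally of finite type over a local artinian ring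
are quasi-compact -/
theorem isCompact_connectedComponent_artin (g : ↥G.left) : IsCompact (connectedComponent g) := by
  have : LocallyOfFiniteType (Red.bc (clPt A) G).hom :=
    inferInstanceAs (LocallyOfFiniteType (pullback.snd G.hom (clPt A)))
  have : IsLocallyNoetherian (Red.bc (clPt A) G).left :=
    LocallyOfFiniteType.isLocallyNoetherian (Red.bc (clPt A) G).hom
  have : QuasiSeparatedSpace ↥(Red.bc (clPt A) G).left := inferInstance
  let h : ↥(Red.bc (clPt A) G).left ≃ₜ ↥G.left := (isHomeomorph_fst A G).homeomorph
  have h0 := isCompact_connectedComponent (Red.bc (clPt A) G) (h.symm g)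
  have himg : h '' connectedComponent (h.symm g) = connectedComponent g := by
    apply subset_antisymm
    · have := h.continuous.image_connectedComponent_subset (h.symm g)
      rwa [h.apply_symm_apply] at this
    · intro q hq
      have := h.symm.continuous.image_connectedComponent_subset g ⟨q, hq, rfl⟩
      exact ⟨h.symm q, this, h.apply_symm_apply q⟩
  rw [← himg]
  exact h0.image h.continuous

end artin

end Groth.Agent.H38.GrpCompArtin
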