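import Mathlib
import Groth.Agent.H38.GrpFibreHom
import Groth.Agent.H99.IntegralDim

/-!
# Finite surjective homomorphisms: flatness and dimension of fibres
-/

set_option autoImplicit false

universe u

namespace Groth.Agent.H38.GrpFibreDim

open CategoryTheory CategoryTheory.Limits MonoidalCategory CartesianMonoidalCategory MonObj GrpObj
  AlgebraicGeometry
open Groth.Agent.H38.GrpFibreHom

variable {S : Scheme.{u}}

theorem flat_and_dim_aux {X : Scheme.{u}} (H : Over S) [GrpObj H] (p : X ⟶ S) (u : X ⟶ H.left)
    (hp : u ≫ H.hom = p) [GrpObj (Over.mk p)] [IsMonHom (Over.homMk u hp : Over.mk p ⟶ H)]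
    [LocallyOfFinitePresentation p] [Flat p] [LocallyOfFiniteType H.hom]
    [GeometricallyReduced H.hom] [IsFinite u] [Surjective u] :
    Flat u ∧ ∀ s : S, topologicalKrullDim ↥(p.fiber s) = topologicalKrullDim ↥(H.hom.fiber s) := by
  subst hp
  refine ⟨(Groth.Agent.H38.GrpFibreFlat.flat_aux H (u ≫ H.hom) u rfl).1, fun s => ?_⟩
  have hsq := (isPullback_bcF (S.fromSpecResidueField s) H u).flip
  have hfin : IsFinite (bcF (S.fromSpecResidueField s) H u).left :=
    MorphismProperty.of_isPullback (P := @IsFinite) hsq inferInstance
  have hsurj : Surjective (bcF (S.fromSpecResidueField s) H u).left :=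
    MorphismProperty.of_isPullback (P := @Surjective) hsq inferInstance
  have hint : IsIntegralHom (bcF (S.fromSpecResidueField s) H u).left := inferInstance
  have key := Groth.Agent.H99.IntegralDim.topologicalKrullDim_eq
    (bcF (S.fromSpecResidueField s) H u).left hsurj.surj
  exact key

/-- A finite surjective homomorphism from a flat, locally finitely presented group scheme to a
group scheme locally of finite type with geometrically reduced fibres is flat, and the fibres
have the same dimension. -/
theorem flat_and_dim (G H : Over S) [GrpObj G] [GrpObj H]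
    [LocallyOfFinitePresentation G.hom] [Flat G.hom]
    [LocallyOfFiniteType H.hom] [GeometricallyReduced H.hom]
    (f : G ⟶ H) [IsMonHom f] [IsFinite f.left] [Surjective f.left] :
    Flat f.left ∧
      ∀ s : S, topologicalKrullDim ↥(G.hom.fiber s) = topologicalKrullDim ↥(H.hom.fiber s) := by
  letI hG : GrpObj (Over.mk G.hom) := ‹GrpObj G›
  have hf0 : IsMonHom f := inferInstance
  have hf : IsMonHom (Over.homMk f.left (Over.w f) : Over.mk G.hom ⟶ H) := hf0
  exact flat_and_dim_aux H G.hom f.left (Over.w f)

end Groth.Agent.H38.GrpFibreDim
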