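import Mathlib
import Groth.Agent.H38.GrpFibreEtaleLocus
import Groth.Agent.H38.GrpFibreFlatLocus
import Groth.Agent.H69.EtaleTopInv

/-!
# The locus of points of the base over which a universally injective homomorphism is an open
immersion
-/

set_option autoImplicit false

universe u

namespace Groth.Agent.H38.GrpFibreOpenImm

open CategoryTheory CategoryTheory.Limits MonoidalCategory CartesianMonoidalCategory MonObj GrpObj
  AlgebraicGeometry
open Groth.Agent.H38.NeutralSet Groth.Agent.H38.NeutralSetHom Groth.Agent.H25

lemma isOpenImmersion_iff_etale {X Y : Scheme.{u}} (f : X ⟶ Y) [UniversallyInjective f] :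
    IsOpenImmersion f ↔ Etale f := by
  constructor
  · intro h
    infer_instance
  · intro h
    have := Groth.Agent.H69.EtaleTopInv.mono_of_etale_of_universallyInjective f
    exact IsOpenImmersion.of_flat_of_mono f

variable {S : Scheme.{u}} (G H : Over S) [GrpObj G] [GrpObj H] (u : G ⟶ H) [IsMonHom u]

lemma universallyInjective_us [UniversallyInjective u.left] (s : S) :
    UniversallyInjective ((Over.pullback (S.fromSpecResidueField s)).map u).left :=
  MorphismProperty.of_isPullback (P := @UniversallyInjective)
    (isPullback_us G H u s).flip inferInstance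

/-- Over an open of the base all of whose points have etale fibre homomorphisms, the homomorphism is
etale. -/
theorem etale_over_opens [Flat G.hom] [LocallyOfFinitePresentation G.hom]
    [LocallyOfFiniteType H.hom] (W : S.Opens)
    (hW : (W : Set S) ⊆
      {s : S | Etale ((Over.pullback (S.fromSpecResidueField s)).map u).left}) :
    Etale ((G.hom ⁻¹ᵁ W).ι ≫ u.left) := by
  haveI := Groth.Agent.H38.GrpFibreSmoothLocus.lfp_left G H u
  rw [Etale.iff_flat_and_formallyUnramified]
  refine ⟨?_, ?_, inferInstance⟩
  · apply Groth.Agent.H90.flat_of_forall_flatAt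
    intro w
    refine Groth.Agent.H90.FlatAt.comp (Groth.Agent.H90.flatAt_of_flat _ _) ?_
    have h2 := (Groth.Agent.H38.GrpFibreFlatLocus.flatLocus G H u).2
    have hmem : (G.hom ⁻¹ᵁ W).ι w ∈ G.hom.base ⁻¹' {s : S |
        Flat ((Over.pullback (S.fromSpecResidueField s)).map u).left} := by
      have h3 : Etale ((Over.pullback (S.fromSpecResidueField
          (G.hom ((G.hom ⁻¹ᵁ W).ι w)))).map u).left := hW w.2
      change Flat ((Over.pullback (S.fromSpecResidueField
          (G.hom ((G.hom ⁻¹ᵁ W).ι w)))).map u).left
      infer_instance
    rw [← h2] at hmem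
    exact hmem
  · apply formallyUnramified_of_stalkMap
    intro w
    rw [formallyUnramified_stalkMap_ι_comp_iff,
      Groth.Agent.H38.GrpFibreUnramLocus.stalkMap_formallyUnramified_iff G H u]
    have h3 : Etale ((Over.pullback (S.fromSpecResidueField
        (G.hom ((G.hom ⁻¹ᵁ W).ι w)))).map u).left := hW w.2
    change FormallyUnramified ((Over.pullback (S.fromSpecResidueField
        (G.hom ((G.hom ⁻¹ᵁ W).ι w)))).map u).left
    infer_instance

/-- The set of points of the base over which a universally injective homomorphism is an open
immersion is open, and over any open contained in it the homomorphism is an open immersion. -/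
theorem openImmLocus [UniversallyInjective u.left] [Flat G.hom] [LocallyOfFinitePresentation G.hom]
    [LocallyOfFiniteType H.hom] :
    IsOpen {s : S | IsOpenImmersion ((Over.pullback (S.fromSpecResidueField s)).map u).left} ∧
    ∀ W : S.Opens, (W : Set S) ⊆
      {s : S | IsOpenImmersion ((Over.pullback (S.fromSpecResidueField s)).map u).left} →
        IsOpenImmersion ((G.hom ⁻¹ᵁ W).ι ≫ u.left) := by
  have hU : {s : S | IsOpenImmersion ((Over.pullback (S.fromSpecResidueField s)).map u).left} =
      {s : S | Etale ((Over.pullback (S.fromSpecResidueField s)).map u).left} := by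
    ext s
    haveI := universallyInjective_us G H u s
    exact isOpenImmersion_iff_etale _
  rw [hU]
  refine ⟨(Groth.Agent.H38.GrpFibreEtaleLocus.etaleLocus G H u).1, fun W hW => ?_⟩
  have h1 := etale_over_opens G H u W hW
  haveI : UniversallyInjective ((G.hom ⁻¹ᵁ W).ι ≫ u.left) :=
    MorphismProperty.comp_mem @UniversallyInjective _ _ inferInstance inferInstance
  exact (isOpenImmersion_iff_etale _).mpr h1

end Groth.Agent.H38.GrpFibreOpenImm
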