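import Mathlib
import Groth.Agent.H38.GrpQFHom
import Groth.Agent.H38.NeutralSetHom

/-!
# The locus of points of the base over which a homomorphism is locally quasi-finite
-/

set_option autoImplicit false

universe u

namespace Groth.Agent.H38.GrpFibreQFLocus

open CategoryTheory CategoryTheory.Limits MonoidalCategory CartesianMonoidalCategory MonObj GrpObj
  AlgebraicGeometry
open Groth.Agent.H38.NeutralSet Groth.Agent.H38.NeutralSetHom Groth.Agent.H38.GrpQFHom
  Groth.Agent.H17

variable {S : Scheme.{u}} (G H : Over S) [GrpObj G] [GrpObj H] (u : G ⟶ H) [IsMonHom u]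

lemma lft_us_left [LocallyOfFiniteType u.left] (s : S) :
    LocallyOfFiniteType (us G H u s).left :=
  MorphismProperty.of_isPullback (P := @LocallyOfFiniteType)
    (isPullback_us G H u s).flip inferInstance

/-- `u` is quasi-finite at `x` iff the fibre homomorphism through `x` is locally quasi-finite. -/
theorem quasiFiniteAt_iff [LocallyOfFiniteType u.left] (x : G.left) :
    u.left.QuasiFiniteAt x ↔ LocallyQuasiFinite (us G H u (G.hom x)).left := by
  haveI := lft_us_left G H u (G.hom x)
  -- the point of the fibre over `x`
  have hx : x ∈ Set.range (pullback.fst G.hom (ts (G.hom x))) := by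
    rw [range_fst]; rfl
  obtain ⟨xs, hxs⟩ := hx
  have h1 := quasiFiniteAt_iff_of_isPullback (isPullback_us G H u (G.hom x)).flip xs
  have h1' : (us G H u (G.hom x)).left.QuasiFiniteAt xs ↔ u.left.QuasiFiniteAt x := by
    have e : (pullback.fst G.hom (ts (G.hom x))).base xs = x := hxs
    rw [e] at h1
    exact h1
  rw [← h1']
  constructor
  · intro h
    exact locallyQuasiFinite_of_quasiFiniteAt _ _ (us G H u (G.hom x)) xs h
  · intro h
    exact Scheme.Hom.quasiFiniteAt _ xs

lemma hom_unit (s : S) : G.hom (η[G].left s) = s := by
  have hsec : η[G].left ≫ G.hom = 𝟙 S := Over.w η[G]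
  rw [← Scheme.Hom.comp_apply, hsec]; rfl

/-- The set of points of the base over which a homomorphism locally of finite type is locally
quasi-finite is open, and the quasi-finite locus of the homomorphism is its inverse image. -/
theorem qfLocus [LocallyOfFiniteType u.left] :
    IsOpen {s : S | LocallyQuasiFinite ((Over.pullback (S.fromSpecResidueField s)).map u).left} ∧
    {x : G.left | ∃ W : G.left.Opens, x ∈ W ∧ LocallyQuasiFinite (W.ι ≫ u.left)} =
      G.hom.base ⁻¹' {s : S |
        LocallyQuasiFinite ((Over.pullback (S.fromSpecResidueField s)).map u).left} := by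
  have hset : {x : G.left | ∃ W : G.left.Opens, x ∈ W ∧ LocallyQuasiFinite (W.ι ≫ u.left)} =
      (u.left.quasiFiniteLocus : Set G.left) := by
    ext x
    constructor
    · rintro ⟨W, hxW, hW⟩
      have h := Scheme.Hom.quasiFiniteAt (W.ι ≫ u.left) ⟨x, hxW⟩
      exact (Scheme.Hom.quasiFiniteAt_comp_iff_of_isOpenImmersion (f := W.ι) (g := u.left)
        (x := ⟨x, hxW⟩)).mp h
    · intro hx
      exact ⟨u.left.quasiFiniteLocus, hx, inferInstance⟩
  constructor
  · have : {s : S | LocallyQuasiFinite
          ((Over.pullback (S.fromSpecResidueField s)).map u).left} =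
        η[G].left.base ⁻¹' (u.left.quasiFiniteLocus : Set G.left) := by
      ext s
      have h := quasiFiniteAt_iff G H u (η[G].left s)
      rw [hom_unit] at h
      exact h.symm
    rw [this]
    exact u.left.quasiFiniteLocus.2.preimage η[G].left.continuous
  · rw [hset]
    ext x
    exact quasiFiniteAt_iff G H u x

end Groth.Agent.H38.GrpFibreQFLocus
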