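import Mathlib
import Groth.Agent.H38.GrpFibreQFLocus
import Groth.Agent.H38.GrpFibreUnramLocus
import Groth.Agent.H38.GrpArtinQuot

/-!
# Quasi-finiteness and unramifiedness of a homomorphism in terms of its kernel
-/

set_option autoImplicit false

universe u

namespace Groth.Agent.H38.GrpKerLocus

open CategoryTheory CategoryTheory.Limits MonoidalCategory CartesianMonoidalCategory MonObj GrpObj
  AlgebraicGeometry
open Groth.Agent.H17 Groth.Agent.H25 Groth.Agent.H25.UnramBC Groth.Agent.H90
  Groth.Agent.H38.GrpArtinQuot

variable {S : Scheme.{u}} (G H : Over S) [GrpObj G] [GrpObj H] (f : G ⟶ H) [IsMonHom f]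
  (N : Over S) [GrpObj N] (i : N ⟶ G) [IsMonHom i] (hN : IsPullback i (toUnit N) f η[H])

include hN

lemma lft_ker [LocallyOfFiniteType f.left] : LocallyOfFiniteType N.hom := by
  have sqN := hN.map (Over.forget S)
  simp only [Over.forget_obj, Over.forget_map] at sqN
  rw [← toUnit_left]
  exact MorphismProperty.of_isPullback (P := @LocallyOfFiniteType) sqN inferInstance

lemma lfp_ker [LocallyOfFinitePresentation f.left] : LocallyOfFinitePresentation N.hom := by
  have sqN := hN.map (Over.forget S)
  simp only [Over.forget_obj, Over.forget_map] at sqN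
  rw [← toUnit_left]
  exact MorphismProperty.of_isPullback (P := @LocallyOfFinitePresentation) sqN inferInstance

/-- the section `(id, e)` of the first projection `G ⊗ N ⟶ G` -/
lemma sec_props : ∃ w : G ⟶ G ⊗ N, (∀ c : G.left, (fst G N * (snd G N ≫ i)).left (w.left c) = c) ∧
    ∀ c : G.left, (snd G N).left (w.left c) = η[N].left (G.hom c) := by
  have he : η[N] ≫ i = η[G] := IsMonHom.one_hom i
  refine ⟨lift (𝟙 G) (toUnit G ≫ η[N]), ?_, ?_⟩
  · intro c
    have hw1 : lift (𝟙 G) (toUnit G ≫ η[N]) ≫ (fst G N * (snd G N ≫ i)) = 𝟙 G := by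
      rw [MonObj.comp_mul, lift_fst, ← Category.assoc, lift_snd, Category.assoc, he,
        ← Hom.one_def, _root_.mul_one]
    rw [← Scheme.Hom.comp_apply, ← Over.comp_left, hw1]
    rfl
  · intro c
    have h : lift (𝟙 G) (toUnit G ≫ η[N]) ≫ snd G N = toUnit G ≫ η[N] := lift_snd _ _
    rw [← Scheme.Hom.comp_apply, ← Over.comp_left, h, Over.comp_left, Scheme.Hom.comp_apply,
      toUnit_left]

lemma sq1 : IsPullback (fst G N).left (fst G N * (snd G N ≫ i)).left f.left f.left := by
  have sq1 := (isPullback_shear_of_isKernel f i hN).map (Over.forget S)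
  simp only [Over.forget_obj, Over.forget_map] at sq1
  exact sq1

omit hN in
lemma sq2 : IsPullback (snd G N).left (fst G N).left N.hom G.hom := by
  rw [Over.fst_left, Over.snd_left]
  exact (IsPullback.of_hasPullback G.hom N.hom).flip

/-- `f` is quasi-finite at `c` iff the kernel is quasi-finite over the base at the unit point
below `c`. -/
theorem quasiFiniteAt_iff_ker [LocallyOfFiniteType f.left] (c : G.left) :
    f.left.QuasiFiniteAt c ↔ N.hom.QuasiFiniteAt (η[N].left (G.hom c)) := by
  haveI := lft_ker G H f N i hN
  obtain ⟨w, hw3, hw2⟩ := sec_props G H f N i hN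
  have h1 := quasiFiniteAt_iff_of_isPullback (sq1 G H f N i hN).flip (w.left c)
  have h1' : (fst G N).left.QuasiFiniteAt (w.left c) ↔ f.left.QuasiFiniteAt c := by
    have e : (fst G N * (snd G N ≫ i)).left.base (w.left c) = c := hw3 c
    rw [e] at h1
    exact h1
  have h2 := quasiFiniteAt_iff_of_isPullback (sq2 G N) (w.left c)
  have e2 : (snd G N).left.base (w.left c) = η[N].left (G.hom c) := hw2 c
  rw [e2] at h2
  exact h1'.symm.trans h2

/-- `f` is unramified at `c` iff the kernel is unramified over the base at the unit point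
below `c`. -/
theorem unram_iff_ker [LocallyOfFiniteType f.left] (c : G.left) :
    (f.left.stalkMap c).hom.FormallyUnramified ↔
      (N.hom.stalkMap (η[N].left (G.hom c))).hom.FormallyUnramified := by
  haveI := lft_ker G H f N i hN
  obtain ⟨w, hw3, hw2⟩ := sec_props G H f N i hN
  have h1 := formallyUnramified_stalkMap_iff_of_isPullback (sq1 G H f N i hN).flip (w.left c)
  rw [hw3] at h1
  have h2 := formallyUnramified_stalkMap_iff_of_isPullback (sq2 G N) (w.left c)
  rw [hw2] at h2
  exact h1.symm.trans h2

theorem lqf_iff_ker [LocallyOfFiniteType f.left] :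
    LocallyQuasiFinite f.left ↔ LocallyQuasiFinite N.hom := by
  haveI := lft_ker G H f N i hN
  constructor
  · intro h
    have sqN := hN.map (Over.forget S)
    simp only [Over.forget_obj, Over.forget_map] at sqN
    rw [← toUnit_left]
    exact MorphismProperty.of_isPullback (P := @LocallyQuasiFinite) sqN h
  · intro h
    rw [← Scheme.Hom.quasiFiniteLocus_eq_top_iff, ← top_le_iff]
    rintro c -
    exact (quasiFiniteAt_iff_ker G H f N i hN c).mpr (Scheme.Hom.quasiFiniteAt _ _)

theorem unram_iff_ker' [LocallyOfFiniteType f.left] :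
    FormallyUnramified f.left ↔ FormallyUnramified N.hom := by
  haveI := lft_ker G H f N i hN
  constructor
  · intro h
    have sqN := hN.map (Over.forget S)
    simp only [Over.forget_obj, Over.forget_map] at sqN
    rw [← toUnit_left]
    exact MorphismProperty.of_isPullback (P := @FormallyUnramified) sqN h
  · intro h
    apply formallyUnramified_of_stalkMap
    intro c
    exact (unram_iff_ker G H f N i hN c).mpr (FormallyUnramified.stalkMap _ _)

omit hN in
/-- A group scheme locally of finite type over the base is unramified iff its unit section is an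
open immersion. -/
theorem unram_iff_isOpenImmersion_unit [LocallyOfFiniteType N.hom] :
    FormallyUnramified N.hom ↔ IsOpenImmersion η[N].left := by
  have hsec : η[N].left ≫ N.hom = 𝟙 S := Over.w η[N]
  constructor
  · intro h
    have hiso : IsIso (η[N].left ≫ N.hom) := by rw [hsec]; exact IsIso.id S
    have het : Etale (η[N].left ≫ N.hom) := inferInstance
    haveI : Etale η[N].left := Etale.of_comp η[N].left N.hom
    haveI : Mono η[N].left := (SplitMono.mk N.hom hsec).mono
    exact IsOpenImmersion.of_flat_of_mono _
  · intro h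
    have hiso : η[N].left.opensRange.ι ≫ N.hom = η[N].left.isoOpensRange.inv := by
      rw [← Scheme.Hom.isoOpensRange_inv_comp, Category.assoc, hsec]
      exact Category.comp_id _
    have hun : FormallyUnramified (η[N].left.opensRange.ι ≫ N.hom) := by
      rw [hiso]; infer_instance
    -- the trivial homomorphism `N ⟶ 𝟙_`, with kernel `N`
    have hK : IsPullback (𝟙 N) (toUnit N) (toUnit N) η[𝟙_ (Over S)] := by
      have h1 : η[𝟙_ (Over S)] = 𝟙 _ := toUnit_unique _ _
      rw [h1]
      exact IsPullback.of_horiz_isIso ⟨by simp⟩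
    haveI : LocallyOfFiniteType (toUnit N).left := by rw [toUnit_left]; infer_instance
    have key := fun c => unram_iff_ker N (𝟙_ (Over S)) (toUnit N) N (𝟙 N) hK c
    have : FormallyUnramified (toUnit N).left := by
      apply formallyUnramified_of_stalkMap
      intro c
      rw [key c]
      exact (exists_formallyUnramified_nhd_iff N.hom _).mp
        ⟨η[N].left.opensRange, ⟨N.hom c, rfl⟩, hun⟩
    rwa [toUnit_left] at this

end Groth.Agent.H38.GrpKerLocus
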