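import Mathlib
import Groth.Agent.H38.GrpConnComp

/-!
# The identity component is `U · U⁻¹` for every nonempty open subset `U` of it
-/

set_option autoImplicit false
universe u

open CategoryTheory MonoidalCategory CartesianMonoidalCategory MonObj GrpObj AlgebraicGeometry
open Limits

namespace Groth.Agent.H38.GrpUUinv

open Groth.Agent.H38.GrpComp Groth.Agent.H38.GrpConnIrr Groth.Agent.H38.GrpConnComp

variable (K : Type u) [Field K] (G : Over (Spec (CommRingCat.of K))) [GrpObj G]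

theorem inv_inv_apply (x : ↥G.left) : ι[G].left (ι[G].left x) = x := by
  rw [← Scheme.Hom.comp_apply, ← Over.comp_left, GrpObj.inv_comp_inv]
  rfl

theorem connectedComponent_subset_range_div (U : G.left.Opens)
    (hne : (U : Set ↥G.left).Nonempty)
    (hU : (U : Set ↥G.left) ⊆ connectedComponent (unitPt K G)) :
    connectedComponent (unitPt K G) ⊆ Set.range
      ⇑((((Over.homMk U.ι rfl : Over.mk (U.ι ≫ G.hom) ⟶ G) ⊗ₘ
          ((Over.homMk U.ι rfl : Over.mk (U.ι ≫ G.hom) ⟶ G) ≫ ι[G])) ≫ μ[G]).left) := by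
  obtain ⟨j, hj⟩ : ∃ j : Over.mk (U.ι ≫ G.hom) ⟶ G, j = Over.homMk U.ι rfl := ⟨_, rfl⟩
  rw [← hj]
  have hjrange : Set.range ⇑j.left = (U : Set ↥G.left) := by
    rw [hj]; exact Scheme.Opens.range_ι U
  obtain ⟨G₀, _, incl, hmon, hci, hflat, hrange, hgi, hc⟩ := exists_identityComponent K G
  haveI : IrreducibleSpace ↥G₀.left :=
    irreducibleSpace_of_isEmbedding incl.left.isEmbedding
      (by rw [hrange]; exact isIrreducible_connectedComponent_unit K G)
  obtain ⟨U₀, hU₀⟩ : ∃ U₀ : G₀.left.Opens, U₀ = incl.left ⁻¹ᵁ U := ⟨_, rfl⟩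
  obtain ⟨V₀, hV₀⟩ : ∃ V₀ : G₀.left.Opens, V₀ = incl.left ⁻¹ᵁ (ι[G].left ⁻¹ᵁ U) := ⟨_, rfl⟩
  obtain ⟨u, hu⟩ := hne
  have hU₀ne : (U₀ : Set ↥G₀.left).Nonempty := by
    have h1 : u ∈ Set.range ⇑incl.left := by rw [hrange]; exact hU hu
    obtain ⟨u₀, rfl⟩ := h1
    exact ⟨u₀, by rw [hU₀]; exact hu⟩
  have hV₀ne : (V₀ : Set ↥G₀.left).Nonempty := by
    have h1 : ι[G].left u ∈ Set.range ⇑incl.left := by
      rw [hrange, connectedComponent_unit_eq]
      apply inv_mem_unitComponent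
      rw [← connectedComponent_unit_eq]
      exact hU hu
    obtain ⟨v₀, hv₀⟩ := h1
    refine ⟨v₀, ?_⟩
    rw [hV₀]
    change ι[G].left (incl.left v₀) ∈ U
    rw [hv₀, inv_inv_apply]
    exact hu
  have hU₀d : Dense (U₀ : Set ↥G₀.left) := U₀.isOpen.dense hU₀ne
  have hV₀d : Dense (V₀ : Set ↥G₀.left) := V₀.isOpen.dense hV₀ne
  intro g hg
  have hg' : g ∈ Set.range ⇑incl.left := by rw [hrange]; exact hg
  obtain ⟨g₀, rfl⟩ := hg'
  obtain ⟨z₀, h1, h2, h3⟩ := Groth.Agent.H90.exists_mul_of_dense K G₀ U₀ V₀ hU₀d hV₀d g₀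
  have hfst : (fst G G).left ((incl ⊗ₘ incl).left z₀) = incl.left ((fst G₀ G₀).left z₀) := by
    rw [← Scheme.Hom.comp_apply, ← Over.comp_left, tensorHom_fst, Over.comp_left,
      Scheme.Hom.comp_apply]
  have hsnd : (snd G G).left ((incl ⊗ₘ incl).left z₀) = incl.left ((snd G₀ G₀).left z₀) := by
    rw [← Scheme.Hom.comp_apply, ← Over.comp_left, tensorHom_snd, Over.comp_left,
      Scheme.Hom.comp_apply]
  have hz : (incl ⊗ₘ incl).left z₀ ∈ Set.range ⇑(j ⊗ₘ (j ≫ ι[G])).left := by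
    rw [Groth.Agent.H90.Base.range_tensorHom_left]
    refine ⟨?_, ?_⟩
    · rw [Set.mem_preimage, hfst, hjrange]
      rw [hU₀] at h1
      exact h1
    · rw [Set.mem_preimage, hsnd]
      rw [hV₀] at h2
      have h2' : ι[G].left (incl.left ((snd G₀ G₀).left z₀)) ∈ (U : Set ↥G.left) := h2
      rw [← hjrange] at h2'
      obtain ⟨w, hw⟩ := h2'
      refine ⟨w, ?_⟩
      rw [Over.comp_left, Scheme.Hom.comp_apply, hw, inv_inv_apply]
  obtain ⟨t, ht⟩ := hz
  refine ⟨t, ?_⟩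
  rw [Over.comp_left, Scheme.Hom.comp_apply, ht, ← Scheme.Hom.comp_apply, ← Over.comp_left,
    ← IsMonHom.mul_hom, Over.comp_left, Scheme.Hom.comp_apply, h3]

end Groth.Agent.H38.GrpUUinv
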