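import Mathlib
import Groth.Agent.H38.HomogBC
import Groth.Agent.H21.QcClosure

/-!
# Homogeneous spaces: translates of open sets by the identity component
-/

set_option autoImplicit false
universe u

open CategoryTheory MonoidalCategory CartesianMonoidalCategory MonObj GrpObj AlgebraicGeometry
open Limits

namespace Groth.Agent.H38.HomogOpen

open Groth.Agent.H38.ActCalc Groth.Agent.H38.GrpComp Groth.Agent.H38.HomogOrbit
  Groth.Agent.H38.HomogConn Groth.Agent.H38.HomogRat Groth.Agent.H38.HomogBC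

variable {k : Type u} [Field k] {G X : Over (Spec (CommRingCat.of k))} [GrpObj G]
  (a : AlgGrp.Action G X) {H : Over (Spec (CommRingCat.of k))} (h : H ⟶ G)

/-- the orbit set as an image under the action morphism of `G`. -/
theorem orb_eq_image (A : Set ↥X.left) : orb a h A =
    a.act.left '' {z : ↥(G ⊗ X).left | (fst G X).left z ∈ Set.range ⇑h.left ∧
      (snd G X).left z ∈ A} := by
  have h1 : {z : ↥(G ⊗ X).left | (fst G X).left z ∈ Set.range ⇑h.left ∧ (snd G X).left z ∈ A} =
      (h ▷ X).left '' ((snd H X).left ⁻¹' A) := by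
    ext z
    constructor
    · rintro ⟨hz1, hz2⟩
      rw [← Set.mem_preimage, ← Groth.Agent.H90.range_whiskerRight_left] at hz1
      obtain ⟨t, rfl⟩ := hz1
      refine ⟨t, ?_, rfl⟩
      rw [Set.mem_preimage]
      rw [← Scheme.Hom.comp_apply, ← Over.comp_left, whiskerRight_snd] at hz2
      exact hz2
    · rintro ⟨t, ht, rfl⟩
      constructor
      · rw [← Scheme.Hom.comp_apply, ← Over.comp_left, whiskerRight_fst, Over.comp_left,
          Scheme.Hom.comp_apply]
        exact ⟨_, rfl⟩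
      · rw [← Scheme.Hom.comp_apply, ← Over.comp_left, whiskerRight_snd]
        exact ht
  rw [h1, Set.image_image]
  rfl

variable (hΦ : Surjective (lift a.act (snd G X)).left)
  (hh : irreducibleComponent (unitPt k G) ⊆ Set.range ⇑h.left)
  [GrpObj H] [IsMonHom h] [GeometricallyIrreducible H.hom]

include hΦ hh in
/-- `H · U` is the union of the irreducible components whose generic point lies in `U`. -/
theorem orb_opens_eq_sUnion (U : X.left.Opens) : orb a h (U : Set ↥X.left) =
    ⋃₀ {Z : Set ↥X.left | Z ∈ irreducibleComponents ↥X.left ∧ ∃ ξ ∈ U, closure {ξ} = Z} := by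
  ext v
  constructor
  · intro hv
    rw [mem_orb_iff_exists] at hv
    obtain ⟨u, hu, hvu⟩ := hv
    obtain ⟨ξ, mξ, sξ, rξ⟩ := exists_maximal a h hΦ hh u
    have hξU : ξ ∈ U := U.2.stableUnderGeneralization sξ hu
    refine ⟨closure {ξ}, ⟨Groth.Agent.H90.closure_mem_irreducibleComponents_of_forall X.left ξ mξ,
      ξ, hξU, rfl⟩, ?_⟩
    rw [← orb_eq_closure a h hΦ hh ξ mξ]
    exact rel_trans a h hvu rξ
  · rintro ⟨Z, ⟨hZ, ξ, hξU, rfl⟩, hv⟩
    have mξ : ∀ c : ↥X.left, c ⤳ ξ → c = ξ :=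
      Groth.Agent.H90.eq_of_specializes_of_maximal X.left ξ hZ
    rw [← orb_eq_closure a h hΦ hh ξ mξ] at hv
    rw [mem_orb_iff_exists]
    exact ⟨ξ, hξU, hv⟩

include hΦ hh in
theorem orb_opens_subset_closure (U : X.left.Opens) :
    orb a h (U : Set ↥X.left) ⊆ closure (U : Set ↥X.left) := by
  rw [orb_opens_eq_sUnion a h hΦ hh U]
  rintro v ⟨Z, ⟨-, ξ, hξU, rfl⟩, hv⟩
  exact closure_mono (Set.singleton_subset_iff.mpr hξU) hv

include hΦ hh in
theorem closure_subset_orb_opens (U : X.left.Opens) (hU : IsRetrocompact (U : Set ↥X.left)) :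
    closure (U : Set ↥X.left) ⊆ orb a h (U : Set ↥X.left) := by
  intro y hy
  obtain ⟨_, ⟨W, hW, rfl⟩, hyW, -⟩ :=
    (X.left.isBasis_affineOpens).exists_subset_of_mem_open (Set.mem_univ y) isOpen_univ
  have hc : IsCompact ((U : Set ↥X.left) ∩ (W : Set ↥X.left)) := hU hW.isCompact W.2
  have hy' : y ∈ closure ((U : Set ↥X.left) ∩ (W : Set ↥X.left)) := by
    rw [Set.inter_comm]
    exact W.2.inter_closure ⟨hyW, hy⟩
  obtain ⟨u, hu, huy⟩ := Groth.Agent.H21.QcClosure.exists_specializes_of_mem_closure_of_isAffineOpen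
    hW ((U : Set ↥X.left) ∩ (W : Set ↥X.left)) (U.2.inter W.2) hc Set.inter_subset_right y hyW hy'
  obtain ⟨ξ, mξ, sξ, rξ⟩ := exists_maximal a h hΦ hh u
  have h1 : y ∈ orb a h {ξ} := by
    rw [orb_eq_closure a h hΦ hh ξ mξ]
    exact specializes_iff_mem_closure.mp (sξ.trans huy)
  rw [mem_orb_iff_exists]
  exact ⟨u, hu.1, rel_trans a h h1 (rel_symm a h rξ)⟩

end Groth.Agent.H38.HomogOpen
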