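import Mathlib
import Groth.Agent.H38.FibrePrimes
import Groth.Agent.H2.QFDim

/-!
# Points of dimension one are preserved under integral morphisms to integral targets
-/

set_option autoImplicit false
universe u

open AlgebraicGeometry CategoryTheory

namespace Groth.Agent.H38

/-- Let `f : Y ⟶ X` be a morphism, `U` an affine open of `X` with affine preimage, such that
`Γ(X, U) → Γ(Y, f⁻¹U)` is integral and injective and `Γ(Y, f⁻¹U)` is a domain. If the local ring
of `X` at `f y` has dimension one, so does the local ring of `Y` at `y`. -/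
theorem ringKrullDim_stalk_eq_one_of_integral {Y X : Scheme.{u}} (f : Y ⟶ X) {U : X.Opens}
    (hU : IsAffineOpen U) (hV : IsAffineOpen (f ⁻¹ᵁ U)) [IsDomain Γ(Y, f ⁻¹ᵁ U)]
    (hint : (f.app U).hom.IsIntegral) (hinj : Function.Injective (f.app U).hom)
    (y : Y) (hy : f y ∈ U) (hdim : ringKrullDim (X.presheaf.stalk (f y)) = 1) :
    ringKrullDim (Y.presheaf.stalk y) = 1 := by
  letI : Algebra Γ(X, U) Γ(Y, f ⁻¹ᵁ U) := (f.app U).hom.toAlgebra
  haveI : Algebra.IsIntegral Γ(X, U) Γ(Y, f ⁻¹ᵁ U) := ⟨hint⟩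
  have hy' : y ∈ f ⁻¹ᵁ U := hy
  have hqp : (hV.primeIdealOf ⟨y, hy'⟩).asIdeal.under Γ(X, U) =
      (hU.primeIdealOf ⟨f y, hy⟩).asIdeal :=
    congrArg PrimeSpectrum.asIdeal (comap_primeIdealOf_app f hU hV y hy)
  letI algY : Algebra Γ(Y, f ⁻¹ᵁ U) (Y.presheaf.stalk y) :=
    TopCat.Presheaf.algebra_section_stalk Y.presheaf ⟨y, hy'⟩
  haveI := hV.isLocalization_stalk ⟨y, hy'⟩
  letI algX : Algebra Γ(X, U) (X.presheaf.stalk (f y)) :=
    TopCat.Presheaf.algebra_section_stalk X.presheaf ⟨f y, hy⟩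
  haveI := hU.isLocalization_stalk ⟨f y, hy⟩
  rw [IsLocalization.AtPrime.ringKrullDim_eq_height (hV.primeIdealOf ⟨y, hy'⟩).asIdeal]
  rw [IsLocalization.AtPrime.ringKrullDim_eq_height (hU.primeIdealOf ⟨f y, hy⟩).asIdeal] at hdim
  have hp1 : (hU.primeIdealOf ⟨f y, hy⟩).asIdeal.height = 1 := by exact_mod_cast hdim
  have h1 : (hV.primeIdealOf ⟨y, hy'⟩).asIdeal.height ≤ 1 := by
    have := Groth.Agent.H2.height_le_height_under_of_isIntegral (R := Γ(X, U))
      (hV.primeIdealOf ⟨y, hy'⟩).asIdeal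
    rwa [hqp, hp1] at this
  have h0 : (hV.primeIdealOf ⟨y, hy'⟩).asIdeal.height ≠ 0 := by
    rw [Ne, Ideal.height_eq_zero_iff_eq_bot]
    intro hq
    have hp0 : (hU.primeIdealOf ⟨f y, hy⟩).asIdeal = ⊥ := by
      rw [← hqp, hq]
      exact Ideal.comap_bot_of_injective _ hinj
    haveI : Nontrivial Γ(X, U) := by
      by_contra h
      rw [not_nontrivial_iff_subsingleton] at h
      exact (hU.primeIdealOf ⟨f y, hy⟩).isPrime.ne_top (Subsingleton.elim _ _)
    rw [hp0, Ideal.height_bot] at hp1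
    exact zero_ne_one hp1
  have : (hV.primeIdealOf ⟨y, hy'⟩).asIdeal.height = 1 :=
    le_antisymm h1 (Order.one_le_iff_ne_zero.mpr h0)
  exact_mod_cast this

end Groth.Agent.H38
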