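import Mathlib.Topology.JacobsonSpace
import Mathlib.Topology.Constructible
import Groth.Agent.H38.Constr

set_option autoImplicit false

namespace Groth.Agent.H38

open Topology TopologicalSpace Set

universe u
variable {X : Type u} [TopologicalSpace X]

/-- A nonempty constructible subset of a Jacobson space contains a closed point. -/
theorem nonempty_inter_closedPoints_of_isConstructible [JacobsonSpace X] {s : Set X}
    (hs : IsConstructible s) (hne : s.Nonempty) : (s ∩ closedPoints X).Nonempty := by
  induction s, hs using constructible_sdiff_union_induction with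
  | sdiff U V hUo hUr hVo hVr =>
    exact nonempty_inter_closedPoints hne
      (hUo.isLocallyClosed.inter hVo.isClosed_compl.isLocallyClosed)
  | union s _ t _ hs' ht' =>
    rcases hne with ⟨x, hx | hx⟩
    · obtain ⟨y, hy, hy'⟩ := hs' ⟨x, hx⟩
      exact ⟨y, Or.inl hy, hy'⟩
    · obtain ⟨y, hy, hy'⟩ := ht' ⟨x, hx⟩
      exact ⟨y, Or.inr hy, hy'⟩

theorem subset_of_preimage_val_closedPoints_subset [JacobsonSpace X] {E E' : Set X}
    (hE : IsConstructible E) (hE' : IsConstructible E')
    (h : (Subtype.val : closedPoints X → X) ⁻¹' E ⊆ Subtype.val ⁻¹' E') : E ⊆ E' := by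
  by_contra hcon
  rw [Set.not_subset] at hcon
  obtain ⟨x, hxE, hxE'⟩ := hcon
  obtain ⟨y, ⟨hyE, hyE'⟩, hycl⟩ :=
    nonempty_inter_closedPoints_of_isConstructible (hE.sdiff hE') ⟨x, hxE, hxE'⟩
  exact hyE' (h (a := ⟨y, hycl⟩) hyE)

theorem subset_of_preimage_val_closedPoints_subset_of_isOpen [JacobsonSpace X] {U V : Set X}
    (hU : IsOpen U) (hV : IsOpen V)
    (h : (Subtype.val : closedPoints X → X) ⁻¹' U ⊆ Subtype.val ⁻¹' V) : U ⊆ V := by
  by_contra hcon
  rw [Set.not_subset] at hcon
  obtain ⟨x, hxU, hxV⟩ := hcon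
  obtain ⟨y, ⟨hyU, hyV⟩, hycl⟩ := nonempty_inter_closedPoints (Z := U ∩ Vᶜ) ⟨x, hxU, hxV⟩
    (hU.isLocallyClosed.inter hV.isClosed_compl.isLocallyClosed)
  exact hyV (h (a := ⟨y, hycl⟩) hyU)

theorem isCompact_iff_preimage_val_closedPoints [JacobsonSpace X] {U : Set X} (hU : IsOpen U) :
    IsCompact U ↔ IsCompact ((Subtype.val : closedPoints X → X) ⁻¹' U) := by
  constructor
  · intro hc
    rw [isCompact_iff_finite_subcover]
    intro ι W hW hcov
    choose W' hW'o hW' using fun i => isOpen_induced_iff.mp (hW i)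
    have hsub : U ⊆ ⋃ i, W' i := by
      apply subset_of_preimage_val_closedPoints_subset_of_isOpen hU (isOpen_iUnion hW'o)
      rw [preimage_iUnion]
      simpa only [hW'] using hcov
    obtain ⟨t, ht⟩ := hc.elim_finite_subcover W' hW'o hsub
    refine ⟨t, ?_⟩
    have := preimage_mono (f := (Subtype.val : closedPoints X → X)) ht
    rw [preimage_iUnion₂] at this
    simpa only [hW'] using this
  · intro hc
    rw [isCompact_iff_finite_subcover]
    intro ι W hW hcov
    have hcov' : (Subtype.val : closedPoints X → X) ⁻¹' U ⊆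
        ⋃ i, (Subtype.val : closedPoints X → X) ⁻¹' W i := by
      rw [← preimage_iUnion]
      exact preimage_mono hcov
    obtain ⟨t, ht⟩ := hc.elim_finite_subcover _
      (fun i => (hW i).preimage continuous_subtype_val) hcov'
    refine ⟨t, ?_⟩
    apply subset_of_preimage_val_closedPoints_subset_of_isOpen hU
      (isOpen_biUnion fun i _ => hW i)
    rw [preimage_iUnion₂]
    exact ht

theorem isRetrocompact_iff_preimage_val_closedPoints [JacobsonSpace X] {U : Set X}
    (hU : IsOpen U) :
    IsRetrocompact U ↔ IsRetrocompact ((Subtype.val : closedPoints X → X) ⁻¹' U) := by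
  constructor
  · intro hr Q' hQ'c hQ'o
    obtain ⟨Q, hQo, rfl⟩ := isOpen_induced_iff.mp hQ'o
    have hQc : IsCompact Q := (isCompact_iff_preimage_val_closedPoints hQo).mpr hQ'c
    rw [← preimage_inter]
    exact (isCompact_iff_preimage_val_closedPoints (hU.inter hQo)).mp (hr hQc hQo)
  · intro hr Q hQc hQo
    rw [isCompact_iff_preimage_val_closedPoints (hU.inter hQo), preimage_inter]
    exact hr ((isCompact_iff_preimage_val_closedPoints hQo).mp hQc)
      (hQo.preimage continuous_subtype_val)

theorem isConstructible_preimage_val_closedPoints [JacobsonSpace X] {E : Set X}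
    (hE : IsConstructible E) :
    IsConstructible ((Subtype.val : closedPoints X → X) ⁻¹' E) :=
  hE.preimage continuous_subtype_val fun _ hUo hUr =>
    (isRetrocompact_iff_preimage_val_closedPoints hUo).mp hUr

theorem exists_isConstructible_preimage_val_closedPoints_eq [JacobsonSpace X]
    {F : Set (closedPoints X)} (hF : IsConstructible F) :
    ∃ E : Set X, IsConstructible E ∧ (Subtype.val : closedPoints X → X) ⁻¹' E = F := by
  induction hF using IsConstructible.empty_union_induction with
  | open_retrocompact U hUopen hUcomp =>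
    obtain ⟨V, hVo, rfl⟩ := isOpen_induced_iff.mp hUopen
    exact ⟨V, ((isRetrocompact_iff_preimage_val_closedPoints hVo).mpr hUcomp).isConstructible hVo,
      rfl⟩
  | union s hs t ht hs' ht' =>
    obtain ⟨E₁, hE₁, rfl⟩ := hs'
    obtain ⟨E₂, hE₂, rfl⟩ := ht'
    exact ⟨E₁ ∪ E₂, hE₁.union hE₂, preimage_union⟩
  | compl s hs hs' =>
    obtain ⟨E, hE, rfl⟩ := hs'
    exact ⟨Eᶜ, hE.compl, preimage_compl⟩

end Groth.Agent.H38
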