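import Groth.Agent.H9.KrullAkizuki
import Groth.Agent.H9.KADedekind
import Mathlib.NumberTheory.NumberField.Completion.FinitePlace

set_option autoImplicit false
universe u v

open IsDedekindDomain

namespace Groth.Agent.H38

open Groth.Agent.H9

variable {B : Type u} [CommRing B] [IsDomain B] [IsNoetherianRing B] [Ring.KrullDimLE 1 B]
  {K : Type v} [Field K] [Algebra B K] [IsFractionRing B K]

/-- A ring between a one-dimensional Noetherian domain and its fraction field has dimension at
most one. -/
theorem krullDimLE_one_of_between (T : Subalgebra B K) : Ring.KrullDimLE 1 T := by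
  rw [Ring.krullDimLE_one_iff_of_noZeroDivisors]
  intro P hP0 hPprime
  obtain ⟨a, ha0, haP⟩ := KA.exists_ne_zero_mem T P hP0
  have hfin := KA.finite_quotient T a ha0
  have hle : Ideal.span {algebraMap B T a} ≤ P := (Ideal.span_singleton_le_iff_mem P).mpr haP
  have hfinP : Module.Finite B (T ⧸ P) :=
    Module.Finite.of_surjective (Ideal.Quotient.factorₐ B hle).toLinearMap
      (Ideal.Quotient.factor_surjective hle)
  let p : Ideal B := P.comap (algebraMap B T)
  have hp0 : p ≠ ⊥ := by
    intro h
    have : a ∈ p := haP
    rw [h] at this
    exact ha0 (Ideal.mem_bot.mp this)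
  have hpmax : p.IsMaximal := Ideal.IsPrime.isMaximal_of_ne_bot (Ideal.comap_isPrime _ _) hp0
  have hfin' : Module.Finite (B ⧸ p) (T ⧸ P) := Module.Finite.of_restrictScalars_finite B _ _
  have hint : Algebra.IsIntegral (B ⧸ p) (T ⧸ P) := Algebra.IsIntegral.of_finite _ _
  have hfield : IsField (B ⧸ p) := (Ideal.Quotient.maximal_ideal_iff_isField_quotient p).mp hpmax
  have hfieldT : IsField (T ⧸ P) := isField_of_isIntegral_of_isField' hfield
  exact Ideal.Quotient.maximal_of_isField P hfieldT

/-- A ring between a domain and its fraction field has the same fraction field. -/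
theorem isFractionRing_of_between (T : Subalgebra B K) : IsFractionRing T K := by
  have hinj : Function.Injective (algebraMap T K) := Subtype.val_injective
  have : FaithfulSMul T K := (faithfulSMul_iff_algebraMap_injective T K).mpr hinj
  refine IsFractionRing.of_field T K fun z => ?_
  obtain ⟨x, y, hy, rfl⟩ := IsFractionRing.div_surjective (A := B) z
  exact ⟨algebraMap B T x, algebraMap B T y, rfl⟩

/-- A proper ring between a one-dimensional Noetherian domain and its fraction field is
contained in a discrete valuation ring of the fraction field. -/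
theorem exists_dvr_of_between (T : Subalgebra B K) (hT : (T : Set K) ≠ Set.univ) :
    ∃ O : ValuationSubring K, IsDiscreteValuationRing O ∧ T.toSubring ≤ O.toSubring := by
  have hN : IsNoetherianRing T := KA.isNoetherianRing T
  have hdim : Ring.KrullDimLE 1 T := krullDimLE_one_of_between T
  have hfrac : IsFractionRing T K := isFractionRing_of_between T
  have hTnf : ¬ IsField T := by
    intro hf
    apply hT
    ext z
    simp only [SetLike.mem_coe, Set.mem_univ, iff_true]
    obtain ⟨x, y, hy, rfl⟩ := IsFractionRing.div_surjective (A := T) z
    have hy0 : y ≠ 0 := nonZeroDivisors.ne_zero hy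
    obtain ⟨w, hw⟩ := hf.mul_inv_cancel hy0
    have hw' : (y : K) * (w : K) = 1 := congrArg Subtype.val hw
    have hyK : (y : K) ≠ 0 := fun h => hy0 (Subtype.ext h)
    have : (x : K) / (y : K) = (x : K) * (w : K) := by
      rw [div_eq_iff hyK, mul_assoc, mul_comm (w : K) (y : K), hw', mul_one]
    change (x : K) / (y : K) ∈ T
    rw [this]
    exact T.mul_mem x.2 w.2
  have hD : IsDedekindDomain (integralClosure T K) := KA.isDedekindDomain_integralClosure T K
  have hDfrac : IsFractionRing (integralClosure T K) K := KA.isFractionRing_integralClosure T K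
  have hDnf : ¬ IsField (integralClosure T K) := KA.not_isField_integralClosure T K hTnf
  obtain ⟨p, hp0, hpprime⟩ := Ring.not_isField_iff_exists_prime.mp hDnf
  let v : HeightOneSpectrum (integralClosure T K) := ⟨p, hpprime, hp0⟩
  refine ⟨(v.valuation K).valuationSubring, inferInstance, ?_⟩
  intro x hx
  have hxD : x ∈ integralClosure T K := by
    have : IsIntegral T (algebraMap T K ⟨x, hx⟩) := isIntegral_algebraMap
    exact this
  change x ∈ (v.valuation K).valuationSubring
  rw [Valuation.mem_valuationSubring_iff]
  exact v.valuation_le_one (⟨x, hxD⟩ : integralClosure T K)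


end Groth.Agent.H38
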