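import Mathlib
import Groth.Agent.H50.UnivOpen
import Groth.Agent.H90.GrpTranslate
import Groth.Agent.H90.GrpFlat

/-!
# The largest open on which a homomorphism of group schemes is universally open is a subgroup
-/

set_option autoImplicit false
universe u

open CategoryTheory MonoidalCategory CartesianMonoidalCategory MonObj GrpObj AlgebraicGeometry
open Limits MorphismProperty

namespace Groth.Agent.H38.MaxUnivOpen

open Groth.Agent.H90

section

variable {S : Scheme.{u}} {G H : Over S} [GrpObj G] [GrpObj H] (u : G ⟶ H) [IsMonHom u]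
  (V : G.left.Opens)

/-- the open `V` as a scheme over `S` -/
noncomputable abbrev Vo : Over S := Over.mk (V.ι ≫ G.hom)

/-- the inclusion of `V` -/
noncomputable abbrev jV : Vo V ⟶ G := Over.homMk V.ι rfl

/-- the morphism `(a, b) ↦ a⁻¹ b` on `V × V` -/
noncomputable def dV : Vo V ⊗ Vo V ⟶ G :=
  (Vo V ◁ jV V) ≫ shearHom (jV V ≫ ι[G]) ≫ snd (Vo V) G

lemma dV_eq : dV V = lift (fst (Vo V) (Vo V) ≫ jV V ≫ ι[G]) (snd (Vo V) (Vo V) ≫ jV V) ≫ μ[G] := by
  rw [dV, shearHom_snd, comp_lift_assoc, whiskerLeft_fst_assoc, whiskerLeft_snd]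

lemma lift_dV {T : Over S} (a b : T ⟶ Vo V) :
    lift a b ≫ dV V = lift (a ≫ jV V ≫ ι[G]) (b ≫ jV V) ≫ μ[G] := by
  rw [dV_eq, comp_lift_assoc, lift_fst_assoc, lift_snd_assoc]

lemma dV_comp : dV V ≫ u =
    (Vo V ◁ (jV V ≫ u)) ≫ shearHom (jV V ≫ u ≫ ι[H]) ≫ snd (Vo V) H := by
  rw [shearHom_snd, comp_lift_assoc, whiskerLeft_fst_assoc, whiskerLeft_snd, dV_eq,
    Category.assoc, IsMonHom.mul_hom, lift_map_assoc]
  simp only [Category.assoc, GrpObj.inv_hom]

lemma universallyOpen_dV_comp (hV : UniversallyOpen (V.ι ≫ u.left))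
    (hS : UniversallyOpen (Vo V).hom) : UniversallyOpen (dV V ≫ u).left := by
  rw [dV_comp, Over.comp_left, Over.comp_left]
  have h1 : UniversallyOpen (Vo V ◁ (jV V ≫ u)).left :=
    MorphismProperty.of_isPullback (isPullback_whiskerLeft_snd (Vo V) (jV V ≫ u)).flip hV
  have h2 : IsIso (shearHom (jV V ≫ u ≫ ι[H])).left :=
    inferInstanceAs (IsIso ((CategoryTheory.Over.forget _).map (shearHom (jV V ≫ u ≫ ι[H]))))
  have h3 : UniversallyOpen (snd (Vo V) H).left := by
    rw [Over.snd_left]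
    infer_instance
  infer_instance

lemma isOpenMap_dV (hS : UniversallyOpen (Vo V).hom) : IsOpenMap (dV V).left := by
  rw [dV, Over.comp_left, Over.comp_left]
  have h1 : IsOpenImmersion (Vo V ◁ jV V).left := by
    rw [Over.whiskerLeft_left]
    have : IsOpenImmersion (jV V).left := inferInstanceAs (IsOpenImmersion V.ι)
    infer_instance
  have h2 : IsIso (shearHom (jV V ≫ ι[G])).left :=
    inferInstanceAs (IsIso ((CategoryTheory.Over.forget _).map (shearHom (jV V ≫ ι[G]))))
  have h3 : UniversallyOpen (snd (Vo V) G).left := by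
    rw [Over.snd_left]
    infer_instance
  exact Scheme.Hom.isOpenMap _

/-- the image of `(a, b) ↦ a⁻¹ b` on `V × V` lies in `V` when `V` is the largest open on which
`u` is universally open -/
theorem range_dV_subset (hV : UniversallyOpen (V.ι ≫ u.left))
    (hS : UniversallyOpen (Vo V).hom)
    (hmax : ∀ W : G.left.Opens, UniversallyOpen (W.ι ≫ u.left) → W ≤ V) :
    Set.range (dV V).left ⊆ V := by
  let R : G.left.Opens := ⟨Set.range (dV V).left, (isOpenMap_dV V hS).isOpen_range⟩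
  have hR : Set.range (dV V).left ⊆ Set.range R.ι := by
    rw [Scheme.Opens.range_ι]
    exact subset_rfl
  let e : (Vo V ⊗ Vo V).left ⟶ (R : Scheme.{u}) := IsOpenImmersion.lift R.ι (dV V).left hR
  have he : e ≫ R.ι = (dV V).left := IsOpenImmersion.lift_fac _ _ _
  have hes : Surjective e := by
    constructor
    intro x
    obtain ⟨z, hz⟩ : (R.ι x) ∈ Set.range (dV V).left := x.2
    refine ⟨z, ?_⟩
    apply R.ι.isOpenEmbedding.injective
    rw [← Scheme.Hom.comp_apply, he, hz]
  have hcomp : UniversallyOpen (e ≫ R.ι ≫ u.left) := by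
    rw [← Category.assoc, he, ← Over.comp_left]
    exact universallyOpen_dV_comp u V hV hS
  have := Groth.Agent.H50.univOpen_of_comp_surjective e (R.ι ≫ u.left) hcomp
  exact hmax R this

/-- `T`-points form of stability under `(a, b) ↦ a⁻¹ b` -/
theorem range_inv_mul_subset (hrange : Set.range (dV V).left ⊆ V) {T : Over S} (a b : T ⟶ G)
    (ha : Set.range a.left ⊆ V) (hb : Set.range b.left ⊆ V) :
    Set.range (lift (a ≫ ι[G]) b ≫ μ[G]).left ⊆ V := by
  have ha' : Set.range a.left ⊆ Set.range V.ι := by rwa [Scheme.Opens.range_ι]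
  have hb' : Set.range b.left ⊆ Set.range V.ι := by rwa [Scheme.Opens.range_ι]
  let a₀ := IsOpenImmersion.lift V.ι a.left ha'
  have ha₀ : a₀ ≫ V.ι = a.left := IsOpenImmersion.lift_fac _ _ _
  let b₀ := IsOpenImmersion.lift V.ι b.left hb'
  have hb₀ : b₀ ≫ V.ι = b.left := IsOpenImmersion.lift_fac _ _ _
  let a' : T ⟶ Vo V := Over.homMk a₀ (by
    change a₀ ≫ V.ι ≫ G.hom = T.hom
    rw [reassoc_of% ha₀, CategoryTheory.Over.w])
  let b' : T ⟶ Vo V := Over.homMk b₀ (by
    change b₀ ≫ V.ι ≫ G.hom = T.hom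
    rw [reassoc_of% hb₀, CategoryTheory.Over.w])
  have haj : a' ≫ jV V = a := Over.OverMorphism.ext ha₀
  have hbj : b' ≫ jV V = b := Over.OverMorphism.ext hb₀
  have key : lift (a ≫ ι[G]) b ≫ μ[G] = lift a' b' ≫ dV V := by
    rw [lift_dV, ← Category.assoc, haj, hbj]
  rw [key, Over.comp_left]
  rintro _ ⟨t, rfl⟩
  exact hrange ⟨(lift a' b').left t, rfl⟩

theorem range_jV : Set.range (jV V).left ⊆ V := by
  rintro _ ⟨t, rfl⟩
  exact t.2

/-- `V` contains the unit points over its image -/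
theorem unit_mem (hrange : Set.range (dV V).left ⊆ V) (v : (Vo V).left) :
    η[G].left ((toUnit (Vo V)).left v) ∈ V := by
  have h := range_inv_mul_subset V hrange (jV V) (jV V) (range_jV V) (range_jV V)
  rw [lift_comp_inv_left] at h
  exact h ⟨v, rfl⟩

/-- `V` is stable under inversion -/
theorem inv_mem (hrange : Set.range (dV V).left ⊆ V) (v : (Vo V).left) :
    ι[G].left (V.ι v) ∈ V := by
  have hb : Set.range (toUnit (Vo V) ≫ η[G]).left ⊆ V := by
    rintro _ ⟨t, rfl⟩
    exact unit_mem V hrange t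
  have h := range_inv_mul_subset V hrange (jV V) (toUnit (Vo V) ≫ η[G]) (range_jV V) hb
  rw [lift_comp_one_right] at h
  exact h ⟨v, rfl⟩

/-- `V` is stable under multiplication -/
theorem mul_mem (hrange : Set.range (dV V).left ⊆ V) (z : (G ⊗ G).left)
    (h1 : (fst G G).left z ∈ V) (h2 : (snd G G).left z ∈ V) : μ[G].left z ∈ V := by
  let P : (G ⊗ G).left.Opens := (fst G G).left ⁻¹ᵁ V ⊓ (snd G G).left ⁻¹ᵁ V
  let Po : Over S := Over.mk (P.ι ≫ (G ⊗ G).hom)
  let jP : Po ⟶ G ⊗ G := Over.homMk P.ι rfl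
  have ha : Set.range (jP ≫ fst G G ≫ ι[G]).left ⊆ V := by
    rintro _ ⟨t, rfl⟩
    have ht : (fst G G).left (P.ι t) ∈ V := t.2.1
    have := inv_mem V hrange ⟨_, ht⟩
    exact this
  have hb : Set.range (jP ≫ snd G G).left ⊆ V := by
    rintro _ ⟨t, rfl⟩
    exact t.2.2
  have h := range_inv_mul_subset V hrange _ _ ha hb
  have key : lift ((jP ≫ fst G G ≫ ι[G]) ≫ ι[G]) (jP ≫ snd G G) ≫ μ[G] = jP ≫ μ[G] := by
    rw [Category.assoc, Category.assoc, GrpObj.inv_comp_inv, Category.comp_id, ← comp_lift_assoc,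
      lift_fst_snd, Category.id_comp]
  rw [key] at h
  exact h ⟨⟨z, h1, h2⟩, rfl⟩

end

section main

variable (S : Scheme.{u}) (G H : Over S) [GrpObj G] [GrpObj H] (u : G ⟶ H) [IsMonHom u]

/-- the largest open on which a homomorphism is universally open is an open subgroup -/
theorem maxOpen_isSubgroup (hG : UniversallyOpen G.hom ∨ UniversallyOpen H.hom)
    (V : G.left.Opens) (hV : UniversallyOpen (V.ι ≫ u.left))
    (hmax : ∀ W : G.left.Opens, UniversallyOpen (W.ι ≫ u.left) → W ≤ V) :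
    IsOpen (G.hom '' (V : Set G.left)) ∧
    (∀ g ∈ V, ∀ p : ↥(𝟙_ (Over S)).left, (𝟙_ (Over S)).hom p = G.hom g → η[G].left p ∈ V) ∧
    (∀ g ∈ V, ι[G].left g ∈ V) ∧
    (∀ z : ↥(G ⊗ G).left, (fst G G).left z ∈ V → (snd G G).left z ∈ V → μ[G].left z ∈ V) := by
  have hS : UniversallyOpen (Vo V).hom := by
    rcases hG with hG | hH
    · change UniversallyOpen (V.ι ≫ G.hom)
      infer_instance
    · change UniversallyOpen (V.ι ≫ G.hom)
      rw [← CategoryTheory.Over.w u, ← Category.assoc]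
      infer_instance
  have hrange := range_dV_subset u V hV hS hmax
  refine ⟨?_, ?_, ?_, ?_⟩
  · have : G.hom '' (V : Set G.left) = Set.range (V.ι ≫ G.hom) := by
      ext s
      constructor
      · rintro ⟨g, hg, rfl⟩
        exact ⟨⟨g, hg⟩, rfl⟩
      · rintro ⟨v, rfl⟩
        exact ⟨V.ι v, v.2, rfl⟩
    rw [this]
    exact (Scheme.Hom.isOpenMap (Vo V).hom).isOpen_range
  · intro g hg p hp
    have h := unit_mem V hrange ⟨g, hg⟩
    have hp' : p = (toUnit (Vo V)).left ⟨g, hg⟩ := by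
      have h1 : (𝟙_ (Over S)).hom ((toUnit (Vo V)).left ⟨g, hg⟩) = G.hom g := by
        rw [← Scheme.Hom.comp_apply, CategoryTheory.Over.w]
        rfl
      have hinj : Function.Injective (𝟙_ (Over S)).hom := fun x y hxy => hxy
      exact hinj (hp.trans h1.symm)
    rw [hp']
    exact h
  · intro g hg
    exact inv_mem V hrange ⟨g, hg⟩
  · intro z h1 h2
    exact mul_mem V hrange z h1 h2

end main

end Groth.Agent.H38.MaxUnivOpen
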