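import Mathlib
import Groth.Agent.H38.NagataIC

/-!
# Integral closure of a Nagata ring in an essentially finitely generated residue extension
-/

set_option autoImplicit false
universe u

namespace Groth.Agent.H38.NagataResidue

/-- Let `A` be a Nagata ring, `ι : A → F` a homomorphism to a field which is generated (as a field)
by the image, and `j : F → L` an essentially finitely generated field extension. Then the integral
closure of `A` in `L` is a finite `A`-module. -/
theorem finite_integralClosure_of_nagata {A F L : Type u} [CommRing A] [Field F] [Field L]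
    (hA : CAlg.IsNagata A) (ι : A →+* F) (j : F →+* L) (hj : j.EssFiniteType)
    (hsurj : ∀ z : F, ∃ a b : A, ι b ≠ 0 ∧ z * ι b = ι a) :
    letI := (j.comp ι).toAlgebra
    Module.Finite A (integralClosure A L) := by
  classical
  letI algAL : Algebra A L := (j.comp ι).toAlgebra
  haveI hp : (RingHom.ker ι).IsPrime := RingHom.ker_isPrime ι
  have hN2 : CAlg.IsN2 (A ⧸ RingHom.ker ι) := hA.2 (RingHom.ker ι)
  letI algRF : Algebra (A ⧸ RingHom.ker ι) F := (RingHom.kerLift ι).toAlgebra
  letI algFL : Algebra F L := j.toAlgebra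
  letI algRL : Algebra (A ⧸ RingHom.ker ι) L := (j.comp (RingHom.kerLift ι)).toAlgebra
  haveI : IsScalarTower (A ⧸ RingHom.ker ι) F L := IsScalarTower.of_algebraMap_eq (fun _ => rfl)
  haveI : IsScalarTower A (A ⧸ RingHom.ker ι) L := IsScalarTower.of_algebraMap_eq (fun a => rfl)
  haveI : FaithfulSMul (A ⧸ RingHom.ker ι) F :=
    (faithfulSMul_iff_algebraMap_injective _ _).mpr (RingHom.kerLift_injective ι)
  haveI : IsFractionRing (A ⧸ RingHom.ker ι) F := by
    refine IsFractionRing.of_field (R := A ⧸ RingHom.ker ι) (K := F) (fun z => ?_)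
    obtain ⟨a, b, hb, hab⟩ := hsurj z
    refine ⟨Ideal.Quotient.mk _ a, Ideal.Quotient.mk _ b, ?_⟩
    change z = ι a / ι b
    rw [eq_div_iff hb, hab]
  haveI : Algebra.EssFiniteType F L := hj
  have h1 : Module.Finite (A ⧸ RingHom.ker ι) (integralClosure (A ⧸ RingHom.ker ι) L) :=
    Groth.Agent.H38.NagataIC.finite_integralClosure_of_isN2_of_essFiniteType _ F L hN2
  exact Groth.Agent.H38.NagataIC.finite_integralClosure_of_surjective
    (A := A) (A' := A ⧸ RingHom.ker ι) Ideal.Quotient.mk_surjective h1

end Groth.Agent.H38.NagataResidue
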