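import Mathlib
import Groth.Agent.H38.NeutralSet

/-!
# The neutral set commutes with base change
-/

set_option autoImplicit false

universe u

namespace Groth.Agent.H38.NeutralSetBC

open CategoryTheory CategoryTheory.Limits MonoidalCategory CartesianMonoidalCategory MonObj GrpObj
  AlgebraicGeometry
open Groth.Agent.H38.GrpComp Groth.Agent.H38.NeutralSet

variable {S S' : Scheme.{u}} (f : S' ⟶ S) (G : Over S) [GrpObj G] (s' : S')

/-- The residue field extension as a morphism of spectra. -/
noncomputable abbrev ρ : Spec (CommRingCat.of ↑(S'.residueField s')) ⟶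
    Spec (CommRingCat.of ↑(S.residueField (f s'))) :=
  Spec.map (f.residueFieldMap s')

lemma ρ_ts : ρ f s' ≫ ts (f s') = ts s' ≫ f :=
  Scheme.Hom.SpecMap_residueFieldMap_fromSpecResidueField f s'

/-- The projection from the fibre of the base change to the fibre of `G`. -/
noncomputable def pr : (Gs (Red.bc f G) s').left ⟶ (Gs G (f s')).left :=
  pullback.lift (pullback.fst (pullback.snd G.hom f) (ts s') ≫ pullback.fst G.hom f)
    (pullback.snd (pullback.snd G.hom f) (ts s') ≫ ρ f s')
    (by rw [Category.assoc, Category.assoc, pullback.condition, pullback.condition_assoc, ρ_ts])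

lemma pr_fst : pr f G s' ≫ pullback.fst G.hom (ts (f s')) =
    pullback.fst (pullback.snd G.hom f) (ts s') ≫ pullback.fst G.hom f :=
  pullback.lift_fst _ _ _

lemma pr_snd : pr f G s' ≫ pullback.snd G.hom (ts (f s')) =
    pullback.snd (pullback.snd G.hom f) (ts s') ≫ ρ f s' :=
  pullback.lift_snd _ _ _

lemma isPullback_pr : IsPullback (pr f G s') (pullback.snd (pullback.snd G.hom f) (ts s'))
    (pullback.snd G.hom (ts (f s'))) (ρ f s') := by
  have h1 : IsPullback (pullback.fst (pullback.snd G.hom f) (ts s') ≫ pullback.fst G.hom f)
      (pullback.snd (pullback.snd G.hom f) (ts s')) G.hom (ts s' ≫ f) :=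
    (IsPullback.paste_vert (IsPullback.of_hasPullback (pullback.snd G.hom f) (ts s')).flip
      (IsPullback.of_hasPullback G.hom f).flip).flip
  rw [← ρ_ts, ← pr_fst] at h1
  exact (IsPullback.of_bot h1.flip (pr_snd f G s').symm
    (IsPullback.of_hasPullback G.hom (ts (f s'))).flip).flip

lemma fst_pr_apply (a : ↥(Gs (Red.bc f G) s').left) :
    pullback.fst G.hom (ts (f s')) (pr f G s' a) =
      pullback.fst G.hom f (pullback.fst (pullback.snd G.hom f) (ts s') a) := by
  rw [← Scheme.Hom.comp_apply, pr_fst, Scheme.Hom.comp_apply]

lemma unit_bc_fst (x : ↥S') :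
    pullback.fst G.hom f (η[Red.bc f G].left x) = η[G].left (f x) := by
  have h : η[Red.bc f G].left ≫ pullback.fst G.hom f = f ≫ η[G].left := by
    letI : GrpObj (Over.mk G.hom) := ‹GrpObj G›
    exact Groth.Agent.H38.GrpConnComp.one_left_fst G.hom f
  have h2 := congrArg (fun g => g x) h
  simpa only [Scheme.Hom.comp_apply] using h2

lemma pr_es : pr f G s' (es (Red.bc f G) s') = es G (f s') := by
  apply (isEmbedding_fst G (f s')).injective
  have h1 : pullback.fst (pullback.snd G.hom f) (ts s') (es (Red.bc f G) s') =
      η[Red.bc f G].left s' := fst_es (Red.bc f G) s'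
  rw [fst_pr_apply, h1, fst_es, unit_bc_fst]

/-- The preimage of the neutral component of a fibre of `G` is contained in the neutral component
of the fibre of the base change. -/
theorem preimage_connectedComponent_subset :
    pr f G s' ⁻¹' connectedComponent (es G (f s')) ⊆
      connectedComponent (es (Red.bc f G) s') := by
  obtain ⟨G₀, _, incl, _, -, -, hrange, hgi, -⟩ :=
    Groth.Agent.H38.GrpConnComp.exists_identityComponent (S.residueField (f s')) (Gs G (f s'))
  -- the base change of the identity component
  have hsq1 := IsPullback.of_hasPullback incl.left (pr f G s')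
  have hsq2 : IsPullback (pullback.fst incl.left (pr f G s'))
      (pullback.snd incl.left (pr f G s') ≫ pullback.snd (pullback.snd G.hom f) (ts s'))
      G₀.hom (ρ f s') := by
    have := IsPullback.paste_vert hsq1 (isPullback_pr f G s')
    rw [show incl.left ≫ pullback.snd G.hom (ts (f s')) = G₀.hom from Over.w incl] at this
    exact this
  have hirr : IrreducibleSpace ↥(pullback incl.left (pr f G s')) :=
    hgi.geometrically_irreducibleSpace _ _ _ hsq2
  have hrange' : Set.range (pullback.snd incl.left (pr f G s')) =
      pr f G s' ⁻¹' connectedComponent (es G (f s')) := by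
    rw [Scheme.Pullback.range_snd, hrange]
  rw [← hrange']
  have hpre : _root_.IsPreconnected (Set.range (pullback.snd incl.left (pr f G s'))) :=
    isPreconnected_range (pullback.snd incl.left (pr f G s')).continuous
  refine hpre.subset_connectedComponent ?_
  rw [hrange', Set.mem_preimage, pr_es]
  exact mem_connectedComponent

/-- The neutral set commutes with base change. -/
theorem neutralSet_bc :
    SGA3x.neutralSet (Red.bc f G) = (pullback.fst G.hom f).base ⁻¹' SGA3x.neutralSet G := by
  ext x'
  constructor
  · intro hx'
    obtain ⟨a, ha, hax⟩ := exists_of_mem_neutralSet (Red.bc f G) hx'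
    change pullback.fst G.hom f x' ∈ SGA3x.neutralSet G
    have e1 := fst_pr_apply f G ((Red.bc f G).hom x') a
    have e2 : pullback.fst G.hom f x' =
        pullback.fst G.hom (ts (f ((Red.bc f G).hom x'))) (pr f G ((Red.bc f G).hom x') a) := by
      rw [e1]
      exact congrArg _ hax.symm
    rw [e2, fst_mem_neutralSet_iff]
    have h := Continuous.image_connectedComponent_subset (pr f G ((Red.bc f G).hom x')).continuous
      (es (Red.bc f G) ((Red.bc f G).hom x'))
    rw [pr_es] at h
    exact h ⟨a, ha, rfl⟩
  · intro hx'
    have hmem : x' ∈ Set.range (pullback.fst (Red.bc f G).hom (ts ((Red.bc f G).hom x'))) := by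
      rw [range_fst]; rfl
    obtain ⟨a, hax⟩ := hmem
    have hx'' : pullback.fst G.hom f x' ∈ SGA3x.neutralSet G := hx'
    have e1 := fst_pr_apply f G ((Red.bc f G).hom x') a
    have e2 : pullback.fst G.hom f x' =
        pullback.fst G.hom (ts (f ((Red.bc f G).hom x'))) (pr f G ((Red.bc f G).hom x') a) := by
      rw [e1]
      exact congrArg _ hax.symm
    rw [e2, fst_mem_neutralSet_iff] at hx''
    have ha := preimage_connectedComponent_subset f G ((Red.bc f G).hom x') hx''
    rw [← hax]
    exact (fst_mem_neutralSet_iff (Red.bc f G) _ a).mpr ha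

end Groth.Agent.H38.NeutralSetBC
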