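import Mathlib
import Groth.Agent.H38.NeutralSetHom

/-!
# Neutral components and open subgroups
-/

set_option autoImplicit false

universe u

namespace Groth.Agent.H38.NeutralSetOpen

open CategoryTheory CategoryTheory.Limits MonoidalCategory CartesianMonoidalCategory MonObj GrpObj
  AlgebraicGeometry
open Groth.Agent.H38.GrpComp Groth.Agent.H38.NeutralSet Groth.Agent.H38.NeutralSetHom
  Groth.Agent.H90

variable {S : Scheme.{u}} (G H : Over S) [GrpObj G] [GrpObj H] (i : H ⟶ G) [IsMonHom i]
  [IsOpenImmersion i.left] (s : S)

/-- On each fibre, an open subgroup contains the neutral component. -/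
theorem connectedComponent_subset_range :
    connectedComponent (es G s) ⊆ Set.range (us H G i s).left := by
  have hoi : IsOpenImmersion (us H G i s).left :=
    MorphismProperty.of_isPullback (P := @IsOpenImmersion) (isPullback_us H G i s).flip
      inferInstance
  have hopen : IsOpen (Set.range (us H G i s).left) := (us H G i s).left.isOpenEmbedding.isOpen_range
  have hclosed := isClosed_range_of_isOpen (S.residueField s) (Gs H s) (Gs G s) (us H G i s) hopen
  exact IsClopen.connectedComponent_subset ⟨hclosed, hopen⟩ ⟨es H s, us_es H G i s⟩

/-- On each fibre, the neutral component of the ambient group is the image of the neutral component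
of an open subgroup. -/
theorem connectedComponent_subset_image :
    connectedComponent (es G s) ⊆ (us H G i s).left '' connectedComponent (es H s) := by
  have hoi : IsOpenImmersion (us H G i s).left :=
    MorphismProperty.of_isPullback (P := @IsOpenImmersion) (isPullback_us H G i s).flip
      inferInstance
  have hemb : Topology.IsEmbedding (us H G i s).left := (us H G i s).left.isEmbedding
  have hsub := connectedComponent_subset_range G H i s
  have himg : (us H G i s).left '' ((us H G i s).left ⁻¹' connectedComponent (es G s)) =
      connectedComponent (es G s) := Set.image_preimage_eq_of_subset hsub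
  have hpre : _root_.IsPreconnected ((us H G i s).left ⁻¹' connectedComponent (es G s)) := by
    rw [← hemb.isInducing.isPreconnected_image, himg]
    exact isPreconnected_connectedComponent
  have hmem : es H s ∈ (us H G i s).left ⁻¹' connectedComponent (es G s) := by
    rw [Set.mem_preimage, us_es]
    exact mem_connectedComponent
  rw [← himg]
  exact Set.image_mono (hpre.subset_connectedComponent hmem)

theorem neutralSet_subset_range : SGA3x.neutralSet G ⊆ Set.range i.left.base := by
  intro g hg
  obtain ⟨x, hx, hxg⟩ := exists_of_mem_neutralSet G hg
  obtain ⟨y, rfl⟩ := connectedComponent_subset_range G H i _ hx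
  refine ⟨pullback.fst H.hom (ts (G.hom g)) y, ?_⟩
  exact (fst_us_apply H G i _ y).symm.trans hxg

theorem image_neutralSet_eq : i.left.base '' SGA3x.neutralSet H = SGA3x.neutralSet G := by
  refine subset_antisymm (image_neutralSet_subset H G i) ?_
  intro g hg
  obtain ⟨x, hx, hxg⟩ := exists_of_mem_neutralSet G hg
  obtain ⟨y, hy, rfl⟩ := connectedComponent_subset_image G H i _ hx
  refine ⟨pullback.fst H.hom (ts (G.hom g)) y, (fst_mem_neutralSet_iff H _ y).mpr hy, ?_⟩
  exact (fst_us_apply H G i _ y).symm.trans hxg

end Groth.Agent.H38.NeutralSetOpen
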