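import Mathlib
import Groth.Prelude.Def_Curv2
import Groth.Prelude.Def_Brnch
import Groth.Agent.H38.NormAffine5
import Groth.Agent.H38.FibreHom
import Groth.Agent.H38.ENatTsum
import Groth.Agent.H38.BranchSum3

set_option autoImplicit false
universe u

open AlgebraicGeometry CategoryTheory

namespace Groth.Agent.H38.NormAffine

variable (X : Scheme.{u}) [IsIntegral X]
  [QuasiCompact (X.fromSpecStalk (genericPoint X))]
  [QuasiSeparated (X.fromSpecStalk (genericPoint X))]

/-- Homomorphisms from the integral closure correspond to homomorphisms from the sections of the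
normalization. -/
noncomputable def fibHomEquiv {U : X.Opens} (hU : IsAffineOpen U) (x : X) (hx : x ∈ U)
    {Ω : Type*} [Field Ω] (ι : X.residueField x →+* Ω) :
    letI := germAlg X ⟨x, hx⟩
    {τ' : integralClosure Γ(X, U) X.functionField →+* Ω //
      τ'.comp (algebraMap Γ(X, U) (integralClosure Γ(X, U) X.functionField)) =
        ι.comp (X.evaluation U x hx).hom} ≃
    FibHom (X.fromSpecStalk (genericPoint X)).fromNormalization x hx ι :=
  letI := germAlg X ⟨x, hx⟩
  { toFun := fun τ' => ⟨τ'.1.comp (sectionsEquiv X hU ⟨x, hx⟩).toRingHom, by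
      ext r
      have h3 := RingHom.congr_fun τ'.2 r
      simp only [RingHom.comp_apply] at h3 ⊢
      rw [← h3]
      congr 1
      exact sectionsEquiv_app X hU ⟨x, hx⟩ r⟩
    invFun := fun τ => ⟨τ.1.comp (sectionsEquiv X hU ⟨x, hx⟩).symm.toRingHom, by
      ext r
      have h3 := RingHom.congr_fun τ.2 r
      simp only [RingHom.comp_apply] at h3 ⊢
      rw [← h3]
      congr 1
      rw [← sectionsEquiv_app X hU ⟨x, hx⟩ r]
      exact (sectionsEquiv X hU ⟨x, hx⟩).symm_apply_apply _⟩
    left_inv := fun τ' => by
      apply Subtype.ext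
      ext b
      simp only [RingHom.comp_apply]
      congr 1
      exact (sectionsEquiv X hU ⟨x, hx⟩).apply_symm_apply b
    right_inv := fun τ => by
      apply Subtype.ext
      ext b
      simp only [RingHom.comp_apply]
      congr 1
      exact (sectionsEquiv X hU ⟨x, hx⟩).symm_apply_apply b }


/-- The number of geometric branches of an integral scheme at a point, as a sum of separable
degrees over the points of the normalization above it. -/
theorem numGeomBranchesAt_eq_tsum (x : X) :
    Brnch.numGeomBranchesAt X x =
      ∑' x' : {x' : ↥(Curv2.normalization X) // (Curv2.normalizationι X).base x' = x},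
        (letI := ((Curv2.normalizationι X).residueFieldMap x'.1).hom.toAlgebra
         ENat.card (Field.Emb (X.residueField ((Curv2.normalizationι X).base x'.1))
           ((Curv2.normalization X).residueField x'.1))) := by
  change Brnch.numGeomBranches (X.presheaf.stalk x) =
    ∑' x' : {x' : ↥((X.fromSpecStalk (genericPoint X)).normalization) //
      (X.fromSpecStalk (genericPoint X)).fromNormalization x' = x},
        (letI := ((X.fromSpecStalk (genericPoint X)).fromNormalization.residueFieldMap x'.1).hom.toAlgebra
         ENat.card (Field.Emb (X.residueField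
            ((X.fromSpecStalk (genericPoint X)).fromNormalization x'.1))
           ((X.fromSpecStalk (genericPoint X)).normalization.residueField x'.1)))
  set ν := (X.fromSpecStalk (genericPoint X)).fromNormalization with hν
  obtain ⟨_, ⟨U : X.Opens, hU, rfl⟩, hxU, -⟩ :=
    X.isBasis_affineOpens.exists_subset_of_mem_open (Set.mem_univ x) isOpen_univ
  have hne : (U : Set X).Nonempty := ⟨x, hxU⟩
  haveI : Nonempty U := ⟨⟨x, hxU⟩⟩
  have hV : IsAffineOpen (ν ⁻¹ᵁ U) := hU.preimage ν
  have hfin : (minimalPrimes (X.presheaf.stalk x)).Finite := by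
    have := IsDomain.minimalPrimes_eq_singleton_bot (R := X.presheaf.stalk x)
    rw [this]
    exact Set.finite_singleton _
  rw [numGeomBranches_eq_card _ hfin]
  letI : Algebra Γ(X, U) (X.presheaf.stalk x) :=
    TopCat.Presheaf.algebra_section_stalk X.presheaf ⟨x, hxU⟩
  haveI hloc : IsLocalization.AtPrime (X.presheaf.stalk x) (hU.primeIdealOf ⟨x, hxU⟩).asIdeal :=
    hU.isLocalization_stalk ⟨x, hxU⟩
  haveI hfr := isFractionRing_germ X hU hne
  haveI : IsScalarTower Γ(X, U) (X.presheaf.stalk x) X.functionField :=
    functionField_isScalarTower X U ⟨x, hxU⟩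
  haveI : IsDomain Γ(X, U) := inferInstance
  -- the algebraically closed field and the embedding of the residue field
  let Ω := AlgebraicClosure (IsLocalRing.ResidueField (X.presheaf.stalk x))
  let ι : X.residueField x →+* Ω :=
    @algebraMap (IsLocalRing.ResidueField (X.presheaf.stalk x)) Ω _ _
      (AlgebraicClosure.instAlgebra (IsLocalRing.ResidueField (X.presheaf.stalk x)))
  obtain ⟨E1⟩ := nonempty_closureHomEquiv Γ(X, U) X.functionField
    (hU.primeIdealOf ⟨x, hxU⟩).asIdeal (X.presheaf.stalk x) (Brnch.toClosure (X.presheaf.stalk x))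
  have E2 := fibHomEquiv X hU x hxU ι
  have E3 := fibEquiv ν hU hV x hxU ι
  have hcard : ENat.card (ClosureHom (X.presheaf.stalk x)) =
      ENat.card (Σ y : {y : ↥((X.fromSpecStalk (genericPoint X)).normalization) // ν y = x},
        FibEmb ν x ι y) :=
    ENat.card_congr (E1.trans (E2.trans E3.symm))
  rw [hcard, enat_card_sigma_tsum]
  apply tsum_congr
  intro y
  letI := (ν.residueFieldMap y.1).hom.toAlgebra
  haveI := isAlgebraic_residueField ν y.1
  exact (card_emb_eq (F := X.residueField (ν y.1))
    (E := (X.fromSpecStalk (genericPoint X)).normalization.residueField y.1)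
    (ι.comp (X.residueFieldCongr y.2).hom.hom)).symm

end Groth.Agent.H38.NormAffine
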