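import Mathlib
import Groth.Prelude.Def_Curv2
import Groth.Prelude.Def_Brnch
import Groth.Prelude.Def_Flat
import Groth.Agent.H38.NormAffine6
import Groth.Agent.H38.NormAffine3
import Groth.Agent.H46.GeomBranch
import Groth.Agent.H37.UHBasic

/-!
# The normalization of a geometrically unibranch integral scheme is a universal homeomorphism
-/

set_option autoImplicit false
universe u

open AlgebraicGeometry CategoryTheory

namespace Groth.Agent.H38.NormUH

theorem subsingleton_and_eq_one_of_tsum_eq_one {α : Type*} (f : α → ℕ∞) (hf : ∀ a, 1 ≤ f a)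
    (h : ∑' a, f a = 1) : Subsingleton α ∧ ∀ a, f a = 1 := by
  classical
  rw [Groth.Agent.H38.enat_tsum_eq_iSup] at h
  have hle : ∀ s : Finset α, ∑ a ∈ s, f a ≤ 1 := fun s => by
    rw [← h]
    exact le_iSup (fun s : Finset α => ∑ a ∈ s, f a) s
  constructor
  · constructor
    intro a b
    by_contra hab
    have h1 := hle {a, b}
    rw [Finset.sum_pair hab] at h1
    have h2 : (1 : ℕ∞) + 1 ≤ f a + f b := add_le_add (hf a) (hf b)
    have h3 : (1 : ℕ∞) + 1 ≤ 1 := h2.trans h1
    exact absurd h3 (by decide)
  · intro a
    have h1 := hle {a}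
    rw [Finset.sum_singleton] at h1
    exact le_antisymm h1 (hf a)

variable (X : Scheme.{u}) [IsIntegral X]
  [QuasiCompact (X.fromSpecStalk (genericPoint X))]
  [QuasiSeparated (X.fromSpecStalk (genericPoint X))]

/-- Over a point with one geometric branch, the normalization has a single point, with purely
inseparable residue field extension. -/
theorem fibre_of_numGeomBranchesAt_eq_one (x : X) (h : Brnch.numGeomBranchesAt X x = 1) :
    Subsingleton {x' : ↥(Curv2.normalization X) // (Curv2.normalizationι X).base x' = x} ∧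
      ∀ x' : {x' : ↥(Curv2.normalization X) // (Curv2.normalizationι X).base x' = x},
        ((Curv2.normalizationι X).residueFieldMap x'.1).hom.IsPurelyInseparable := by
  rw [Groth.Agent.H38.NormAffine.numGeomBranchesAt_eq_tsum] at h
  obtain ⟨h1, h2⟩ := subsingleton_and_eq_one_of_tsum_eq_one _ (fun x' => by
    letI := ((Curv2.normalizationι X).residueFieldMap x'.1).hom.toAlgebra
    exact (ENat.one_le_card_iff_nonempty _).mpr inferInstance) h
  refine ⟨h1, fun x' => ?_⟩
  have h3 := h2 x'
  letI := ((Curv2.normalizationι X).residueFieldMap x'.1).hom.toAlgebra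
  change IsPurelyInseparable _ _
  rw [isPurelyInseparable_iff_subsingleton_emb]
  exact (ENat.card_le_one_iff_subsingleton _).mp h3.le

theorem universallyInjective_normalizationι
    (hX : ∀ x : X, CAlg2.IsGeomUnibranch (X.presheaf.stalk x)) :
    UniversallyInjective (Curv2.normalizationι X) := by
  have hfib : ∀ x : X, Brnch.numGeomBranchesAt X x = 1 := fun x =>
    (Groth.Agent.H46.numGeomBranches_eq_one_iff (X.presheaf.stalk x)).mpr (hX x)
  have key : UniversallyInjective (Curv2.normalizationι X) ↔
      (Function.Injective (Curv2.normalizationι X) ∧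
        ∀ x, ((Curv2.normalizationι X).residueFieldMap x).hom.IsPurelyInseparable) :=
    (tfae_universallyInjective (Curv2.normalizationι X)).out 0 2
  refine key.mpr ⟨?_, ?_⟩
  · intro x' y' hxy
    obtain ⟨h1, -⟩ := fibre_of_numGeomBranchesAt_eq_one X _ (hfib ((Curv2.normalizationι X).base y'))
    have := @Subsingleton.elim _ h1 ⟨x', hxy⟩ ⟨y', rfl⟩
    exact congrArg Subtype.val this
  · intro x'
    obtain ⟨-, h2⟩ := fibre_of_numGeomBranchesAt_eq_one X _ (hfib ((Curv2.normalizationι X).base x'))
    exact h2 ⟨x', rfl⟩

theorem isUnivHomeo_normalizationι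
    (hX : ∀ x : X, CAlg2.IsGeomUnibranch (X.presheaf.stalk x)) :
    FlatMor.IsUnivHomeo (Curv2.normalizationι X) := by
  rw [Groth.Agent.H37.isUnivHomeo_iff]
  haveI : IsIntegralHom (Curv2.normalizationι X) :=
    inferInstanceAs (IsIntegralHom (X.fromSpecStalk (genericPoint X)).fromNormalization)
  exact ⟨inferInstance, universallyInjective_normalizationι X hX,
    Groth.Agent.H38.NormAffine.surjective_normalizationι X⟩

end Groth.Agent.H38.NormUH
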