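import Mathlib
import Groth.Prelude.Def_Pi1
import Groth.Agent.H38.NormUP2

/-!
# Universal property of the normalization: local existence and uniqueness
-/

set_option autoImplicit false
universe u

open AlgebraicGeometry CategoryTheory

namespace Groth.Agent.H38.NormUP

open Groth.Agent.H38.NormAffine

variable (X : Scheme.{u}) [IsIntegral X]
  [QuasiCompact (X.fromSpecStalk (genericPoint X))]
  [QuasiSeparated (X.fromSpecStalk (genericPoint X))]

/-- Morphisms from an affine scheme into a scheme `Y` landing in an affine open `V` come from ring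
homomorphisms. -/
theorem exists_eq_specMap_fromSpec {Y : Scheme.{u}} {V : Y.Opens} (hV : IsAffineOpen V)
    {B : CommRingCat.{u}} (k : Spec B ⟶ Y) (hk : Set.range k ⊆ V) :
    ∃ ψ : Γ(Y, V) ⟶ B, k = Spec.map ψ ≫ hV.fromSpec := by
  have hr : Set.range k ⊆ Set.range hV.fromSpec := by rw [hV.range_fromSpec]; exact hk
  refine ⟨Spec.preimage (IsOpenImmersion.lift hV.fromSpec k hr), ?_⟩
  rw [Spec.map_preimage, IsOpenImmersion.lift_fac]

theorem existsUnique_local {Z : Scheme.{u}} (g : Z ⟶ X) (hZ : Pi1.IsNormalScheme Z)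
    (hdom : ∀ z : Z, closure {z} ∈ irreducibleComponents ↥Z → g.base z = genericPoint ↥X)
    {W : Z.Opens} (hW : IsAffineOpen W) {U : X.Opens} (hU : IsAffineOpen U)
    (hne : (U : Set X).Nonempty) (e : W ≤ g ⁻¹ᵁ U) :
    ∃! k : Spec Γ(Z, W) ⟶ (X.fromSpecStalk (genericPoint X)).normalization,
      k ≫ (X.fromSpecStalk (genericPoint X)).fromNormalization = hW.fromSpec ≫ g := by
  haveI := isReduced_of_isNormalScheme hZ
  have hV : IsAffineOpen ((X.fromSpecStalk (genericPoint X)).fromNormalization ⁻¹ᵁ U) :=
    hU.preimage _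
  letI := germAlg X hne
  haveI := isFractionRing_germ X hU hne
  haveI : Nonempty U := ⟨⟨_, hne.some_mem⟩⟩
  haveI : IsDomain Γ(X, U) := inferInstance
  have hjα : (toFF X hU hne).hom.comp
      ((X.fromSpecStalk (genericPoint X)).fromNormalization.app U).hom =
      algebraMap Γ(X, U) X.functionField := by
    ext r
    exact toFF_app_apply X hU hne r
  have hint : ∀ a', IsIntegral Γ(X, U) ((toFF X hU hne).hom a') := fun a' =>
    (mem_range_toFF_iff X hU hne _).mp ⟨a', rfl⟩
  have hγ := appLE_mem_nonZeroDivisors X g hdom hW hU e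
  -- the factorization criterion
  have hfac : ∀ ψ : Γ((X.fromSpecStalk (genericPoint X)).normalization,
        (X.fromSpecStalk (genericPoint X)).fromNormalization ⁻¹ᵁ U) ⟶ Γ(Z, W),
      ((Spec.map ψ ≫ hV.fromSpec) ≫ (X.fromSpecStalk (genericPoint X)).fromNormalization =
        hW.fromSpec ≫ g) ↔
      (X.fromSpecStalk (genericPoint X)).fromNormalization.app U ≫ ψ = g.appLE U W e := by
    intro ψ
    rw [Category.assoc, ← IsAffineOpen.SpecMap_appLE_fromSpec _ hU hV le_rfl,
      ← IsAffineOpen.SpecMap_appLE_fromSpec g hU hW e, ← Category.assoc, ← Spec.map_comp,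
      ← Scheme.Hom.app_eq_appLE]
    constructor
    · intro h
      have h' := (cancel_mono hU.fromSpec).mp h
      exact Spec.map_injective h'
    · intro h
      rw [h]
  obtain ⟨φ, hφ⟩ := exists_lift
    ((X.fromSpecStalk (genericPoint X)).fromNormalization.app U).hom (toFF X hU hne).hom hjα hint
    (isNormalRing_sections hZ hW) (g.appLE U W e).hom hγ
  refine ⟨Spec.map (CommRingCat.ofHom φ) ≫ hV.fromSpec, ?_, ?_⟩
  · apply (hfac _).mpr
    ext r
    exact congr($hφ r)
  · intro k hk
    have hrange : Set.range k ⊆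
        ((X.fromSpecStalk (genericPoint X)).fromNormalization ⁻¹ᵁ U : Set _) := by
      rintro _ ⟨y, rfl⟩
      change (X.fromSpecStalk (genericPoint X)).fromNormalization (k y) ∈ U
      have : (X.fromSpecStalk (genericPoint X)).fromNormalization (k y) =
          (k ≫ (X.fromSpecStalk (genericPoint X)).fromNormalization) y := rfl
      rw [this, hk]
      change g (hW.fromSpec y) ∈ U
      exact e (Groth.Agent.H38.fromSpec_mem hW y)
    obtain ⟨ψ, rfl⟩ := exists_eq_specMap_fromSpec hV k hrange
    have h1 := (hfac ψ).mp hk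
    have h2 : ψ.hom = φ := by
      refine lift_unique
        ((X.fromSpecStalk (genericPoint X)).fromNormalization.app U).hom (toFF X hU hne).hom
        (toFF_injective X hU hne) hjα (g.appLE U W e).hom hγ ψ.hom φ ?_ hφ
      ext r
      exact congr($(h1).hom r)
    have h3 : ψ = CommRingCat.ofHom φ := by
      ext r
      exact congr($h2 r)
    rw [h3]

end Groth.Agent.H38.NormUP
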