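import Mathlib
import Groth.Prelude.Def_Pi1
import Groth.Agent.H38.NormUP3

/-!
# Universal property of the normalization: gluing
-/

set_option autoImplicit false
universe u

open AlgebraicGeometry CategoryTheory

namespace Groth.Agent.H38.NormUP

variable (X : Scheme.{u}) [IsIntegral X]

section Cover

variable {Z : Scheme.{u}} (g : Z ⟶ X)

/-- Affine opens of `Z` mapping into a nonempty affine open of `X`. -/
def GoodOpen : Type u :=
  {W : Z.affineOpens // ∃ U : X.Opens, IsAffineOpen U ∧ (U : Set X).Nonempty ∧ W.1 ≤ g ⁻¹ᵁ U}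

instance : Preorder (GoodOpen X g) := inferInstanceAs <| Preorder (Subtype _)

omit [IsIntegral X] in
theorem exists_goodOpen (O : Z.Opens) (z : Z) (hz : z ∈ O) :
    ∃ W : GoodOpen X g, z ∈ W.1.1 ∧ W.1.1 ≤ O := by
  obtain ⟨U, hU, hgz, -⟩ := TopologicalSpace.Opens.isBasis_iff_nbhd.mp X.isBasis_affineOpens
    (TopologicalSpace.Opens.mem_top (g z))
  have hz' : z ∈ O ⊓ g ⁻¹ᵁ U := ⟨hz, hgz⟩
  obtain ⟨W, hW, hzW, hle⟩ := TopologicalSpace.Opens.isBasis_iff_nbhd.mp Z.isBasis_affineOpens hz'
  exact ⟨⟨⟨W, hW⟩, U, hU, ⟨g z, hgz⟩, hle.trans inf_le_right⟩, hzW, hle.trans inf_le_left⟩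

/-- The open cover of `Z` by the good affine opens. -/
noncomputable def goodCover : Z.OpenCover where
  I₀ := GoodOpen X g
  X W := W.1.1
  f W := W.1.1.ι
  mem₀ := by
    rw [Scheme.presieve₀_mem_precoverage_iff]
    refine ⟨fun z => ?_, inferInstance⟩
    obtain ⟨W, hzW, -⟩ := exists_goodOpen X g ⊤ z trivial
    exact ⟨W, ⟨z, hzW⟩, rfl⟩

instance : Preorder (goodCover X g).I₀ := inferInstanceAs <| Preorder (GoodOpen X g)

noncomputable instance : Scheme.Cover.LocallyDirected (goodCover X g) :=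
  .ofIsBasisOpensRange (by
    intro i j
    change i.1.1 ≤ j.1.1 ↔ (i.1.1.ι).opensRange ≤ (j.1.1.ι).opensRange
    rw [Scheme.Opens.opensRange_ι, Scheme.Opens.opensRange_ι]) <| by
    rw [TopologicalSpace.Opens.isBasis_iff_nbhd]
    intro O z hz
    obtain ⟨W, hzW, hle⟩ := exists_goodOpen X g O z hz
    refine ⟨_, ⟨W, rfl⟩, ?_, ?_⟩
    · change z ∈ (W.1.1.ι).opensRange
      rw [Scheme.Opens.opensRange_ι]
      exact hzW
    · change (W.1.1.ι).opensRange ≤ O
      rw [Scheme.Opens.opensRange_ι]
      exact hle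

end Cover

variable [QuasiCompact (X.fromSpecStalk (genericPoint X))]
  [QuasiSeparated (X.fromSpecStalk (genericPoint X))]

variable {Z : Scheme.{u}} (g : Z ⟶ X) (hZ : Pi1.IsNormalScheme Z)
    (hdom : ∀ z : Z, closure {z} ∈ irreducibleComponents ↥Z → g.base z = genericPoint ↥X)

include hZ hdom in
theorem existsUnique_goodOpen (W : GoodOpen X g) :
    ∃! h : (W.1.1 : Scheme.{u}) ⟶ (X.fromSpecStalk (genericPoint X)).normalization,
      h ≫ (X.fromSpecStalk (genericPoint X)).fromNormalization = W.1.1.ι ≫ g := by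
  obtain ⟨U, hU, hne, e⟩ := W.2
  obtain ⟨k, hk, hk'⟩ := existsUnique_local X g hZ hdom W.1.2 hU hne e
  refine ⟨W.1.2.isoSpec.hom ≫ k, ?_, ?_⟩
  · change (W.1.2.isoSpec.hom ≫ k) ≫ _ = _
    rw [Category.assoc, hk, IsAffineOpen.isoSpec_hom_fromSpec_assoc]
  · intro h hh
    have h1 : W.1.2.isoSpec.inv ≫ h = k := by
      apply hk'
      rw [Category.assoc, hh, IsAffineOpen.isoSpec_inv_ι_assoc]
    rw [← h1, Iso.hom_inv_id_assoc]

include hZ hdom in
theorem existsUnique_hom :
    ∃! h : Z ⟶ (X.fromSpecStalk (genericPoint X)).normalization,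
      h ≫ (X.fromSpecStalk (genericPoint X)).fromNormalization = g := by
  choose hl hl1 hl2 using existsUnique_goodOpen X g hZ hdom
  have compat : ∀ {i j : (goodCover X g).I₀} (hij : i ⟶ j),
      (goodCover X g).trans hij ≫ hl j = hl i := by
    intro i j hij
    apply hl2 i
    have e1 : hl j ≫ (X.fromSpecStalk (genericPoint X)).fromNormalization = j.1.1.ι ≫ g := hl1 j
    have e2 : (goodCover X g).trans hij ≫ j.1.1.ι = i.1.1.ι := (goodCover X g).trans_map hij
    calc ((goodCover X g).trans hij ≫ hl j) ≫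
          (X.fromSpecStalk (genericPoint X)).fromNormalization
        = (goodCover X g).trans hij ≫ (hl j ≫
          (X.fromSpecStalk (genericPoint X)).fromNormalization) := Category.assoc _ _ _
      _ = (goodCover X g).trans hij ≫ (j.1.1.ι ≫ g) :=
          congrArg (fun t => (goodCover X g).trans hij ≫ t) e1
      _ = ((goodCover X g).trans hij ≫ j.1.1.ι) ≫ g := (Category.assoc _ _ _).symm
      _ = i.1.1.ι ≫ g := congrArg (fun t => t ≫ g) e2
  refine ⟨(goodCover X g).glueMorphismsOfLocallyDirected hl compat, ?_, ?_⟩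
  · apply (goodCover X g).hom_ext
    intro i
    have e1 := Scheme.OpenCover.map_glueMorphismsOfLocallyDirected (goodCover X g) hl compat i
    calc (goodCover X g).f i ≫ (goodCover X g).glueMorphismsOfLocallyDirected hl compat ≫
          (X.fromSpecStalk (genericPoint X)).fromNormalization
        = ((goodCover X g).f i ≫ (goodCover X g).glueMorphismsOfLocallyDirected hl compat) ≫
          (X.fromSpecStalk (genericPoint X)).fromNormalization := (Category.assoc _ _ _).symm
      _ = hl i ≫ (X.fromSpecStalk (genericPoint X)).fromNormalization :=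
          congrArg (fun t => t ≫ (X.fromSpecStalk (genericPoint X)).fromNormalization) e1
      _ = i.1.1.ι ≫ g := hl1 i
  · intro h' hh'
    apply (goodCover X g).hom_ext
    intro i
    have e1 := Scheme.OpenCover.map_glueMorphismsOfLocallyDirected (goodCover X g) hl compat i
    refine Eq.trans ?_ e1.symm
    apply hl2 i
    calc (i.1.1.ι ≫ h') ≫ (X.fromSpecStalk (genericPoint X)).fromNormalization
        = i.1.1.ι ≫ (h' ≫ (X.fromSpecStalk (genericPoint X)).fromNormalization) :=
          Category.assoc _ _ _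
      _ = i.1.1.ι ≫ g := congrArg (fun t => i.1.1.ι ≫ t) hh'

end Groth.Agent.H38.NormUP
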