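import Mathlib
import Groth.Prelude.Def_Pi1
import Groth.Agent.H38.NormUP4
import Groth.Agent.H38.NormExt4
import Groth.Agent.H38.NormAffine3
import Groth.Agent.H38.NormDimOne

/-!
# Birational integral morphisms: generic fibre and generic stalk
-/

set_option autoImplicit false
universe u

open AlgebraicGeometry CategoryTheory

namespace Groth.Agent.H38.NormUP

theorem isDomain_and_isIntegrallyClosed_of_isField {R : Type*} [CommRing R] (h : IsField R) :
    IsDomain R ∧ IsIntegrallyClosed R := by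
  letI := h.toField
  exact ⟨inferInstance, inferInstance⟩

/-- For an integral morphism of integral schemes, the only point over the generic point is the
generic point. -/
theorem eq_genericPoint_of_isIntegralHom {X Y : Scheme.{u}} [IsIntegral X] [IsIntegral Y]
    (f : Y ⟶ X) [IsIntegralHom f] (y : Y) (hy : f y = genericPoint X) : y = genericPoint Y := by
  obtain ⟨_, ⟨U : X.Opens, hU', rfl⟩, hxU, -⟩ :=
    X.isBasis_affineOpens.exists_subset_of_mem_open (Set.mem_univ (f y)) isOpen_univ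
  have hU : IsAffineOpen U := hU'
  have hV : IsAffineOpen (f ⁻¹ᵁ U) := hU.preimage f
  have hyV : y ∈ f ⁻¹ᵁ U := hxU
  have hneV : Nonempty ↥(f ⁻¹ᵁ U) := ⟨⟨y, hyV⟩⟩
  haveI : IsDomain Γ(Y, f ⁻¹ᵁ U) := @IsIntegral.component_integral Y _ (f ⁻¹ᵁ U) hneV
  letI : Algebra Γ(X, U) Γ(Y, f ⁻¹ᵁ U) := (f.app U).hom.toAlgebra
  haveI : Algebra.IsIntegral Γ(X, U) Γ(Y, f ⁻¹ᵁ U) := ⟨IsIntegralHom.isIntegral_app f U hU⟩
  have h1 := Groth.Agent.H38.comap_primeIdealOf_app f hU hV y hxU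
  have hgen : genericPoint X ∈ U := hy ▸ hxU
  have h2 : (hU.primeIdealOf ⟨f y, hxU⟩).asIdeal = ⊥ := by
    have : (⟨f y, hxU⟩ : U) = ⟨genericPoint X, hgen⟩ := Subtype.ext hy
    rw [this]
    exact Groth.Agent.H38.NormExt.primeIdealOf_genericPoint_eq_bot hU hgen
  have h3 : (hV.primeIdealOf ⟨y, hyV⟩).asIdeal.comap
      (algebraMap Γ(X, U) Γ(Y, f ⁻¹ᵁ U)) = ⊥ := by
    rw [← h2, ← h1]; rfl
  have hneU : Nonempty ↥U := ⟨⟨_, hxU⟩⟩
  haveI : IsDomain Γ(X, U) := @IsIntegral.component_integral X _ U hneU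
  have h4 : (hV.primeIdealOf ⟨y, hyV⟩).asIdeal = ⊥ := Ideal.eq_bot_of_comap_eq_bot h3
  exact Groth.Agent.H38.NormDimOne.eq_genericPoint_of_primeIdealOf_eq_bot hV y hyV h4

/-- For an integral morphism of integral schemes which is birational on sections, the stalk map
at a point over the generic point is bijective. -/
theorem bijective_stalkMap_of_birational {X Y : Scheme.{u}} [IsIntegral X] [IsIntegral Y]
    (f : Y ⟶ X) [IsIntegralHom f]
    (hbir : ∀ (U : X.Opens), IsAffineOpen U → (U : Set X).Nonempty → ∀ b : Γ(Y, f ⁻¹ᵁ U),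
      ∃ a₁ a₂ : Γ(X, U), a₂ ≠ 0 ∧ (f.app U).hom a₂ * b = (f.app U).hom a₁)
    (y : Y) (hy : f y = genericPoint X) : Function.Bijective (f.stalkMap y).hom := by
  have hF := Groth.Agent.H38.NormExt.isField_stalk_of_eq_genericPoint (f y) hy
  letI := hF.toField
  refine ⟨RingHom.injective _, ?_⟩
  obtain ⟨_, ⟨U : X.Opens, hU', rfl⟩, hxU, -⟩ :=
    X.isBasis_affineOpens.exists_subset_of_mem_open (Set.mem_univ (f y)) isOpen_univ
  have hU : IsAffineOpen U := hU'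
  have hne : (U : Set X).Nonempty := ⟨_, hxU⟩
  have hV : IsAffineOpen (f ⁻¹ᵁ U) := hU.preimage f
  have hyV : y ∈ f ⁻¹ᵁ U := hxU
  -- germs of sections are in the range
  have hgerm : ∀ b : Γ(Y, f ⁻¹ᵁ U),
      (Y.presheaf.germ (f ⁻¹ᵁ U) y hyV).hom b ∈ (f.stalkMap y).hom.range := by
    intro b
    obtain ⟨a₁, a₂, ha₂, hab⟩ := hbir U hU hne b
    have hg2 : (X.presheaf.germ U (f y) hxU).hom a₂ ≠ 0 := by
      intro h0
      exact ha₂ (germ_injective_of_isIntegral X (f y) hxU (by rw [h0, map_zero]))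
    have e1 := Scheme.Hom.germ_stalkMap_apply f U y hxU a₁
    have e2 := Scheme.Hom.germ_stalkMap_apply f U y hxU a₂
    refine ⟨((X.presheaf.germ U (f y) hxU).hom a₂)⁻¹ * (X.presheaf.germ U (f y) hxU).hom a₁, ?_⟩
    have hu : IsUnit ((f.stalkMap y).hom ((X.presheaf.germ U (f y) hxU).hom a₂)) :=
      (IsUnit.mk0 _ hg2).map _
    apply hu.mul_left_cancel
    rw [← map_mul, ← mul_assoc, mul_inv_cancel₀ hg2, one_mul]
    change _ = (f.stalkMap y).hom ((X.presheaf.germ U (f y) hxU).hom a₂) * _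
    erw [e1, e2]
    rw [← map_mul]
    exact congrArg _ hab.symm
  letI : Algebra Γ(Y, f ⁻¹ᵁ U) (Y.presheaf.stalk y) :=
    TopCat.Presheaf.algebra_section_stalk Y.presheaf ⟨y, hyV⟩
  haveI hloc : IsLocalization.AtPrime (Y.presheaf.stalk y) (hV.primeIdealOf ⟨y, hyV⟩).asIdeal :=
    hV.isLocalization_stalk ⟨y, hyV⟩
  intro t
  obtain ⟨⟨b₁, b₂⟩, hb⟩ := IsLocalization.surj (hV.primeIdealOf ⟨y, hyV⟩).asIdeal.primeCompl t
  obtain ⟨c₁, hc₁⟩ := hgerm b₁
  obtain ⟨c₂, hc₂⟩ := hgerm b₂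
  have hu2 : IsUnit ((Y.presheaf.germ (f ⁻¹ᵁ U) y hyV).hom (b₂ : Γ(Y, f ⁻¹ᵁ U))) :=
    IsLocalization.map_units (Y.presheaf.stalk y) b₂
  have hc2ne : c₂ ≠ 0 := by
    rintro rfl
    rw [map_zero] at hc₂
    rw [← hc₂] at hu2
    exact not_isUnit_zero hu2
  refine ⟨c₁ * c₂⁻¹, ?_⟩
  apply hu2.mul_right_cancel
  have hb' : t * (Y.presheaf.germ (f ⁻¹ᵁ U) y hyV).hom (b₂ : Γ(Y, f ⁻¹ᵁ U)) =
      (Y.presheaf.germ (f ⁻¹ᵁ U) y hyV).hom b₁ := hb
  rw [hb', ← hc₂, ← hc₁, ← map_mul, mul_assoc, inv_mul_cancel₀ hc2ne, mul_one]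

end Groth.Agent.H38.NormUP
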