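import Mathlib
import Groth.Prelude.Def_Pi1
import Groth.Agent.H38.NormUP5

/-!
# Properties of the normalization morphism used in its characterization
-/

set_option autoImplicit false
universe u

open AlgebraicGeometry CategoryTheory

namespace Groth.Agent.H38.NormUP

open Groth.Agent.H38.NormAffine

/-- Normality transfers along isomorphisms of schemes. -/
theorem isNormalScheme_of_iso {Y Y' : Scheme.{u}} (e : Y ≅ Y') (h : Pi1.IsNormalScheme Y') :
    Pi1.IsNormalScheme Y := by
  intro y
  let σ : Y'.presheaf.stalk (e.hom y) ≃+* Y.presheaf.stalk y :=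
    (asIso (e.hom.stalkMap y)).commRingCatIsoToRingEquiv
  haveI := (h (e.hom y)).1
  haveI := (h (e.hom y)).2
  exact ⟨σ.toMulEquiv.symm.isDomain _, IsIntegrallyClosed.of_equiv σ⟩

variable (X : Scheme.{u}) [IsIntegral X]

/-- The spectrum of the function field is a normal scheme. -/
theorem isNormalScheme_Spec_functionField :
    Pi1.IsNormalScheme (Spec (X.presheaf.stalk (genericPoint X))) := by
  intro p
  have hp : p = genericPoint (Spec (X.presheaf.stalk (genericPoint X))) :=
    (eq_cPt X p).trans (eq_cPt X _).symm
  exact isDomain_and_isIntegrallyClosed_of_isField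
    (Groth.Agent.H38.NormExt.isField_stalk_of_eq_genericPoint p hp)

variable [QuasiCompact (X.fromSpecStalk (genericPoint X))]
  [QuasiSeparated (X.fromSpecStalk (genericPoint X))]

/-- The normalization morphism is birational on sections. -/
theorem birational_normalization (U : X.Opens) (hU : IsAffineOpen U)
    (hne : (U : Set X).Nonempty)
    (b : Γ((X.fromSpecStalk (genericPoint X)).normalization,
      (X.fromSpecStalk (genericPoint X)).fromNormalization ⁻¹ᵁ U)) :
    ∃ a₁ a₂ : Γ(X, U), a₂ ≠ 0 ∧
      ((X.fromSpecStalk (genericPoint X)).fromNormalization.app U).hom a₂ * b =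
        ((X.fromSpecStalk (genericPoint X)).fromNormalization.app U).hom a₁ := by
  letI := germAlg X hne
  haveI := isFractionRing_germ X hU hne
  have hneU : Nonempty U := ⟨⟨_, hne.some_mem⟩⟩
  haveI : IsDomain Γ(X, U) := @IsIntegral.component_integral X _ U hneU
  obtain ⟨⟨a₁, a₂⟩, h⟩ := IsLocalization.surj (nonZeroDivisors Γ(X, U)) ((toFF X hU hne).hom b)
  refine ⟨a₁, a₂, nonZeroDivisors.ne_zero a₂.2, ?_⟩
  apply toFF_injective X hU hne
  rw [map_mul, toFF_app_apply, toFF_app_apply, mul_comm]
  exact h

end Groth.Agent.H38.NormUP
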