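import Mathlib
import Groth.Prelude.Def_Pi1
import Groth.Prelude.Def_Curv2
import Groth.Agent.H38.NormUP6
import Groth.Agent.H38.NormAffine2

/-!
# Characterization of the normalization: normal, integral, birational
-/

set_option autoImplicit false
universe u

open AlgebraicGeometry CategoryTheory

namespace Groth.Agent.H38.NormUP

open Groth.Agent.H38.NormAffine

variable (X : Scheme.{u}) [IsIntegral X]
  [QuasiCompact (X.fromSpecStalk (genericPoint X))]
  [QuasiSeparated (X.fromSpecStalk (genericPoint X))]

/-- The stalk map of the normalization morphism at a point over the generic point is an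
isomorphism. -/
theorem isIso_stalkMap_fromNormalization
    (x' : (X.fromSpecStalk (genericPoint X)).normalization)
    (hx' : (X.fromSpecStalk (genericPoint X)).fromNormalization x' = genericPoint X) :
    IsIso ((X.fromSpecStalk (genericPoint X)).fromNormalization.stalkMap x') := by
  rw [ConcreteCategory.isIso_iff_bijective]
  exact bijective_stalkMap_of_birational (X.fromSpecStalk (genericPoint X)).fromNormalization
    (birational_normalization X) x' hx'

/-- A scheme isomorphic to the normalization over `X` is normal, integral over `X` and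
birational to `X`. -/
theorem characterization_of_iso {Y : Scheme.{u}} (f : Y ⟶ X)
    (e : Y ≅ (X.fromSpecStalk (genericPoint X)).normalization)
    (he : e.hom ≫ (X.fromSpecStalk (genericPoint X)).fromNormalization = f) :
    Pi1.IsNormalScheme Y ∧ IsIntegralHom f ∧
      ∃ _ : IrreducibleSpace ↥Y, f.base ⁻¹' {genericPoint X} = {genericPoint Y} ∧
        IsIso (f.stalkMap (genericPoint Y)) := by
  subst he
  have hN : Pi1.IsNormalScheme (X.fromSpecStalk (genericPoint X)).normalization :=
    isNormalScheme_normalization X
  have hY := isNormalScheme_of_iso e hN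
  haveI : Nonempty Y := ⟨e.inv (genericPoint _)⟩
  haveI : IsIntegral Y := isIntegral_of_isOpenImmersion e.hom
  have hsurj := surjective_normalizationι X
  have hgen : (e.hom ≫ (X.fromSpecStalk (genericPoint X)).fromNormalization) (genericPoint Y) =
      genericPoint X := by
    obtain ⟨x', hx'⟩ := hsurj.surj (genericPoint X)
    have h1 : (e.hom ≫ (X.fromSpecStalk (genericPoint X)).fromNormalization) (e.inv x') =
        genericPoint X := by
      have : (e.hom ≫ (X.fromSpecStalk (genericPoint X)).fromNormalization) (e.inv x') =
          (e.inv ≫ e.hom ≫ (X.fromSpecStalk (genericPoint X)).fromNormalization) x' := rfl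
      rw [this, Iso.inv_hom_id_assoc]
      exact hx'
    have h2 := eq_genericPoint_of_isIntegralHom
      (e.hom ≫ (X.fromSpecStalk (genericPoint X)).fromNormalization) _ h1
    rw [← h2]
    exact h1
  refine ⟨hY, inferInstance, inferInstance, ?_, ?_⟩
  · ext y
    simp only [Set.mem_preimage, Set.mem_singleton_iff]
    constructor
    · intro h
      exact eq_genericPoint_of_isIntegralHom _ y h
    · rintro rfl
      exact hgen
  · rw [Scheme.Hom.stalkMap_comp]
    have h1 := isIso_stalkMap_fromNormalization X (e.hom (genericPoint Y)) hgen
    have h2 : IsIso (e.hom.stalkMap (genericPoint Y)) := inferInstance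
    exact IsIso.comp_isIso' h1 h2

/-- A normal scheme, integral over `X` and birational to `X`, is the normalization. -/
theorem iso_of_characterization {Y : Scheme.{u}} (f : Y ⟶ X) (hY : Pi1.IsNormalScheme Y)
    [IsIntegralHom f] [IrreducibleSpace ↥Y]
    (hfib : f.base ⁻¹' {genericPoint X} = {genericPoint Y})
    (hiso : IsIso (f.stalkMap (genericPoint Y))) :
    ∃ e : Y ≅ (X.fromSpecStalk (genericPoint X)).normalization,
      e.hom ≫ (X.fromSpecStalk (genericPoint X)).fromNormalization = f := by
  haveI := isReduced_of_isNormalScheme hY
  have hξ : f (genericPoint Y) = genericPoint X := by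
    have : genericPoint Y ∈ f.base ⁻¹' {genericPoint X} := by rw [hfib]; rfl
    exact this
  have hdom : ∀ z : Y, closure {z} ∈ irreducibleComponents ↥Y → f.base z = genericPoint ↥X := by
    intro z hz
    rw [irreducibleComponents_eq_singleton, Set.mem_singleton_iff] at hz
    have hz' : IsGenericPoint z Set.univ := isGenericPoint_def.mpr hz
    have : z = genericPoint Y := hz'.eq (genericPoint_spec Y)
    rw [this]
    exact hξ
  obtain ⟨a, ha, -⟩ := existsUnique_hom X f hY hdom
  -- the generic point of `Y` as a morphism from `Spec K(X)`
  have key : ∃ σ : X.presheaf.stalk (genericPoint X) ⟶ Y.presheaf.stalk (genericPoint Y),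
      IsIso σ ∧ Spec.map σ ≫ X.fromSpecStalk (genericPoint X) =
        Y.fromSpecStalk (genericPoint Y) ≫ f := by
    have : ∀ (x : X) (hx : f (genericPoint Y) = x) , ∃ σ : X.presheaf.stalk x ⟶
        Y.presheaf.stalk (genericPoint Y), IsIso σ ∧ Spec.map σ ≫ X.fromSpecStalk x =
        Y.fromSpecStalk (genericPoint Y) ≫ f := by
      rintro x rfl
      exact ⟨f.stalkMap (genericPoint Y), hiso, Scheme.SpecMap_stalkMap_fromSpecStalk f⟩
    exact this _ hξ
  obtain ⟨σ, hσ, hσ'⟩ := key
  have H : X.fromSpecStalk (genericPoint X) =
      (Spec.map (inv σ) ≫ Y.fromSpecStalk (genericPoint Y)) ≫ f := by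
    rw [Category.assoc, ← hσ', ← Category.assoc, ← Spec.map_comp, IsIso.hom_inv_id, Spec.map_id,
      Category.id_comp]
  set j := Spec.map (inv σ) ≫ Y.fromSpecStalk (genericPoint Y) with hj
  set b := (X.fromSpecStalk (genericPoint X)).normalizationDesc j f H with hb
  have hb1 : (X.fromSpecStalk (genericPoint X)).toNormalization ≫ b = j :=
    (X.fromSpecStalk (genericPoint X)).toNormalization_normalizationDesc j f H
  have hb2 : b ≫ f = (X.fromSpecStalk (genericPoint X)).fromNormalization :=
    (X.fromSpecStalk (genericPoint X)).normalizationDesc_comp j f H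
  -- uniqueness of lifts from `Spec K(X)`
  have hdom' : ∀ z : Spec (X.presheaf.stalk (genericPoint X)),
      closure {z} ∈ irreducibleComponents ↥(Spec (X.presheaf.stalk (genericPoint X))) →
      (X.fromSpecStalk (genericPoint X)).base z = genericPoint ↥X := by
    intro z _
    rw [eq_cPt X z]
    exact Scheme.fromSpecStalk_closedPoint
  obtain ⟨t, -, ht⟩ := existsUnique_hom X (X.fromSpecStalk (genericPoint X))
    (isNormalScheme_Spec_functionField X) hdom'
  have ht' : ∀ y : Spec (X.presheaf.stalk (genericPoint X)) ⟶
      (X.fromSpecStalk (genericPoint X)).normalization,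
      y ≫ (X.fromSpecStalk (genericPoint X)).fromNormalization =
        X.fromSpecStalk (genericPoint X) → y = t := ht
  have hja : j ≫ a = (X.fromSpecStalk (genericPoint X)).toNormalization := by
    have e1 : (j ≫ a) ≫ (X.fromSpecStalk (genericPoint X)).fromNormalization =
        X.fromSpecStalk (genericPoint X) := by
      rw [Category.assoc, ha, ← H]
    rw [ht' (j ≫ a) e1,
      ht' _ (X.fromSpecStalk (genericPoint X)).toNormalization_fromNormalization]
  have hba : b ≫ a = 𝟙 _ := by
    refine Scheme.Hom.normalization.hom_ext _ (b ≫ a) (𝟙 _)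
      (X.fromSpecStalk (genericPoint X)).fromNormalization ?_ ?_ ?_
    · rw [← Category.assoc, hb1, hja, Category.comp_id]
    · rw [Category.assoc, ha, hb2]
    · rw [Category.id_comp]
  -- `b` is dominant
  have hbgen : b (genericPoint _) = genericPoint Y := by
    have h1 : f (b (genericPoint _)) = genericPoint X := by
      have : f (b (genericPoint _)) = (b ≫ f) (genericPoint _) := rfl
      rw [this, hb2]
      exact fromNormalization_genericPoint X
    have h2 : b (genericPoint _) ∈ f.base ⁻¹' {genericPoint X} := h1
    rw [hfib] at h2
    exact h2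
  haveI : IsDominant b := by
    constructor
    have h1 : Dense ({genericPoint Y} : Set Y) :=
      dense_iff_closure_eq.mpr (genericPoint_spec Y)
    refine h1.mono ?_
    rintro _ rfl
    exact ⟨_, hbgen⟩
  have hab : a ≫ b = 𝟙 _ := by
    refine ext_of_isDominant_of_isSeparated f ?_ b ?_
    · rw [Category.assoc, hb2, ha, Category.id_comp]
    · rw [← Category.assoc, hba, Category.id_comp, Category.comp_id]
  exact ⟨⟨a, b, hab, hba⟩, ha⟩

end Groth.Agent.H38.NormUP
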