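import Mathlib
import Groth.Prelude.Def_Curv2
import Groth.Prelude.Def_Flat
import Groth.Agent.H38.NormUH
import Groth.Agent.H38.NormUP7
import Groth.Agent.H38.NormExt4

/-!
# Normalization in a purely inseparable extension of the function field
-/

set_option autoImplicit false
universe u

open AlgebraicGeometry CategoryTheory

namespace Groth.Agent.H38.NormPI

open Groth.Agent.H38.NormExt Groth.Agent.H38.NormAffine Groth.Agent.H38.NormUP

/-- Two homomorphisms to a field which agree on a subring containing a `q`-power of every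
element agree. -/
theorem ringHom_ext_of_pow_mem {A' B Ω : Type*} [CommRing A'] [CommRing B] [Field Ω] (q : ℕ)
    (hq : q = 1 ∨ (q.Prime ∧ (q : B) = 0))
    (ι : A' →+* B) (hpow : ∀ b : B, ∃ n : ℕ, ∃ a', b ^ q ^ n = ι a') (σ₁ σ₂ : B →+* Ω)
    (h : σ₁.comp ι = σ₂.comp ι) : σ₁ = σ₂ := by
  ext b
  obtain ⟨n, a', hb⟩ := hpow b
  have h1 : σ₁ b ^ q ^ n = σ₂ b ^ q ^ n := by
    rw [← map_pow, ← map_pow, hb]
    exact congr($h a')
  rcases hq with rfl | ⟨hp, h0⟩
  · simpa using h1
  · have hΩ : (q : Ω) = 0 := by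
      have := congrArg σ₁ h0
      simpa using this
    haveI : CharP Ω q := (CharP.charP_iff_prime_eq_zero hp).mpr hΩ
    haveI : Fact q.Prime := ⟨hp⟩
    haveI : ExpChar Ω q := ExpChar.prime hp
    exact iterateFrobenius_inj Ω q n h1

variable (X : Scheme.{u}) [IsIntegral X]

section Surj

variable (K : Type u) [Field K] (φ : X.functionField →+* K)
  [QuasiCompact (gMor X K φ)] [QuasiSeparated (gMor X K φ)]

/-- The normalization in a field extension is surjective onto `X`. -/
theorem surjective_fromNormalization : Surjective (gMor X K φ).fromNormalization := by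
  constructor
  set ν := (gMor X K φ).fromNormalization with hν
  have hclosed : IsClosed (Set.range ν) := ν.isClosedMap.isClosed_range
  have hmem : genericPoint X ∈ Set.range ν := ⟨_, fromNormalization_toNormalization_kPt X K φ⟩
  have huniv : Set.range ν = Set.univ := by
    apply Set.eq_univ_of_univ_subset
    have h1 : closure {genericPoint X} ⊆ Set.range ν :=
      hclosed.closure_subset_iff.mpr (Set.singleton_subset_iff.mpr hmem)
    have h2 : closure {genericPoint X} = (Set.univ : Set X) := (genericPoint_spec X)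
    rwa [h2] at h1
  exact Set.range_eq_univ.mp huniv

end Surj

omit [IsIntegral X] in
/-- Field-valued points of `Γ(N, f⁻¹U)` are separated by their restriction to `Γ(X, U)` if `f` is
universally injective and affine. -/
theorem fieldInj_app_of_universallyInjective {N : Scheme.{u}} (f : N ⟶ X) [IsAffineHom f]
    [UniversallyInjective f] {U : X.Opens} (hU : IsAffineOpen U)
    (Ω : Type u) [Field Ω] (σ₁ σ₂ : Γ(N, f ⁻¹ᵁ U) →+* Ω)
    (h : σ₁.comp (f.app U).hom = σ₂.comp (f.app U).hom) : σ₁ = σ₂ := by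
  have key : ∀ (K : Type u) [Field K],
      Function.Injective (fun g : Spec (.of K) ⟶ N ↦ g ≫ f) :=
    ((tfae_universallyInjective f).out 0 1).mp (inferInstance : UniversallyInjective f)
  have hV : IsAffineOpen (f ⁻¹ᵁ U) := hU.preimage f
  have e : ∀ σ : Γ(N, f ⁻¹ᵁ U) →+* Ω, (Spec.map (CommRingCat.ofHom σ) ≫ hV.fromSpec) ≫ f =
      Spec.map (f.app U ≫ CommRingCat.ofHom σ) ≫ hU.fromSpec := by
    intro σ
    rw [Category.assoc, ← IsAffineOpen.SpecMap_appLE_fromSpec f hU hV le_rfl, ← Category.assoc,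
      ← Spec.map_comp, ← Scheme.Hom.app_eq_appLE]
  have h' : f.app U ≫ CommRingCat.ofHom σ₁ = f.app U ≫ CommRingCat.ofHom σ₂ := by
    ext r
    exact congr($h r)
  have h1 : Spec.map (CommRingCat.ofHom σ₁) ≫ hV.fromSpec =
      Spec.map (CommRingCat.ofHom σ₂) ≫ hV.fromSpec := by
    apply key Ω
    change (Spec.map (CommRingCat.ofHom σ₁) ≫ hV.fromSpec) ≫ f =
      (Spec.map (CommRingCat.ofHom σ₂) ≫ hV.fromSpec) ≫ f
    rw [e, e, h']
  have h2 := Spec.map_injective ((cancel_mono hV.fromSpec).mp h1)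
  ext r
  exact congr($(h2).hom r)

omit [IsIntegral X] in
/-- An affine morphism whose field-valued points over affine opens are separated by the base
is universally injective. -/
theorem universallyInjective_of_fieldInj {N : Scheme.{u}} (f : N ⟶ X) [IsAffineHom f]
    (H : ∀ (U : X.Opens), IsAffineOpen U → (U : Set X).Nonempty → ∀ (Ω : Type u) [Field Ω]
      (σ₁ σ₂ : Γ(N, f ⁻¹ᵁ U) →+* Ω), σ₁.comp (f.app U).hom = σ₂.comp (f.app U).hom → σ₁ = σ₂) :
    UniversallyInjective f := by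
  refine ((tfae_universallyInjective f).out 0 1).mpr ?_
  intro Ω _ g₁ g₂ hg
  have hg' : g₁ ≫ f = g₂ ≫ f := hg
  obtain ⟨U, hU, hxU, -⟩ := TopologicalSpace.Opens.isBasis_iff_nbhd.mp X.isBasis_affineOpens
    (TopologicalSpace.Opens.mem_top ((g₁ ≫ f) (kPt Ω)))
  have hV : IsAffineOpen (f ⁻¹ᵁ U) := hU.preimage f
  have hr1 : Set.range g₁ ⊆ ((f ⁻¹ᵁ U : N.Opens) : Set N) := by
    rintro _ ⟨y, rfl⟩
    rw [eq_kPt Ω y]
    exact hxU
  have hr2 : Set.range g₂ ⊆ ((f ⁻¹ᵁ U : N.Opens) : Set N) := by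
    rintro _ ⟨y, rfl⟩
    rw [eq_kPt Ω y]
    change (g₂ ≫ f) (kPt Ω) ∈ U
    rw [← hg']
    exact hxU
  obtain ⟨ψ₁, rfl⟩ := exists_eq_specMap_fromSpec hV g₁ hr1
  obtain ⟨ψ₂, rfl⟩ := exists_eq_specMap_fromSpec hV g₂ hr2
  have e : ∀ ψ : Γ(N, f ⁻¹ᵁ U) ⟶ CommRingCat.of Ω, (Spec.map ψ ≫ hV.fromSpec) ≫ f =
      Spec.map (f.app U ≫ ψ) ≫ hU.fromSpec := by
    intro ψ
    rw [Category.assoc, ← IsAffineOpen.SpecMap_appLE_fromSpec f hU hV le_rfl, ← Category.assoc,
      ← Spec.map_comp, ← Scheme.Hom.app_eq_appLE]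
  rw [e, e] at hg'
  have h1 := Spec.map_injective ((cancel_mono hU.fromSpec).mp hg')
  have h2 : ψ₁.hom = ψ₂.hom := by
    apply H U hU ⟨_, hxU⟩ Ω
    ext r
    exact congr($(h1).hom r)
  have h3 : ψ₁ = ψ₂ := by
    ext r
    exact congr($h2 r)
  rw [h3]

end Groth.Agent.H38.NormPI
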