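import Mathlib
import Groth.Prelude.Def_Curv2
import Groth.Prelude.Def_Flat
import Groth.Agent.H38.NormPI

/-!
# Normalization in a purely inseparable extension of the function field: universal homeomorphism
-/

set_option autoImplicit false
universe u

open AlgebraicGeometry CategoryTheory

namespace Groth.Agent.H38.NormPI

open Groth.Agent.H38.NormExt Groth.Agent.H38.NormAffine Groth.Agent.H38.NormUP

variable (X : Scheme.{u}) [IsIntegral X]
  [QuasiCompact (X.fromSpecStalk (genericPoint X))]
  [QuasiSeparated (X.fromSpecStalk (genericPoint X))]
  (L : Type u) [Field L] [Algebra X.functionField L]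
  [QuasiCompact (gMor X L (algebraMap X.functionField L))]
  [QuasiSeparated (gMor X L (algebraMap X.functionField L))]

/-- The normalization in a field extension factors through the normalization. -/
theorem exists_factor :
    ∃ h : (gMor X L (algebraMap X.functionField L)).normalization ⟶
        (X.fromSpecStalk (genericPoint X)).normalization,
      h ≫ (X.fromSpecStalk (genericPoint X)).fromNormalization =
        (gMor X L (algebraMap X.functionField L)).fromNormalization := by
  have hN := NormExt.isNormalScheme_normalization X L (algebraMap X.functionField L)
  have hdom : ∀ z : (gMor X L (algebraMap X.functionField L)).normalization,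
      closure {z} ∈ irreducibleComponents _ →
      (gMor X L (algebraMap X.functionField L)).fromNormalization.base z = genericPoint X := by
    intro z hz
    rw [irreducibleComponents_eq_singleton, Set.mem_singleton_iff] at hz
    have : z = genericPoint _ := (isGenericPoint_def.mpr hz).eq (genericPoint_spec _)
    rw [this]
    exact NormExt.fromNormalization_genericPoint X L (algebraMap X.functionField L)
  obtain ⟨h, hh, -⟩ := existsUnique_hom X
    (gMor X L (algebraMap X.functionField L)).fromNormalization hN hdom
  exact ⟨h, hh⟩

variable {X L} in
/-- The comparison of the two embeddings into `L`. -/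
theorem toK_comp_eq
    (h : (gMor X L (algebraMap X.functionField L)).normalization ⟶
        (X.fromSpecStalk (genericPoint X)).normalization)
    (_hh : h ≫ (X.fromSpecStalk (genericPoint X)).fromNormalization =
        (gMor X L (algebraMap X.functionField L)).fromNormalization)
    {U : X.Opens} (hU : IsAffineOpen U) (hne : (U : Set X).Nonempty)
    (ι : Γ((X.fromSpecStalk (genericPoint X)).normalization,
        (X.fromSpecStalk (genericPoint X)).fromNormalization ⁻¹ᵁ U) →+*
      Γ((gMor X L (algebraMap X.functionField L)).normalization,
        (gMor X L (algebraMap X.functionField L)).fromNormalization ⁻¹ᵁ U))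
    (hι : ι.comp ((X.fromSpecStalk (genericPoint X)).fromNormalization.app U).hom =
      ((gMor X L (algebraMap X.functionField L)).fromNormalization.app U).hom)
    (a' : Γ((X.fromSpecStalk (genericPoint X)).normalization,
        (X.fromSpecStalk (genericPoint X)).fromNormalization ⁻¹ᵁ U)) :
    (toK X L (algebraMap X.functionField L) hU hne).hom (ι a') =
      algebraMap X.functionField L ((toFF X hU hne).hom a') := by
  obtain ⟨a₁, a₂, ha₂, hab⟩ := birational_normalization X U hU hne a'
  have hg2 : (X.presheaf.germ U (genericPoint X) (NormAffine.genericPoint_mem X hne)).hom a₂ ≠ 0 := by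
    intro h0
    exact ha₂ (germ_injective_of_isIntegral X (genericPoint X) (NormAffine.genericPoint_mem X hne)
      (by rw [h0, map_zero]))
  have hφ2 : algebraMap X.functionField L
      ((X.presheaf.germ U (genericPoint X) (NormAffine.genericPoint_mem X hne)).hom a₂) ≠ 0 := by
    intro h0
    exact hg2 ((algebraMap X.functionField L).injective (by rw [h0, map_zero]))
  -- first equation: apply ι then toK
  have e1 : (toK X L (algebraMap X.functionField L) hU hne).hom
      (ι (((X.fromSpecStalk (genericPoint X)).fromNormalization.app U).hom a₂ * a')) =
      (toK X L (algebraMap X.functionField L) hU hne).hom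
      (ι (((X.fromSpecStalk (genericPoint X)).fromNormalization.app U).hom a₁)) := by rw [hab]
  have hιa : ∀ a : Γ(X, U),
      (toK X L (algebraMap X.functionField L) hU hne).hom
        (ι (((X.fromSpecStalk (genericPoint X)).fromNormalization.app U).hom a)) =
      algebraMap X.functionField L
        ((X.presheaf.germ U (genericPoint X) (NormAffine.genericPoint_mem X hne)).hom a) := by
    intro a
    have : ι (((X.fromSpecStalk (genericPoint X)).fromNormalization.app U).hom a) =
        ((gMor X L (algebraMap X.functionField L)).fromNormalization.app U).hom a := congr($hι a)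
    rw [this, toK_app_apply]
    rfl
  rw [map_mul, map_mul, hιa, hιa] at e1
  -- second equation: apply toFF then φ
  have e2 : algebraMap X.functionField L ((toFF X hU hne).hom
      (((X.fromSpecStalk (genericPoint X)).fromNormalization.app U).hom a₂ * a')) =
      algebraMap X.functionField L ((toFF X hU hne).hom
      (((X.fromSpecStalk (genericPoint X)).fromNormalization.app U).hom a₁)) := by rw [hab]
  rw [map_mul, map_mul] at e2
  erw [toFF_app_apply, toFF_app_apply] at e2
  exact mul_left_cancel₀ hφ2 (e1.trans e2.symm)

variable {X L} in
/-- Every section of the normalization in a purely inseparable extension has a `q`-power coming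
from the normalization. -/
theorem exists_pow_eq [IsPurelyInseparable X.functionField L]
    {U : X.Opens} (hU : IsAffineOpen U) (hne : (U : Set X).Nonempty)
    (ι : Γ((X.fromSpecStalk (genericPoint X)).normalization,
        (X.fromSpecStalk (genericPoint X)).fromNormalization ⁻¹ᵁ U) →+*
      Γ((gMor X L (algebraMap X.functionField L)).normalization,
        (gMor X L (algebraMap X.functionField L)).fromNormalization ⁻¹ᵁ U))
    (htoK : ∀ a', (toK X L (algebraMap X.functionField L) hU hne).hom (ι a') =
      algebraMap X.functionField L ((toFF X hU hne).hom a'))
    (b : Γ((gMor X L (algebraMap X.functionField L)).normalization,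
        (gMor X L (algebraMap X.functionField L)).fromNormalization ⁻¹ᵁ U)) :
    ∃ n : ℕ, ∃ a', b ^ (ringExpChar X.functionField) ^ n = ι a' := by
  obtain ⟨n, k, hk⟩ := IsPurelyInseparable.pow_mem X.functionField (ringExpChar X.functionField)
    ((toK X L (algebraMap X.functionField L) hU hne).hom b)
  have hint : (X.presheaf.germ U (genericPoint X)
      (NormAffine.genericPoint_mem X hne)).hom.IsIntegralElem k := by
    letI := (secToK X L (algebraMap X.functionField L) hne).toAlgebra
    have h1 : IsIntegral Γ(X, U) ((toK X L (algebraMap X.functionField L) hU hne).hom b) :=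
      (mem_range_toK_iff X L (algebraMap X.functionField L) hU hne _).mp ⟨b, rfl⟩
    have h2 := h1.pow ((ringExpChar X.functionField) ^ n)
    rw [← hk] at h2
    obtain ⟨p, hp, hp0⟩ := h2
    refine ⟨p, hp, ?_⟩
    apply (algebraMap X.functionField L).injective
    rw [map_zero, Polynomial.hom_eval₂]
    exact hp0
  obtain ⟨a', ha'⟩ := (mem_range_toFF_iff X hU hne k).mpr hint
  refine ⟨n, a', toK_injective X L (algebraMap X.functionField L) hU hne ?_⟩
  rw [map_pow, htoK, ← hk]
  exact congrArg _ ha'.symm

/-- Field-valued points of the sections of the normalization in a purely inseparable extension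
are determined by their restriction to the base, for a geometrically unibranch base. -/
theorem fieldInj_app [IsPurelyInseparable X.functionField L]
    [UniversallyInjective (X.fromSpecStalk (genericPoint X)).fromNormalization]
    {U : X.Opens} (hU : IsAffineOpen U) (hne : (U : Set X).Nonempty) (Ω : Type u) [Field Ω]
    (σ₁ σ₂ : Γ((gMor X L (algebraMap X.functionField L)).normalization,
        (gMor X L (algebraMap X.functionField L)).fromNormalization ⁻¹ᵁ U) →+* Ω)
    (h : σ₁.comp ((gMor X L (algebraMap X.functionField L)).fromNormalization.app U).hom =
      σ₂.comp ((gMor X L (algebraMap X.functionField L)).fromNormalization.app U).hom) :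
    σ₁ = σ₂ := by
  obtain ⟨hf, hh⟩ := exists_factor X L
  have e : (gMor X L (algebraMap X.functionField L)).fromNormalization ⁻¹ᵁ U ≤
      hf ⁻¹ᵁ ((X.fromSpecStalk (genericPoint X)).fromNormalization ⁻¹ᵁ U) := by
    rw [← Scheme.Hom.comp_preimage, hh]
  have key : ∀ (g : (gMor X L (algebraMap X.functionField L)).normalization ⟶ X)
      (_ : g = (gMor X L (algebraMap X.functionField L)).fromNormalization)
      (e' : (gMor X L (algebraMap X.functionField L)).fromNormalization ⁻¹ᵁ U ≤ g ⁻¹ᵁ U),
      g.appLE U _ e' = (gMor X L (algebraMap X.functionField L)).fromNormalization.app U := by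
    rintro g rfl e'
    exact (Scheme.Hom.app_eq_appLE _).symm
  have hι : (hf.appLE _ _ e).hom.comp
      ((X.fromSpecStalk (genericPoint X)).fromNormalization.app U).hom =
      ((gMor X L (algebraMap X.functionField L)).fromNormalization.app U).hom := by
    have h1 := Scheme.Hom.appLE_comp_appLE hf (X.fromSpecStalk (genericPoint X)).fromNormalization
      U _ _ le_rfl e
    rw [key _ hh, ← Scheme.Hom.app_eq_appLE] at h1
    exact congrArg CommRingCat.Hom.hom h1
  have htoK := toK_comp_eq hf hh hU hne (hf.appLE _ _ e).hom hι
  have hpow := exists_pow_eq hU hne (hf.appLE _ _ e).hom htoK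
  have hq : ringExpChar X.functionField = 1 ∨ ((ringExpChar X.functionField).Prime ∧
      ((ringExpChar X.functionField : ℕ) :
        Γ((gMor X L (algebraMap X.functionField L)).normalization,
        (gMor X L (algebraMap X.functionField L)).fromNormalization ⁻¹ᵁ U)) = 0) := by
    have hE : ExpChar X.functionField (ringExpChar X.functionField) := ringExpChar.expChar _
    generalize ringExpChar X.functionField = q at hE ⊢
    cases hE with
    | zero => exact Or.inl rfl
    | prime hp =>
      right
      refine ⟨hp, ?_⟩
      apply toK_injective X L (algebraMap X.functionField L) hU hne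
      rw [map_natCast, map_zero]
      have : ((q : ℕ) : L) = algebraMap X.functionField L (q : X.functionField) := by
        rw [map_natCast]
      rw [this, CharP.cast_eq_zero, map_zero]
  refine ringHom_ext_of_pow_mem _ hq (hf.appLE _ _ e).hom hpow σ₁ σ₂ ?_
  apply fieldInj_app_of_universallyInjective X (X.fromSpecStalk (genericPoint X)).fromNormalization
    hU Ω
  rw [RingHom.comp_assoc, RingHom.comp_assoc, hι, h]

/-- The normalization of a geometrically unibranch integral scheme in a purely inseparable
extension of its function field is a universal homeomorphism. -/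
theorem isUnivHomeo_fromNormalization [IsPurelyInseparable X.functionField L]
    (hX : ∀ x : X, CAlg2.IsGeomUnibranch (X.presheaf.stalk x)) :
    FlatMor.IsUnivHomeo (gMor X L (algebraMap X.functionField L)).fromNormalization := by
  haveI : UniversallyInjective (X.fromSpecStalk (genericPoint X)).fromNormalization :=
    Groth.Agent.H38.NormUH.universallyInjective_normalizationι X hX
  rw [Groth.Agent.H37.isUnivHomeo_iff]
  refine ⟨inferInstance, ?_, surjective_fromNormalization X L _⟩
  exact universallyInjective_of_fieldInj X _ (fun U hU hne Ω _ σ₁ σ₂ h =>
    fieldInj_app X L hU hne Ω σ₁ σ₂ h)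

end Groth.Agent.H38.NormPI
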