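import Mathlib
import Groth.Agent.H38.GlobalSectionsField
import Groth.Agent.H38.GeomIrrField
import Groth.Agent.H38.NormAffine3
import Groth.Agent.H79.SchResMap
import Groth.Agent.H22.GeomRedSections
import Groth.Agent.H18.HH0Sections

/-!
helper38: global functions of a smooth normalization of a geometrically irreducible proper scheme.
-/

set_option autoImplicit false
universe u
open CategoryTheory CategoryTheory.Limits AlgebraicGeometry TensorProduct
attribute [local instance] Curv2.resAlgebra

namespace Groth.Agent.H38.NormSmoothH0

open Groth.Agent.H38.GeomConnProper Groth.Agent.H38.GlobalSectionsField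

section general

/-- precomposing a geometrically irreducible morphism with a surjective closed immersion -/
theorem geometricallyIrreducible_comp_of_surjective_closedImmersion {Z X S : Scheme.{u}}
    (i : Z ⟶ X) (g : X ⟶ S) [IsClosedImmersion i] [Surjective i] [GeometricallyIrreducible g] :
    GeometricallyIrreducible (i ≫ g) := by
  refine ⟨geometrically_iff_of_isClosedUnderIsomorphisms.mpr fun K _ x ↦ ?_⟩
  rw [← (pullbackRightPullbackFstIso g x i).hom.homeomorph.irreducibleSpace_iff]
  have hirr : IrreducibleSpace ↥(pullback g x) :=
    GeometricallyIrreducible.irreducibleSpace_of_subsingleton (pullback.snd g x)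
  let q := pullback.snd i (pullback.fst g x)
  let e := q.isClosedEmbedding.isEmbedding.toHomeomorphOfSurjective q.surjective
  exact e.irreducibleSpace_iff.mpr hirr

/-- `H⁰(X, O_X)` has the same dimension as the ring of global functions -/
theorem finrank_HH_zero_structureModule (k : Type u) [Field k] (X : Scheme.{u})
    [X.Over (Spec (CommRingCat.of k))] :
    letI := algΓX k X
    Module.finrank k (Coh.HH X (Coh.structureModule X) 0) = Module.finrank k Γ(X, ⊤) := by
  letI := algΓX k X
  let e : Coh.HH X (Coh.structureModule X) 0 ≃ₗ[k] Γ(X, ⊤) :=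
    { (Groth.Agent.H18.HH0.equiv (Coh.structureModule X)) with
      map_smul' := fun a x => by
        have h := Groth.Agent.H18.HH0.equiv_smul (Coh.structureModule X)
          (Coh.toGlobal (X ↘ Spec (CommRingCat.of k)) a) x
        exact h }
  exact e.finrank_eq

/-- a smooth, universally closed, qcqs `K`-scheme whose base change to an algebraic closure is
connected has only constant global functions -/
theorem finrank_sections_eq_one (K : Type u) [Field K] {Y : Scheme.{u}}
    (p : Y ⟶ Spec (CommRingCat.of K)) [UniversallyClosed p] [QuasiCompact p] [QuasiSeparated p]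
    [Smooth p]
    (hconnY : ConnectedSpace
      ↥(pullback p (Spec.map (CommRingCat.ofHom (algebraMap K (AlgebraicClosure K)))))) :
    letI := algΓ K p
    Module.finrank K Γ(Y, ⊤) = 1 := by
  letI := algΓ K p
  have hint : Algebra.IsIntegral K Γ(Y, ⊤) := isIntegral_sections K p
  obtain ⟨e⟩ := nonempty_sections_bc K p (AlgebraicClosure K)
  -- reduced
  have hredY : IsReduced (pullback p (Spec.map (CommRingCat.ofHom
      (algebraMap K (AlgebraicClosure K))))) :=
    Groth.Agent.H22.GeomRedSections.isReduced_of_smooth_field (AlgebraicClosure K)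
      (pullback.snd p _)
  have hredA : _root_.IsReduced (AlgebraicClosure K ⊗[K] Γ(Y, ⊤)) :=
    isReduced_of_injective e.symm e.symm.injective
  have hconn : ConnectedSpace (PrimeSpectrum (AlgebraicClosure K ⊗[K] Γ(Y, ⊤))) :=
    (connectedSpace_iff_of_ringEquiv_ring e).mp hconnY
  have hsub : Subsingleton (PrimeSpectrum (AlgebraicClosure K ⊗[K] Γ(Y, ⊤))) :=
    Groth.Agent.H38.GeomConnAlg.subsingleton_primeSpectrum_of_preconnected (AlgebraicClosure K) _
  have hntΓ : Nontrivial Γ(Y, ⊤) := by
    have hne : Nonempty ↥(pullback p (Spec.map (CommRingCat.ofHom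
      (algebraMap K (AlgebraicClosure K))))) := inferInstance
    obtain ⟨y'⟩ := hne
    exact (Y.presheaf.germ ⊤ (pullback.fst p _ y') trivial).hom.domain_nontrivial
  have hnt : Nontrivial (AlgebraicClosure K ⊗[K] Γ(Y, ⊤)) :=
    Groth.Agent.H38.GeomConnAlg.nontrivial_tensor K Γ(Y, ⊤) (AlgebraicClosure K)
  have hfield : IsField (AlgebraicClosure K ⊗[K] Γ(Y, ⊤)) :=
    isField_of_subsingleton_primeSpectrum _
  let _ := hfield.toField
  have hbij : Function.Bijective (algebraMap (AlgebraicClosure K)
      (AlgebraicClosure K ⊗[K] Γ(Y, ⊤))) :=
    IsAlgClosed.algebraMap_bijective_of_isIntegral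
  have h1 : Module.finrank (AlgebraicClosure K) (AlgebraicClosure K ⊗[K] Γ(Y, ⊤)) = 1 := by
    rw [← (LinearEquiv.ofBijective (Algebra.linearMap (AlgebraicClosure K)
      (AlgebraicClosure K ⊗[K] Γ(Y, ⊤))) hbij).finrank_eq]
    exact Module.finrank_self _
  rwa [Module.finrank_baseChange] at h1

end general

section norm

variable (K : Type u) [Field K] (Z : Scheme.{u}) [Z.Over (Spec (CommRingCat.of K))] [IsIntegral Z]
  [QuasiCompact (Z.fromSpecStalk (genericPoint Z))]
  [QuasiSeparated (Z.fromSpecStalk (genericPoint Z))]

instance isIntegral_normalization : IsIntegral (Curv2.normalization Z) :=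
  inferInstanceAs (IsIntegral (Z.fromSpecStalk (genericPoint Z)).normalization)

instance isIntegralHom_normalizationι : IsIntegralHom (Curv2.normalizationι Z) :=
  inferInstanceAs (IsIntegralHom (Z.fromSpecStalk (genericPoint Z)).fromNormalization)

/-- the structure of `K`-scheme on the normalization -/
noncomputable abbrev normOver : (Curv2.normalization Z).Over (Spec (CommRingCat.of K)) :=
  ⟨Curv2.normalizationι Z ≫ (Z ↘ Spec (CommRingCat.of K))⟩

theorem normalizationι_genericPoint :
    Curv2.normalizationι Z (genericPoint (Curv2.normalization Z)) = genericPoint Z :=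
  Groth.Agent.H38.NormAffine.fromNormalization_genericPoint Z

theorem residueFieldMap_bijective_genericPoint :
    Function.Bijective ((Curv2.normalizationι Z).residueFieldMap
      (genericPoint (Curv2.normalization Z))).hom := by
  have h := Groth.Agent.H38.NormAffine.residueFieldMap_bijective_toNormalization_cPt Z
  rw [Groth.Agent.H38.NormAffine.toNormalization_cPt Z] at h
  exact h

/-- every base change of the normalization of a geometrically irreducible integral scheme is
irreducible -/
theorem irreducibleSpace_bc_normalization
    [GeometricallyIrreducible (Z ↘ Spec (CommRingCat.of K))] (K' : Type u) [Field K']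
    [Algebra K K'] :
    letI := normOver K Z
    IrreducibleSpace ↥(Curv2.bc K (Curv2.normalization Z) K') := by
  letI := normOver K Z
  have hZ' : IrreducibleSpace ↥(Curv2.bc K Z K') :=
    (Groth.Agent.H38.GeomIrrField.geometricallyIrreducible_iff_bc K Z).mp inferInstance K'
  have h1 := Groth.Agent.H38.GeomIrrField.irreducibleSpace_residueField_of_bc K Z K'
  rw [← normalizationι_genericPoint Z] at h1
  set ηY := genericPoint (Curv2.normalization Z) with hηY
  let φ := Groth.Agent.H79.SchResMap.resAlgHom K (Curv2.normalizationι Z) rfl ηY
  have hφ : Function.Bijective φ := residueFieldMap_bijective_genericPoint Z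
  let e := Algebra.TensorProduct.congr (AlgEquiv.ofBijective φ hφ) (AlgEquiv.refl (R := K) (A₁ := K'))
  have h2 : IrreducibleSpace (PrimeSpectrum
      ((Curv2.normalization Z).residueField ηY ⊗[K] K')) :=
    (PrimeSpectrum.homeomorphOfRingEquiv e.toRingEquiv).irreducibleSpace_iff.mp h1
  exact Groth.Agent.H38.GeomIrrField.irreducibleSpace_bc_of_residueField K
    (Curv2.normalization Z) K' h2

/-- global functions of a smooth normalization of a geometrically irreducible, universally
closed integral `K`-scheme are the constants -/
theorem finrank_sections_normalization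
    [GeometricallyIrreducible (Z ↘ Spec (CommRingCat.of K))]
    [UniversallyClosed (Z ↘ Spec (CommRingCat.of K))]
    [QuasiCompact (Z ↘ Spec (CommRingCat.of K))] [QuasiSeparated (Z ↘ Spec (CommRingCat.of K))]
    (hsm : Smooth (Curv2.normalizationι Z ≫ (Z ↘ Spec (CommRingCat.of K)))) :
    letI := normOver K Z
    letI := algΓX K (Curv2.normalization Z)
    Module.finrank K Γ(Curv2.normalization Z, ⊤) = 1 := by
  letI := normOver K Z
  have hirr : IrreducibleSpace ↥(Curv2.bc K (Curv2.normalization Z) (AlgebraicClosure K)) :=
    irreducibleSpace_bc_normalization K Z (AlgebraicClosure K)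
  exact finrank_sections_eq_one K
    (Curv2.normalizationι Z ≫ (Z ↘ Spec (CommRingCat.of K))) hirr.connectedSpace

end norm

end Groth.Agent.H38.NormSmoothH0
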