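import Mathlib
import Groth.Prelude.Def_Pi1
import Groth.Prelude.Def_Curv2
import Groth.Agent.H38.NormUP7

/-!
# Characterization of the normalization: isomorphism over a dense open
-/

set_option autoImplicit false
universe u

open AlgebraicGeometry CategoryTheory

namespace Groth.Agent.H38.NormUP

open Groth.Agent.H38.NormAffine

/-- The coordinate ring of a nonempty affine open all of whose stalks are integrally closed is
integrally closed. -/
theorem isIntegrallyClosed_sections_of_stalk {X : Scheme.{u}} [IsIntegral X]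
    (U : X.Opens) (hU : IsAffineOpen U) (hne : (U : Set X).Nonempty)
    (hX : ∀ x ∈ U, IsIntegrallyClosed (X.presheaf.stalk x)) :
    IsIntegrallyClosed Γ(X, U) := by
  have hneU : Nonempty U := ⟨⟨_, hne.some_mem⟩⟩
  haveI : IsDomain Γ(X, U) := @IsIntegral.component_integral X _ U hneU
  refine IsIntegrallyClosed.of_localization_maximal fun p hp hpm => ?_
  have hy : hU.fromSpec ⟨p, hpm.isPrime⟩ ∈ U := Groth.Agent.H38.fromSpec_mem hU _
  letI := TopCat.Presheaf.algebra_section_stalk X.presheaf ⟨hU.fromSpec ⟨p, hpm.isPrime⟩, hy⟩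
  have hloc : IsLocalization p.primeCompl (X.presheaf.stalk (hU.fromSpec ⟨p, hpm.isPrime⟩)) :=
    hU.isLocalization_stalk' ⟨p, hpm.isPrime⟩ hy
  have hic : IsIntegrallyClosed (X.presheaf.stalk (hU.fromSpec ⟨p, hpm.isPrime⟩)) := hX _ hy
  exact hic.of_equiv
    (IsLocalization.algEquiv p.primeCompl (X.presheaf.stalk (hU.fromSpec ⟨p, hpm.isPrime⟩))
      (Localization.AtPrime p)).toRingEquiv

variable (X : Scheme.{u}) [IsIntegral X]
  [QuasiCompact (X.fromSpecStalk (genericPoint X))]
  [QuasiSeparated (X.fromSpecStalk (genericPoint X))]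

/-- Over an affine open with integrally closed coordinate ring, the normalization morphism is an
isomorphism on sections. -/
theorem isIso_app_of_isIntegrallyClosed {W : X.Opens} (hW : IsAffineOpen W)
    (hne : (W : Set X).Nonempty) [IsIntegrallyClosed Γ(X, W)] :
    IsIso ((X.fromSpecStalk (genericPoint X)).fromNormalization.app W) := by
  rw [ConcreteCategory.isIso_iff_bijective]
  letI := germAlg X hne
  haveI := isFractionRing_germ X hW hne
  constructor
  · intro a a' h
    have h1 := congrArg (toFF X hW hne).hom h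
    erw [toFF_app_apply, toFF_app_apply] at h1
    exact germ_injective_of_isIntegral X (genericPoint X) (genericPoint_mem X hne) h1
  · intro b
    have hint : IsIntegral Γ(X, W) ((toFF X hW hne).hom b) :=
      (mem_range_toFF_iff X hW hne _).mp ⟨b, rfl⟩
    obtain ⟨a, ha⟩ := IsIntegrallyClosed.isIntegral_iff.mp hint
    refine ⟨a, ?_⟩
    apply toFF_injective X hW hne
    erw [toFF_app_apply]
    exact ha

/-- If `X` is normal on a nonempty open, a scheme isomorphic to the normalization over `X` is
isomorphic to `X` over a dense open. -/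
theorem exists_dense_open_iso_of_iso
    (hV : ∃ V : X.Opens, (V : Set ↥X).Nonempty ∧ ∀ x ∈ V, IsIntegrallyClosed (X.presheaf.stalk x))
    {Y : Scheme.{u}} (f : Y ⟶ X) (e : Y ≅ (X.fromSpecStalk (genericPoint X)).normalization)
    (he : e.hom ≫ (X.fromSpecStalk (genericPoint X)).fromNormalization = f) :
    ∃ U : X.Opens, Dense (U : Set ↥X) ∧ Dense ((f ⁻¹ᵁ U : Y.Opens) : Set ↥Y) ∧ IsIso (f ∣_ U) := by
  obtain ⟨hY, hint, hirr, -, -⟩ := characterization_of_iso X f e he
  subst he
  obtain ⟨V, ⟨x₀, hx₀⟩, hVn⟩ := hV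
  obtain ⟨W, hW, hx₀W, hWV⟩ := TopologicalSpace.Opens.isBasis_iff_nbhd.mp X.isBasis_affineOpens hx₀
  have hne : (W : Set X).Nonempty := ⟨x₀, hx₀W⟩
  haveI : IsIntegrallyClosed Γ(X, W) :=
    isIntegrallyClosed_sections_of_stalk W hW hne (fun x hx => hVn x (hWV hx))
  refine ⟨W, W.isOpen.dense hne, ?_, ?_⟩
  · refine ((e.hom ≫ (X.fromSpecStalk (genericPoint X)).fromNormalization) ⁻¹ᵁ W).isOpen.dense ?_
    obtain ⟨x', hx'⟩ := (surjective_normalizationι X).surj x₀
    refine ⟨e.inv x', ?_⟩
    change (e.hom ≫ (X.fromSpecStalk (genericPoint X)).fromNormalization) (e.inv x') ∈ W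
    have : (e.hom ≫ (X.fromSpecStalk (genericPoint X)).fromNormalization) (e.inv x') =
        (e.inv ≫ e.hom ≫ (X.fromSpecStalk (genericPoint X)).fromNormalization) x' := rfl
    rw [this, Iso.inv_hom_id_assoc]
    have hx'' : (X.fromSpecStalk (genericPoint X)).fromNormalization x' = x₀ := hx'
    rw [hx'']
    exact hx₀W
  · rw [morphismRestrict_comp]
    have h1 : IsIso ((X.fromSpecStalk (genericPoint X)).fromNormalization ∣_ W) :=
      (isIso_morphismRestrict_iff_isIso_app _ hW).mpr (isIso_app_of_isIntegrallyClosed X hW hne)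
    have h2 : IsIso (e.hom ∣_ (X.fromSpecStalk (genericPoint X)).fromNormalization ⁻¹ᵁ W) :=
      inferInstance
    exact IsIso.comp_isIso' h2 h1

omit [QuasiCompact (X.fromSpecStalk (genericPoint X))]
  [QuasiSeparated (X.fromSpecStalk (genericPoint X))] in
/-- A normal scheme integral over `X` and isomorphic to `X` over a dense open with dense
preimage is birational to `X`. -/
theorem birational_of_dense_open_iso {Y : Scheme.{u}} (f : Y ⟶ X) (hY : Pi1.IsNormalScheme Y)
    [IsIntegralHom f] (U : X.Opens) (hU : Dense (U : Set ↥X))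
    (hfU : Dense ((f ⁻¹ᵁ U : Y.Opens) : Set ↥Y)) [IsIso (f ∣_ U)] :
    ∃ _ : IrreducibleSpace ↥Y, f.base ⁻¹' {genericPoint X} = {genericPoint Y} ∧
      IsIso (f.stalkMap (genericPoint Y)) := by
  haveI := isReduced_of_isNormalScheme hY
  have hne : (U : Set X).Nonempty := hU.nonempty
  haveI : Nonempty U := ⟨⟨_, hne.some_mem⟩⟩
  haveI : IrreducibleSpace ↥(U : Scheme.{u}) := inferInstance
  let h : ↥(f ⁻¹ᵁ U : Scheme.{u}) ≃ₜ ↥(U : Scheme.{u}) := (f ∣_ U).homeomorph
  -- irreducibility of `Y`
  have hirr1 : IsIrreducible ((f ⁻¹ᵁ U : Y.Opens) : Set Y) := by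
    have h1 : IsIrreducible (Set.univ : Set ↥(U : Scheme.{u})) :=
      (irreducibleSpace_def _).mp inferInstance
    have h2 := h1.image (fun u => (h.symm u).1)
      (continuous_subtype_val.comp h.symm.continuous).continuousOn
    convert h2 using 1
    ext y
    simp only [Set.image_univ, Set.mem_range]
    constructor
    · intro hy
      exact ⟨h ⟨y, hy⟩, by rw [h.symm_apply_apply]⟩
    · rintro ⟨u, rfl⟩
      exact (h.symm u).2
  have hirr2 : IsIrreducible (Set.univ : Set Y) := by
    have := hirr1.closure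
    rwa [hfU.closure_eq] at this
  haveI hirr : IrreducibleSpace ↥Y := (irreducibleSpace_def _).mpr hirr2
  haveI : IsIntegral Y := isIntegral_of_irreducibleSpace_of_isReduced Y
  have hgenU : genericPoint X ∈ U := genericPoint_mem X hne
  have hξ : f (genericPoint Y) = genericPoint X := by
    have h1 : f (h.symm ⟨genericPoint X, hgenU⟩).1 = genericPoint X := by
      have := morphismRestrict_base_coe f U (h.symm ⟨genericPoint X, hgenU⟩)
      rw [← this]
      have h2 : (f ∣_ U) (h.symm ⟨genericPoint X, hgenU⟩) = ⟨genericPoint X, hgenU⟩ :=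
        h.apply_symm_apply _
      rw [h2]
    have h3 := eq_genericPoint_of_isIntegralHom f _ h1
    rw [← h3]
    exact h1
  have hmem : genericPoint Y ∈ f ⁻¹ᵁ U := by
    change f (genericPoint Y) ∈ U
    rw [hξ]
    exact hgenU
  refine ⟨hirr, ?_, ?_⟩
  · ext y
    simp only [Set.mem_preimage, Set.mem_singleton_iff]
    constructor
    · intro hy
      exact eq_genericPoint_of_isIntegralHom f y hy
    · rintro rfl
      exact hξ
  · have h1 : IsIso ((f ∣_ U).stalkMap ⟨genericPoint Y, hmem⟩) := inferInstance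
    exact ((MorphismProperty.isomorphisms CommRingCat).arrow_mk_iso_iff
      (morphismRestrictStalkMap f U ⟨genericPoint Y, hmem⟩)).mp h1

end Groth.Agent.H38.NormUP
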