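import Mathlib.RingTheory.Ideal.MinimalPrime.Basic
import Mathlib.RingTheory.Ideal.MinimalPrime.Localization
import Mathlib.RingTheory.Ideal.MinimalPrime.Noetherian
import Mathlib.RingTheory.Localization.AtPrime.Basic
import Mathlib.RingTheory.KrullDimension.Basic
import Mathlib.RingTheory.Spectrum.Prime.Basic
import Mathlib.RingTheory.Nilpotent.Lemmas
import Mathlib.RingTheory.Noetherian.Nilpotent
import Mathlib.Algebra.Algebra.Pi

set_option autoImplicit false
universe u

namespace Groth.Agent.H38

variable (A : Type u) [CommRing A]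

/-- The minimal primes, as points of the spectrum. -/
abbrev MinPrime := {p : PrimeSpectrum A // p.asIdeal ∈ minimalPrimes A}

/-- The product of the localizations at the minimal primes. -/
abbrev LProd := ∀ p : MinPrime A, Localization.AtPrime p.1.asIdeal

variable {A}

theorem finite_minPrime [IsNoetherianRing A] : Finite (MinPrime A) := by
  have : Finite ↥(minimalPrimes A) := (minimalPrimes.finite_of_isNoetherianRing A).to_subtype
  refine Finite.of_injective (fun p : MinPrime A => (⟨p.1.asIdeal, p.2⟩ : minimalPrimes A)) ?_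
  intro p q h
  apply Subtype.ext
  apply PrimeSpectrum.ext
  exact congrArg Subtype.val h

/-- An element of a minimal prime becomes nilpotent in the localization. -/
theorem isNilpotent_algebraMap_of_mem_minimalPrime (q : MinPrime A) {x : A}
    (hx : x ∈ q.1.asIdeal) :
    IsNilpotent (algebraMap A (Localization.AtPrime q.1.asIdeal) x) := by
  have h1 := IsLocalization.AtPrime.radical_map_of_mem_minimalPrimes
    (A := Localization.AtPrime q.1.asIdeal) q.1.asIdeal ⊥ q.2
  have h2 : algebraMap A (Localization.AtPrime q.1.asIdeal) x ∈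
      (q.1.asIdeal.map (algebraMap A (Localization.AtPrime q.1.asIdeal))) :=
    Ideal.mem_map_of_mem _ hx
  rw [← h1, Ideal.map_bot] at h2
  obtain ⟨n, hn⟩ := h2
  exact ⟨n, by simpa using hn⟩

/-- "Orthogonal" elements: `e p` is a unit at `p` and zero at all other minimal primes. -/
theorem exists_orthogonal [IsNoetherianRing A] (p : MinPrime A) :
    ∃ e : A, e ∉ p.1.asIdeal ∧
      ∀ q : MinPrime A, q ≠ p → algebraMap A (Localization.AtPrime q.1.asIdeal) e = 0 := by
  classical
  have : Finite (MinPrime A) := finite_minPrime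
  haveI : Fintype (MinPrime A) := Fintype.ofFinite _
  let K : MinPrime A → Ideal A := fun q =>
    RingHom.ker (algebraMap A (Localization.AtPrime q.1.asIdeal))
  have hK : ∀ q : MinPrime A, q ≠ p → ¬ K q ≤ p.1.asIdeal := by
    intro q hqp hle
    have hnle : ¬ q.1.asIdeal ≤ p.1.asIdeal := by
      intro h
      have : p.1.asIdeal ≤ q.1.asIdeal := p.2.2 ⟨q.1.isPrime, bot_le⟩ h
      exact hqp (Subtype.ext (PrimeSpectrum.ext (le_antisymm h this)))
    obtain ⟨x, hxq, hxp⟩ := SetLike.not_le_iff_exists.mp hnle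
    obtain ⟨n, hn⟩ := isNilpotent_algebraMap_of_mem_minimalPrime q hxq
    have : x ^ n ∈ K q := by
      change algebraMap A (Localization.AtPrime q.1.asIdeal) (x ^ n) = 0
      rw [map_pow, hn]
    exact hxp (p.1.isPrime.mem_of_pow_mem n (hle this))
  have hinf : ¬ ((Finset.univ.erase p).inf K ≤ p.1.asIdeal) := by
    intro hle
    obtain ⟨q, hq, hqle⟩ := p.1.isPrime.inf_le'.mp hle
    exact hK q (Finset.ne_of_mem_erase hq) hqle
  obtain ⟨e, he, hep⟩ := SetLike.not_le_iff_exists.mp hinf
  refine ⟨e, hep, fun q hq => ?_⟩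
  have : e ∈ K q := (Finset.inf_le (Finset.mem_erase.mpr ⟨hq, Finset.mem_univ q⟩) :
    (Finset.univ.erase p).inf K ≤ K q) he
  exact this

theorem exists_common_denominator [IsNoetherianRing A] (j : LProd A) :
    ∃ s x : A, (∀ p : MinPrime A, s ∉ p.1.asIdeal) ∧
      algebraMap A (LProd A) s * j = algebraMap A (LProd A) x := by
  classical
  have : Finite (MinPrime A) := finite_minPrime
  haveI : Fintype (MinPrime A) := Fintype.ofFinite _
  have hj : ∀ p : MinPrime A, ∃ (x : A) (s : p.1.asIdeal.primeCompl),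
      IsLocalization.mk' (Localization.AtPrime p.1.asIdeal) x s = j p := fun p =>
    IsLocalization.exists_mk'_eq p.1.asIdeal.primeCompl (j p)
  choose x s hxs using hj
  choose e he1 he2 using fun p : MinPrime A => exists_orthogonal p
  have hsum : ∀ (f : MinPrime A → A) (p : MinPrime A),
      algebraMap A (Localization.AtPrime p.1.asIdeal) (∑ q, e q * f q) =
        algebraMap A (Localization.AtPrime p.1.asIdeal) (e p * f p) := by
    intro f p
    rw [map_sum]
    refine Finset.sum_eq_single p (fun q _ hqp => ?_) (fun h => absurd (Finset.mem_univ p) h)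
    rw [map_mul, he2 q p (Ne.symm hqp), zero_mul]
  refine ⟨∑ q, e q * (s q : A), ∑ q, e q * x q, fun p hp => ?_, ?_⟩
  · have h1 : IsUnit (algebraMap A (Localization.AtPrime p.1.asIdeal) (e p * (s p : A))) := by
      rw [IsLocalization.AtPrime.isUnit_to_map_iff (Localization.AtPrime p.1.asIdeal) p.1.asIdeal]
      exact p.1.asIdeal.primeCompl.mul_mem (he1 p) (s p).2
    rw [← hsum (fun q => (s q : A)) p,
      IsLocalization.AtPrime.isUnit_to_map_iff (Localization.AtPrime p.1.asIdeal) p.1.asIdeal] at h1
    exact h1 hp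
  · funext p
    rw [Pi.mul_apply, Pi.algebraMap_apply, Pi.algebraMap_apply, hsum, hsum, map_mul, map_mul,
      ← hxs p, mul_assoc, IsLocalization.mk'_spec']

theorem exists_pow_mul_mem_range [IsLocalRing A] [IsNoetherianRing A]
    (hdim : Ring.KrullDimLE 1 A) {a : A} (ha : a ∈ IsLocalRing.maximalIdeal A) (j : LProd A) :
    ∃ N : ℕ, ∀ n, N ≤ n →
      algebraMap A (LProd A) a ^ n * j ∈ (algebraMap A (LProd A)).range := by
  obtain ⟨s, x, hs, hsx⟩ := exists_common_denominator j
  have hprimes := Ring.krullDimLE_one_iff.mp hdim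
  have harad : a ∈ (Ideal.span {s}).radical := by
    rw [Ideal.radical_eq_sInf]
    refine Ideal.mem_sInf.mpr ?_
    rintro q ⟨hsq, hq⟩
    have hsq' : s ∈ q := hsq (Ideal.mem_span_singleton_self s)
    rcases hprimes q hq with hmin | hmax
    · exact absurd hsq' (hs ⟨⟨q, hq⟩, hmin⟩)
    · rw [IsLocalRing.eq_maximalIdeal hmax]; exact ha
  obtain ⟨N, hN⟩ := harad
  obtain ⟨c, hc⟩ := Ideal.mem_span_singleton'.mp hN
  refine ⟨N, fun n hn => ⟨a ^ (n - N) * c * x, ?_⟩⟩
  have hn' : n = (n - N) + N := (Nat.sub_add_cancel hn).symm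
  conv_rhs => rw [hn', pow_add]
  rw [map_mul, map_mul, ← hsx, map_pow, ← map_pow _ a N, ← hc, map_mul]
  ring

theorem exists_pow_mem_range [IsLocalRing A] [IsNoetherianRing A]
    (hdim : Ring.KrullDimLE 1 A) {a : A} (ha : a ∈ IsLocalRing.maximalIdeal A) (i : LProd A)
    (hi : i ∈ (nilradical A).map (algebraMap A (LProd A))) :
    ∃ n : ℕ, 0 < n ∧ (i + algebraMap A (LProd A) a) ^ n ∈ (algebraMap A (LProd A)).range := by
  classical
  obtain ⟨e, he⟩ := IsNoetherianRing.isNilpotent_nilradical A
  have hie : i ^ e = 0 := by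
    have h1 : i ^ e ∈ ((nilradical A).map (algebraMap A (LProd A))) ^ e := Ideal.pow_mem_pow hi e
    rw [← Ideal.map_pow, he, Ideal.zero_eq_bot, Ideal.map_bot] at h1
    exact h1
  choose N hN using fun k : ℕ => exists_pow_mul_mem_range hdim ha (i ^ k)
  let M := (Finset.range e).sup N
  refine ⟨M + e + 1, Nat.succ_pos _, ?_⟩
  rw [add_pow]
  refine Subring.sum_mem _ fun k hk => ?_
  have hkn : k ≤ M + e + 1 := Nat.lt_succ_iff.mp (Finset.mem_range.mp hk)
  refine Subring.mul_mem _ ?_ (natCast_mem _ _)
  by_cases hke : k < e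
  · have hNk : N k ≤ M + e + 1 - k := by
      have : N k ≤ M := Finset.le_sup (f := N) (Finset.mem_range.mpr hke)
      omega
    have := hN k _ hNk
    rwa [mul_comm] at this
  · have : i ^ k = 0 := by
      have hk' : k = e + (k - e) := by omega
      rw [hk', pow_add, hie, zero_mul]
    rw [this, zero_mul]
    exact Subring.zero_mem _

end Groth.Agent.H38
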