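import Groth.Agent.H38.OneDimLocal
import Mathlib.RingTheory.Localization.Away.Basic
import Mathlib.RingTheory.Ideal.MinimalPrime.Localization
import Mathlib.Algebra.Group.Pi.Units

set_option autoImplicit false
universe u

namespace Groth.Agent.H38

variable {A : Type u} [CommRing A]

/-- An element vanishing in all localizations at minimal primes of a one-dimensional Noetherian
local ring is killed by a power of the maximal ideal. -/
theorem exists_pow_le_annihilator [IsLocalRing A] [IsNoetherianRing A]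
    (hdim : Ring.KrullDimLE 1 A) (d : A)
    (hd : ∀ p : MinPrime A, algebraMap A (Localization.AtPrime p.1.asIdeal) d = 0) :
    ∃ N : ℕ, ∀ b ∈ IsLocalRing.maximalIdeal A ^ N, b * d = 0 := by
  have hprimes := Ring.krullDimLE_one_iff.mp hdim
  let J : Ideal A := (Ideal.span {d}).annihilator
  have hJmem : ∀ x, x ∈ J ↔ x * d = 0 := fun x => by
    simp only [J, Submodule.mem_annihilator_span_singleton, smul_eq_mul]
  have hle : IsLocalRing.maximalIdeal A ≤ J.radical := by
    rw [Ideal.radical_eq_sInf]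
    refine le_sInf ?_
    rintro q ⟨hJq, hq⟩
    rcases hprimes q hq with hmin | hmax
    · exfalso
      have := hd ⟨⟨q, hq⟩, hmin⟩
      rw [IsLocalization.map_eq_zero_iff q.primeCompl] at this
      obtain ⟨c, hc⟩ := this
      exact c.2 (hJq ((hJmem _).mpr hc))
    · rw [IsLocalRing.eq_maximalIdeal hmax]
  obtain ⟨N, hN⟩ := Ideal.exists_radical_pow_le_of_fg J (IsNoetherian.noetherian _)
  exact ⟨N, fun b hb => (hJmem b).mp (((Ideal.pow_right_mono hle N).trans hN) hb)⟩

theorem maximalIdeal_notMem_minimalPrimes [IsLocalRing A] (hdim : ringKrullDim A = 1) :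
    IsLocalRing.maximalIdeal A ∉ minimalPrimes A := by
  intro hmin
  have h0 : Ring.KrullDimLE 0 A := by
    rw [Ring.krullDimLE_zero_iff]
    intro q hq
    have h1 : q ≤ IsLocalRing.maximalIdeal A := IsLocalRing.le_maximalIdeal hq.ne_top
    have h2 : IsLocalRing.maximalIdeal A ≤ q := hmin.2 ⟨hq, bot_le⟩ h1
    rw [le_antisymm h1 h2]
    exact IsLocalRing.maximalIdeal.isMaximal A
  have := Ring.krullDimLE_iff.mp h0
  rw [hdim] at this
  exact absurd this (by decide)

theorem exists_mem_maximalIdeal_notMem_minimalPrimes [IsLocalRing A] [IsNoetherianRing A]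
    (hdim : ringKrullDim A = 1) :
    ∃ f ∈ IsLocalRing.maximalIdeal A, ∀ p ∈ minimalPrimes A, f ∉ p := by
  by_contra hcon
  push Not at hcon
  have hsub : ((IsLocalRing.maximalIdeal A : Ideal A) : Set A) ⊆
      ⋃ p ∈ minimalPrimes A, ((id p : Ideal A) : Set A) := by
    intro f hf
    obtain ⟨p, hp, hfp⟩ := hcon f hf
    exact Set.mem_biUnion hp hfp
  obtain ⟨p, hp, hle⟩ := (Ideal.subset_union_prime_finite
    (minimalPrimes.finite_of_isNoetherianRing A) (f := id) ⊥ ⊥
    (fun q hq _ _ => hq.1.1)).mp hsub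
  have h1 : p ≤ IsLocalRing.maximalIdeal A := IsLocalRing.le_maximalIdeal hp.1.1.ne_top
  have : IsLocalRing.maximalIdeal A = p := le_antisymm hle h1
  exact maximalIdeal_notMem_minimalPrimes hdim (this ▸ hp)

theorem maximalIdeal_eq_radical_iff [IsLocalRing A] [IsNoetherianRing A]
    (hdim : ringKrullDim A = 1) {f : A} (hf : f ∈ IsLocalRing.maximalIdeal A) :
    (IsLocalRing.maximalIdeal A = (Ideal.span {f}).radical) ↔ ∀ p ∈ minimalPrimes A, f ∉ p := by
  have hdim1 : Ring.KrullDimLE 1 A := Ring.krullDimLE_iff.mpr (le_of_eq hdim)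
  have hprimes := Ring.krullDimLE_one_iff.mp hdim1
  constructor
  · intro h p hp hfp
    have h1 : (Ideal.span {f}).radical ≤ p :=
      hp.1.1.radical_le_iff.mpr ((Ideal.span_singleton_le_iff_mem p).mpr hfp)
    rw [← h] at h1
    have h2 : p ≤ IsLocalRing.maximalIdeal A := IsLocalRing.le_maximalIdeal hp.1.1.ne_top
    exact maximalIdeal_notMem_minimalPrimes hdim (le_antisymm h1 h2 ▸ hp)
  · intro h
    apply le_antisymm
    · rw [Ideal.radical_eq_sInf]
      refine le_sInf ?_
      rintro q ⟨hfq, hq⟩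
      rcases hprimes q hq with hmin | hmax
      · exact absurd (hfq (Ideal.mem_span_singleton_self f)) (h q hmin)
      · rw [IsLocalRing.eq_maximalIdeal hmax]
    · exact (IsLocalRing.maximalIdeal.isMaximal A).isPrime.radical_le_iff.mpr
        ((Ideal.span_singleton_le_iff_mem _).mpr hf)

theorem isUnit_algebraMap_LProd_iff {f : A} :
    IsUnit (algebraMap A (LProd A) f) ↔ ∀ p : MinPrime A, f ∉ p.1.asIdeal := by
  rw [Pi.isUnit_iff]
  refine forall_congr' fun p => ?_
  rw [Pi.algebraMap_apply,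
    IsLocalization.AtPrime.isUnit_to_map_iff (Localization.AtPrime p.1.asIdeal) p.1.asIdeal]
  rfl

theorem isLocalization_away_LProd [IsLocalRing A] [IsNoetherianRing A]
    (hdim : Ring.KrullDimLE 1 A) {f : A} (hf : f ∈ IsLocalRing.maximalIdeal A)
    (hfp : ∀ p : MinPrime A, f ∉ p.1.asIdeal) : IsLocalization.Away f (LProd A) := by
  have hunit : IsUnit (algebraMap A (LProd A) f) := isUnit_algebraMap_LProd_iff.mpr hfp
  refine (isLocalization_iff _ _).mpr ⟨?_, ?_, ?_⟩
  · rintro ⟨_, n, rfl⟩
    rw [map_pow]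
    exact hunit.pow n
  · intro z
    obtain ⟨N, hN⟩ := exists_pow_mul_mem_range hdim hf z
    obtain ⟨x, hx⟩ := hN N le_rfl
    refine ⟨⟨x, ⟨f ^ N, N, rfl⟩⟩, ?_⟩
    rw [hx, map_pow, mul_comm]
  · intro x y hxy
    have hd : ∀ p : MinPrime A, algebraMap A (Localization.AtPrime p.1.asIdeal) (x - y) = 0 := by
      intro p
      have := congrFun hxy p
      rw [Pi.algebraMap_apply, Pi.algebraMap_apply] at this
      rw [map_sub, this, sub_self]
    obtain ⟨N, hN⟩ := exists_pow_le_annihilator hdim (x - y) hd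
    refine ⟨⟨f ^ N, N, rfl⟩, ?_⟩
    have := hN (f ^ N) (Ideal.pow_mem_pow hf N)
    rw [mul_sub, sub_eq_zero] at this
    exact this

end Groth.Agent.H38
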