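import Groth.Agent.H38.OneDimLocal2
import Groth.Prelude.Def_CAlg
import Mathlib.RingTheory.LocalRing.ResidueField.Ideal
import Mathlib.RingTheory.LocalProperties.Reduced

set_option autoImplicit false
universe u

open scoped nonZeroDivisors

namespace Groth.Agent.H38

variable {A : Type u} [CommRing A]

theorem forall_minPrime_iff {f : A} :
    (∀ p : MinPrime A, f ∉ p.1.asIdeal) ↔ ∀ p ∈ minimalPrimes A, f ∉ p :=
  ⟨fun h p hp => h ⟨⟨p, hp.1.1⟩, hp⟩, fun h p => h p.1.asIdeal p.2⟩

theorem notMem_minimalPrimes_of_mem_nonZeroDivisors {f : A} (hf : f ∈ A⁰) :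
    ∀ p ∈ minimalPrimes A, f ∉ p := fun _ hp hfp =>
  Set.disjoint_left.mp (Ideal.disjoint_nonZeroDivisors_of_mem_minimalPrimes hp) hfp hf

theorem exists_regular_of_depth_eq_one [IsLocalRing A] (h : LocCoh.depth A A = 1) :
    ∃ g ∈ IsLocalRing.maximalIdeal A, IsSMulRegular A g := by
  unfold LocCoh.depth LocCoh.idealDepth at h
  split_ifs at h with htop
  · exact absurd h (by simp)
  · by_contra hcon
    push Not at hcon
    have hle : (⨆ (rs : List A) (_ : RingTheory.Sequence.IsWeaklyRegular A rs ∧
        ∀ r ∈ rs, r ∈ IsLocalRing.maximalIdeal A), (rs.length : ℕ∞)) ≤ 0 := by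
      refine iSup₂_le fun rs hrs => ?_
      cases rs with
      | nil => simp
      | cons g rs' =>
        exfalso
        exact hcon g (hrs.2 g List.mem_cons_self)
          ((RingTheory.Sequence.isWeaklyRegular_cons_iff A g rs').mp hrs.1).1
    rw [h] at hle
    exact absurd hle (by simp)

/-- Under depth one or reducedness, an element in no minimal prime is a nonzerodivisor. -/
theorem mem_nonZeroDivisors_of_notMem_minimalPrimes [IsLocalRing A] [IsNoetherianRing A]
    (hdim : Ring.KrullDimLE 1 A) (hA : LocCoh.depth A A = 1 ∨ IsReduced A) {f : A}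
    (hfp : ∀ p ∈ minimalPrimes A, f ∉ p) : f ∈ A⁰ := by
  rw [mem_nonZeroDivisors_iff_right]
  intro x hx
  rcases hA with hdepth | hred
  · obtain ⟨g, hg, hgreg⟩ := exists_regular_of_depth_eq_one hdepth
    have hd : ∀ p : MinPrime A, algebraMap A (Localization.AtPrime p.1.asIdeal) x = 0 := by
      intro p
      rw [IsLocalization.map_eq_zero_iff p.1.asIdeal.primeCompl]
      exact ⟨⟨f, hfp p.1.asIdeal p.2⟩, by rw [mul_comm]; exact hx⟩
    obtain ⟨N, hN⟩ := exists_pow_le_annihilator hdim x hd
    have h1 : g ^ N * x = 0 := hN _ (Ideal.pow_mem_pow hg N)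
    have h2 : IsSMulRegular A (g ^ N) := hgreg.pow N
    exact h2 (by simpa using h1)
  · have hx' : x ∈ nilradical A := by
      rw [nilradical, ← Ideal.sInf_minimalPrimes]
      refine Ideal.mem_sInf.mpr fun {p} hp => ?_
      have : x * f ∈ p := by rw [hx]; exact p.zero_mem
      exact (hp.1.1.mem_or_mem this).resolve_right (hfp p hp)
    rw [nilradical_eq_zero] at hx'
    exact hx'

theorem mem_radical_span_of_notMem_minimalPrimes [IsLocalRing A]
    (hdim : Ring.KrullDimLE 1 A) {f g : A} (hf : f ∈ IsLocalRing.maximalIdeal A)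
    (hg : ∀ p ∈ minimalPrimes A, g ∉ p) : f ∈ (Ideal.span {g}).radical := by
  have hprimes := Ring.krullDimLE_one_iff.mp hdim
  rw [Ideal.radical_eq_sInf]
  refine Ideal.mem_sInf.mpr ?_
  rintro q ⟨hgq, hq⟩
  rcases hprimes q hq with hmin | hmax
  · exact absurd (hgq (Ideal.mem_span_singleton_self g)) (hg q hmin)
  · rw [IsLocalRing.eq_maximalIdeal hmax]; exact hf

theorem isLocalization_nonZeroDivisors_away [IsLocalRing A] [IsNoetherianRing A]
    (hdim : Ring.KrullDimLE 1 A) {f : A} (hf : f ∈ IsLocalRing.maximalIdeal A)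
    (hfnzd : f ∈ A⁰) : IsLocalization A⁰ (Localization.Away f) := by
  refine IsLocalization.of_le_of_exists_dvd (Submonoid.powers f) A⁰
    ((Submonoid.powers_le).mpr hfnzd) fun g hg => ?_
  obtain ⟨N, hN⟩ := mem_radical_span_of_notMem_minimalPrimes hdim hf
    (notMem_minimalPrimes_of_mem_nonZeroDivisors hg)
  exact ⟨f ^ N, ⟨N, rfl⟩, Ideal.mem_span_singleton.mp hN⟩

theorem mem_nonZeroDivisors_of_isLocalization {f : A}
    (h : IsLocalization A⁰ (Localization.Away f)) : f ∈ A⁰ := by
  have hunit : IsUnit (algebraMap A (Localization.Away f) f) :=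
    IsLocalization.Away.algebraMap_isUnit f
  obtain ⟨m, hm, c, rfl⟩ := (IsLocalization.algebraMap_isUnit_iff (M := A⁰)).mp hunit
  exact (mul_mem_nonZeroDivisors.mp hm).1

/-- For a reduced ring, the localization at a minimal prime is its residue field. -/
theorem maximalIdeal_localization_eq_bot [IsReduced A] (p : MinPrime A) :
    IsLocalRing.maximalIdeal (Localization.AtPrime p.1.asIdeal) = ⊥ := by
  have h1 := IsLocalization.AtPrime.radical_map_of_mem_minimalPrimes
    (A := Localization.AtPrime p.1.asIdeal) p.1.asIdeal ⊥ p.2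
  rw [← IsLocalization.AtPrime.map_eq_maximalIdeal p.1.asIdeal, ← h1, Ideal.map_bot]
  have : IsReduced (Localization.AtPrime p.1.asIdeal) := inferInstance
  exact nilradical_eq_zero _

/-- The comparison of the localization at a minimal prime with the residue field, for a reduced
ring. -/
noncomputable def localizationEquivResidueField [IsReduced A] (p : MinPrime A) :
    Localization.AtPrime p.1.asIdeal ≃ₐ[A] p.1.asIdeal.ResidueField :=
  AlgEquiv.ofBijective
    (IsScalarTower.toAlgHom A (Localization.AtPrime p.1.asIdeal) p.1.asIdeal.ResidueField) (by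
      constructor
      · rw [IsScalarTower.coe_toAlgHom', RingHom.injective_iff_ker_eq_bot]
        change RingHom.ker (IsLocalRing.residue _) = ⊥
        rw [IsLocalRing.ker_residue]
        exact maximalIdeal_localization_eq_bot p
      · exact IsLocalRing.residue_surjective)

end Groth.Agent.H38
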