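import Mathlib
import Groth.Prelude.Def_Curv2
import Groth.Agent.H7.FieldResidue

/-!
# The fibre of `X_K ⟶ X` over a rational point is a single point
-/

set_option autoImplicit false
universe u

open CategoryTheory CategoryTheory.Limits AlgebraicGeometry

namespace Groth.Agent.H38.RatFibre

variable (k : Type u) [Field k] (X : Scheme.{u}) [X.Over (Spec (CommRingCat.of k))]
  (K : Type u) [Field K] [Algebra k K]

lemma isIso_residueFieldMap_of_rational (x : X)
    (hx : Function.Surjective (Curv2.resMap k X x)) :
    IsIso ((X ↘ Spec (CommRingCat.of k)).residueFieldMap x) := by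
  have h1 := Groth.Agent.H7.resMap_eq k X x
  have hsurj : Function.Surjective ((X ↘ Spec (CommRingCat.of k)).residueFieldMap x).hom := by
    intro z
    obtain ⟨c, hc⟩ := hx z
    rw [h1] at hc
    exact ⟨(Groth.Agent.H7.fieldToResidue k _).hom c, hc⟩
  have hbij : Function.Bijective ((X ↘ Spec (CommRingCat.of k)).residueFieldMap x).hom :=
    ⟨((X ↘ Spec (CommRingCat.of k)).residueFieldMap x).hom.injective, hsurj⟩
  exact (ConcreteCategory.isIso_iff_bijective _).mpr hbij

theorem eq_of_bcFst_eq_of_rational (y y' : ↥(Curv2.bc k X K))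
    (hx : Function.Surjective (Curv2.resMap k X (Curv2.bcFst k X K y)))
    (h : Curv2.bcFst k X K y = Curv2.bcFst k X K y') : y = y' := by
  apply Scheme.Pullback.carrierEquiv.injective
  have hT : Scheme.Pullback.Triplet.ofPoint y = Scheme.Pullback.Triplet.ofPoint y' :=
    Scheme.Pullback.Triplet.ext h (Subsingleton.elim _ _)
  change (⟨Scheme.Pullback.Triplet.ofPoint y, Scheme.Pullback.SpecOfPoint y⟩ :
    Σ T : Scheme.Pullback.Triplet _ _, Spec T.tensor) =
      ⟨Scheme.Pullback.Triplet.ofPoint y', Scheme.Pullback.SpecOfPoint y'⟩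
  rw [Scheme.Pullback.carrierEquiv_eq_iff]
  refine ⟨hT, ?_⟩
  haveI := isIso_residueFieldMap_of_rational k X _ hx
  -- the tensor ring of the triplet of `y'` is a field
  have hiso : IsIso (Scheme.Pullback.Triplet.ofPoint y).tensorInr := by
    unfold Scheme.Pullback.Triplet.tensorInr Scheme.Pullback.Triplet.tensor
    haveI : IsIso (((Spec (CommRingCat.of k)).residueFieldCongr
        (Scheme.Pullback.Triplet.ofPoint y).hx).inv ≫
        (X ↘ Spec (CommRingCat.of k)).residueFieldMap (Scheme.Pullback.Triplet.ofPoint y).x) :=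
      IsIso.comp_isIso' inferInstance this
    infer_instance
  have hsub : Subsingleton ↥(Spec (Scheme.Pullback.Triplet.ofPoint y').tensor) := by
    rw [← hT]
    have e : Spec (Scheme.Pullback.Triplet.ofPoint y).tensor ≅
        Spec ((Spec (CommRingCat.of K)).residueField (Scheme.Pullback.Triplet.ofPoint y).y) :=
      asIso (Spec.map (Scheme.Pullback.Triplet.ofPoint y).tensorInr)
    haveI : Subsingleton ↥(Spec ((Spec (CommRingCat.of K)).residueField
        (Scheme.Pullback.Triplet.ofPoint y).y)) :=
      inferInstanceAs (Subsingleton (PrimeSpectrum _))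
    exact e.hom.homeomorph.injective.subsingleton
  exact Subsingleton.elim _ _

end Groth.Agent.H38.RatFibre
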