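import Mathlib

/-!
# Finiteness of relative normalizations: reduction to affine pieces
-/

set_option autoImplicit false
universe u

open AlgebraicGeometry CategoryTheory

namespace Groth.Agent.H38.RelNormFinite

variable {X S : Scheme.{u}} (f : X ⟶ S) [QuasiCompact f] [QuasiSeparated f]

/-- The relative normalization is finite as soon as the integral closures over all affine
opens of the base are finite. -/
theorem isFinite_fromNormalization_of_finite_integralClosure
    (h : ∀ (U : S.Opens) (_ : IsAffineOpen U),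
      letI := (f.app U).hom.toAlgebra
      Module.Finite Γ(S, U) (integralClosure Γ(S, U) Γ(X, f ⁻¹ᵁ U))) :
    IsFinite f.fromNormalization := by
  refine ⟨fun U hU => ?_⟩
  letI := (f.app U).hom.toAlgebra
  have h1 := f.fromNormalization_app hU
  have h2 : (f.fromNormalization.app U).hom =
      (f.normalizationObjIso hU).inv.hom.comp
        (algebraMap Γ(S, U) (integralClosure Γ(S, U) Γ(X, f ⁻¹ᵁ U))) := by
    rw [h1]; rfl
  rw [h2]
  refine RingHom.Finite.comp ?_ ?_
  · apply RingHom.Finite.of_surjective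
    exact (ConcreteCategory.bijective_of_isIso (f.normalizationObjIso hU).inv).2
  · exact h U hU

/-- Finiteness of the integral closure in the sections over a quasi-compact preimage follows
from finiteness over the members of a finite affine cover (over a Noetherian base ring). -/
theorem finite_integralClosure_of_affine_pieces {U : S.Opens} (hU : IsAffineOpen U)
    [IsNoetherianRing Γ(S, U)]
    (h : ∀ (V : X.Opens) (_ : IsAffineOpen V) (e : V ≤ f ⁻¹ᵁ U),
      letI := (f.appLE U V e).hom.toAlgebra
      Module.Finite Γ(S, U) (integralClosure Γ(S, U) Γ(X, V))) :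
    letI := (f.app U).hom.toAlgebra
    Module.Finite Γ(S, U) (integralClosure Γ(S, U) Γ(X, f ⁻¹ᵁ U)) := by
  classical
  letI := (f.app U).hom.toAlgebra
  have hcomp : IsCompact (X := X) (f ⁻¹ᵁ U) := f.isCompact_preimage hU.isCompact
  obtain ⟨s, hs, hW⟩ := isCompact_iff_finite_and_eq_biUnion_affineOpens.mp hcomp
  haveI : Finite s := hs.to_subtype
  have hle : ∀ V : s, (V.1 : X.Opens) ≤ f ⁻¹ᵁ U := by
    intro V
    rw [hW]
    exact le_iSup₂ (f := fun (i : X.affineOpens) (_ : i ∈ s) => (i : X.Opens)) V.1 V.2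
  letI algV : ∀ V : s, Algebra Γ(S, U) Γ(X, (V.1 : X.Opens)) :=
    fun V => (f.appLE U V.1 (hle V)).hom.toAlgebra
  haveI : ∀ V : s, Module.Finite Γ(S, U) (integralClosure Γ(S, U) Γ(X, (V.1 : X.Opens))) :=
    fun V => h V.1 V.1.2 (hle V)
  let ρ : ∀ V : s, Γ(X, f ⁻¹ᵁ U) →ₐ[Γ(S, U)] Γ(X, (V.1 : X.Opens)) := fun V =>
    { (X.presheaf.map (homOfLE (hle V)).op).hom with
      commutes' := fun r => by
        change (X.presheaf.map (homOfLE (hle V)).op).hom ((f.app U).hom r) =
          (f.appLE U V.1 (hle V)).hom r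
        rw [Scheme.Hom.appLE]
        rfl }
  let l : integralClosure Γ(S, U) Γ(X, f ⁻¹ᵁ U) →ₗ[Γ(S, U)]
      (∀ V : s, integralClosure Γ(S, U) Γ(X, (V.1 : X.Opens))) :=
    { toFun := fun b V => ⟨ρ V (b : Γ(X, f ⁻¹ᵁ U)), b.2.map (ρ V)⟩
      map_add' := fun b b' => by
        funext V
        apply Subtype.ext
        exact map_add (ρ V) _ _
      map_smul' := fun a b => by
        funext V
        apply Subtype.ext
        exact map_smul (ρ V) a (b : Γ(X, f ⁻¹ᵁ U)) }
  have hinj : Function.Injective l := by
    intro b b' hbb'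
    apply Subtype.ext
    refine TopCat.Sheaf.eq_of_locally_eq' X.sheaf (fun V : s => (V.1 : X.Opens)) (f ⁻¹ᵁ U)
      (fun V => homOfLE (hle V)) ?_ _ _ ?_
    · rw [hW]
      refine iSup₂_le (fun i hi => ?_)
      exact le_iSup (fun V : s => (V.1 : X.Opens)) ⟨i, hi⟩
    · intro V
      exact congrArg Subtype.val (congrFun hbb' V)
  exact Module.Finite.of_injective l hinj

end Groth.Agent.H38.RelNormFinite
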