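import Mathlib
import Groth.Agent.H38.FibreHom

/-!
# Residue fields of points of affine opens are generated by sections
-/

set_option autoImplicit false
universe u

open AlgebraicGeometry CategoryTheory

namespace Groth.Agent.H38.ResidueFrac

variable {X : Scheme.{u}}

/-- Every element of the residue field at a point `x` of an affine open `U` is a quotient of
values of sections over `U`. -/
theorem exists_evaluation_mul_eq {U : X.Opens} (hU : IsAffineOpen U) (x : X) (hx : x ∈ U)
    (z : X.residueField x) :
    ∃ a b : Γ(X, U), (X.evaluation U x hx).hom b ≠ 0 ∧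
      z * (X.evaluation U x hx).hom b = (X.evaluation U x hx).hom a := by
  letI : Algebra Γ(X, U) (X.presheaf.stalk x) :=
    TopCat.Presheaf.algebra_section_stalk X.presheaf ⟨x, hx⟩
  haveI hloc : IsLocalization.AtPrime (X.presheaf.stalk x) (hU.primeIdealOf ⟨x, hx⟩).asIdeal :=
    hU.isLocalization_stalk ⟨x, hx⟩
  obtain ⟨w, rfl⟩ : ∃ w : X.presheaf.stalk x, (X.residue x).hom w = z :=
    IsLocalRing.residue_surjective z
  obtain ⟨⟨a, b⟩, hab⟩ := IsLocalization.surj (hU.primeIdealOf ⟨x, hx⟩).asIdeal.primeCompl w
  refine ⟨a, b, ?_, ?_⟩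
  · intro h0
    have : (b : Γ(X, U)) ∈ RingHom.ker (X.evaluation U x hx).hom := h0
    rw [Groth.Agent.H38.ker_evaluation hU x hx] at this
    exact b.2 this
  · change (X.residue x).hom w * (X.residue x).hom (algebraMap _ _ (b : Γ(X, U))) =
      (X.residue x).hom (algebraMap _ _ a)
    rw [← map_mul, hab]

end Groth.Agent.H38.ResidueFrac
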