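import Mathlib.RingTheory.Localization.AtPrime.Basic
import Mathlib.RingTheory.Localization.Ideal
import Mathlib.RingTheory.Spectrum.Maximal.Defs
import Mathlib.RingTheory.Spectrum.Prime.Basic
import Mathlib.RingTheory.Ideal.Operations

set_option autoImplicit false
universe u

namespace Groth.Agent.H38

variable {A : Type u} [CommRing A] {r : ℕ} (p : Fin r → PrimeSpectrum A)

/-- The complement of the union of finitely many primes. -/
abbrev unionCompl : Submonoid A := ⨅ i, (p i).asIdeal.primeCompl

theorem mem_unionCompl {x : A} : x ∈ unionCompl p ↔ ∀ i, x ∉ (p i).asIdeal := by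
  simp [unionCompl, Submonoid.mem_iInf, Ideal.mem_primeCompl_iff]

theorem disjoint_unionCompl_of_le {q : Ideal A} {i : Fin r} (h : q ≤ (p i).asIdeal) :
    Disjoint (unionCompl p : Set A) q := by
  rw [Set.disjoint_left]
  intro x hx hxq
  exact (mem_unionCompl p).mp hx i (h hxq)

theorem exists_le_of_disjoint_unionCompl {q : Ideal A}
    (h : Disjoint (unionCompl p : Set A) q) : ∃ i, q ≤ (p i).asIdeal := by
  by_cases hr : Nonempty (Fin r)
  · obtain ⟨a⟩ := hr
    have hsub : (q : Set A) ⊆ ⋃ i ∈ ((Finset.univ : Finset (Fin r)) : Set (Fin r)),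
        ((p i).asIdeal : Set A) := by
      intro x hx
      by_contra hcon
      simp only [Finset.coe_univ, Set.mem_univ, Set.iUnion_true, Set.mem_iUnion, SetLike.mem_coe,
        not_exists] at hcon
      exact Set.disjoint_left.mp h ((mem_unionCompl p).mpr hcon) hx
    obtain ⟨i, -, hi⟩ := (Ideal.subset_union_prime (s := Finset.univ)
      (f := fun i => (p i).asIdeal) a a (fun i _ _ _ => (p i).isPrime)).mp hsub
    exact ⟨i, hi⟩
  · exfalso
    have h0 : (0 : A) ∈ unionCompl p := (mem_unionCompl p).mpr fun i => (hr ⟨i⟩).elim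
    exact Set.disjoint_left.mp h h0 q.zero_mem

local notation "L" => Localization (unionCompl p)

theorem comap_maximal_eq {m : Ideal L} (hm : m.IsMaximal) :
    ∃ i, m.comap (algebraMap A L) = (p i).asIdeal ∧
      ∀ j, m.comap (algebraMap A L) ≤ (p j).asIdeal →
        m.comap (algebraMap A L) = (p j).asIdeal := by
  have hmp : m.IsPrime := hm.isPrime
  obtain ⟨hq, hdisj⟩ := (IsLocalization.isPrime_iff_isPrime_disjoint (unionCompl p) L m).mp hmp
  have key : ∀ j, m.comap (algebraMap A L) ≤ (p j).asIdeal →
      m.comap (algebraMap A L) = (p j).asIdeal := by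
    intro j hj
    have hdj := disjoint_unionCompl_of_le p (le_refl (p j).asIdeal)
    have hPj := IsLocalization.isPrime_of_isPrime_disjoint (unionCompl p) L _ (p j).isPrime hdj
    have hle : m ≤ Ideal.map (algebraMap A L) (p j).asIdeal := by
      rw [← IsLocalization.map_under (unionCompl p) L m]
      exact Ideal.map_mono hj
    have heq := hm.eq_of_le hPj.ne_top hle
    rw [heq]
    exact IsLocalization.under_map_of_isPrime_disjoint (unionCompl p) L (p j).isPrime hdj
  obtain ⟨i, hi⟩ := exists_le_of_disjoint_unionCompl p hdisj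
  exact ⟨i, key i hi, key⟩

theorem bijOn_comap_maximal :
    Set.BijOn (fun m : Ideal L => m.comap (algebraMap A L)) {m | m.IsMaximal}
      {q | q ∈ Set.range (fun i => (p i).asIdeal) ∧
        ∀ j, q ≤ (p j).asIdeal → q = (p j).asIdeal} := by
  refine ⟨?_, ?_, ?_⟩
  · intro m hm
    obtain ⟨i, hi, hkey⟩ := comap_maximal_eq p hm
    exact ⟨⟨i, hi.symm⟩, hkey⟩
  · intro m₁ _ m₂ _ h
    have h' : m₁.comap (algebraMap A L) = m₂.comap (algebraMap A L) := h
    rw [← IsLocalization.map_under (unionCompl p) L m₁, ← IsLocalization.map_under (unionCompl p) L m₂]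
    exact congrArg (Ideal.map (algebraMap A L)) h'
  · rintro q ⟨⟨i, rfl⟩, hmax⟩
    have hdi := disjoint_unionCompl_of_le p (le_refl (p i).asIdeal)
    have hPi := IsLocalization.isPrime_of_isPrime_disjoint (unionCompl p) L _ (p i).isPrime hdi
    have hcomap := IsLocalization.under_map_of_isPrime_disjoint (unionCompl p) L (p i).isPrime hdi
    refine ⟨Ideal.map (algebraMap A L) (p i).asIdeal, ?_, hcomap⟩
    obtain ⟨M, hM, hle⟩ := Ideal.exists_le_maximal _ hPi.ne_top
    obtain ⟨j, hj, -⟩ := comap_maximal_eq p hM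
    have h1 : (p i).asIdeal ≤ (p j).asIdeal := by
      rw [← hj]
      intro x hx
      exact hle (Ideal.mem_map_of_mem _ hx)
    have h2 : (p i).asIdeal = (p j).asIdeal := hmax j h1
    have h3 : M = Ideal.map (algebraMap A L) (p i).asIdeal := by
      rw [← IsLocalization.map_under (unionCompl p) L M]
      exact congrArg (Ideal.map (algebraMap A L)) (hj.trans h2.symm)
    change (Ideal.map (algebraMap A L) (p i).asIdeal).IsMaximal
    rw [← h3]
    exact hM

theorem finite_maximalSpectrum : Finite (MaximalSpectrum L) := by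
  have h : ∀ m : MaximalSpectrum L, ∃ i, m.asIdeal.comap (algebraMap A L) = (p i).asIdeal :=
    fun m => by
      obtain ⟨i, hi, -⟩ := comap_maximal_eq p m.isMaximal
      exact ⟨i, hi⟩
  choose f hf using h
  refine Finite.of_injective f ?_
  intro m₁ m₂ h12
  apply MaximalSpectrum.ext
  rw [← IsLocalization.map_under (unionCompl p) L m₁.asIdeal,
    ← IsLocalization.map_under (unionCompl p) L m₂.asIdeal]
  have : m₁.asIdeal.comap (algebraMap A L) = m₂.asIdeal.comap (algebraMap A L) := by
    rw [hf m₁, hf m₂, h12]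
  exact congrArg (Ideal.map (algebraMap A L)) this

end Groth.Agent.H38
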