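import Groth.Prelude.Def_W4stktopologysheavesBas
import Mathlib.Topology.Bases
import Mathlib.Topology.Sets.Opens

set_option autoImplicit false
universe u

open TopologicalSpace ShB

namespace Groth.Agent.H38

variable {X : Type u} [TopologicalSpace X] {B : Set (Opens X)}

/-- Separatedness of a presheaf on a basis with respect to all coverings by members. -/
def SepFor (F : Pre B) : Prop :=
  ∀ (T : B) (ι : Type u) (V : ι → B) (hV : ∀ i, (V i : Opens X) ≤ (T : Opens X))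
    (_ : (T : Opens X) ≤ ⨆ i, (V i : Opens X)) (a b : F.obj T),
    (∀ i, F.res (hV i) a = F.res (hV i) b) → a = b

theorem uniq_of_gluesUniquely {F : Pre B} {c : Cover B} (h : GluesUniquely F c)
    (a b : F.obj c.U) (hab : ∀ i, F.res (c.V_le i) a = F.res (c.V_le i) b) : a = b := by
  obtain ⟨t, -, huniq⟩ := h (fun i => F.res (c.V_le i) a) (fun i j k => by
    rw [F.res_comp, F.res_comp])
  rw [huniq a (fun _ => rfl), huniq b (fun i => (hab i).symm)]

theorem sepFor_of_cofinal {F : Pre B} (C : ∀ U : B, Set (Cover B))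
    (hCU : ∀ U, ∀ c ∈ C U, c.U = U)
    (hC : ∀ (U : B) (ι : Type u) (V : ι → B), (∀ i, (V i : Opens X) ≤ (U : Opens X)) →
      (U : Opens X) ≤ ⨆ i, (V i : Opens X) →
      ∃ c ∈ C U, ∀ i' : c.ι, ∃ i, (c.V i' : Opens X) ≤ (V i : Opens X))
    (huniq : ∀ U, ∀ c ∈ C U, ∀ a b : F.obj c.U,
      (∀ i, F.res (c.V_le i) a = F.res (c.V_le i) b) → a = b) : SepFor F := by
  intro T ι V hV hcov a b hab
  obtain ⟨c, hc, href⟩ := hC T ι V hV hcov
  have hU := hCU T c hc
  subst hU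
  apply huniq c.U c hc a b
  intro i'
  obtain ⟨i, hi⟩ := href i'
  have := congrArg (F.res hi) (hab i)
  rw [F.res_comp, F.res_comp] at this
  exact this

theorem exists_basis_mem_le (hB : Opens.IsBasis B) {U : Opens X} {x : X} (hx : x ∈ U) :
    ∃ V : B, x ∈ (V : Opens X) ∧ (V : Opens X) ≤ U := by
  obtain ⟨V, hVB, hxV, hVU⟩ := Opens.isBasis_iff_nbhd.mp hB hx
  exact ⟨⟨V, hVB⟩, hxV, hVU⟩

/-- Compatible families agree on every member inside a pairwise intersection. -/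
theorem agree_of_sepFor (hB : Opens.IsBasis B) {F : Pre B} (hsep : SepFor F) (c : Cover B)
    (s : ∀ i, F.obj (c.V i))
    (hs : ∀ i j k, F.res (c.W_le_left i j k) (s i) = F.res (c.W_le_right i j k) (s j))
    (T : B) (i j : c.ι) (hTi : (T : Opens X) ≤ (c.V i : Opens X))
    (hTj : (T : Opens X) ≤ (c.V j : Opens X)) : F.res hTi (s i) = F.res hTj (s j) := by
  refine hsep T {V : B // (V : Opens X) ≤ (T : Opens X) ∧ ∃ k, (V : Opens X) ≤ (c.W i j k : Opens X)}
    (fun V => V.1) (fun V => V.2.1) ?_ _ _ ?_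
  · intro x hx
    have hx' : x ∈ (c.V i : Opens X) ⊓ (c.V j : Opens X) := ⟨hTi hx, hTj hx⟩
    obtain ⟨k, hk⟩ := Opens.mem_iSup.mp (c.W_cover i j hx')
    obtain ⟨V, hxV, hV⟩ := exists_basis_mem_le hB (U := (T : Opens X) ⊓ (c.W i j k : Opens X))
      ⟨hx, hk⟩
    exact Opens.mem_iSup.mpr ⟨⟨V, hV.trans inf_le_left, k, hV.trans inf_le_right⟩, hxV⟩
  · rintro ⟨V, hVT, k, hVk⟩
    rw [F.res_comp, F.res_comp]
    have := congrArg (F.res hVk) (hs i j k)
    rw [F.res_comp, F.res_comp] at this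
    exact this

/-- The sheaf condition may be checked on a cofinal system of coverings. -/
theorem isSheaf_of_cofinal (hB : Opens.IsBasis B) {F : Pre B} (C : ∀ U : B, Set (Cover B))
    (hCU : ∀ U, ∀ c ∈ C U, c.U = U)
    (hC : ∀ (U : B) (ι : Type u) (V : ι → B), (∀ i, (V i : Opens X) ≤ (U : Opens X)) →
      (U : Opens X) ≤ ⨆ i, (V i : Opens X) →
      ∃ c ∈ C U, ∀ i' : c.ι, ∃ i, (c.V i' : Opens X) ≤ (V i : Opens X))
    (h : ∀ U, ∀ c ∈ C U, GluesUniquely F c) : IsSheaf F := by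
  have hsep : SepFor F := sepFor_of_cofinal C hCU hC fun U c hc a b hab =>
    uniq_of_gluesUniquely (h U c hc) a b hab
  intro c₀ s hs
  obtain ⟨c, hc, href⟩ := hC c₀.U c₀.ι c₀.V c₀.V_le c₀.V_cover
  choose α hα using href
  have hU : c.U = c₀.U := hCU c₀.U c hc
  have e : (c₀.U : Opens X) ≤ (c.U : Opens X) := by rw [hU]
  have e' : (c.U : Opens X) ≤ (c₀.U : Opens X) := by rw [hU]
  obtain ⟨t', ht', huniq'⟩ := h c₀.U c hc (fun i' => F.res (hα i') (s (α i'))) (by
    intro i' j' k'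
    rw [F.res_comp, F.res_comp]
    exact agree_of_sepFor hB hsep c₀ s hs (c.W i' j' k') (α i') (α j') _ _)
  refine ⟨F.res e t', ?_, ?_⟩
  · intro i
    rw [F.res_comp]
    refine hsep (c₀.V i)
      {V : B // (V : Opens X) ≤ (c₀.V i : Opens X) ∧ ∃ i', (V : Opens X) ≤ (c.V i' : Opens X)}
      (fun V => V.1) (fun V => V.2.1) ?_ _ _ ?_
    · intro x hx
      obtain ⟨i', hi'⟩ := Opens.mem_iSup.mp (c.V_cover (e (c₀.V_le i hx)))
      obtain ⟨V, hxV, hV⟩ := exists_basis_mem_le hB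
        (U := (c₀.V i : Opens X) ⊓ (c.V i' : Opens X)) ⟨hx, hi'⟩
      exact Opens.mem_iSup.mpr ⟨⟨V, hV.trans inf_le_left, i', hV.trans inf_le_right⟩, hxV⟩
    · rintro ⟨V, hVi, i', hVi'⟩
      rw [F.res_comp]
      have h1 := congrArg (F.res hVi') (ht' i')
      rw [F.res_comp, F.res_comp] at h1
      rw [h1]
      exact agree_of_sepFor hB hsep c₀ s hs V (α i') i _ _
  · intro t₂ ht₂
    have h1 : F.res e' t₂ = t' := huniq' _ fun i' => by
      rw [F.res_comp, ← ht₂ (α i'), F.res_comp]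
    rw [← h1, F.res_comp]
    exact (F.res_id _ _).symm

/-- The covering datum attached to a covering family, with all members inside the pairwise
intersections as chosen coverings. -/
def coverOfFamily (hB : Opens.IsBasis B) (U : B) (ι : Type u) (V : ι → B)
    (hV : ∀ i, (V i : Opens X) ≤ (U : Opens X)) (hcov : (U : Opens X) ≤ ⨆ i, (V i : Opens X)) :
    Cover B where
  U := U
  ι := ι
  V := V
  V_le := hV
  V_cover := hcov
  κ := fun i j => {T : B // (T : Opens X) ≤ (V i : Opens X) ⊓ (V j : Opens X)}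
  W := fun _ _ k => k.1
  W_le_left := fun _ _ k => k.2.trans inf_le_left
  W_le_right := fun _ _ k => k.2.trans inf_le_right
  W_cover := fun i j x hx => by
    obtain ⟨T, hxT, hT⟩ := exists_basis_mem_le hB hx
    exact Opens.mem_iSup.mpr ⟨⟨T, hT⟩, hxT⟩

theorem stalkRel_equivalence (hB : Opens.IsBasis B) (F : Pre B) (x : X) :
    Equivalence (StalkRel F x) where
  refl a := ⟨a.1.1, a.1.2, le_refl _, le_refl _, rfl⟩
  symm := by
    rintro a b ⟨W, hx, ha, hb, h⟩
    exact ⟨W, hx, hb, ha, h.symm⟩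
  trans := by
    rintro a b c ⟨W, hxW, ha, hb, h1⟩ ⟨W', hxW', hb', hc, h2⟩
    obtain ⟨T, hxT, hT⟩ := exists_basis_mem_le hB (U := (W : Opens X) ⊓ (W' : Opens X))
      ⟨hxW, hxW'⟩
    refine ⟨T, hxT, (hT.trans inf_le_left).trans ha, (hT.trans inf_le_right).trans hc, ?_⟩
    have e1 := congrArg (F.res (hT.trans inf_le_left)) h1
    have e2 := congrArg (F.res (hT.trans inf_le_right)) h2
    rw [F.res_comp, F.res_comp] at e1 e2
    exact e1.trans e2

theorem germ_eq (hB : Opens.IsBasis B) (F : Pre B) {U U' : B} {x : X}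
    {hx : x ∈ (U : Opens X)} {hx' : x ∈ (U' : Opens X)} {s : F.obj U} {s' : F.obj U'}
    (h : germ F x hx s = germ F x hx' s') :
    ∃ (W : B) (_ : x ∈ (W : Opens X)) (h1 : (W : Opens X) ≤ (U : Opens X))
      (h2 : (W : Opens X) ≤ (U' : Opens X)), F.res h1 s = F.res h2 s' :=
  (stalkRel_equivalence hB F x).eqvGen_iff.mp (Quot.eqvGen_exact h)

theorem germ_res (F : Pre B) {U V : B} (hVU : (V : Opens X) ≤ (U : Opens X)) {x : X}
    (hx : x ∈ (V : Opens X)) (s : F.obj U) :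
    germ F x hx (F.res hVU s) = germ F x (hVU hx) s :=
  (Quot.sound ⟨V, hx, hVU, le_refl _, (F.res_id _ _).symm⟩).symm

theorem eq_of_germ_eq (hB : Opens.IsBasis B) {F : Pre B} (hF : IsSheaf F) {U : B}
    (s s' : F.obj U)
    (h : ∀ (x : X) (hx : x ∈ (U : Opens X)), germ F x hx s = germ F x hx s') : s = s' := by
  have : ∀ x : (U : Opens X), ∃ (W : B), x.1 ∈ (W : Opens X) ∧
      ∃ (h1 : (W : Opens X) ≤ (U : Opens X)), F.res h1 s = F.res h1 s' := by
    intro x
    obtain ⟨W, hxW, h1, h2, hW⟩ := germ_eq hB F (h x.1 x.2)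
    exact ⟨W, hxW, h1, hW⟩
  choose W hxW hWU hW using this
  let c := coverOfFamily hB U (U : Opens X) W hWU (fun x hx =>
    Opens.mem_iSup.mpr ⟨⟨x, hx⟩, hxW ⟨x, hx⟩⟩)
  exact uniq_of_gluesUniquely (hF c) s s' hW

theorem exists_of_local_germs (hB : Opens.IsBasis B) {F : Pre B} (hF : IsSheaf F) (U : B)
    (f : ∀ x : (U : Opens X), Stalk F x.1)
    (h : ∀ x : (U : Opens X), ∃ (V : B) (_ : x.1 ∈ (V : Opens X))
      (hVU : (V : Opens X) ≤ (U : Opens X)) (σ : F.obj V),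
      ∀ (y : X) (hy : y ∈ (V : Opens X)), germ F y hy σ = f ⟨y, hVU hy⟩) :
    ∃ s : F.obj U, ∀ x, germ F x.1 x.2 s = f x := by
  choose V hxV hVU σ hσ using h
  let c := coverOfFamily hB U (U : Opens X) V hVU (fun x hx =>
    Opens.mem_iSup.mpr ⟨⟨x, hx⟩, hxV ⟨x, hx⟩⟩)
  have hcompat : ∀ (x y : (U : Opens X)) (T : B)
      (hT : (T : Opens X) ≤ (V x : Opens X) ⊓ (V y : Opens X)),
      F.res (hT.trans inf_le_left) (σ x) = F.res (hT.trans inf_le_right) (σ y) := by
    intro x y T hT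
    apply eq_of_germ_eq hB hF
    intro z hz
    rw [germ_res, germ_res]
    exact (hσ x z _).trans (hσ y z _).symm
  obtain ⟨t, ht, -⟩ := hF c σ (fun x y k => hcompat x y k.1 k.2)
  refine ⟨t, fun x => ?_⟩
  have h1 : F.res (hVU x) t = σ x := ht x
  rw [← hσ x x.1 (hxV x), ← h1, germ_res]

end Groth.Agent.H38
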