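import Groth.Agent.H38.ShBasis
import Mathlib.Topology.Sheaves.SheafCondition.UniqueGluing
import Mathlib.Topology.Sheaves.SheafCondition.Sites

set_option autoImplicit false
universe u

open TopologicalSpace ShB CategoryTheory Opposite

namespace Groth.Agent.H38

variable {X : Type u} [TopologicalSpace X] {B : Set (Opens X)}

/-- Compatible families of sections over the members inside an open set. -/
def ExtSec (F : Pre B) (U : Opens X) : Type u :=
  {s : ∀ V : B, (V : Opens X) ≤ U → F.obj V //
    ∀ (V W : B) (hWV : (W : Opens X) ≤ (V : Opens X)) (hV : (V : Opens X) ≤ U),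
      F.res hWV (s V hV) = s W (hWV.trans hV)}

theorem ExtSec.ext {F : Pre B} {U : Opens X} {s t : ExtSec F U}
    (h : ∀ (V : B) (hV : (V : Opens X) ≤ U), s.1 V hV = t.1 V hV) : s = t :=
  Subtype.ext (funext fun V => funext fun hV => h V hV)

/-- Restriction of compatible families. -/
def ExtSec.res {F : Pre B} {U U' : Opens X} (h : U' ≤ U) (s : ExtSec F U) : ExtSec F U' :=
  ⟨fun V hV => s.1 V (hV.trans h), fun V W hWV hV => s.2 V W hWV (hV.trans h)⟩

/-- The presheaf on all opens extending a presheaf on a basis. -/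
def extPresheaf (F : Pre B) : (Opens X)ᵒᵖ ⥤ Type u where
  obj U := ExtSec F U.unop
  map {U U'} f := TypeCat.ofHom (ExtSec.res (leOfHom f.unop))
  map_id U := rfl
  map_comp f g := rfl

@[simp]
theorem extPresheaf_map_val (F : Pre B) {U U' : (Opens X)ᵒᵖ} (f : U ⟶ U')
    (s : (extPresheaf F).obj U) (V : B) (hV : (V : Opens X) ≤ U'.unop) :
    ((extPresheaf F).map f s).1 V hV = s.1 V (hV.trans (leOfHom f.unop)) := rfl

/-- The comparison isomorphism on the members of the basis. -/
def extIso (F : Pre B) : ShB.Iso (ShB.restrict B (extPresheaf F)) F where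
  hom :=
    { app := fun U s => s.1 U (le_refl _)
      natural := by
        intro U V h s
        exact s.2 U V h (le_refl _) }
  inv :=
    { app := fun U t => ⟨fun V hV => F.res hV t, fun V W hWV hV => F.res_comp hV hWV t⟩
      natural := by
        intro U V h t
        apply ExtSec.ext
        intro W hW
        exact (F.res_comp h hW t).symm }
  hom_inv := by
    intro U s
    apply ExtSec.ext
    intro V hV
    exact s.2 U V hV (le_refl _)
  inv_hom := by
    intro U t
    exact F.res_id U t

end Groth.Agent.H38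

namespace Groth.Agent.H38

variable {X : Type u} [TopologicalSpace X] {B : Set (Opens X)}

open TopCat.Presheaf in
theorem extPresheaf_isSheaf (hB : Opens.IsBasis B) {F : Pre B} (hF : ShB.IsSheaf F) :
    TopCat.Presheaf.IsSheaf (X := TopCat.of X) (extPresheaf F) := by
  apply isSheaf_of_isSheafUniqueGluing_types
  intro ι U sf hsf
  -- agreement of the family on common members
  have hagree : ∀ (i j : ι) (W : B) (hi : (W : Opens X) ≤ U i) (hj : (W : Opens X) ≤ U j),
      (sf i).1 W hi = (sf j).1 W hj := by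
    intro i j W hi hj
    have := congrArg (fun s : ExtSec F (U i ⊓ U j) => s.1 W (le_inf hi hj)) (hsf i j)
    exact this
  -- the local gluing on each member
  have hglue : ∀ (V : B) (hV : (V : Opens X) ≤ iSup U),
      ∃! t : F.obj V, ∀ (T : B) (hTV : (T : Opens X) ≤ (V : Opens X)) (i : ι)
        (hTi : (T : Opens X) ≤ U i), F.res hTV t = (sf i).1 T hTi := by
    intro V hV
    let κ : Type u := {p : B × ι // (p.1 : Opens X) ≤ (V : Opens X) ∧ (p.1 : Opens X) ≤ U p.2}
    let c := coverOfFamily hB V κ (fun p => p.1.1) (fun p => p.2.1) (by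
      intro x hx
      obtain ⟨i, hi⟩ := Opens.mem_iSup.mp (hV hx)
      obtain ⟨T, hxT, hT⟩ := exists_basis_mem_le hB (U := (V : Opens X) ⊓ U i) ⟨hx, hi⟩
      exact Opens.mem_iSup.mpr ⟨⟨(T, i), hT.trans inf_le_left, hT.trans inf_le_right⟩, hxT⟩)
    obtain ⟨t, ht, huniq⟩ := hF c (fun p => (sf p.1.2).1 p.1.1 p.2.2) (by
      rintro ⟨⟨T, i⟩, hTV, hTi⟩ ⟨⟨T', j⟩, hT'V, hT'j⟩ ⟨W, hW⟩
      change F.res _ ((sf i).1 T hTi) = F.res _ ((sf j).1 T' hT'j)
      rw [(sf i).2, (sf j).2]
      exact hagree i j W _ _)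
    refine ⟨t, fun T hTV i hTi => ht ⟨(T, i), hTV, hTi⟩, fun t' ht' => huniq t' ?_⟩
    rintro ⟨⟨T, i⟩, hTV, hTi⟩
    exact ht' T hTV i hTi
  choose g hg hguniq using hglue
  refine ⟨⟨g, ?_⟩, ?_, ?_⟩
  · intro V W hWV hV
    apply hguniq
    intro T hTW i hTi
    rw [F.res_comp]
    exact hg V hV T (hTW.trans hWV) i hTi
  · intro i
    apply ExtSec.ext
    intro V hV
    have := hg V (hV.trans (Opens.leSupr U i).le) V (le_refl _) i hV
    rw [F.res_id] at this
    exact this
  · intro s' hs'
    apply ExtSec.ext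
    intro V hV
    apply hguniq
    intro T hTV i hTi
    rw [s'.2]
    have := congrArg (fun s : ExtSec F (U i) => s.1 T hTi) (hs' i)
    exact this

theorem isBasis_range_val (hB : Opens.IsBasis B) :
    Opens.IsBasis (Set.range (Subtype.val : B → Opens (TopCat.of X))) := by
  rw [Subtype.range_coe]; exact hB

/-- A morphism between restrictions to a basis gives a natural transformation between the
restricted functors. -/
def natTransOfHom (G G' : (Opens X)ᵒᵖ ⥤ Type u)
    (α : ShB.Hom (ShB.restrict B G) (ShB.restrict B G')) :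
    (inducedFunctor (Subtype.val : B → Opens X)).op ⋙ G ⟶
      (inducedFunctor (Subtype.val : B → Opens X)).op ⋙ G' where
  app U := TypeCat.ofHom (α.app U.unop)
  naturality U V f := by
    ext s
    exact (α.natural (leOfHom f.unop.hom) s).symm

/-- Composite of morphisms of presheaves on a basis. -/
def Hom.comp' {F G H : Pre B} (α : ShB.Hom F G) (β : ShB.Hom G H) : ShB.Hom F H where
  app U s := β.app U (α.app U s)
  natural h s := by rw [β.natural, α.natural]

theorem existsUnique_hom_of_basis_iso (hB : Opens.IsBasis B) {F : Pre B}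
    (G G' : TopCat.Sheaf (Type u) (TopCat.of X)) (e : ShB.Iso (ShB.restrict B G.presheaf) F)
    (e' : ShB.Iso (ShB.restrict B G'.presheaf) F) :
    ∃! φ : G ⟶ G', IsIso φ ∧ ∀ (U : B) (s : G.presheaf.obj (op (U : Opens X))),
      e'.hom.app U (φ.1.app (op (U : Opens X)) s) = e.hom.app U s := by
  have hB' := isBasis_range_val hB
  let α := natTransOfHom G.presheaf G'.presheaf (Hom.comp' e.hom e'.inv)
  let φ' : G.presheaf ⟶ G'.presheaf := TopCat.Sheaf.restrictHomEquivHom G.presheaf G' hB' α
  have hφ' : ∀ (U : B), φ'.app (op (U : Opens X)) = α.app (op U) := fun U =>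
    TopCat.Sheaf.extend_hom_app G.presheaf G' hB' α U
  refine ⟨⟨φ'⟩, ⟨?_, ?_⟩, ?_⟩
  · apply TopCat.Sheaf.isIso_iff_isIso_basis hB'
    intro U
    change IsIso (φ'.app (op (U : Opens X)))
    rw [hφ' U]
    refine ⟨TypeCat.ofHom (fun t => e.inv.app U (e'.hom.app U t)), ?_, ?_⟩
    · ext s
      change e.inv.app U (e'.hom.app U (e'.inv.app U (e.hom.app U s))) = s
      rw [e'.inv_hom, e.hom_inv]
    · ext t
      change e'.inv.app U (e.hom.app U (e.inv.app U (e'.hom.app U t))) = t
      rw [e.inv_hom, e'.hom_inv]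
  · intro U s
    change e'.hom.app U (φ'.app (op (U : Opens X)) s) = _
    rw [hφ' U]
    change e'.hom.app U (e'.inv.app U (e.hom.app U s)) = _
    rw [e'.inv_hom]
  · rintro ψ ⟨-, hψ⟩
    have : ψ.1 = φ' := by
      apply TopCat.Sheaf.hom_ext G.presheaf G' hB'
      intro U
      ext s
      rw [hφ' U]
      change ψ.1.app (op (U : Opens X)) s = e'.inv.app U (e.hom.app U s)
      rw [← hψ U s, e'.hom_inv]
    exact Sheaf.hom_ext this


end Groth.Agent.H38
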