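import Mathlib.Topology.Sheaves.Skyscraper
import Mathlib.Topology.Sheaves.Stalks
import Mathlib.Topology.Sheaves.SheafCondition.UniqueGluing
import Mathlib.CategoryTheory.Limits.Types.Filtered
import Mathlib.CategoryTheory.Adjunction.Limits

set_option autoImplicit false
universe u

open CategoryTheory CategoryTheory.Limits TopologicalSpace Opposite TopCat

namespace Groth.Agent.H38

variable {X : TopCat.{u}} {J : Type u} [Preorder J] [Nonempty J] [IsDirected J (· ≤ ·)]
  (F : J ⥤ X.Sheaf (Type u)) (c : Cocone F) (hc : IsColimit c)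

/-- The stalks of a colimit of sheaves form a colimit cocone. -/
noncomputable def stalkIsColimit (x : X) :
    IsColimit ((Sheaf.forget (Type u) X ⋙ Presheaf.stalkFunctor (Type u) x).mapCocone c) :=
  isColimitOfPreserves _ hc

include hc in
/-- Sections of a filtered colimit of sheaves come locally from the members. -/
theorem colim_local_surj {U : Opens X} (σ : c.pt.1.obj (op U)) {x : X} (hx : x ∈ U) :
    ∃ (V : Opens X) (_ : x ∈ V) (hVU : V ≤ U) (i : J) (s : (F.obj i).1.obj (op V)),
      (c.ι.app i).1.app (op V) s = c.pt.1.map (homOfLE hVU).op σ := by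
  obtain ⟨i, t, ht⟩ := Types.jointly_surjective_of_isColimit (stalkIsColimit F c hc x)
    (Presheaf.germ c.pt.1 U x hx σ)
  obtain ⟨V', hxV', s', rfl⟩ := Presheaf.exists_germ_eq (F.obj i).1 t
  change (Presheaf.stalkFunctor (Type u) x).map (c.ι.app i).1 _ = _ at ht
  rw [Presheaf.stalkFunctor_map_germ_apply] at ht
  obtain ⟨W, hxW, iV, iU, hW⟩ := Presheaf.germ_eq c.pt.1 x hxV' hx _ _ ht
  refine ⟨W, hxW, leOfHom iU, i, (F.obj i).1.map iV.op s', ?_⟩
  exact (ConcreteCategory.congr_hom ((c.ι.app i).1.naturality iV.op) s').trans hW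

include hc in
/-- Sections of a member with equal image in a filtered colimit of sheaves become locally equal
further in the system. -/
theorem colim_local_inj {U : Opens X} {i : J} (s t : (F.obj i).1.obj (op U))
    (h : (c.ι.app i).1.app (op U) s = (c.ι.app i).1.app (op U) t) {x : X} (hx : x ∈ U) :
    ∃ (V : Opens X) (_ : x ∈ V) (hVU : V ≤ U) (k : J) (f : i ⟶ k),
      (F.map f).1.app (op V) ((F.obj i).1.map (homOfLE hVU).op s) =
        (F.map f).1.app (op V) ((F.obj i).1.map (homOfLE hVU).op t) := by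
  have h1 : ((Sheaf.forget (Type u) X ⋙ Presheaf.stalkFunctor (Type u) x).mapCocone c).ι.app i
      (Presheaf.germ (F.obj i).1 U x hx s) =
      ((Sheaf.forget (Type u) X ⋙ Presheaf.stalkFunctor (Type u) x).mapCocone c).ι.app i
      (Presheaf.germ (F.obj i).1 U x hx t) := by
    change (Presheaf.stalkFunctor (Type u) x).map (c.ι.app i).1 _ =
      (Presheaf.stalkFunctor (Type u) x).map (c.ι.app i).1 _
    rw [Presheaf.stalkFunctor_map_germ_apply, Presheaf.stalkFunctor_map_germ_apply, h]
  obtain ⟨k, f, hk⟩ := (Types.FilteredColimit.isColimit_eq_iff' (stalkIsColimit F c hc x) _ _).mp h1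
  change (Presheaf.stalkFunctor (Type u) x).map (F.map f).1 _ =
    (Presheaf.stalkFunctor (Type u) x).map (F.map f).1 _ at hk
  rw [Presheaf.stalkFunctor_map_germ_apply, Presheaf.stalkFunctor_map_germ_apply] at hk
  obtain ⟨W, hxW, iU, iU', hW⟩ := Presheaf.germ_eq (F.obj k).1 x hx hx _ _ hk
  refine ⟨W, hxW, leOfHom iU, k, f, ?_⟩
  have e1 := ConcreteCategory.congr_hom ((F.map f).1.naturality iU.op) s
  have e2 := ConcreteCategory.congr_hom ((F.map f).1.naturality iU'.op) t
  exact e1.trans (hW.trans e2.symm)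

end Groth.Agent.H38
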