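import Groth.Agent.H38.ShColim

set_option autoImplicit false
universe u

open CategoryTheory CategoryTheory.Limits TopologicalSpace Opposite TopCat

namespace Groth.Agent.H38

variable {X : TopCat.{u}}

/-- Restriction of sections of a sheaf. -/
abbrev sres (G : X.Sheaf (Type u)) {V W : Opens X} (h : W ≤ V) (s : G.1.obj (op V)) :
    G.1.obj (op W) := G.1.map (homOfLE h).op s

theorem sres_sres (G : X.Sheaf (Type u)) {V W W' : Opens X} (h : W ≤ V) (h' : W' ≤ W)
    (s : G.1.obj (op V)) : sres G h' (sres G h s) = sres G (h'.trans h) s := by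
  change (G.1.map (homOfLE h).op ≫ G.1.map (homOfLE h').op) s = _
  rw [← G.1.map_comp]
  rfl

theorem sres_id (G : X.Sheaf (Type u)) {V : Opens X} (s : G.1.obj (op V)) :
    sres G (le_refl V) s = s := by
  change G.1.map (𝟙 (op V)) s = s
  rw [G.1.map_id]
  rfl

theorem app_sres {G G' : X.Sheaf (Type u)} (φ : G ⟶ G') {V W : Opens X} (h : W ≤ V)
    (s : G.1.obj (op V)) :
    φ.1.app (op W) (sres G h s) = sres G' h (φ.1.app (op V) s) :=
  ConcreteCategory.congr_hom (φ.1.naturality (homOfLE h).op) s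

/-- Sections of a sheaf agreeing on a cover are equal. -/
theorem sres_ext (G : X.Sheaf (Type u)) {V : Opens X} {ι : Type*} (W : ι → Opens X)
    (hW : ∀ a, W a ≤ V) (hcov : V ≤ iSup W) (s t : G.1.obj (op V))
    (h : ∀ a, sres G (hW a) s = sres G (hW a) t) : s = t :=
  Sheaf.eq_of_locally_eq' G W V (fun a => homOfLE (hW a)) hcov s t h

/-- Gluing of sections of a sheaf along a cover. -/
theorem sres_glue (G : X.Sheaf (Type u)) {V : Opens X} {ι : Type*} (W : ι → Opens X)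
    (hW : ∀ a, W a ≤ V) (hcov : V ≤ iSup W) (sf : ∀ a, G.1.obj (op (W a)))
    (h : ∀ a b, sres G (inf_le_left : W a ⊓ W b ≤ W a) (sf a) =
      sres G (inf_le_right : W a ⊓ W b ≤ W b) (sf b)) :
    ∃ s : G.1.obj (op V), ∀ a, sres G (hW a) s = sf a := by
  obtain ⟨s, hs, -⟩ := Sheaf.existsUnique_gluing' G W V (fun a => homOfLE (hW a)) hcov sf
    (fun a b => h a b)
  exact ⟨s, hs⟩

variable {J : Type u} [Preorder J] (F : J ⥤ X.Sheaf (Type u)) (c : Cocone F)

theorem map_comp_app {i j k : J} (f : i ⟶ j) (g : j ⟶ k) (V : Opens X)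
    (s : (F.obj i).1.obj (op V)) :
    (F.map (f ≫ g)).1.app (op V) s = (F.map g).1.app (op V) ((F.map f).1.app (op V) s) := by
  rw [F.map_comp]
  rfl

theorem cocone_app {i j : J} (f : i ⟶ j) (V : Opens X) (s : (F.obj i).1.obj (op V)) :
    (c.ι.app j).1.app (op V) ((F.map f).1.app (op V) s) = (c.ι.app i).1.app (op V) s := by
  rw [← c.w f]
  rfl

variable [Nonempty J] [IsDirected J (· ≤ ·)] (hc : IsColimit c)

include hc in
theorem colim_inj_of_transitions_inj
    (hinj : ∀ (i j : J) (h : i ⟶ j) (V : Opens X), Function.Injective ((F.map h).1.app (op V)))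
    {V : Opens X} {k : J} (s t : (F.obj k).1.obj (op V))
    (h : (c.ι.app k).1.app (op V) s = (c.ι.app k).1.app (op V) t) : s = t := by
  have hloc : ∀ x : V, ∃ (W : Opens X) (_ : x.1 ∈ W) (hWV : W ≤ V),
      sres (F.obj k) hWV s = sres (F.obj k) hWV t := by
    intro x
    obtain ⟨W, hxW, hWV, k', f, hW⟩ := colim_local_inj F c hc s t h x.2
    exact ⟨W, hxW, hWV, hinj k k' f W hW⟩
  choose W hxW hWV hW using hloc
  refine sres_ext (F.obj k) W hWV ?_ s t hW
  intro x hx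
  exact Opens.mem_iSup.mpr ⟨⟨x, hx⟩, hxW ⟨x, hx⟩⟩

include hc in
theorem colim_inj_of_isCompact {V : Opens X} (hV : IsCompact (V : Set X)) {k : J}
    (s t : (F.obj k).1.obj (op V))
    (h : (c.ι.app k).1.app (op V) s = (c.ι.app k).1.app (op V) t) :
    ∃ (k' : J) (f : k ⟶ k'), (F.map f).1.app (op V) s = (F.map f).1.app (op V) t := by
  have hloc : ∀ x : V, ∃ (W : Opens X) (_ : x.1 ∈ W) (hWV : W ≤ V) (k' : J) (f : k ⟶ k'),
      (F.map f).1.app (op W) (sres (F.obj k) hWV s) =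
        (F.map f).1.app (op W) (sres (F.obj k) hWV t) := by
    intro x
    exact colim_local_inj F c hc s t h x.2
  choose W hxW hWV k' f hW using hloc
  obtain ⟨T, hT⟩ := hV.elim_finite_subcover (fun x : V => (W x : Set X)) (fun x => (W x).2)
    (fun x hx => Set.mem_iUnion.mpr ⟨⟨x, hx⟩, hxW ⟨x, hx⟩⟩)
  classical
  obtain ⟨M, hM⟩ := Finset.exists_le (insert k (T.image k'))
  have hkM : k ≤ M := hM k (Finset.mem_insert_self _ _)
  have hk'M : ∀ x ∈ T, k' x ≤ M := fun x hx =>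
    hM (k' x) (Finset.mem_insert_of_mem (Finset.mem_image_of_mem k' hx))
  refine ⟨M, homOfLE hkM, ?_⟩
  refine sres_ext (F.obj M) (fun x : T => W x.1) (fun x => hWV x.1) ?_ _ _ ?_
  · intro y hy
    obtain ⟨x, hx⟩ := Set.mem_iUnion.mp (hT hy)
    obtain ⟨hxT, hyx⟩ := Set.mem_iUnion.mp hx
    exact Opens.mem_iSup.mpr ⟨⟨x, hxT⟩, hyx⟩
  · rintro ⟨x, hxT⟩
    have e : homOfLE hkM = f x ≫ homOfLE (hk'M x hxT) := Subsingleton.elim _ _
    rw [← app_sres, ← app_sres, e, map_comp_app, map_comp_app, hW x]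

end Groth.Agent.H38

namespace Groth.Agent.H38

variable {X : TopCat.{u}} {J : Type u} [Preorder J] (F : J ⥤ X.Sheaf (Type u)) (c : Cocone F)

theorem cocone_app_sres (k : J) {V W : Opens X} (h : W ≤ V) (s : (F.obj k).1.obj (op V)) :
    (c.ι.app k).1.app (op W) (sres (F.obj k) h s) = sres c.pt h ((c.ι.app k).1.app (op V) s) :=
  app_sres (c.ι.app k) h s

/-- A section of the colimit that comes, over a cover, from compatible sections of one member
comes from that member. -/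
theorem colim_surj_of_cover {U : Opens X} (σ : c.pt.1.obj (op U)) {ι : Type*} (W : ι → Opens X)
    (hW : ∀ a, W a ≤ U) (hcov : U ≤ iSup W) (k : J) (sf : ∀ a, (F.obj k).1.obj (op (W a)))
    (hsf : ∀ a, (c.ι.app k).1.app (op (W a)) (sf a) = sres c.pt (hW a) σ)
    (hcompat : ∀ a b, sres (F.obj k) (inf_le_left : W a ⊓ W b ≤ W a) (sf a) =
      sres (F.obj k) (inf_le_right : W a ⊓ W b ≤ W b) (sf b)) :
    ∃ t : (F.obj k).1.obj (op U), (c.ι.app k).1.app (op U) t = σ := by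
  obtain ⟨t, ht⟩ := sres_glue (F.obj k) W hW hcov sf hcompat
  refine ⟨t, sres_ext c.pt W hW hcov _ _ fun a => ?_⟩
  rw [← cocone_app_sres, ht, hsf]

variable [Nonempty J] [IsDirected J (· ≤ ·)] (hc : IsColimit c)

include hc in
theorem colim_surj_of_isCompact_of_transitions_inj
    (hinj : ∀ (i j : J) (h : i ⟶ j) (V : Opens X), Function.Injective ((F.map h).1.app (op V)))
    {U : Opens X} (hU : IsCompact (U : Set X)) (σ : c.pt.1.obj (op U)) :
    ∃ (k : J) (t : (F.obj k).1.obj (op U)), (c.ι.app k).1.app (op U) t = σ := by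
  have hloc : ∀ x : U, ∃ (V : Opens X) (_ : x.1 ∈ V) (hVU : V ≤ U) (i : J)
      (s : (F.obj i).1.obj (op V)), (c.ι.app i).1.app (op V) s = sres c.pt hVU σ := fun x =>
    colim_local_surj F c hc σ x.2
  choose V hxV hVU i s hs using hloc
  obtain ⟨T, hT⟩ := hU.elim_finite_subcover (fun x : U => (V x : Set X)) (fun x => (V x).2)
    (fun x hx => Set.mem_iUnion.mpr ⟨⟨x, hx⟩, hxV ⟨x, hx⟩⟩)
  classical
  obtain ⟨M, hM⟩ := Finset.exists_le (T.image i)
  have hiM : ∀ x ∈ T, i x ≤ M := fun x hx => hM (i x) (Finset.mem_image_of_mem i hx)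
  let sf : ∀ x : T, (F.obj M).1.obj (op (V x.1)) := fun x =>
    (F.map (homOfLE (hiM x.1 x.2))).1.app (op (V x.1)) (s x.1)
  have hsf : ∀ x : T, (c.ι.app M).1.app (op (V x.1)) (sf x) = sres c.pt (hVU x.1) σ := by
    intro x
    rw [cocone_app, hs]
  obtain ⟨t, ht⟩ := colim_surj_of_cover F c σ (fun x : T => V x.1) (fun x => hVU x.1) (by
    intro y hy
    obtain ⟨x, hx⟩ := Set.mem_iUnion.mp (hT hy)
    obtain ⟨hxT, hyx⟩ := Set.mem_iUnion.mp hx
    exact Opens.mem_iSup.mpr ⟨⟨x, hxT⟩, hyx⟩) M sf hsf (by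
    intro a b
    apply colim_inj_of_transitions_inj F c hc hinj
    rw [cocone_app_sres, cocone_app_sres, hsf, hsf, sres_sres, sres_sres])
  exact ⟨M, t, ht⟩

include hc in
theorem colim_surj_of_finite_refinement {U : Opens X}
    (hfin : ∀ 𝒱 : Set (Opens X), (⨆ V ∈ 𝒱, V) = U →
        ∃ (m : ℕ) (W : Fin m → Opens X), (∀ j, ∃ V ∈ 𝒱, W j ≤ V) ∧ (⨆ j, W j) = U ∧
          ∀ j j', IsCompact ((W j ⊓ W j' : Opens X) : Set X))
    (σ : c.pt.1.obj (op U)) :
    ∃ (k : J) (t : (F.obj k).1.obj (op U)), (c.ι.app k).1.app (op U) t = σ := by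
  let 𝒱 : Set (Opens X) := {V | ∃ (hVU : V ≤ U) (i : J) (s : (F.obj i).1.obj (op V)),
    (c.ι.app i).1.app (op V) s = sres c.pt hVU σ}
  have h𝒱 : (⨆ V ∈ 𝒱, V) = U := by
    apply le_antisymm
    · exact iSup₂_le fun V hV => hV.1
    · intro x hx
      obtain ⟨V, hxV, hVU, i, s, hs⟩ := colim_local_surj F c hc σ hx
      exact Opens.mem_iSup.mpr ⟨V, Opens.mem_iSup.mpr ⟨⟨hVU, i, s, hs⟩, hxV⟩⟩
  obtain ⟨m, W, hWref, hWcov, hWcpt⟩ := hfin 𝒱 h𝒱
  have hWU : ∀ j, W j ≤ U := fun j => hWcov ▸ le_iSup W j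
  have hloc : ∀ j, ∃ (i : J) (s : (F.obj i).1.obj (op (W j))),
      (c.ι.app i).1.app (op (W j)) s = sres c.pt (hWU j) σ := by
    intro j
    obtain ⟨V, ⟨hVU, i, s, hs⟩, hWV⟩ := hWref j
    refine ⟨i, sres (F.obj i) hWV s, ?_⟩
    rw [cocone_app_sres, hs, sres_sres]
  choose i s hs using hloc
  classical
  obtain ⟨M, hM⟩ := Finset.exists_le (Finset.univ.image i)
  have hiM : ∀ j, i j ≤ M := fun j => hM (i j) (Finset.mem_image_of_mem i (Finset.mem_univ j))
  obtain ⟨s', hs'def⟩ : ∃ s' : ∀ j, (F.obj M).1.obj (op (W j)), ∀ j, s' j =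
    (F.map (homOfLE (hiM j))).1.app (op (W j)) (s j) := ⟨_, fun _ => rfl⟩
  have hs' : ∀ j, (c.ι.app M).1.app (op (W j)) (s' j) = sres c.pt (hWU j) σ := by
    intro j
    rw [hs'def, cocone_app, hs]
  have hpair : ∀ p : Fin m × Fin m, ∃ (k' : J) (f : M ⟶ k'),
      (F.map f).1.app (op (W p.1 ⊓ W p.2))
          (sres (F.obj M) (inf_le_left : W p.1 ⊓ W p.2 ≤ W p.1) (s' p.1)) =
        (F.map f).1.app (op (W p.1 ⊓ W p.2))
          (sres (F.obj M) (inf_le_right : W p.1 ⊓ W p.2 ≤ W p.2) (s' p.2)) := by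
    intro p
    apply colim_inj_of_isCompact F c hc (hWcpt p.1 p.2)
    rw [cocone_app_sres, cocone_app_sres, hs', hs', sres_sres, sres_sres]
  choose k' f hf using hpair
  obtain ⟨M', hM'⟩ := Finset.exists_le (insert M (Finset.univ.image k'))
  have hMM' : M ≤ M' := hM' M (Finset.mem_insert_self _ _)
  have hk'M' : ∀ p, k' p ≤ M' := fun p =>
    hM' (k' p) (Finset.mem_insert_of_mem (Finset.mem_image_of_mem k' (Finset.mem_univ p)))
  obtain ⟨s'', hs''def⟩ : ∃ s'' : ∀ j, (F.obj M').1.obj (op (W j)), ∀ j, s'' j =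
    (F.map (homOfLE hMM')).1.app (op (W j)) (s' j) := ⟨_, fun _ => rfl⟩
  have hs'' : ∀ j, (c.ι.app M').1.app (op (W j)) (s'' j) = sres c.pt (hWU j) σ := by
    intro j
    rw [hs''def, cocone_app, hs']
  obtain ⟨t, ht⟩ := colim_surj_of_cover F c σ W hWU (le_of_eq hWcov.symm) M' s'' hs'' (by
    intro a b
    have e : homOfLE hMM' = f (a, b) ≫ homOfLE (hk'M' (a, b)) := Subsingleton.elim _ _
    have e1 : sres (F.obj M') (inf_le_left : W a ⊓ W b ≤ W a) (s'' a) =
        (F.map (homOfLE (hk'M' (a, b)))).1.app (op (W a ⊓ W b))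
          ((F.map (f (a, b))).1.app (op (W a ⊓ W b)) (sres (F.obj M) inf_le_left (s' a))) := by
      rw [hs''def, ← app_sres, e, map_comp_app]
    have e2 : sres (F.obj M') (inf_le_right : W a ⊓ W b ≤ W b) (s'' b) =
        (F.map (homOfLE (hk'M' (a, b)))).1.app (op (W a ⊓ W b))
          ((F.map (f (a, b))).1.app (op (W a ⊓ W b)) (sres (F.obj M) inf_le_right (s' b))) := by
      rw [hs''def, ← app_sres, e, map_comp_app]
    rw [e1, e2]
    exact congrArg _ (hf (a, b)))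
  exact ⟨M', t, ht⟩


end Groth.Agent.H38

namespace Groth.Agent.H38

variable {X : TopCat.{u}} {J : Type u} [Preorder J] [Nonempty J] [IsDirected J (· ≤ ·)]
  (F : J ⥤ X.Sheaf (Type u)) (c : Cocone F) (U : Opens X)

/-- The sections functor over `U`. -/
noncomputable abbrev evU : X.Sheaf (Type u) ⥤ Type u :=
  TopCat.Sheaf.forget (Type u) X ⋙ (evaluation (Opens X)ᵒᵖ (Type u)).obj (op U)

theorem psi_ι (k : J) (s : (F.obj k).1.obj (op U)) :
    colimit.desc (F ⋙ evU U) ((evU U).mapCocone c) (colimit.ι (F ⋙ evU U) k s) =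
      (c.ι.app k).1.app (op U) s :=
  ConcreteCategory.congr_hom (colimit.ι_desc ((evU U).mapCocone c) k) s

theorem psi_injective
    (h : ∀ (k : J) (s t : (F.obj k).1.obj (op U)),
      (c.ι.app k).1.app (op U) s = (c.ι.app k).1.app (op U) t →
      ∃ (k' : J) (f : k ⟶ k'), (F.map f).1.app (op U) s = (F.map f).1.app (op U) t) :
    Function.Injective (colimit.desc (F ⋙ evU U) ((evU U).mapCocone c)) := by
  intro a b hab
  obtain ⟨k, s, t, rfl, rfl⟩ := Types.FilteredColimit.jointly_surjective_of_isColimit₂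
    (colimit.isColimit (F ⋙ evU U)) a b
  change colimit.desc (F ⋙ evU U) ((evU U).mapCocone c) (colimit.ι (F ⋙ evU U) k s) =
    colimit.desc (F ⋙ evU U) ((evU U).mapCocone c) (colimit.ι (F ⋙ evU U) k t) at hab
  rw [psi_ι, psi_ι] at hab
  obtain ⟨k', f, hf⟩ := h k s t hab
  change colimit.ι (F ⋙ evU U) k s = colimit.ι (F ⋙ evU U) k t
  rw [← colimit.w (F ⋙ evU U) f]
  exact congrArg (colimit.ι (F ⋙ evU U) k') hf

theorem psi_surjective
    (h : ∀ σ : c.pt.1.obj (op U), ∃ (k : J) (t : (F.obj k).1.obj (op U)),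
      (c.ι.app k).1.app (op U) t = σ) :
    Function.Surjective (colimit.desc (F ⋙ evU U) ((evU U).mapCocone c)) := by
  intro σ
  obtain ⟨k, t, ht⟩ := h σ
  exact ⟨colimit.ι (F ⋙ evU U) k t, (psi_ι F c U k t).trans ht⟩


end Groth.Agent.H38
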