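import Mathlib.Topology.Spectral.Basic
import Mathlib.Topology.Spectral.ConstructibleTopology
import Mathlib.Topology.Order
import Mathlib.Topology.Sober
import Mathlib.Topology.QuasiSeparated
import Mathlib.Topology.Spectral.Prespectral

set_option autoImplicit false
universe u

open TopologicalSpace Topology Set

namespace Groth.Agent.H38

variable {I : Type u}

/-- The basic open subsets of a power of the Sierpinski space. -/
def sierpBasic (F : Finset I) : Set (I → Prop) := {p | ∀ i ∈ F, p i}

theorem isOpen_sierpBasic (F : Finset I) : IsOpen (sierpBasic F) := by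
  have : sierpBasic F = ⋂ i ∈ F, (fun p : I → Prop => p i) ⁻¹' {True} := by
    ext p; simp [sierpBasic]
  rw [this]
  exact isOpen_biInter_finset fun i _ => isOpen_singleton_true.preimage (continuous_apply i)

/-- Open subsets of a power of the Sierpinski space are upper sets. -/
theorem sierp_mem_of_le {U : Set (I → Prop)} (hU : IsOpen U) {p q : I → Prop} (hp : p ∈ U)
    (hpq : ∀ i, p i → q i) : q ∈ U := by
  obtain ⟨F, u, hu, hFU⟩ := isOpen_pi_iff.mp hU p hp
  apply hFU
  intro i hi
  obtain ⟨hu1, hu2⟩ := hu i hi
  by_cases hpi : p i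
  · have h1 : p i = True := eq_true hpi
    have h2 : q i = True := eq_true (hpq i hpi)
    rw [h2, ← h1]; exact hu2
  · have h1 : p i = False := eq_false hpi
    rw [h1] at hu2
    have := hu1.mem_nhds hu2
    rw [nhds_false] at this
    rw [Filter.mem_top.mp this]
    exact mem_univ _

theorem sierpBasic_subset_of_mem {U : Set (I → Prop)} (hU : IsOpen U) (F : Finset I)
    (h : (fun i => i ∈ F) ∈ U) : sierpBasic F ⊆ U := fun _ hq =>
  sierp_mem_of_le hU h fun i hi => hq i hi

theorem isCompact_sierpBasic (F : Finset I) : IsCompact (sierpBasic F) := by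
  refine isCompact_of_finite_subcover fun {ι} U hUo hUc => ?_
  have h0 : (fun i => i ∈ F) ∈ sierpBasic F := fun i hi => hi
  obtain ⟨j, hj⟩ := mem_iUnion.mp (hUc h0)
  refine ⟨{j}, ?_⟩
  simpa using sierpBasic_subset_of_mem (hUo j) F hj

theorem isTopologicalBasis_sierpBasic :
    IsTopologicalBasis (Set.range (sierpBasic : Finset I → Set (I → Prop))) := by
  classical
  refine isTopologicalBasis_of_isOpen_of_nhds ?_ ?_
  · rintro _ ⟨F, rfl⟩; exact isOpen_sierpBasic F
  · intro p U hp hU
    obtain ⟨F, u, hu, hFU⟩ := isOpen_pi_iff.mp hU p hp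
    refine ⟨sierpBasic (F.filter fun i => p i), ⟨_, rfl⟩, ?_, ?_⟩
    · intro i hi; exact (Finset.mem_filter.mp hi).2
    · intro q hq
      apply hFU
      intro i hi
      obtain ⟨hu1, hu2⟩ := hu i hi
      by_cases hpi : p i
      · have h1 : p i = True := eq_true hpi
        have h2 : q i = True := eq_true (hq i (Finset.mem_filter.mpr ⟨hi, hpi⟩))
        rw [h2, ← h1]; exact hu2
      · have h1 : p i = False := eq_false hpi
        rw [h1] at hu2
        have := hu1.mem_nhds hu2
        rw [nhds_false] at this
        rw [Filter.mem_top.mp this]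
        exact mem_univ _

theorem sierpBasic_inter (F G : Finset I) [DecidableEq I] :
    sierpBasic F ∩ sierpBasic G = sierpBasic (F ∪ G) := by
  ext p
  simp only [sierpBasic, mem_inter_iff, mem_ofPred_eq, Finset.mem_union]
  constructor
  · rintro ⟨h1, h2⟩ i (hi | hi)
    · exact h1 i hi
    · exact h2 i hi
  · intro h
    exact ⟨fun i hi => h i (Or.inl hi), fun i hi => h i (Or.inr hi)⟩

instance prespectralSpace_sierp : PrespectralSpace (I → Prop) :=
  PrespectralSpace.of_isTopologicalBasis' isTopologicalBasis_sierpBasic isCompact_sierpBasic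

instance quasiSeparatedSpace_sierp : QuasiSeparatedSpace (I → Prop) := by
  classical
  refine QuasiSeparatedSpace.of_isTopologicalBasis isTopologicalBasis_sierpBasic fun F G => ?_
  rw [sierpBasic_inter]
  exact isCompact_sierpBasic _

instance compactSpace_sierp : CompactSpace (I → Prop) := by
  refine ⟨?_⟩
  have : (univ : Set (I → Prop)) = sierpBasic ∅ := by
    ext p; simp [sierpBasic]
  rw [this]
  exact isCompact_sierpBasic _

theorem sierp_specializes {p q : I → Prop} (h : ∀ i, p i → q i) : q ⤳ p := by
  rw [specializes_iff_forall_open]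
  intro U hU hp
  exact sierp_mem_of_le hU hp h

instance quasiSober_sierp : QuasiSober (I → Prop) := by
  classical
  refine ⟨fun {Z} hZ hZc => ?_⟩
  let ξ : I → Prop := fun i => ∃ p ∈ Z, p i
  have hξ : ξ ∈ Z := by
    rw [← hZc.closure_eq]
    rw [isTopologicalBasis_sierpBasic.mem_closure_iff]
    rintro _ ⟨F, rfl⟩ hF
    -- finite intersection
    have key : ∀ G : Finset I, G ⊆ F → (Z ∩ sierpBasic G).Nonempty := by
      intro G
      induction G using Finset.induction_on with
      | empty =>
        intro _
        obtain ⟨z, hz⟩ := hZ.nonempty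
        exact ⟨z, hz, fun i hi => absurd hi (Finset.notMem_empty i)⟩
      | insert a G ha ih =>
        intro hG
        have h1 := ih ((Finset.subset_insert a G).trans hG)
        obtain ⟨p, hpZ, hpa⟩ : ξ a := hF a (hG (Finset.mem_insert_self a G))
        have h2 : (Z ∩ sierpBasic {a}).Nonempty :=
          ⟨p, hpZ, fun i hi => by rw [Finset.mem_singleton.mp hi]; exact hpa⟩
        obtain ⟨z, hz, hz1, hz2⟩ := hZ.isPreirreducible _ _ (isOpen_sierpBasic G)
          (isOpen_sierpBasic {a}) h1 h2
        refine ⟨z, hz, fun i hi => ?_⟩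
        rcases Finset.mem_insert.mp hi with rfl | hi
        · exact hz2 i (Finset.mem_singleton_self i)
        · exact hz1 i hi
    obtain ⟨z, hz, hzF⟩ := key F subset_rfl
    exact ⟨z, hzF, hz⟩
  refine ⟨ξ, ?_⟩
  rw [IsGenericPoint]
  apply subset_antisymm
  · exact closure_minimal (singleton_subset_iff.mpr hξ) hZc
  · intro p hp
    have : ξ ⤳ p := sierp_specializes fun i hi => ⟨p, hp, hi⟩
    exact this.mem_closure

instance t0Space_sierp : T0Space (I → Prop) := by
  refine ⟨fun p q h => ?_⟩
  funext i
  have h1 := h.mem_open_iff (isOpen_sierpBasic {i})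
  apply propext
  constructor
  · intro hp
    exact h1.mp (fun j hj => by rw [Finset.mem_singleton.mp hj]; exact hp) i
      (Finset.mem_singleton_self i)
  · intro hq
    exact h1.mpr (fun j hj => by rw [Finset.mem_singleton.mp hj]; exact hq) i
      (Finset.mem_singleton_self i)

instance spectralSpace_sierp : SpectralSpace (I → Prop) where

end Groth.Agent.H38
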