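import Mathlib
import Groth.Agent.H38.NormSmoothH0
import Groth.Agent.H62.GW1
import Groth.Agent.H25.GeomRegSmooth
import Groth.Agent.Lead.RegularLocal

/-!
helper38: smooth schemes over a field: connected ⇒ integral; geometrically connected ⇒ geometrically
integral; for smooth proper schemes `dim H⁰(O) = 1` iff geometrically connected.
-/

set_option autoImplicit false
universe u
open CategoryTheory CategoryTheory.Limits AlgebraicGeometry TensorProduct

namespace Groth.Agent.H38.SmoothGeomIntegral

open Groth.Agent.H38.GeomConnProper Groth.Agent.H38.GlobalSectionsField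

/-- a connected scheme smooth over a field is integral -/
theorem isIntegral_of_smooth_of_connectedSpace (K : Type u) [Field K] {Y : Scheme.{u}}
    (p : Y ⟶ Spec (CommRingCat.of K)) [Smooth p] [ConnectedSpace Y] : IsIntegral Y := by
  have : IsLocallyNoetherian Y := LocallyOfFiniteType.isLocallyNoetherian p
  refine Groth.Agent.H62.GW.isIntegral_of_connected_of_isDomain_stalk (fun x => ?_)
  have hreg := Groth.Agent.H25.GeomRegSmooth.isRegularLocalRing_of_mem_smoothLocus K p x
    (by rw [p.smoothLocus_eq_top]; trivial)
  exact Groth.Agent.Lead.RLR.isDomain _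

/-- a smooth geometrically connected scheme over a field is geometrically irreducible -/
theorem geometricallyIrreducible_of_smooth (k : Type u) [Field k] {X : Scheme.{u}}
    (f : X ⟶ Spec (CommRingCat.of k)) [Smooth f] [GeometricallyConnected f] :
    GeometricallyIrreducible f := by
  refine ⟨geometrically_iff_of_isClosedUnderIsomorphisms.mpr fun K _ x ↦ ?_⟩
  have hsub : Subsingleton ↥(Spec (CommRingCat.of K)) :=
    inferInstanceAs (Subsingleton (PrimeSpectrum K))
  have hconn : ConnectedSpace ↥(pullback f x) :=
    GeometricallyConnected.connectedSpace_of_subsingleton (f := pullback.snd f x)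
  have := isIntegral_of_smooth_of_connectedSpace K (pullback.snd f x)
  infer_instance

/-- a smooth geometrically connected scheme over a field is geometrically integral -/
theorem geometricallyIntegral_of_smooth (k : Type u) [Field k] {X : Scheme.{u}}
    (f : X ⟶ Spec (CommRingCat.of k)) [Smooth f] [GeometricallyConnected f] :
    GeometricallyIntegral f := by
  have := Groth.Agent.H25.GeomRegSmooth.geometricallyReduced_of_smooth f
  have := geometricallyIrreducible_of_smooth k f
  exact GeometricallyIntegral.of_geometricallyReduced_of_geometricallyIrreducible f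

/-- geometrically irreducible implies geometrically connected -/
theorem geometricallyConnected_of_geometricallyIrreducible {X S : Scheme.{u}} (f : X ⟶ S)
    [GeometricallyIrreducible f] : GeometricallyConnected f := by
  have h := (geometricallyIrreducible_iff f).mp inferInstance
  refine ⟨geometrically_iff_of_isClosedUnderIsomorphisms.mpr fun K _ x ↦ ?_⟩
  have : IrreducibleSpace ↥(pullback f x) :=
    geometrically_iff_of_isClosedUnderIsomorphisms.mp h K x
  infer_instance

/-- for a smooth proper scheme over a field, `dim_k Γ(X, O_X) = 1` iff geometrically connected -/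
theorem finrank_sections_eq_one_iff (k : Type u) [Field k] {X : Scheme.{u}}
    (f : X ⟶ Spec (CommRingCat.of k)) [IsProper f] [Smooth f] [Nonempty X] :
    letI := algΓ k f
    Module.finrank k Γ(X, ⊤) = 1 ↔ GeometricallyConnected f := by
  letI := algΓ k f
  constructor
  · intro h
    have hnt : Nontrivial Γ(X, ⊤) := by
      obtain ⟨x⟩ := (inferInstance : Nonempty X)
      exact (X.presheaf.germ ⊤ x trivial).hom.domain_nontrivial
    have htop := Subalgebra.bot_eq_top_of_finrank_eq_one h
    have hsurj : ∀ a : Γ(X, ⊤), ∃ c : k, algebraMap k Γ(X, ⊤) c = a := by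
      intro a
      have : a ∈ (⊥ : Subalgebra k Γ(X, ⊤)) := htop ▸ Algebra.mem_top
      exact Algebra.mem_bot.mp this
    have hbij : Function.Bijective (algebraMap k Γ(X, ⊤)) :=
      ⟨(algebraMap k Γ(X, ⊤)).injective, hsurj⟩
    have hF : IsField Γ(X, ⊤) :=
      (RingEquiv.ofBijective (algebraMap k Γ(X, ⊤)) hbij).symm.toMulEquiv.isField
        (Field.toIsField k)
    rw [geometricallyConnected_iff_sections k f]
    let _ := hF.toField
    refine ⟨inferInstance, ?_, fun a => ?_⟩
    · exact ringKrullDim_eq_zero_of_field _
    · obtain ⟨c, hc⟩ := hsurj a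
      refine ⟨0, c, ?_⟩
      have : a ^ (ringExpChar k ^ 0) - f.appTop.hom ((Scheme.ΓSpecIso (CommRingCat.of k)).inv.hom c)
          = 0 := by
        rw [pow_zero, pow_one, ← hc]
        exact sub_self _
      rw [this]
      exact IsNilpotent.zero
  · intro h
    have hconn : ConnectedSpace ↥(pullback f (Spec.map (CommRingCat.ofHom
        (algebraMap k (AlgebraicClosure k))))) := by
      have hsub : Subsingleton ↥(Spec (CommRingCat.of (AlgebraicClosure k))) :=
        inferInstanceAs (Subsingleton (PrimeSpectrum (AlgebraicClosure k)))
      exact GeometricallyConnected.connectedSpace_of_subsingleton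
        (f := pullback.snd f (Spec.map (CommRingCat.ofHom (algebraMap k (AlgebraicClosure k)))))
    exact Groth.Agent.H38.NormSmoothH0.finrank_sections_eq_one k f hconn

end Groth.Agent.H38.SmoothGeomIntegral
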