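import Groth.Agent.H38.ConstrQS
import Groth.Agent.H38.Sierpinski
import Mathlib.CategoryTheory.Limits.Types.Limits
import Mathlib.Topology.Category.TopCat.Limits.Basic
import Mathlib.Topology.Spectral.Basic

set_option autoImplicit false
universe u

open CategoryTheory CategoryTheory.Limits TopologicalSpace Opposite Topology

namespace Groth.Agent.H38

/-- A finite topological space is quasi-sober. -/
theorem quasiSober_of_finite (Y : Type u) [TopologicalSpace Y] [Finite Y] : QuasiSober Y := by
  refine ⟨fun {S} hS hSc => ?_⟩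
  have hfin : S.Finite := Set.toFinite S
  have hcov : S ⊆ ⋃₀ ↑(hfin.toFinset.image fun z => closure ({z} : Set Y)) := by
    intro z hz
    refine Set.mem_sUnion.mpr ⟨closure {z}, ?_, subset_closure rfl⟩
    simp only [Finset.coe_image, Set.Finite.coe_toFinset, Set.mem_image]
    exact ⟨z, hz, rfl⟩
  obtain ⟨T, hT, hST⟩ := isIrreducible_iff_sUnion_isClosed.mp hS _ (by
    intro T hT
    simp only [Finset.mem_image] at hT
    obtain ⟨z, -, rfl⟩ := hT
    exact isClosed_closure) hcov
  simp only [Finset.mem_image, Set.Finite.mem_toFinset] at hT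
  obtain ⟨z, hz, rfl⟩ := hT
  refine ⟨z, ?_⟩
  rw [IsGenericPoint]
  exact subset_antisymm (hSc.closure_subset_iff.mpr (Set.singleton_subset_iff.mpr hz)) hST

section

variable (X : Type u) [TopologicalSpace X]

/-- The compact open subsets of `X`. -/
abbrev CO : Type u := {U : Opens X // IsCompact (U : Set X)}

variable {X}

/-- The map recording membership in finitely many compact opens. -/
def memMap (j : Finset (CO X)) (x : X) : (↥j → Prop) := fun k => x ∈ k.1.1

theorem continuous_memMap (j : Finset (CO X)) : Continuous (memMap j) := by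
  refine continuous_pi fun k => ?_
  rw [continuous_Prop]
  exact k.1.1.2

variable (X)

/-- The finite quotient of `X` attached to finitely many compact opens. -/
abbrev FinQuot (j : Finset (CO X)) : Type u := Set.range (memMap (X := X) j)

variable {X}

/-- Transition map between the finite quotients. -/
def finQuotMap {j j' : Finset (CO X)} (h : j ≤ j') (ξ : FinQuot X j') : FinQuot X j :=
  ⟨fun k => ξ.1 ⟨k.1, h k.2⟩, by
    obtain ⟨x, hx⟩ := ξ.2
    exact ⟨x, by rw [← hx]; rfl⟩⟩

theorem continuous_finQuotMap {j j' : Finset (CO X)} (h : j ≤ j') :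
    Continuous (finQuotMap h) := by
  refine Continuous.subtype_mk ?_ _
  refine continuous_pi fun k => ?_
  exact (continuous_apply (⟨k.1, h k.2⟩ : ↥j')).comp continuous_subtype_val

variable (X)

/-- The diagram of finite quotients. -/
def finQuotFunctor : (Finset (CO X))ᵒᵖ ⥤ TopCat.{u} where
  obj j := TopCat.of (FinQuot X j.unop)
  map f := TopCat.ofHom ⟨finQuotMap (leOfHom f.unop), continuous_finQuotMap _⟩
  map_id j := rfl
  map_comp f g := rfl

/-- The cone over the diagram of finite quotients with vertex `X`. -/
def finQuotCone : Cone (finQuotFunctor X) where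
  pt := TopCat.of X
  π :=
    { app := fun j => TopCat.ofHom
        ⟨fun x => ⟨memMap j.unop x, Set.mem_range_self x⟩,
          Continuous.subtype_mk (continuous_memMap j.unop) _⟩
      naturality := fun j j' f => rfl }

end

section

variable (X : Type u) [TopologicalSpace X]

theorem finQuotCone_forget_isLimit [SpectralSpace X] :
    Nonempty (IsLimit ((forget TopCat).mapCone (finQuotCone X))) := by
  classical
  rw [Types.isLimit_iff]
  intro s hs
  -- the truth value attached to a compact open
  let τ : CO X → Prop := fun k => (s (op {k})).1 ⟨k, Finset.mem_singleton_self k⟩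
  have hτ : ∀ (j : Finset (CO X)) (k : CO X) (hk : k ∈ j), (s (op j)).1 ⟨k, hk⟩ = τ k := by
    intro j k hk
    have hle : ({k} : Finset (CO X)) ≤ j := Finset.singleton_subset_iff.mpr hk
    have := hs (homOfLE hle).op
    have h2 := congrArg (fun ξ : FinQuot X {k} => ξ.1 ⟨k, Finset.mem_singleton_self k⟩) this
    exact h2
  let C : CO X → Set X := fun k => if τ k then (k.1 : Set X) else (k.1 : Set X)ᶜ
  have hCclosed : ∀ k, @IsClosed X (constructibleTopology X) (C k) := by
    intro k
    by_cases h : τ k
    · simp only [C, if_pos h]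
      rw [← @isOpen_compl_iff X _ (constructibleTopology X)]
      exact IsCompact.isOpen_constructibleTopology_of_isClosed (by rw [compl_compl]; exact k.2)
        (isClosed_compl_iff.mpr k.1.2)
    · simp only [C, if_neg h]
      rw [@isClosed_compl_iff X (constructibleTopology X)]
      exact IsCompact.isOpen_constructibleTopology_of_isOpen k.2 k.1.2
  have hcpt : @IsCompact X (constructibleTopology X) Set.univ :=
    isCompact_constructibleTopology_of_isCompact_isOpen isOpen_univ isCompact_univ
  have hfip : ∀ u : Finset (CO X), (Set.univ ∩ ⋂ k ∈ u, C k).Nonempty := by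
    intro u
    obtain ⟨x, hx⟩ := (s (op u)).2
    refine ⟨x, Set.mem_univ _, ?_⟩
    simp only [Set.mem_iInter]
    intro k hk
    have h1 : (x ∈ k.1.1) = τ k := by
      rw [← hτ u k hk, ← hx]; rfl
    by_cases h : τ k
    · simp only [C, if_pos h]
      exact h1.mpr h
    · simp only [C, if_neg h]
      intro hxk
      exact h (h1.mp hxk)
  obtain ⟨x, -, hx⟩ := @IsCompact.inter_iInter_nonempty X (constructibleTopology X) _ _ hcpt C
    hCclosed hfip
  have hxk : ∀ k : CO X, (x ∈ k.1.1) = τ k := by
    intro k
    have := Set.mem_iInter.mp hx k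
    by_cases h : τ k
    · simp only [C, if_pos h] at this
      exact propext ⟨fun _ => h, fun _ => this⟩
    · simp only [C, if_neg h] at this
      exact propext ⟨fun h' => absurd h' this, fun h' => absurd h' h⟩
  refine ⟨x, ?_, ?_⟩
  · intro j
    apply Subtype.ext
    funext k
    change (x ∈ k.1.1.1) = (s j).1 k
    rw [hxk, ← hτ j.unop k.1 k.2]
  · intro y hy
    change X at y
    have hins : Inseparable y x := by
      rw [(PrespectralSpace.isTopologicalBasis (X := X)).inseparable_iff]
      rintro U ⟨hUo, hUc⟩
      let k : CO X := ⟨⟨U, hUo⟩, hUc⟩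
      have h1 := congrArg (fun ξ : FinQuot X {k} => ξ.1 ⟨k, Finset.mem_singleton_self k⟩)
        (hy (op {k}))
      have h2 : (y ∈ U) = τ k := h1
      have h3 : (x ∈ U) = τ k := hxk k
      rw [h2, h3]
    exact hins.eq


theorem finQuotCone_induced [PrespectralSpace X] :
    (finQuotCone X).pt.str =
      ⨅ j, ((finQuotFunctor X).obj j).str.induced ((finQuotCone X).π.app j) := by
  apply le_antisymm
  · refine le_iInf fun j => ?_
    exact continuous_iff_le_induced.mp ((finQuotCone X).π.app j).hom.continuous
  · have hbasis := (PrespectralSpace.isTopologicalBasis (X := X)).eq_generateFrom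
    refine le_of_le_of_eq ?_ hbasis.symm
    apply le_generateFrom
    rintro U ⟨hUo, hUc⟩
    classical
    let k : CO X := ⟨⟨U, hUo⟩, hUc⟩
    refine iInf_le (fun j => ((finQuotFunctor X).obj j).str.induced ((finQuotCone X).π.app j))
      (op {k}) U ?_
    rw [isOpen_induced_iff]
    refine ⟨{ξ : FinQuot X {k} | ξ.1 ⟨k, Finset.mem_singleton_self k⟩}, ?_, rfl⟩
    have hc : Continuous fun ξ : FinQuot X {k} => ξ.1 ⟨k, Finset.mem_singleton_self k⟩ :=
      (continuous_apply (⟨k, Finset.mem_singleton_self k⟩ : ↥({k} : Finset (CO X)))).comp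
        continuous_subtype_val
    exact continuous_Prop.mp hc

theorem finQuotCone_isLimit [SpectralSpace X] : Nonempty (IsLimit (finQuotCone X)) :=
  (TopCat.nonempty_isLimit_iff_eq_induced (finQuotCone X)
    (finQuotCone_forget_isLimit X).some).mpr (finQuotCone_induced X)

theorem exists_finite_sober_limit [SpectralSpace X] :
    ∃ (J : Type u) (_ : Preorder J) (_ : Nonempty J) (_ : IsDirected J (· ≤ ·))
      (F : Jᵒᵖ ⥤ TopCat.{u}) (c : Cone F), Nonempty (IsLimit c) ∧
        (∀ j : Jᵒᵖ, Finite (F.obj j) ∧ T0Space (F.obj j) ∧ QuasiSober (F.obj j)) ∧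
        Nonempty (c.pt ≅ TopCat.of X) := by
  classical
  refine ⟨Finset (CO X), inferInstance, ⟨∅⟩, inferInstance, finQuotFunctor X, finQuotCone X,
    finQuotCone_isLimit X, fun j => ?_, ⟨Iso.refl _⟩⟩
  change Finite (FinQuot X j.unop) ∧ T0Space (FinQuot X j.unop) ∧ QuasiSober (FinQuot X j.unop)
  have hfin : Finite (FinQuot X j.unop) := inferInstance
  exact ⟨hfin, inferInstance, quasiSober_of_finite _⟩


end

end Groth.Agent.H38
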