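import Mathlib.Topology.Spectral.Basic
import Mathlib.Topology.Spectral.Hom
import Mathlib.Topology.Spectral.ConstructibleTopology
import Mathlib.Topology.Category.TopCat.Limits.Basic
import Mathlib.Topology.Category.TopCat.Limits.Konig
import Mathlib.CategoryTheory.Filtered.Basic
import Groth.Agent.H38.Spectral

set_option autoImplicit false
universe u

open CategoryTheory CategoryTheory.Limits Topology

namespace Groth.Agent.H38

section Basic

variable {J : Type u} [SmallCategory J] {F : J ⥤ TopCat.{u}} (c : Cone F)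

theorem lim_π_comp {i j : J} (a : i ⟶ j) (x : c.pt) :
    F.map a (c.π.app i x) = c.π.app j x := by
  rw [← c.w a]; rfl

variable (hc : IsLimit c)
include hc

theorem lim_ext {x y : c.pt} (h : ∀ j, c.π.app j x = c.π.app j y) : x = y := by
  let e := IsLimit.conePointUniqueUpToIso hc (TopCat.limitConeIsLimit.{u, u} F)
  have he : ∀ (j : J) (z : c.pt), ((e.hom z).1 j) = c.π.app j z := by
    intro j z
    have := IsLimit.conePointUniqueUpToIso_hom_comp hc (TopCat.limitConeIsLimit.{u, u} F) j
    exact ConcreteCategory.congr_hom this z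
  have h1 : e.hom x = e.hom y := by
    apply Subtype.ext
    funext j
    rw [he, he, h j]
  have := congrArg e.inv h1
  simpa using this

theorem lim_exists (v : ∀ j, F.obj j) (hv : ∀ {i j : J} (a : i ⟶ j), F.map a (v i) = v j) :
    ∃ x : c.pt, ∀ j, c.π.app j x = v j := by
  let e := IsLimit.conePointUniqueUpToIso hc (TopCat.limitConeIsLimit.{u, u} F)
  refine ⟨e.inv ⟨v, fun a => hv a⟩, fun j => ?_⟩
  have := IsLimit.conePointUniqueUpToIso_inv_comp hc (TopCat.limitConeIsLimit.{u, u} F) j
  exact ConcreteCategory.congr_hom this _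

theorem lim_isInducing : IsInducing (fun (x : c.pt) (j : J) => c.π.app j x) := by
  refine ⟨?_⟩
  have := TopCat.induced_of_isLimit c hc
  change c.pt.str = _
  rw [this, Pi.topologicalSpace, induced_iInf]
  congr 1
  funext j
  rw [induced_compose]
  rfl

end Basic

section Compact

variable {J : Type u} [SmallCategory J] {F : J ⥤ TopCat.{u}}

/-- The product of the constructible topologies. -/
@[reducible] def prodCT (F : J ⥤ TopCat.{u}) : TopologicalSpace (∀ j, F.obj j) :=
  @Pi.topologicalSpace J (fun j => F.obj j) (fun j => constructibleTopology (F.obj j))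

theorem prodCT_le (hF : ∀ j, SpectralSpace (F.obj j)) :
    prodCT F ≤ (Pi.topologicalSpace : TopologicalSpace (∀ j, F.obj j)) := by
  refine iInf_mono fun j => induced_mono ?_
  exact constructibleTopology_le

theorem compactSpace_prodCT (hF : ∀ j, SpectralSpace (F.obj j)) :
    @CompactSpace (∀ j, F.obj j) (prodCT F) :=
  @Pi.compactSpace J (fun j => F.obj j) (fun j => constructibleTopology (F.obj j))
    (fun _ => compactSpace_constructibleTopology)

/-- The set of compatible families with values in `Z`. -/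
def compatFam (F : J ⥤ TopCat.{u}) (Z : ∀ j, Set (F.obj j)) : Set (∀ j, F.obj j) :=
  {v | (∀ j, v j ∈ Z j) ∧ ∀ (i j : J) (a : i ⟶ j), F.map a (v i) = v j}

theorem isClosed_compatFam (hF : ∀ j, SpectralSpace (F.obj j))
    (hFm : ∀ {i j : J} (a : i ⟶ j), IsSpectralMap (F.map a : F.obj i → F.obj j))
    (Z : ∀ j, Set (F.obj j))
    (hZ : ∀ j, IsClosed[constructibleTopology (F.obj j)] (Z j)) :
    IsClosed[prodCT F] (compatFam F Z) := by
  have hev : ∀ j, @Continuous _ _ (prodCT F) (constructibleTopology (F.obj j))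
      (fun v : ∀ j, F.obj j => v j) := fun j =>
    @continuous_apply J (fun j => F.obj j) (fun j => constructibleTopology (F.obj j)) j
  have h1 : compatFam F Z = (⋂ j, (fun v : ∀ j, F.obj j => v j) ⁻¹' Z j) ∩
      ⋂ (i : J) (j : J) (a : i ⟶ j), {v : ∀ j, F.obj j | F.map a (v i) = v j} := by
    ext v
    simp only [compatFam, Set.mem_ofPred_eq, Set.mem_inter_iff, Set.mem_iInter, Set.mem_preimage]
  rw [h1]
  refine @IsClosed.inter _ _ _ (prodCT F) ?_ ?_
  · refine @isClosed_iInter _ _ (prodCT F) _ fun j => ?_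
    exact @IsClosed.preimage _ _ (prodCT F) (constructibleTopology (F.obj j)) _ (hev j) _ (hZ j)
  · refine @isClosed_iInter _ _ (prodCT F) _ fun i => ?_
    refine @isClosed_iInter _ _ (prodCT F) _ fun j => ?_
    refine @isClosed_iInter _ _ (prodCT F) _ fun a => ?_
    refine @isClosed_eq (F.obj j) _ (constructibleTopology (F.obj j)) (prodCT F)
      t2Space_constructibleTopology _ _ ?_ (hev j)
    exact @Continuous.comp _ _ _ (prodCT F) (constructibleTopology (F.obj i))
      (constructibleTopology (F.obj j)) _ _ (spectral_continuous_constr (hFm a)) (hev i)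

theorem isCompact_compatFam (hF : ∀ j, SpectralSpace (F.obj j))
    (hFm : ∀ {i j : J} (a : i ⟶ j), IsSpectralMap (F.map a : F.obj i → F.obj j))
    (Z : ∀ j, Set (F.obj j))
    (hZ : ∀ j, IsClosed[constructibleTopology (F.obj j)] (Z j)) :
    IsCompact (compatFam F Z) := by
  have h1 : @IsCompact _ (prodCT F) (compatFam F Z) :=
    @IsClosed.isCompact _ (prodCT F) _ (compactSpace_prodCT hF) (isClosed_compatFam hF hFm Z hZ)
  have := @IsCompact.image _ _ (prodCT F) Pi.topologicalSpace _ id h1
    (continuous_id_of_le (prodCT_le hF))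
  simpa using this

theorem lim_isCompact_setOf (hF : ∀ j, SpectralSpace (F.obj j))
    (hFm : ∀ {i j : J} (a : i ⟶ j), IsSpectralMap (F.map a : F.obj i → F.obj j))
    (c : Cone F) (hc : IsLimit c) (Z : ∀ j, Set (F.obj j))
    (hZ : ∀ j, IsClosed[constructibleTopology (F.obj j)] (Z j)) :
    IsCompact {x : c.pt | ∀ j, c.π.app j x ∈ Z j} := by
  have h1 : {x : c.pt | ∀ j, c.π.app j x ∈ Z j} =
      (fun (x : c.pt) (j : J) => c.π.app j x) ⁻¹' (compatFam F Z) := by
    ext x
    simp only [Set.mem_ofPred_eq, Set.mem_preimage, compatFam]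
    constructor
    · intro h
      exact ⟨h, fun i j a => lim_π_comp c a x⟩
    · intro h; exact h.1
  rw [h1]
  refine (lim_isInducing c hc).isCompact_preimage' (isCompact_compatFam hF hFm Z hZ) ?_
  rintro v ⟨-, hv⟩
  obtain ⟨x, hx⟩ := lim_exists c hc v (fun a => hv _ _ a)
  exact ⟨x, funext hx⟩

theorem lim_compactSpace (hF : ∀ j, SpectralSpace (F.obj j))
    (hFm : ∀ {i j : J} (a : i ⟶ j), IsSpectralMap (F.map a : F.obj i → F.obj j))
    (c : Cone F) (hc : IsLimit c) : CompactSpace c.pt := by
  refine ⟨?_⟩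
  have := lim_isCompact_setOf hF hFm c hc (fun _ => Set.univ)
    (fun _ => @isClosed_univ _ (constructibleTopology _))
  simpa using this

end Compact

section Nonempty

/-- A subset of a space, with the topology induced by the constructible topology. -/
def CTSub {X : Type u} [TopologicalSpace X] (Z : Set X) : Type u := Z

/-- The inclusion of `CTSub Z`. -/
def CTSub.val {X : Type u} [TopologicalSpace X] {Z : Set X} (x : CTSub Z) : X :=
  Subtype.val (p := fun y => y ∈ Z) x

theorem CTSub.val_mem {X : Type u} [TopologicalSpace X] {Z : Set X} (x : CTSub Z) :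
    x.val ∈ Z := Subtype.property (p := fun y => y ∈ Z) x

/-- Constructor of points of `CTSub Z`. -/
def CTSub.mk {X : Type u} [TopologicalSpace X] {Z : Set X} (x : X) (hx : x ∈ Z) : CTSub Z :=
  (⟨x, hx⟩ : Z)

@[simp] theorem CTSub.val_mk {X : Type u} [TopologicalSpace X] {Z : Set X} (x : X) (hx : x ∈ Z) :
    (CTSub.mk x hx : CTSub Z).val = x := rfl

theorem CTSub.val_injective {X : Type u} [TopologicalSpace X] {Z : Set X} :
    Function.Injective (CTSub.val : CTSub Z → X) := fun _ _ h => Subtype.ext h

theorem CTSub.range_val {X : Type u} [TopologicalSpace X] {Z : Set X} :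
    Set.range (CTSub.val : CTSub Z → X) = Z := by
  ext x
  constructor
  · rintro ⟨y, rfl⟩; exact y.val_mem
  · intro hx; exact ⟨CTSub.mk x hx, rfl⟩

instance {X : Type u} [TopologicalSpace X] (Z : Set X) : TopologicalSpace (CTSub Z) :=
  (constructibleTopology X).induced (CTSub.val : CTSub Z → X)

theorem CTSub.isInducing_val {X : Type u} [TopologicalSpace X] (Z : Set X) :
    @IsInducing (CTSub Z) X _ (constructibleTopology X) (CTSub.val : CTSub Z → X) :=
  @IsInducing.mk _ _ _ (constructibleTopology X) _ rfl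

theorem CTSub.continuous_val {X : Type u} [TopologicalSpace X] (Z : Set X) :
    @Continuous (CTSub Z) X _ (constructibleTopology X) (CTSub.val : CTSub Z → X) :=
  continuous_iff_le_induced.mpr le_rfl

theorem CTSub.compactSpace {X : Type u} [TopologicalSpace X] [SpectralSpace X] (Z : Set X)
    (hZ : IsClosed[constructibleTopology X] Z) : CompactSpace (CTSub Z) := by
  have h1 : @IsCompact X (constructibleTopology X) Z :=
    @IsClosed.isCompact X (constructibleTopology X) Z compactSpace_constructibleTopology hZ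
  refine ⟨?_⟩
  have h2 := @IsInducing.isCompact_iff (CTSub Z) X _ (constructibleTopology X) Set.univ _
    (CTSub.isInducing_val Z)
  rw [h2, Set.image_univ, CTSub.range_val]
  exact h1

theorem CTSub.t2Space {X : Type u} [TopologicalSpace X] [SpectralSpace X] (Z : Set X) :
    T2Space (CTSub Z) :=
  @T2Space.of_injective_continuous (CTSub Z) X _ (constructibleTopology X)
    t2Space_constructibleTopology (CTSub.val : CTSub Z → X) CTSub.val_injective
    (CTSub.continuous_val Z)

variable {J : Type u} [SmallCategory J] {F : J ⥤ TopCat.{u}}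

theorem CTSub.continuous_restrict (hFm : ∀ {i j : J} (a : i ⟶ j),
    IsSpectralMap (F.map a : F.obj i → F.obj j)) (Z : ∀ j, Set (F.obj j))
    (hZm : ∀ {i j : J} (a : i ⟶ j), Set.MapsTo (F.map a) (Z i) (Z j)) {i j : J} (a : i ⟶ j) :
    @Continuous (CTSub (Z i)) (CTSub (Z j)) _ _
      (fun x => CTSub.mk (F.map a x.val) (hZm a x.val_mem)) := by
  rw [continuous_induced_rng]
  exact @Continuous.comp _ _ _ _ (constructibleTopology (F.obj i))
    (constructibleTopology (F.obj j)) _ _ (spectral_continuous_constr (hFm a))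
    (CTSub.continuous_val (Z i))

/-- The diagram of the subsets `Z j` with their constructible topologies. -/
def ctFunctor (hFm : ∀ {i j : J} (a : i ⟶ j), IsSpectralMap (F.map a : F.obj i → F.obj j))
    (Z : ∀ j, Set (F.obj j))
    (hZm : ∀ {i j : J} (a : i ⟶ j), Set.MapsTo (F.map a) (Z i) (Z j)) : J ⥤ TopCat.{u} where
  obj j := TopCat.of (CTSub (Z j))
  map {i j} a := TopCat.ofHom ⟨fun x => CTSub.mk (F.map a x.val) (hZm a x.val_mem),
    CTSub.continuous_restrict hFm Z hZm a⟩
  map_id j := by
    ext x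
    apply CTSub.val_injective
    simp
  map_comp a b := by
    ext x
    apply CTSub.val_injective
    simp

theorem exists_compatFam [IsCofiltered J] (hF : ∀ j, SpectralSpace (F.obj j))
    (hFm : ∀ {i j : J} (a : i ⟶ j), IsSpectralMap (F.map a : F.obj i → F.obj j))
    (Z : ∀ j, Set (F.obj j)) (hZne : ∀ j, (Z j).Nonempty)
    (hZ : ∀ j, IsClosed[constructibleTopology (F.obj j)] (Z j))
    (hZm : ∀ {i j : J} (a : i ⟶ j), Set.MapsTo (F.map a) (Z i) (Z j)) :
    (compatFam F Z).Nonempty := by
  let G := ctFunctor hFm Z hZm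
  have h1 : ∀ j, Nonempty (G.obj j) := fun j => by
    obtain ⟨z, hz⟩ := hZne j
    exact ⟨CTSub.mk z hz⟩
  have h2 : ∀ j, CompactSpace (G.obj j) := fun j => CTSub.compactSpace (Z j) (hZ j)
  have h3 : ∀ j, T2Space (G.obj j) := fun j => CTSub.t2Space (Z j)
  obtain ⟨v, hv⟩ := TopCat.nonempty_limitCone_of_compact_t2_cofiltered_system.{u, u} G
  refine ⟨fun j => CTSub.val (v j), fun j => CTSub.val_mem (v j), fun i j a => ?_⟩
  have := hv a
  exact congrArg CTSub.val this

theorem lim_exists_of_nonempty [IsCofiltered J] (hF : ∀ j, SpectralSpace (F.obj j))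
    (hFm : ∀ {i j : J} (a : i ⟶ j), IsSpectralMap (F.map a : F.obj i → F.obj j))
    (c : Cone F) (hc : IsLimit c)
    (Z : ∀ j, Set (F.obj j)) (hZne : ∀ j, (Z j).Nonempty)
    (hZ : ∀ j, IsClosed[constructibleTopology (F.obj j)] (Z j))
    (hZm : ∀ {i j : J} (a : i ⟶ j), Set.MapsTo (F.map a) (Z i) (Z j)) :
    ∃ x : c.pt, ∀ j, c.π.app j x ∈ Z j := by
  obtain ⟨v, hv1, hv2⟩ := exists_compatFam hF hFm Z hZne hZ hZm
  obtain ⟨x, hx⟩ := lim_exists c hc v (fun a => hv2 _ _ a)
  exact ⟨x, fun j => by rw [hx]; exact hv1 j⟩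

end Nonempty

end Groth.Agent.H38
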