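import Groth.Agent.H38.SpecLim
import Mathlib.CategoryTheory.Filtered.Final

set_option autoImplicit false
universe u

open CategoryTheory CategoryTheory.Limits Topology

namespace Groth.Agent.H38

section Key

variable {J : Type u} [SmallCategory J] [IsCofiltered J] {F : J ⥤ TopCat.{u}}

/-- Key lemma: if the preimage of a constructibly closed set in the limit is empty, it is already
empty at some stage. -/
theorem lim_exists_preimage_eq_empty (hF : ∀ j, SpectralSpace (F.obj j))
    (hFm : ∀ {i j : J} (a : i ⟶ j), IsSpectralMap (F.map a : F.obj i → F.obj j))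
    (c : Cone F) (hc : IsLimit c) (i : J) (Z : Set (F.obj i))
    (hZ : IsClosed[constructibleTopology (F.obj i)] Z)
    (h : c.π.app i ⁻¹' Z = ∅) : ∃ (j : J) (a : j ⟶ i), F.map a ⁻¹' Z = ∅ := by
  by_contra hcon
  push Not at hcon
  let G : Over i ⥤ TopCat.{u} := Over.forget i ⋙ F
  let c' : Cone G := c.whisker (Over.forget i)
  have hc' : IsLimit c' := (Functor.Initial.isLimitWhiskerEquiv (Over.forget i) c).symm hc
  have hG : ∀ j, SpectralSpace (G.obj j) := fun j => hF _
  have hGm : ∀ {j j' : Over i} (a : j ⟶ j'), IsSpectralMap (G.map a : G.obj j → G.obj j') :=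
    fun a => hFm _
  let Z' : ∀ j : Over i, Set (G.obj j) := fun j => F.map j.hom ⁻¹' Z
  obtain ⟨x, hx⟩ := lim_exists_of_nonempty hG hGm c' hc' Z'
    (fun j => hcon j.left j.hom)
    (fun j => @IsClosed.preimage _ _ (constructibleTopology _) (constructibleTopology _) _
      (spectral_continuous_constr (hFm j.hom)) _ hZ)
    (fun {j j'} a z hz => by
      change F.map j'.hom (F.map a.left z) ∈ Z
      have h1 : F.map j'.hom (F.map a.left z) = F.map j.hom z := by
        rw [← Over.w a, F.map_comp]; rfl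
      rw [h1]; exact hz)
  have h2 := hx (Over.mk (𝟙 i))
  have h3 : c.π.app i x ∈ Z := by
    have : F.map (𝟙 i) (c.π.app i x) ∈ Z := h2
    simpa using this
  have : x ∈ c.π.app i ⁻¹' Z := h3
  rw [h] at this
  exact this

theorem lim_preimage_subset_iff (hF : ∀ j, SpectralSpace (F.obj j))
    (hFm : ∀ {i j : J} (a : i ⟶ j), IsSpectralMap (F.map a : F.obj i → F.obj j))
    (c : Cone F) (hc : IsLimit c) (i : J) (E F' : Set (F.obj i))
    (hE : IsClosed[constructibleTopology (F.obj i)] E)
    (hF' : IsOpen[constructibleTopology (F.obj i)] F') :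
    (c.π.app i ⁻¹' E ⊆ c.π.app i ⁻¹' F') ↔
      ∃ (j : J) (a : j ⟶ i), F.map a ⁻¹' E ⊆ F.map a ⁻¹' F' := by
  constructor
  · intro h
    have hZ : IsClosed[constructibleTopology (F.obj i)] (E \ F') :=
      @IsClosed.sdiff _ _ _ (constructibleTopology (F.obj i)) hE hF'
    have h1 : c.π.app i ⁻¹' (E \ F') = ∅ := by
      rw [Set.preimage_sdiff, Set.sdiff_eq_empty]; exact h
    obtain ⟨j, a, ha⟩ := lim_exists_preimage_eq_empty hF hFm c hc i _ hZ h1
    refine ⟨j, a, ?_⟩
    rw [Set.preimage_sdiff, Set.sdiff_eq_empty] at ha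
    exact ha
  · rintro ⟨j, a, ha⟩ x hx
    have h1 : c.π.app j x ∈ F.map a ⁻¹' E := by
      change F.map a (c.π.app j x) ∈ E
      rw [lim_π_comp]; exact hx
    have h2 := ha h1
    change F.map a (c.π.app j x) ∈ F' at h2
    rw [lim_π_comp] at h2
    exact h2

end Key

end Groth.Agent.H38
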