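import Groth.Agent.H38.SpecLim2
import Mathlib.Topology.Sober

set_option autoImplicit false
universe u

open CategoryTheory CategoryTheory.Limits Topology TopologicalSpace

namespace Groth.Agent.H38

section NoCofiltered

variable {J : Type u} [SmallCategory J] {F : J ⥤ TopCat.{u}}

theorem lim_continuous_π (c : Cone F) (j : J) : Continuous (c.π.app j : c.pt → F.obj j) :=
  (c.π.app j).hom.continuous

/-- The preimage in the limit of a constructibly closed set is compact. -/
theorem lim_isCompact_preimage_of_isClosed_constr (hF : ∀ j, SpectralSpace (F.obj j))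
    (hFm : ∀ {i j : J} (a : i ⟶ j), IsSpectralMap (F.map a : F.obj i → F.obj j))
    (c : Cone F) (hc : IsLimit c) (j : J) (Z : Set (F.obj j))
    (hZ : IsClosed[constructibleTopology (F.obj j)] Z) : IsCompact (c.π.app j ⁻¹' Z) := by
  let Z' : ∀ k, Set (F.obj k) := fun k => ⋂ a : k ⟶ j, F.map a ⁻¹' Z
  have h1 := lim_isCompact_setOf hF hFm c hc Z' (fun k =>
    @isClosed_iInter _ _ (constructibleTopology _) _ fun a =>
      @IsClosed.preimage _ _ (constructibleTopology _) (constructibleTopology _) _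
        (spectral_continuous_constr (hFm a)) _ hZ)
  have h2 : c.π.app j ⁻¹' Z = {x : c.pt | ∀ k, c.π.app k x ∈ Z' k} := by
    ext x
    simp only [Set.mem_preimage, Z', Set.mem_iInter]
    constructor
    · intro hx k a
      rw [lim_π_comp]; exact hx
    · intro hx
      have := hx j (𝟙 j)
      simpa using this
  rw [h2]
  exact h1

theorem lim_isCompact_preimage (hF : ∀ j, SpectralSpace (F.obj j))
    (hFm : ∀ {i j : J} (a : i ⟶ j), IsSpectralMap (F.map a : F.obj i → F.obj j))
    (c : Cone F) (hc : IsLimit c) (j : J) (U : Set (F.obj j)) (hU : IsOpen U)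
    (hUc : IsCompact U) : IsCompact (c.π.app j ⁻¹' U) :=
  lim_isCompact_preimage_of_isClosed_constr hF hFm c hc j U
    (isClosed_constructibleTopology_of_isOpen_of_isCompact hU hUc)

theorem lim_isSpectralMap_π (hF : ∀ j, SpectralSpace (F.obj j))
    (hFm : ∀ {i j : J} (a : i ⟶ j), IsSpectralMap (F.map a : F.obj i → F.obj j))
    (c : Cone F) (hc : IsLimit c) (j : J) : IsSpectralMap (c.π.app j : c.pt → F.obj j) :=
  ⟨lim_continuous_π c j, fun U hU hUc => lim_isCompact_preimage hF hFm c hc j U hU hUc⟩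

theorem lim_t0Space (hF : ∀ j, SpectralSpace (F.obj j)) (c : Cone F) (hc : IsLimit c) :
    T0Space c.pt := by
  refine ⟨fun x y h => lim_ext c hc fun j => ?_⟩
  exact (h.map (lim_continuous_π c j)).eq

end NoCofiltered

section Cofiltered

variable {J : Type u} [SmallCategory J] [IsCofiltered J] {F : J ⥤ TopCat.{u}}

/-- The family of pullbacks of compact opens. -/
def limBasis (c : Cone F) : Set (Set c.pt) :=
  {V | ∃ (j : J) (U : Set (F.obj j)), IsOpen U ∧ IsCompact U ∧ c.π.app j ⁻¹' U = V}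

theorem limBasis_univ (hF : ∀ j, SpectralSpace (F.obj j)) (c : Cone F) :
    Set.univ ∈ limBasis c := by
  obtain ⟨j⟩ := IsCofiltered.nonempty (C := J)
  exact ⟨j, Set.univ, isOpen_univ, isCompact_univ, Set.preimage_univ⟩

theorem limBasis_empty (c : Cone F) : (∅ : Set c.pt) ∈ limBasis c := by
  obtain ⟨j⟩ := IsCofiltered.nonempty (C := J)
  exact ⟨j, ∅, isOpen_empty, isCompact_empty, Set.preimage_empty⟩

theorem limBasis_inter (hF : ∀ j, SpectralSpace (F.obj j))
    (hFm : ∀ {i j : J} (a : i ⟶ j), IsSpectralMap (F.map a : F.obj i → F.obj j))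
    (c : Cone F) {V W : Set c.pt} (hV : V ∈ limBasis c) (hW : W ∈ limBasis c) :
    V ∩ W ∈ limBasis c := by
  obtain ⟨i, U, hU, hUc, rfl⟩ := hV
  obtain ⟨j, U', hU', hUc', rfl⟩ := hW
  let k := IsCofiltered.min i j
  let a : k ⟶ i := IsCofiltered.minToLeft i j
  let b : k ⟶ j := IsCofiltered.minToRight i j
  refine ⟨k, F.map a ⁻¹' U ∩ F.map b ⁻¹' U', ?_, ?_, ?_⟩
  · exact (hU.preimage (hFm a).continuous).inter (hU'.preimage (hFm b).continuous)
  · exact QuasiSeparatedSpace.inter_isCompact _ _ (hU.preimage (hFm a).continuous)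
      ((hFm a).isCompact_preimage_of_isOpen hU hUc) (hU'.preimage (hFm b).continuous)
      ((hFm b).isCompact_preimage_of_isOpen hU' hUc')
  · ext x
    simp only [Set.mem_preimage, Set.mem_inter_iff, lim_π_comp]

theorem limBasis_union
    (hFm : ∀ {i j : J} (a : i ⟶ j), IsSpectralMap (F.map a : F.obj i → F.obj j))
    (c : Cone F) {V W : Set c.pt} (hV : V ∈ limBasis c) (hW : W ∈ limBasis c) :
    V ∪ W ∈ limBasis c := by
  obtain ⟨i, U, hU, hUc, rfl⟩ := hV
  obtain ⟨j, U', hU', hUc', rfl⟩ := hW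
  let k := IsCofiltered.min i j
  let a : k ⟶ i := IsCofiltered.minToLeft i j
  let b : k ⟶ j := IsCofiltered.minToRight i j
  refine ⟨k, F.map a ⁻¹' U ∪ F.map b ⁻¹' U', ?_, ?_, ?_⟩
  · exact (hU.preimage (hFm a).continuous).union (hU'.preimage (hFm b).continuous)
  · exact ((hFm a).isCompact_preimage_of_isOpen hU hUc).union
      ((hFm b).isCompact_preimage_of_isOpen hU' hUc')
  · ext x
    simp only [Set.mem_preimage, Set.mem_union, lim_π_comp]

theorem limBasis_biInter (hF : ∀ j, SpectralSpace (F.obj j))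
    (hFm : ∀ {i j : J} (a : i ⟶ j), IsSpectralMap (F.map a : F.obj i → F.obj j))
    (c : Cone F) {ι : Type*} (S : Finset ι) (V : ι → Set c.pt)
    (hV : ∀ s ∈ S, V s ∈ limBasis c) : (⋂ s ∈ S, V s) ∈ limBasis c := by
  classical
  induction S using Finset.induction_on with
  | empty => simpa using limBasis_univ hF c
  | insert s S hs ih =>
    rw [Finset.set_biInter_insert]
    exact limBasis_inter hF hFm c (hV s (Finset.mem_insert_self s S))
      (ih fun t ht => hV t (Finset.mem_insert_of_mem ht))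

theorem limBasis_biUnion
    (hFm : ∀ {i j : J} (a : i ⟶ j), IsSpectralMap (F.map a : F.obj i → F.obj j))
    (c : Cone F) {ι : Type*} (S : Finset ι) (V : ι → Set c.pt)
    (hV : ∀ s ∈ S, V s ∈ limBasis c) : (⋃ s ∈ S, V s) ∈ limBasis c := by
  classical
  induction S using Finset.induction_on with
  | empty => simpa using limBasis_empty c
  | insert s S hs ih =>
    rw [Finset.set_biUnion_insert]
    exact limBasis_union hFm c (hV s (Finset.mem_insert_self s S))
      (ih fun t ht => hV t (Finset.mem_insert_of_mem ht))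

omit [IsCofiltered J] in
theorem limBasis_isOpen (c : Cone F) {V : Set c.pt} (hV : V ∈ limBasis c) : IsOpen V := by
  obtain ⟨j, U, hU, -, rfl⟩ := hV
  exact hU.preimage (lim_continuous_π c j)

omit [IsCofiltered J] in
theorem limBasis_isCompact (hF : ∀ j, SpectralSpace (F.obj j))
    (hFm : ∀ {i j : J} (a : i ⟶ j), IsSpectralMap (F.map a : F.obj i → F.obj j))
    (c : Cone F) (hc : IsLimit c) {V : Set c.pt} (hV : V ∈ limBasis c) : IsCompact V := by
  obtain ⟨j, U, hU, hUc, rfl⟩ := hV
  exact lim_isCompact_preimage hF hFm c hc j U hU hUc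

theorem isTopologicalBasis_limBasis (hF : ∀ j, SpectralSpace (F.obj j))
    (hFm : ∀ {i j : J} (a : i ⟶ j), IsSpectralMap (F.map a : F.obj i → F.obj j))
    (c : Cone F) (hc : IsLimit c) : IsTopologicalBasis (limBasis c) := by
  refine isTopologicalBasis_of_isOpen_of_nhds (fun V hV => limBasis_isOpen c hV) ?_
  intro x W hxW hW
  obtain ⟨W', hW', rfl⟩ := (lim_isInducing c hc).isOpen_iff.mp hW
  obtain ⟨I₀, u, hu, hsub⟩ := isOpen_pi_iff.mp hW' _ hxW
  have : ∀ j, ∃ U : Set (F.obj j), IsOpen U ∧ IsCompact U ∧ c.π.app j x ∈ U ∧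
      (j ∈ I₀ → U ⊆ u j) := by
    intro j
    by_cases hj : j ∈ I₀
    · obtain ⟨U, ⟨hUo, hUc⟩, hxU, hUu⟩ :=
        (PrespectralSpace.isTopologicalBasis (X := F.obj j)).exists_subset_of_mem_open
          (hu j hj).2 (hu j hj).1
      exact ⟨U, hUo, hUc, hxU, fun _ => hUu⟩
    · exact ⟨Set.univ, isOpen_univ, isCompact_univ, Set.mem_univ _, fun h => absurd h hj⟩
  choose U hU1 hU2 hU3 hU4 using this
  refine ⟨⋂ j ∈ I₀, c.π.app j ⁻¹' U j, ?_, ?_, ?_⟩
  · exact limBasis_biInter hF hFm c I₀ _ fun j _ => ⟨j, U j, hU1 j, hU2 j, rfl⟩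
  · simp only [Set.mem_iInter, Set.mem_preimage]
    exact fun j _ => hU3 j
  · intro y hy
    simp only [Set.mem_iInter, Set.mem_preimage] at hy
    apply hsub
    intro j hj
    exact hU4 j hj (hy j hj)

theorem lim_prespectralSpace (hF : ∀ j, SpectralSpace (F.obj j))
    (hFm : ∀ {i j : J} (a : i ⟶ j), IsSpectralMap (F.map a : F.obj i → F.obj j))
    (c : Cone F) (hc : IsLimit c) : PrespectralSpace c.pt :=
  PrespectralSpace.of_isTopologicalBasis (isTopologicalBasis_limBasis hF hFm c hc)
    fun _ hV => limBasis_isCompact hF hFm c hc hV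

theorem lim_quasiSeparatedSpace (hF : ∀ j, SpectralSpace (F.obj j))
    (hFm : ∀ {i j : J} (a : i ⟶ j), IsSpectralMap (F.map a : F.obj i → F.obj j))
    (c : Cone F) (hc : IsLimit c) : QuasiSeparatedSpace c.pt := by
  have hb : IsTopologicalBasis (Set.range (Subtype.val : limBasis c → Set c.pt)) := by
    rw [Subtype.range_coe]
    exact isTopologicalBasis_limBasis hF hFm c hc
  refine QuasiSeparatedSpace.of_isTopologicalBasis hb fun V W => ?_
  exact limBasis_isCompact hF hFm c hc (limBasis_inter hF hFm c V.2 W.2)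

theorem lim_quasiSober (hF : ∀ j, SpectralSpace (F.obj j))
    (hFm : ∀ {i j : J} (a : i ⟶ j), IsSpectralMap (F.map a : F.obj i → F.obj j))
    (c : Cone F) (hc : IsLimit c) : QuasiSober c.pt := by
  refine ⟨fun {Z} hZ hZc => ?_⟩
  have hirr : ∀ j, IsIrreducible (c.π.app j '' Z) := fun j =>
    hZ.image _ (lim_continuous_π c j).continuousOn
  let ξ : ∀ j, F.obj j := fun j => (hirr j).genericPoint
  have hξ : ∀ j, IsGenericPoint (ξ j) (closure (c.π.app j '' Z)) := fun j =>
    (hirr j).isGenericPoint_genericPoint_closure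
  have hcompat : ∀ {i j : J} (a : i ⟶ j), F.map a (ξ i) = ξ j := by
    intro i j a
    have h1 := (hξ i).image (hFm a).continuous
    rw [closure_image_closure (hFm a).continuous, ← Set.image_comp] at h1
    have h2 : (F.map a : F.obj i → F.obj j) ∘ (c.π.app i : c.pt → F.obj i) = c.π.app j := by
      funext x; exact lim_π_comp c a x
    rw [h2] at h1
    exact h1.eq (hξ j)
  obtain ⟨x, hx⟩ := lim_exists c hc ξ hcompat
  have hB := isTopologicalBasis_limBasis hF hFm c hc
  have hxZ : x ∈ Z := by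
    rw [← hZc.closure_eq, hB.mem_closure_iff]
    rintro _ ⟨j, U, hU, -, rfl⟩ hxU
    have h1 : ξ j ∈ closure (c.π.app j '' Z) := (hξ j).mem
    rw [Set.mem_preimage, hx j] at hxU
    obtain ⟨_, hyU, z, hz, rfl⟩ := mem_closure_iff.mp h1 U hU hxU
    exact ⟨z, hyU, hz⟩
  refine ⟨x, ?_⟩
  rw [IsGenericPoint]
  apply subset_antisymm
  · exact closure_minimal (Set.singleton_subset_iff.mpr hxZ) hZc
  · intro z hz
    rw [hB.mem_closure_iff]
    rintro _ ⟨j, U, hU, -, rfl⟩ hzU
    refine ⟨x, ?_, rfl⟩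
    rw [Set.mem_preimage, hx j]
    have h1 : c.π.app j z ∈ closure (c.π.app j '' Z) := subset_closure ⟨z, hz, rfl⟩
    have h2 : ξ j ⤳ c.π.app j z := (hξ j).specializes h1
    exact h2.mem_open hU hzU

theorem lim_spectralSpace (hF : ∀ j, SpectralSpace (F.obj j))
    (hFm : ∀ {i j : J} (a : i ⟶ j), IsSpectralMap (F.map a : F.obj i → F.obj j))
    (c : Cone F) (hc : IsLimit c) : SpectralSpace c.pt :=
  { toT0Space := lim_t0Space hF c hc
    toCompactSpace := lim_compactSpace hF hFm c hc
    toQuasiSober := lim_quasiSober hF hFm c hc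
    toQuasiSeparatedSpace := lim_quasiSeparatedSpace hF hFm c hc
    toPrespectralSpace := lim_prespectralSpace hF hFm c hc }

end Cofiltered

end Groth.Agent.H38
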