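import Groth.Agent.H38.SpectralDir
import Mathlib.Topology.Constructible
import Mathlib.Topology.NoetherianSpace

set_option autoImplicit false

namespace Groth.Agent.H38

open Topology TopologicalSpace

universe u v
variable {X : Type u} [tX : TopologicalSpace X]

/-- Constructible subsets of a quasi-compact space are clopen in the constructible topology. -/
theorem isClopen_constructibleTopology_of_isConstructible [CompactSpace X] {s : Set X}
    (hs : IsConstructible s) : @IsClopen X (constructibleTopology X) s := by
  induction hs using IsConstructible.empty_union_induction with
  | open_retrocompact U hUopen hUcomp =>
    exact isClopen_constructibleTopology_of_isOpen_of_isCompact hUopen hUcomp.isCompact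
  | union s hs t ht hs' ht' => exact @IsClopen.union X (constructibleTopology X) s t hs' ht'
  | compl s hs hs' => exact @IsClopen.compl X (constructibleTopology X) s hs'

theorem spectralSpace_of_noetherianSpace [NoetherianSpace X] [QuasiSober X] [T0Space X] :
    SpectralSpace X :=
  { toT0Space := inferInstance, toCompactSpace := inferInstance, toQuasiSober := inferInstance,
    toQuasiSeparatedSpace := inferInstance, toPrespectralSpace := inferInstance }

end Groth.Agent.H38
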