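import Groth.Agent.H38.SpectralSub

set_option autoImplicit false

namespace Groth.Agent.H38

open Topology TopologicalSpace

universe u v
variable {X : Type u} [tX : TopologicalSpace X]

/-- For a directed family of constructibly closed sets whose intersection avoids a constructibly
closed set, a single member avoids it. -/
theorem elim_directed_family_constr [CompactSpace X] [QuasiSober X]
    [PrespectralSpace X] [QuasiSeparatedSpace X] {K : Set X}
    (hK : IsClosed[constructibleTopology X] K) {ι : Type v} [Nonempty ι] (t : ι → Set X)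
    (ht : ∀ i, IsClosed[constructibleTopology X] (t i)) (hst : K ∩ ⋂ i, t i = ∅)
    (hdt : Directed (· ⊇ ·) t) : ∃ i, K ∩ t i = ∅ :=
  @IsCompact.elim_directed_family_closed X (constructibleTopology X) K ι _
    (@IsClosed.isCompact X (constructibleTopology X) K compactSpace_constructibleTopology hK)
    t ht hst hdt

theorem isClosed_constructibleTopology_iInter {ι : Sort v} {t : ι → Set X}
    (ht : ∀ i, IsClosed[constructibleTopology X] (t i)) :
    IsClosed[constructibleTopology X] (⋂ i, t i) :=
  @isClosed_iInter X ι (constructibleTopology X) t ht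

/-- The compact open neighbourhoods of a point. -/
def CompactOpenNhds (x : X) : Type u := {U : Set X // IsOpen U ∧ IsCompact U ∧ x ∈ U}

instance [CompactSpace X] (x : X) : Nonempty (CompactOpenNhds x) :=
  ⟨⟨Set.univ, isOpen_univ, isCompact_univ, Set.mem_univ x⟩⟩

theorem directed_compactOpenNhds [QuasiSeparatedSpace X] (x : X) :
    Directed (· ⊇ ·) (fun U : CompactOpenNhds x => U.1) := by
  intro U V
  exact ⟨⟨U.1 ∩ V.1, U.2.1.inter V.2.1, U.2.2.1.inter_of_isOpen V.2.2.1 U.2.1 V.2.1,
    U.2.2.2, V.2.2.2⟩, Set.inter_subset_left, Set.inter_subset_right⟩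

theorem iInter_compactOpenNhds [PrespectralSpace X] (x : X) :
    ⋂ U : CompactOpenNhds x, U.1 = {z | z ⤳ x} := by
  have hb := PrespectralSpace.isTopologicalBasis (X := X)
  ext z
  simp only [Set.mem_iInter, Set.mem_ofPred_eq, specializes_iff_forall_open]
  constructor
  · intro h s hs hxs
    obtain ⟨V, ⟨hV₁, hV₂⟩, hxV, hVs⟩ := hb.exists_subset_of_mem_open hxs hs
    exact hVs (h ⟨V, hV₁, hV₂, hxV⟩)
  · intro h U
    exact h U.1 U.2.1 U.2.2.2

theorem isClosed_constructibleTopology_generalizations [PrespectralSpace X] (x : X) :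
    IsClosed[constructibleTopology X] {z | z ⤳ x} := by
  rw [← iInter_compactOpenNhds]
  exact isClosed_constructibleTopology_iInter fun U =>
    isClosed_constructibleTopology_of_isOpen_of_isCompact U.2.1 U.2.2.1

/-- In a spectral space two points either have a common generalization or disjoint open
neighbourhoods. -/
theorem exists_common_generalization_or_disjoint [CompactSpace X] [QuasiSober X]
    [PrespectralSpace X] [QuasiSeparatedSpace X] (x y : X) :
    (∃ z : X, z ⤳ x ∧ z ⤳ y) ∨
    (∃ U V : Set X, IsOpen U ∧ IsOpen V ∧ x ∈ U ∧ y ∈ V ∧ Disjoint U V) := by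
  by_cases h : ∃ z : X, z ⤳ x ∧ z ⤳ y
  · exact Or.inl h
  right
  have hempty : {z | z ⤳ y} ∩ ⋂ U : CompactOpenNhds x, U.1 = ∅ := by
    rw [iInter_compactOpenNhds]
    ext z
    simp only [Set.mem_inter_iff, Set.mem_ofPred_eq, Set.mem_empty_iff_false, iff_false, not_and]
    intro hzy hzx
    exact h ⟨z, hzx, hzy⟩
  obtain ⟨U, hU⟩ := elim_directed_family_constr
    (isClosed_constructibleTopology_generalizations y) (fun U : CompactOpenNhds x => U.1)
    (fun U => isClosed_constructibleTopology_of_isOpen_of_isCompact U.2.1 U.2.2.1) hempty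
    (directed_compactOpenNhds x)
  rw [← iInter_compactOpenNhds, Set.inter_comm] at hU
  obtain ⟨V, hV⟩ := elim_directed_family_constr
    (isClosed_constructibleTopology_of_isOpen_of_isCompact U.2.1 U.2.2.1)
    (fun V : CompactOpenNhds y => V.1)
    (fun V => isClosed_constructibleTopology_of_isOpen_of_isCompact V.2.1 V.2.2.1) hU
    (directed_compactOpenNhds y)
  exact ⟨U.1, V.1, U.2.1, V.2.1, U.2.2.2, V.2.2.2, Set.disjoint_iff_inter_eq_empty.mpr hV⟩

/-- Neighbourhood property of directed intersections of compact opens. -/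
theorem exists_subset_of_iInter_subset [CompactSpace X] [QuasiSober X]
    [PrespectralSpace X] [QuasiSeparatedSpace X] {I : Type v} [Nonempty I] (U : I → Set X)
    (hU : ∀ i, IsOpen (U i) ∧ IsCompact (U i)) (hdir : ∀ i j, ∃ k, U k ⊆ U i ∩ U j)
    {V : Set X} (hV : IsOpen V) (hsub : (⋂ i, U i) ⊆ V) : ∃ i, U i ⊆ V := by
  have hempty : Vᶜ ∩ ⋂ i, U i = ∅ := by
    ext z
    simp only [Set.mem_inter_iff, Set.mem_compl_iff, Set.mem_empty_iff_false, iff_false, not_and]
    intro hz hz'
    exact absurd (hsub hz') hz
  obtain ⟨i, hi⟩ := elim_directed_family_constr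
    (isClosed_constructibleTopology_of_isClosed hV.isClosed_compl) U
    (fun i => isClosed_constructibleTopology_of_isOpen_of_isCompact (hU i).1 (hU i).2) hempty
    (fun i j => by
      obtain ⟨k, hk⟩ := hdir i j
      exact ⟨k, hk.trans Set.inter_subset_left, hk.trans Set.inter_subset_right⟩)
  refine ⟨i, fun z hz => ?_⟩
  by_contra hzV
  have : z ∈ Vᶜ ∩ U i := ⟨hzV, hz⟩
  rw [hi] at this
  exact this

end Groth.Agent.H38
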