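import Groth.Agent.H38.SpectralConstr

set_option autoImplicit false

namespace Groth.Agent.H38

open Topology TopologicalSpace Set

universe u v
variable {X : Type u} [tX : TopologicalSpace X]

/-- The set of generalizations of points of a quasi-compact set is the intersection of the
quasi-compact opens containing it. -/
theorem generalizations_eq_sInter [PrespectralSpace X] {E : Set X} (hE : IsCompact E) :
    {x | ∃ e ∈ E, x ⤳ e} = ⋂₀ {U : Set X | IsOpen U ∧ IsCompact U ∧ E ⊆ U} := by
  have hb := PrespectralSpace.isTopologicalBasis (X := X)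
  apply subset_antisymm
  · rintro x ⟨e, he, hxe⟩ U ⟨hUo, -, hEU⟩
    exact hxe.mem_open hUo (hEU he)
  · intro x hx
    by_contra hcon
    simp only [mem_ofPred_eq, not_exists, not_and] at hcon
    -- cover `E` by compact opens missing `x`
    have key : ∃ U : Set X, IsOpen U ∧ IsCompact U ∧ E ⊆ U ∧ x ∉ U := by
      refine hE.induction_on (p := fun A => ∃ U : Set X, IsOpen U ∧ IsCompact U ∧ A ⊆ U ∧ x ∉ U)
        ⟨∅, isOpen_empty, isCompact_empty, subset_rfl, fun h => h⟩ ?_ ?_ ?_
      · rintro A B hAB ⟨U, hUo, hUc, hBU, hxU⟩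
        exact ⟨U, hUo, hUc, hAB.trans hBU, hxU⟩
      · rintro A B ⟨U, hUo, hUc, hAU, hxU⟩ ⟨V, hVo, hVc, hBV, hxV⟩
        refine ⟨U ∪ V, hUo.union hVo, hUc.union hVc, union_subset_union hAU hBV, ?_⟩
        rintro (h | h)
        · exact hxU h
        · exact hxV h
      · intro e he
        have hne : ¬ x ⤳ e := hcon e he
        rw [specializes_iff_mem_closure] at hne
        obtain ⟨V, ⟨hVo, hVc⟩, heV, hVsub⟩ :=
          hb.exists_subset_of_mem_open (show e ∈ (closure ({x} : Set X))ᶜ from hne)
            isClosed_closure.isOpen_compl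
        exact ⟨V, mem_nhdsWithin_of_mem_nhds (hVo.mem_nhds heV), V, hVo, hVc, subset_rfl,
          fun hxV => hVsub hxV (subset_closure rfl)⟩
    obtain ⟨U, hUo, hUc, hEU, hxU⟩ := key
    exact hxU (hx U ⟨hUo, hUc, hEU⟩)

theorem isClosed_constructibleTopology_sInter {S : Set (Set X)}
    (hS : ∀ s ∈ S, IsClosed[constructibleTopology X] s) :
    IsClosed[constructibleTopology X] (⋂₀ S) :=
  @isClosed_sInter X (constructibleTopology X) S hS

theorem isClosed_constructibleTopology_generalizations_of_isCompact [PrespectralSpace X]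
    {E : Set X} (hE : IsCompact E) :
    IsClosed[constructibleTopology X] {x | ∃ e ∈ E, x ⤳ e} := by
  rw [generalizations_eq_sInter hE]
  exact isClosed_constructibleTopology_sInter fun U hU =>
    isClosed_constructibleTopology_of_isOpen_of_isCompact hU.1 hU.2.1

end Groth.Agent.H38
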