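import Mathlib.Topology.Spectral.Basic
import Mathlib.Topology.Bases

set_option autoImplicit false

namespace Groth.Agent.H38

open Topology TopologicalSpace

universe u v
variable {X : Type u} [TopologicalSpace X] {Y : Type v} [TopologicalSpace Y]

theorem quasiSober_prod [QuasiSober X] [QuasiSober Y] : QuasiSober (X × Y) := by
  refine ⟨fun {Z} hZ hZc => ?_⟩
  have hA : IsIrreducible (Prod.fst '' Z) := hZ.image _ continuous_fst.continuousOn
  have hB : IsIrreducible (Prod.snd '' Z) := hZ.image _ continuous_snd.continuousOn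
  have hgA := hA.isGenericPoint_genericPoint_closure
  have hgB := hB.isGenericPoint_genericPoint_closure
  set ξ := hA.genericPoint
  set η := hB.genericPoint
  have hmem : (ξ, η) ∈ Z := by
    by_contra hnot
    obtain ⟨U, V, hU, hV, hξU, hηV, hUV⟩ := isOpen_prod_iff.mp hZc.isOpen_compl ξ η hnot
    obtain ⟨a, haU, z₁, hz₁, rfl⟩ := mem_closure_iff.mp hgA.mem U hU hξU
    obtain ⟨b, hbV, z₂, hz₂, rfl⟩ := mem_closure_iff.mp hgB.mem V hV hηV
    obtain ⟨z, hzZ, hz₁', hz₂'⟩ := hZ.2 (Prod.fst ⁻¹' U) (Prod.snd ⁻¹' V)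
      (hU.preimage continuous_fst) (hV.preimage continuous_snd) ⟨z₁, hz₁, haU⟩ ⟨z₂, hz₂, hbV⟩
    exact hUV (Set.mk_mem_prod hz₁' hz₂') hzZ
  refine ⟨(ξ, η), ?_⟩
  rw [isGenericPoint_def]
  apply subset_antisymm
  · exact closure_minimal (Set.singleton_subset_iff.mpr hmem) hZc
  · rw [← Set.singleton_prod_singleton, closure_prod_eq, hgA.def, hgB.def]
    intro z hz
    exact ⟨subset_closure ⟨z, hz, rfl⟩, subset_closure ⟨z, hz, rfl⟩⟩

theorem prespectralSpace_prod [PrespectralSpace X] [PrespectralSpace Y] :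
    PrespectralSpace (X × Y) := by
  refine PrespectralSpace.of_isTopologicalBasis
    ((PrespectralSpace.isTopologicalBasis (X := X)).prod
      (PrespectralSpace.isTopologicalBasis (X := Y))) ?_
  rintro _ ⟨U, ⟨-, hU⟩, V, ⟨-, hV⟩, rfl⟩
  exact hU.prod hV

theorem quasiSeparatedSpace_prod [PrespectralSpace X] [PrespectralSpace Y]
    [QuasiSeparatedSpace X] [QuasiSeparatedSpace Y] : QuasiSeparatedSpace (X × Y) := by
  let ι := {U : Set X // IsOpen U ∧ IsCompact U} × {V : Set Y // IsOpen V ∧ IsCompact V}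
  let b : ι → Set (X × Y) := fun p => p.1.1 ×ˢ p.2.1
  have hb : IsTopologicalBasis (Set.range b) := by
    have := (PrespectralSpace.isTopologicalBasis (X := X)).prod
      (PrespectralSpace.isTopologicalBasis (X := Y))
    convert this using 1
    ext s
    constructor
    · rintro ⟨⟨U, V⟩, rfl⟩
      exact ⟨U.1, U.2, V.1, V.2, rfl⟩
    · rintro ⟨U, hU, V, hV, rfl⟩
      exact ⟨(⟨U, hU⟩, ⟨V, hV⟩), rfl⟩
  refine QuasiSeparatedSpace.of_isTopologicalBasis hb fun i j => ?_
  have : b i ∩ b j = (i.1.1 ∩ j.1.1) ×ˢ (i.2.1 ∩ j.2.1) := by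
    simp only [b]
    rw [Set.prod_inter_prod]
  rw [this]
  exact (i.1.2.2.inter_of_isOpen j.1.2.2 i.1.2.1 j.1.2.1).prod
    (i.2.2.2.inter_of_isOpen j.2.2.2 i.2.2.1 j.2.2.1)

theorem spectralSpace_prod [SpectralSpace X] [SpectralSpace Y] : SpectralSpace (X × Y) :=
  { toT0Space := inferInstance, toCompactSpace := inferInstance, toQuasiSober := quasiSober_prod,
    toQuasiSeparatedSpace := quasiSeparatedSpace_prod, toPrespectralSpace := prespectralSpace_prod }

end Groth.Agent.H38
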