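import Groth.Agent.H38.Spectral

set_option autoImplicit false

namespace Groth.Agent.H38

open Topology TopologicalSpace

universe u v
variable {X : Type u} [tX : TopologicalSpace X]

theorem isClosed_constructibleTopology_inter {A B : Set X}
    (hA : IsClosed[constructibleTopology X] A) (hB : IsClosed[constructibleTopology X] B) :
    IsClosed[constructibleTopology X] (A ∩ B) :=
  @IsClosed.inter X A B (constructibleTopology X) hA hB

theorem isClosed_constructibleTopology_union {A B : Set X}
    (hA : IsClosed[constructibleTopology X] A) (hB : IsClosed[constructibleTopology X] B) :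
    IsClosed[constructibleTopology X] (A ∪ B) :=
  @IsClosed.union X A B (constructibleTopology X) hA hB

/-- For `E` constructibly closed in a spectral space, the trace of a compact open on `E` is
compact. -/
theorem isCompact_preimage_val_of_isClosed_constructibleTopology [SpectralSpace X] {E : Set X}
    (hE : IsClosed[constructibleTopology X] E) {U : Set X} (hU : IsOpen U) (hUc : IsCompact U) :
    IsCompact ((Subtype.val : E → X) ⁻¹' U) := by
  have h1 : IsCompact (E ∩ U) :=
    isCompact_of_isClosed_constructibleTopology (isClosed_constructibleTopology_inter hE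
      (isClosed_constructibleTopology_of_isOpen_of_isCompact hU hUc))
  have h2 : (Subtype.val : E → X) ⁻¹' U = (Subtype.val : E → X) ⁻¹' (E ∩ U) := by
    ext x; simp
  rw [h2]
  exact IsInducing.subtypeVal.isCompact_preimage' h1
    (by rw [Subtype.range_coe]; exact Set.inter_subset_left)

theorem isSpectralMap_subtype_val_of_isClosed_constructibleTopology [SpectralSpace X] {E : Set X}
    (hE : IsClosed[constructibleTopology X] E) : IsSpectralMap (Subtype.val : E → X) :=
  ⟨continuous_subtype_val, fun _ hs hsc =>
    isCompact_preimage_val_of_isClosed_constructibleTopology hE hs hsc⟩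

/-- A constructibly closed subset of a spectral space is spectral. -/
theorem spectralSpace_of_isClosed_constructibleTopology [SpectralSpace X] (E : Set X)
    (hE : IsClosed[constructibleTopology X] E) : SpectralSpace E := by
  have hcomp : CompactSpace E :=
    isCompact_iff_compactSpace.mp (isCompact_of_isClosed_constructibleTopology hE)
  have hpre : PrespectralSpace E :=
    PrespectralSpace.of_isInducing (Subtype.val : E → X) IsInducing.subtypeVal
      (isSpectralMap_subtype_val_of_isClosed_constructibleTopology hE)
  have hqs : QuasiSeparatedSpace E := by
    let ι := {U : Set X // IsOpen U ∧ IsCompact U}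
    let b : ι → Set E := fun U => (Subtype.val : E → X) ⁻¹' U.1
    have hb : IsTopologicalBasis (Set.range b) := by
      have := (PrespectralSpace.isTopologicalBasis (X := X)).isInducing
        (IsInducing.subtypeVal (t := E))
      convert this using 1
      ext s
      constructor
      · rintro ⟨U, rfl⟩
        exact ⟨U.1, U.2, rfl⟩
      · rintro ⟨U, hU, rfl⟩
        exact ⟨⟨U, hU⟩, rfl⟩
    refine QuasiSeparatedSpace.of_isTopologicalBasis hb fun i j => ?_
    have : b i ∩ b j = (Subtype.val : E → X) ⁻¹' (i.1 ∩ j.1) := by
      simp [b, Set.preimage_inter]
    rw [this]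
    exact isCompact_preimage_val_of_isClosed_constructibleTopology hE (i.2.1.inter j.2.1)
      (i.2.2.inter_of_isOpen j.2.2 i.2.1 j.2.1)
  have hsob : QuasiSober E := by
    refine ⟨fun {S} hS hSc => ?_⟩
    have hirr : IsIrreducible ((Subtype.val : E → X) '' S) :=
      hS.image _ continuous_subtype_val.continuousOn
    obtain ⟨C, hC, hCS⟩ := isClosed_induced_iff.mp hSc
    have himg : (Subtype.val : E → X) '' S = C ∩ E := by
      rw [← hCS, Subtype.image_preimage_coe, Set.inter_comm]
    have hcl : IsClosed[constructibleTopology X] ((Subtype.val : E → X) '' S) := by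
      rw [himg]
      exact isClosed_constructibleTopology_inter
        (isClosed_constructibleTopology_of_isClosed hC) hE
    have hgen := hirr.isGenericPoint_genericPoint_closure
    obtain ⟨z, hz, hzξ⟩ := exists_specializes_of_mem_closure hcl hgen.mem
    have hξz : hirr.genericPoint ⤳ z := hgen.specializes (subset_closure hz)
    have hzeq : z = hirr.genericPoint := (hzξ.antisymm hξz).eq
    obtain ⟨s, hsS, hsz⟩ := hz
    refine ⟨s, ?_⟩
    rw [isGenericPoint_def]
    rw [IsInducing.subtypeVal.closure_eq_preimage_closure_image, Set.image_singleton, hsz, hzeq,
      hgen.def, ← IsInducing.subtypeVal.closure_eq_preimage_closure_image, hSc.closure_eq]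
  exact { toT0Space := inferInstance, toCompactSpace := hcomp, toQuasiSober := hsob,
          toQuasiSeparatedSpace := hqs, toPrespectralSpace := hpre }

end Groth.Agent.H38
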