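import Mathlib
import Groth.Prelude.Def_Curv2
import Groth.Agent.H38.StalkBC
import Groth.Agent.H38.GeomNormalAt

/-!
# Local rings of `X ×_k Y` and reducedness of `O_{X,x} ⊗[k] K`
-/

set_option autoImplicit false
universe u

open CategoryTheory CategoryTheory.Limits AlgebraicGeometry TensorProduct

attribute [local instance] Curv2.stalkAlgebra

namespace Groth.Agent.H38.StalkProd

open Groth.Agent.H38.StalkTensor Groth.Agent.H38.StalkBC

variable (k : Type u) [Field k] (X : Scheme.{u}) [X.Over (Spec (CommRingCat.of k))]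
  (Y : Scheme.{u}) [Y.Over (Spec (CommRingCat.of k))] (x : X) (y : Y)

/-- `Spec (O_{X,x} ⊗[k] O_{Y,y}) ⟶ X ×_k Y`. -/
noncomputable def prodHom :
    Spec (CommRingCat.of (X.presheaf.stalk x ⊗[k] Y.presheaf.stalk y)) ⟶
      pullback (X ↘ Spec (CommRingCat.of k)) (Y ↘ Spec (CommRingCat.of k)) :=
  tensorHom (X ↘ Spec (CommRingCat.of k)) (Y ↘ Spec (CommRingCat.of k))
    (X.presheaf.stalk x) (Y.presheaf.stalk y) (X.fromSpecStalk x) (Y.fromSpecStalk y)
    (fromSpecStalk_over k X x) (fromSpecStalk_over k Y y)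

lemma range_prodHom : Set.range (prodHom k X Y x y) =
    pullback.fst (X ↘ Spec (CommRingCat.of k)) (Y ↘ Spec (CommRingCat.of k)) ⁻¹'
        Set.range (X.fromSpecStalk x) ∩
      pullback.snd (X ↘ Spec (CommRingCat.of k)) (Y ↘ Spec (CommRingCat.of k)) ⁻¹'
        Set.range (Y.fromSpecStalk y) :=
  range_tensorHom _ _ _ _ _ _ _ _

lemma exists_prodHom_eq
    (z : ↥(pullback (X ↘ Spec (CommRingCat.of k)) (Y ↘ Spec (CommRingCat.of k))))
    (hx : pullback.fst (X ↘ Spec (CommRingCat.of k)) (Y ↘ Spec (CommRingCat.of k)) z = x)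
    (hy : pullback.snd (X ↘ Spec (CommRingCat.of k)) (Y ↘ Spec (CommRingCat.of k)) z = y) :
    ∃ p, prodHom k X Y x y p = z := by
  have : z ∈ Set.range (prodHom k X Y x y) := by
    rw [range_prodHom]
    refine ⟨?_, ?_⟩
    · rw [Set.mem_preimage, hx, Scheme.range_fromSpecStalk]
      exact specializes_rfl
    · rw [Set.mem_preimage, hy, Scheme.range_fromSpecStalk]
      exact specializes_rfl
  exact this

/-- The local ring of `X ×_k Y` at the image of `p` is the localization at `p`. -/
noncomputable def prodStalkEquiv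
    (p : ↥(Spec (CommRingCat.of (X.presheaf.stalk x ⊗[k] Y.presheaf.stalk y)))) :
    (pullback (X ↘ Spec (CommRingCat.of k)) (Y ↘ Spec (CommRingCat.of k))).presheaf.stalk
      (prodHom k X Y x y p) ≃+* Localization.AtPrime p.asIdeal :=
  stalkEquiv _ _ _ _ _ _ _ _ p

/-- If `O_{X,x} ⊗[k] O_{Y,y}` is a normal ring then the local rings of `X ×_k Y` at points over
`(x, y)` are normal domains. -/
theorem normal_stalk_of_isNormalRing
    (h : EGA4.IsNormalRing (X.presheaf.stalk x ⊗[k] Y.presheaf.stalk y))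
    (z : ↥(pullback (X ↘ Spec (CommRingCat.of k)) (Y ↘ Spec (CommRingCat.of k))))
    (hx : pullback.fst (X ↘ Spec (CommRingCat.of k)) (Y ↘ Spec (CommRingCat.of k)) z = x)
    (hy : pullback.snd (X ↘ Spec (CommRingCat.of k)) (Y ↘ Spec (CommRingCat.of k)) z = y) :
    IsDomain ↥((pullback (X ↘ Spec (CommRingCat.of k))
        (Y ↘ Spec (CommRingCat.of k))).presheaf.stalk z) ∧
      IsIntegrallyClosed ↥((pullback (X ↘ Spec (CommRingCat.of k))
        (Y ↘ Spec (CommRingCat.of k))).presheaf.stalk z) := by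
  obtain ⟨p, rfl⟩ := exists_prodHom_eq k X Y x y z hx hy
  obtain ⟨h1, h2⟩ := h p.asIdeal
  let e := prodStalkEquiv k X Y x y p
  exact ⟨e.toMulEquiv.isDomain_iff.mpr h1, IsIntegrallyClosed.of_equiv e.symm⟩

/-- If `O_{X,x} ⊗[k] O_{Y,y}` is reduced then the local rings of `X ×_k Y` at points over
`(x, y)` are reduced. -/
theorem reduced_stalk_of_isReduced
    (h : IsReduced (X.presheaf.stalk x ⊗[k] Y.presheaf.stalk y))
    (z : ↥(pullback (X ↘ Spec (CommRingCat.of k)) (Y ↘ Spec (CommRingCat.of k))))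
    (hx : pullback.fst (X ↘ Spec (CommRingCat.of k)) (Y ↘ Spec (CommRingCat.of k)) z = x)
    (hy : pullback.snd (X ↘ Spec (CommRingCat.of k)) (Y ↘ Spec (CommRingCat.of k)) z = y) :
    IsReduced ↥((pullback (X ↘ Spec (CommRingCat.of k))
        (Y ↘ Spec (CommRingCat.of k))).presheaf.stalk z) := by
  obtain ⟨p, rfl⟩ := exists_prodHom_eq k X Y x y z hx hy
  let e := prodStalkEquiv k X Y x y p
  exact isReduced_of_injective e.toRingHom e.injective

section reduced

variable (K : Type u) [Field K] [Algebra k K]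

/-- For `K/k` algebraic: if all local rings of `X_K` at points over `x` are reduced then
`O_{X,x} ⊗[k] K` is reduced. -/
theorem isReduced_tensor_of_reduced_stalk [Algebra.IsAlgebraic k K]
    (h : ∀ x' : ↥(Curv2.bc k X K), Curv2.bcFst k X K x' = x →
      IsReduced ↥((Curv2.bc k X K).presheaf.stalk x')) :
    IsReduced (X.presheaf.stalk x ⊗[k] K) := by
  apply isReduced_ofLocalizationMaximal
  intro m hm
  let p : ↥(Spec (CommRingCat.of (X.presheaf.stalk x ⊗[k] K))) := ⟨m, hm.isPrime⟩
  have h1 := h (bcHom k X K x p)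
    (Groth.Agent.H38.GeomNormalAt.bcFst_bcHom_of_isMaximal k X K x p hm)
  let e := bcStalkEquiv k X K x p
  exact isReduced_of_injective e.symm.toRingHom e.symm.injective

/-- If `O_{X,x} ⊗[k] K` is reduced then all local rings of `X_K` at points over `x` are
reduced. -/
theorem reduced_stalk_of_isReduced_tensor (h : IsReduced (X.presheaf.stalk x ⊗[k] K))
    (x' : ↥(Curv2.bc k X K)) (hx' : Curv2.bcFst k X K x' = x) :
    IsReduced ↥((Curv2.bc k X K).presheaf.stalk x') := by
  obtain ⟨p, rfl⟩ := exists_bcHom_eq k X K x x' hx'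
  let e := bcStalkEquiv k X K x p
  exact isReduced_of_injective e.toRingHom e.injective

end reduced

end Groth.Agent.H38.StalkProd
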