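import Mathlib

/-!
# `B ⊗[k] A` is reduced if `B` is reduced and `κ(q) ⊗[k] A` is reduced for all primes `q` of `B`
-/

set_option autoImplicit false
universe u

open TensorProduct

namespace Groth.Agent.H38.TensorReduced

variable {k : Type u} [Field k] {A B : Type u} [CommRing A] [CommRing B] [Algebra k A]
  [Algebra k B]

theorem isReduced_tensor_of_forall_residueField [IsReduced B]
    (hA : ∀ (q : Ideal B) [q.IsPrime], IsReduced (q.ResidueField ⊗[k] A)) :
    IsReduced (B ⊗[k] A) := by
  classical
  let b := Module.Basis.ofVectorSpace k A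
  let Bb := Algebra.TensorProduct.basis B b
  refine ⟨fun z hz => ?_⟩
  apply Bb.repr.injective
  ext i
  rw [map_zero, Finsupp.zero_apply]
  have hnil : IsNilpotent (Bb.repr z i) := by
    rw [nilpotent_iff_mem_prime]
    intro q hq
    haveI := hA q
    let f : B →ₐ[k] q.ResidueField := IsScalarTower.toAlgHom k B q.ResidueField
    let φ : B ⊗[k] A →ₐ[k] q.ResidueField ⊗[k] A := Algebra.TensorProduct.map f (AlgHom.id k A)
    let Bq := Algebra.TensorProduct.basis q.ResidueField b
    have hrepr : ∀ w : B ⊗[k] A, Bq.repr (φ w) i = f (Bb.repr w i) := by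
      intro w
      induction w using TensorProduct.induction_on with
      | zero => simp
      | tmul c a =>
        simp only [φ, Algebra.TensorProduct.map_tmul, AlgHom.coe_id, id_eq, Bq, Bb,
          Algebra.TensorProduct.basis_repr_tmul, Finsupp.smul_apply, Finsupp.mapRange_apply,
          smul_eq_mul, map_mul]
        rw [f.commutes]
      | add w₁ w₂ h₁ h₂ => simp only [map_add, Finsupp.add_apply, h₁, h₂]
    have h0 : φ z = 0 := (hz.map φ).eq_zero
    have h1 : f (Bb.repr z i) = 0 := by
      rw [← hrepr, h0, map_zero, Finsupp.zero_apply]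
    exact (Ideal.algebraMap_residueField_eq_zero).mp h1
  exact hnil.eq_zero

end Groth.Agent.H38.TensorReduced
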