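import Groth.Agent.H38.SpecLim3

set_option autoImplicit false
universe u

open CategoryTheory CategoryTheory.Limits Topology TopologicalSpace

namespace Groth.Agent.H38

section Cofiltered

variable {J : Type u} [SmallCategory J] [IsCofiltered J] {F : J ⥤ TopCat.{u}}

/-- The family of pullbacks of opens from the stages. -/
def limOpens (c : Cone F) : Set (Set c.pt) :=
  {V | ∃ (j : J) (U : Set (F.obj j)), IsOpen U ∧ c.π.app j ⁻¹' U = V}

theorem limOpens_univ (c : Cone F) : Set.univ ∈ limOpens c := by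
  obtain ⟨j⟩ := IsCofiltered.nonempty (C := J)
  exact ⟨j, Set.univ, isOpen_univ, Set.preimage_univ⟩

theorem limOpens_empty (c : Cone F) : (∅ : Set c.pt) ∈ limOpens c := by
  obtain ⟨j⟩ := IsCofiltered.nonempty (C := J)
  exact ⟨j, ∅, isOpen_empty, Set.preimage_empty⟩

theorem limOpens_inter (c : Cone F) {V W : Set c.pt} (hV : V ∈ limOpens c)
    (hW : W ∈ limOpens c) : V ∩ W ∈ limOpens c := by
  obtain ⟨i, U, hU, rfl⟩ := hV
  obtain ⟨j, U', hU', rfl⟩ := hW
  let k := IsCofiltered.min i j
  let a : k ⟶ i := IsCofiltered.minToLeft i j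
  let b : k ⟶ j := IsCofiltered.minToRight i j
  refine ⟨k, F.map a ⁻¹' U ∩ F.map b ⁻¹' U', ?_, ?_⟩
  · exact (hU.preimage (F.map a).hom.continuous).inter (hU'.preimage (F.map b).hom.continuous)
  · ext x
    simp only [Set.mem_preimage, Set.mem_inter_iff, lim_π_comp]

theorem limOpens_union (c : Cone F) {V W : Set c.pt} (hV : V ∈ limOpens c)
    (hW : W ∈ limOpens c) : V ∪ W ∈ limOpens c := by
  obtain ⟨i, U, hU, rfl⟩ := hV
  obtain ⟨j, U', hU', rfl⟩ := hW
  let k := IsCofiltered.min i j
  let a : k ⟶ i := IsCofiltered.minToLeft i j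
  let b : k ⟶ j := IsCofiltered.minToRight i j
  refine ⟨k, F.map a ⁻¹' U ∪ F.map b ⁻¹' U', ?_, ?_⟩
  · exact (hU.preimage (F.map a).hom.continuous).union (hU'.preimage (F.map b).hom.continuous)
  · ext x
    simp only [Set.mem_preimage, Set.mem_union, lim_π_comp]

theorem limOpens_biInter (c : Cone F) {ι : Type*} (S : Finset ι) (V : ι → Set c.pt)
    (hV : ∀ s ∈ S, V s ∈ limOpens c) : (⋂ s ∈ S, V s) ∈ limOpens c := by
  classical
  induction S using Finset.induction_on with
  | empty => simpa using limOpens_univ c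
  | insert s S hs ih =>
    rw [Finset.set_biInter_insert]
    exact limOpens_inter c (hV s (Finset.mem_insert_self s S))
      (ih fun t ht => hV t (Finset.mem_insert_of_mem ht))

theorem limOpens_biUnion (c : Cone F) {ι : Type*} (S : Finset ι) (V : ι → Set c.pt)
    (hV : ∀ s ∈ S, V s ∈ limOpens c) : (⋃ s ∈ S, V s) ∈ limOpens c := by
  classical
  induction S using Finset.induction_on with
  | empty => simpa using limOpens_empty c
  | insert s S hs ih =>
    rw [Finset.set_biUnion_insert]
    exact limOpens_union c (hV s (Finset.mem_insert_self s S))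
      (ih fun t ht => hV t (Finset.mem_insert_of_mem ht))

omit [IsCofiltered J] in
theorem limOpens_isOpen (c : Cone F) {V : Set c.pt} (hV : V ∈ limOpens c) : IsOpen V := by
  obtain ⟨j, U, hU, rfl⟩ := hV
  exact hU.preimage (lim_continuous_π c j)

theorem isTopologicalBasis_limOpens (c : Cone F) (hc : IsLimit c) :
    IsTopologicalBasis (limOpens c) := by
  refine isTopologicalBasis_of_isOpen_of_nhds (fun V hV => limOpens_isOpen c hV) ?_
  intro x W hxW hW
  obtain ⟨W', hW', rfl⟩ := (lim_isInducing c hc).isOpen_iff.mp hW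
  obtain ⟨I₀, u, hu, hsub⟩ := isOpen_pi_iff.mp hW' _ hxW
  refine ⟨⋂ j ∈ I₀, c.π.app j ⁻¹' u j, ?_, ?_, ?_⟩
  · exact limOpens_biInter c I₀ _ fun j hj => ⟨j, u j, (hu j hj).1, rfl⟩
  · simp only [Set.mem_iInter, Set.mem_preimage]
    exact fun j hj => (hu j hj).2
  · intro y hy
    simp only [Set.mem_iInter, Set.mem_preimage] at hy
    apply hsub
    intro j hj
    exact hy j hj

theorem mem_limOpens_of_isCompact_isOpen (c : Cone F) (hc : IsLimit c) {W : Set c.pt}
    (hW : IsOpen W) (hWc : IsCompact W) : W ∈ limOpens c := by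
  have hb : IsTopologicalBasis (Set.range (Subtype.val : limOpens c → Set c.pt)) := by
    rw [Subtype.range_coe]
    exact isTopologicalBasis_limOpens c hc
  obtain ⟨s, hs, rfl⟩ := eq_finite_iUnion_of_isTopologicalBasis_of_isCompact_open _ hb W hWc hW
  have : (⋃ i ∈ s, (i : Set c.pt)) = ⋃ i ∈ hs.toFinset, (i : Set c.pt) := by
    simp
  rw [this]
  exact limOpens_biUnion c _ _ fun V _ => V.2

end Cofiltered

end Groth.Agent.H38
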