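import Mathlib.Topology.Category.TopCommRingCat
import Mathlib.CategoryTheory.Limits.Preserves.Basic
import Mathlib.Algebra.Category.Ring.Limits
import Mathlib.Algebra.Category.Ring.Colimits
import Mathlib.Topology.Category.TopCat.Limits.Basic

set_option autoImplicit false
universe u v w

open CategoryTheory CategoryTheory.Limits TopologicalSpace

namespace Groth.Agent.H38

theorem isTopologicalRing_induced {R S G : Type*} [Ring R] [Ring S] [tS : TopologicalSpace S]
    [IsTopologicalRing S] [FunLike G R S] [RingHomClass G R S] (f : G) :
    @IsTopologicalRing R (tS.induced f) _ :=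
  letI := tS.induced f
  haveI : ContinuousAdd R := continuousAdd_induced f
  haveI : ContinuousMul R := continuousMul_induced f
  IsTopologicalSemiring.toIsTopologicalRing (IsTopologicalSemiring.mk)

theorem isTopologicalRing_sInf {R : Type*} [Ring R] {ts : Set (TopologicalSpace R)}
    (h : ∀ t ∈ ts, @IsTopologicalRing R t _) : @IsTopologicalRing R (sInf ts) _ :=
  letI := sInf ts
  haveI : ContinuousAdd R := continuousAdd_sInf fun t ht =>
    letI := t; haveI := h t ht; inferInstance
  haveI : ContinuousMul R := continuousMul_sInf fun t ht =>
    letI := t; haveI := h t ht; inferInstance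
  IsTopologicalSemiring.toIsTopologicalRing (IsTopologicalSemiring.mk)

theorem isTopologicalRing_iInf {R : Type*} [Ring R] {ι : Sort*} {ts : ι → TopologicalSpace R}
    (h : ∀ i, @IsTopologicalRing R (ts i) _) : @IsTopologicalRing R (⨅ i, ts i) _ := by
  rw [← sInf_range]
  exact isTopologicalRing_sInf (Set.forall_mem_range.mpr h)

namespace TopRing

section Limit

variable {M : Type u} [CommRing M] {I : Type v} {X : I → TopCommRingCat.{u}}
  (f : ∀ i, M →+* X i)

/-- The induced topology on a ring from a family of ring homomorphisms to topological rings. -/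
def induced : TopCommRingCat.{u} :=
  letI : TopologicalSpace M := ⨅ i, (X i).isTopologicalSpace.induced (f i)
  haveI : IsTopologicalRing M := isTopologicalRing_iInf fun i =>
    isTopologicalRing_induced (f i)
  TopCommRingCat.of M

/-- The maps from the induced topology. -/
def fromInduced (i : I) : induced f ⟶ X i :=
  ⟨f i, continuous_iff_le_induced.mpr (iInf_le _ i)⟩

variable {J : Type v} [Category.{w} J] {F : J ⥤ TopCommRingCat.{u}}

/-- Reinterpret a morphism to the underlying ring as a ring homomorphism. -/
def homToRingHom {R : CommRingCat.{u}} {S : TopCommRingCat.{u}}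
    (g : R ⟶ (forget₂ TopCommRingCat CommRingCat).obj S) : R →+* S := g.hom

/-- The cone of topological rings associated to a cone of rings. -/
def ofCone (c : Cone (F ⋙ forget₂ TopCommRingCat CommRingCat)) : Cone F where
  pt := induced (M := c.pt) (X := F.obj) fun j => homToRingHom (c.π.app j)
  π :=
  { app := fromInduced (M := c.pt) (X := F.obj) fun j => homToRingHom (c.π.app j)
    naturality := fun X Y g => by
      apply ConcreteCategory.hom_ext
      intro x
      exact congr($(c.π.naturality g).hom x) }

/-- The cone point with the induced topology is a limit. -/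
def isLimit {c : Cone (F ⋙ forget₂ TopCommRingCat CommRingCat)} (hc : IsLimit c) :
    IsLimit (ofCone c) where
  lift s := ⟨(hc.lift ((forget₂ _ _).mapCone s)).hom, by
    refine continuous_iInf_rng.2 fun i => continuous_induced_rng.2 ?_
    exact (s.π.app i).2.congr fun x =>
      (congr($(hc.fac ((forget₂ _ _).mapCone s) i).hom x)).symm⟩
  fac s i := by
    apply ConcreteCategory.hom_ext
    intro x
    exact congr($(hc.fac ((forget₂ _ _).mapCone s) i).hom x)
  uniq s m H := by
    apply ConcreteCategory.hom_ext
    intro x
    refine congr($(hc.uniq ((forget₂ _ _).mapCone s) ((forget₂ _ _).map m) fun j => ?_).hom x)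
    ext y
    exact congr($(H j) y)

theorem hasLimit_of_hasLimit_forget₂ (F : J ⥤ TopCommRingCat.{u})
    [HasLimit (F ⋙ forget₂ TopCommRingCat CommRingCat)] : HasLimit F :=
  ⟨_, isLimit (limit.isLimit _)⟩

theorem preservesLimit_forget₂_commRingCat (F : J ⥤ TopCommRingCat.{u})
    [HasLimit (F ⋙ forget₂ TopCommRingCat CommRingCat)] :
    PreservesLimit F (forget₂ TopCommRingCat CommRingCat) :=
  preservesLimit_of_preserves_limit_cone (isLimit (limit.isLimit _))
    (IsLimit.ofIsoLimit (limit.isLimit (F ⋙ forget₂ TopCommRingCat CommRingCat))
      (Cone.ext (Iso.refl _) (fun j => by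
        apply ConcreteCategory.hom_ext
        intro x
        rfl)))

theorem preservesLimit_forget₂_topCat (F : J ⥤ TopCommRingCat.{u})
    [HasLimit (F ⋙ forget₂ TopCommRingCat CommRingCat)]
    [PreservesLimit (F ⋙ forget₂ TopCommRingCat CommRingCat) (forget CommRingCat)] :
    PreservesLimit F (forget₂ TopCommRingCat TopCat) :=
  preservesLimit_of_preserves_limit_cone (isLimit (limit.isLimit _))
    (TopCat.isLimitConeOfForget (F := F ⋙ forget₂ _ TopCat)
      ((forget _).mapCone (getLimitCone (F ⋙ forget₂ _ CommRingCat)).1 :)
      (isLimitOfPreserves (forget CommRingCat) (limit.isLimit _)))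

end Limit

section Colimit

variable {M : Type u} [CommRing M] {I : Type v} {X : I → TopCommRingCat.{u}}
  (f : ∀ i, X i →+* M)

/-- The finest ring topology making a family of ring homomorphisms continuous. -/
def coinduced : TopCommRingCat.{u} :=
  letI : TopologicalSpace M := sInf { t | @IsTopologicalRing M t _ ∧
    ∀ i, (X i).isTopologicalSpace.coinduced (f i) ≤ t }
  haveI : IsTopologicalRing M := isTopologicalRing_sInf fun _ hs => hs.1
  TopCommRingCat.of M

/-- The maps to the coinduced topology. -/
def toCoinduced (i : I) : X i ⟶ coinduced f :=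
  ⟨f i, continuous_iff_coinduced_le.mpr (le_sInf fun _ hτ => hτ.2 i)⟩

variable {J : Type v} [Category.{w} J] {F : J ⥤ TopCommRingCat.{u}}

/-- Reinterpret a morphism from the underlying ring as a ring homomorphism. -/
def homFromRingHom {R : CommRingCat.{u}} {S : TopCommRingCat.{u}}
    (g : (forget₂ TopCommRingCat CommRingCat).obj S ⟶ R) : S →+* R := g.hom

/-- The cocone of topological rings associated to a cocone of rings. -/
def ofCocone (c : Cocone (F ⋙ forget₂ TopCommRingCat CommRingCat)) : Cocone F where
  pt := coinduced (M := c.pt) (X := F.obj) fun j => homFromRingHom (c.ι.app j)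
  ι :=
  { app := toCoinduced (M := c.pt) (X := F.obj) fun j => homFromRingHom (c.ι.app j)
    naturality := fun X Y g => by
      apply ConcreteCategory.hom_ext
      intro x
      exact congr($(c.ι.naturality g).hom x) }

/-- The cocone point with the coinduced ring topology is a colimit. -/
def isColimit {c : Cocone (F ⋙ forget₂ TopCommRingCat CommRingCat)} (hc : IsColimit c) :
    IsColimit (ofCocone c) where
  desc s := ⟨(hc.desc ((forget₂ _ _).mapCocone s)).hom, by
    rw [continuous_iff_le_induced]
    refine sInf_le ⟨isTopologicalRing_induced _, fun i => ?_⟩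
    rw [coinduced_le_iff_le_induced, ← continuous_iff_le_induced]
    refine continuous_induced_rng.2 ?_
    exact (s.ι.app i).2.congr fun x =>
      (congr($(hc.fac ((forget₂ _ _).mapCocone s) i).hom x)).symm⟩
  fac s i := by
    apply ConcreteCategory.hom_ext
    intro x
    exact congr($(hc.fac ((forget₂ _ _).mapCocone s) i).hom x)
  uniq s m H := by
    apply ConcreteCategory.hom_ext
    intro x
    refine congr($(hc.uniq ((forget₂ _ _).mapCocone s) ((forget₂ _ _).map m) fun j => ?_).hom x)
    ext y
    exact congr($(H j) y)

theorem hasColimit_of_hasColimit_forget₂ (F : J ⥤ TopCommRingCat.{u})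
    [HasColimit (F ⋙ forget₂ TopCommRingCat CommRingCat)] : HasColimit F :=
  ⟨_, isColimit (colimit.isColimit _)⟩

theorem preservesColimit_forget₂_commRingCat (F : J ⥤ TopCommRingCat.{u})
    [HasColimit (F ⋙ forget₂ TopCommRingCat CommRingCat)] :
    PreservesColimit F (forget₂ TopCommRingCat CommRingCat) :=
  preservesColimit_of_preserves_colimit_cocone (isColimit (colimit.isColimit _))
    (IsColimit.ofIsoColimit (colimit.isColimit (F ⋙ forget₂ TopCommRingCat CommRingCat))
      (Cocone.ext (Iso.refl _) (fun j => by
        apply ConcreteCategory.hom_ext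
        intro x
        rfl)))

end Colimit

end TopRing

end Groth.Agent.H38
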