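import Groth.Agent.H38.TotalFrac
import Mathlib.RingTheory.IntegralClosure.IsIntegralClosure.Basic
import Mathlib.RingTheory.DedekindDomain.IntegralClosure

set_option autoImplicit false
universe u

open scoped nonZeroDivisors

namespace Groth.Agent.H38

/-- A tuple with integral components is integral (finite index set). -/
theorem isIntegral_pi {ι : Type*} [Finite ι] {R : Type*} [CommRing R] {S : ι → Type*}
    [∀ i, CommRing (S i)] [∀ i, Algebra R (S i)] (y : ∀ i, S i)
    (h : ∀ i, IsIntegral R (y i)) : IsIntegral R y := by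
  classical
  have : Fintype ι := Fintype.ofFinite ι
  choose P hP1 hP2 using h
  refine ⟨∏ i, P i, Polynomial.monic_prod_of_monic _ _ fun i _ => hP1 i, ?_⟩
  rw [← Polynomial.aeval_def]
  funext q
  have h1 : (Polynomial.aeval y (∏ i, P i)) q = Polynomial.aeval (y q) (∏ i, P i) := by
    have := Polynomial.aeval_algHom_apply (Pi.evalAlgHom R S q) y (∏ i, P i)
    simpa using this.symm
  rw [h1, map_prod, Pi.zero_apply]
  refine Finset.prod_eq_zero (Finset.mem_univ q) ?_
  rw [Polynomial.aeval_def]
  exact hP2 q

/-- Localizations of a finite product of integrally closed domains are integrally closed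
domains. -/
theorem pi_localization_isDomain_isIntegrallyClosed {ι : Type*} [Finite ι] (R : ι → Type*)
    [∀ i, CommRing (R i)] [∀ i, IsDomain (R i)] [∀ i, IsIntegrallyClosed (R i)]
    (P : PrimeSpectrum (∀ i, R i)) :
    IsDomain (Localization.AtPrime P.asIdeal) ∧
      IsIntegrallyClosed (Localization.AtPrime P.asIdeal) := by
  obtain ⟨i, q, rfl⟩ := PrimeSpectrum.exists_comap_evalRingHom_eq P
  let e : Localization.AtPrime (q.asIdeal.comap (Pi.evalRingHom R i)) ≃+*
      Localization.AtPrime q.asIdeal :=
    RingEquiv.ofBijective (Localization.AtPrime.mapPiEvalRingHom q.asIdeal)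
      (Localization.AtPrime.mapPiEvalRingHom_bijective q.asIdeal)
  have : IsDomain (Localization.AtPrime q.asIdeal) :=
    IsLocalization.isDomain_of_atPrime _ q.asIdeal
  have : IsIntegrallyClosed (Localization.AtPrime q.asIdeal) :=
    isIntegrallyClosed_of_isLocalization _ q.asIdeal.primeCompl
      q.asIdeal.primeCompl_le_nonZeroDivisors
  exact ⟨e.toMulEquiv.isDomain _, IsIntegrallyClosed.of_equiv e.symm⟩

/-- Transfer along a ring isomorphism. -/
theorem localization_isDomain_isIntegrallyClosed_of_equiv {R R' : Type*} [CommRing R]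
    [CommRing R'] (e : R ≃+* R')
    (h : ∀ P' : PrimeSpectrum R', IsDomain (Localization.AtPrime P'.asIdeal) ∧
      IsIntegrallyClosed (Localization.AtPrime P'.asIdeal)) (P : PrimeSpectrum R) :
    IsDomain (Localization.AtPrime P.asIdeal) ∧
      IsIntegrallyClosed (Localization.AtPrime P.asIdeal) := by
  let P' : PrimeSpectrum R' := PrimeSpectrum.comap e.symm.toRingHom P
  have hmap : Submonoid.map e.toMonoidHom P.asIdeal.primeCompl = P'.asIdeal.primeCompl := by
    ext x
    constructor
    · rintro ⟨y, hy, rfl⟩
      change ¬ (e.symm (e y) ∈ P.asIdeal)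
      rw [e.symm_apply_apply]
      exact hy
    · intro hx
      exact ⟨e.symm x, hx, e.apply_symm_apply x⟩
  let f : Localization.AtPrime P.asIdeal ≃+* Localization.AtPrime P'.asIdeal :=
    IsLocalization.ringEquivOfRingEquiv _ _ e hmap
  obtain ⟨h1, h2⟩ := h P'
  exact ⟨f.toMulEquiv.isDomain _, IsIntegrallyClosed.of_equiv f.symm⟩

end Groth.Agent.H38
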