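import Mathlib
import Groth.Prelude.Def_Red
import Groth.Agent.H13.UnivOpen
import Groth.Agent.H50.UnivOpen
import Groth.Agent.H90.OrbitProper
import Groth.Agent.H90.GrpFlat
import Groth.Agent.H38.HomogDimArtin

/-!
# Open homomorphisms of group schemes locally of finite type are universally open

* `universallyOpen_of_isPullback_surjective`: universal openness descends along a surjective
  universally open base change.
* `universallyOpen_of_surjective_closedImmersion`.
* `universallyOpen_of_isOpen_range`: over a perfect field, a homomorphism of group schemes locally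
  of finite type with open image is universally open.
-/

set_option autoImplicit false
universe u

open CategoryTheory MonoidalCategory CartesianMonoidalCategory MonObj GrpObj AlgebraicGeometry
open Limits MorphismProperty

namespace Groth.Agent.H38.UnivOpenGrp

/-- Universal openness descends along a surjective universally open base change. -/
theorem universallyOpen_of_isPullback_surjective {X Y X' Y' : Scheme.{u}} {p : X' ⟶ X}
    {f' : X' ⟶ Y'} {f : X ⟶ Y} {i : Y' ⟶ Y} (sq : IsPullback p f' f i)
    [UniversallyOpen i] [Surjective i] (H : UniversallyOpen f') : UniversallyOpen f := by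
  refine ⟨universally_mk' _ _ fun {T} g _ ↦ ?_⟩
  let q : pullback g i ⟶ T := pullback.fst g i
  let r : pullback g i ⟶ Y' := pullback.snd g i
  let W := pullback (pullback.fst g f) q
  let p' : W ⟶ pullback g f := pullback.fst _ _
  let fW : W ⟶ pullback g i := pullback.snd _ _
  have hsq1 : IsPullback p' fW (pullback.fst g f) q := IsPullback.of_hasPullback _ _
  have hsq2 : IsPullback (pullback.snd g f) (pullback.fst g f) f g :=
    (IsPullback.of_hasPullback g f).flip
  have hpaste : IsPullback (p' ≫ pullback.snd g f) fW f (q ≫ g) := hsq1.paste_horiz hsq2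
  have hqg : q ≫ g = r ≫ i := pullback.condition
  rw [hqg] at hpaste
  have ht := IsPullback.of_right' hpaste sq
  have hfW : UniversallyOpen fW := MorphismProperty.of_isPullback ht H
  have hq : IsOpenMap q.base := q.isOpenMap
  have hqs : Surjective q := inferInstance
  have hp : Function.Surjective p'.base := by
    have : Surjective p' := inferInstance
    exact p'.surjective
  intro V hV
  have himg : (pullback.fst g f).base '' V = q.base '' (fW.base '' (p'.base ⁻¹' V)) := by
    rw [← Set.image_comp]
    have hcomm : q.base ∘ fW.base = (pullback.fst g f).base ∘ p'.base := by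
      have := hsq1.w
      ext x
      simp only [Function.comp_apply, ← Scheme.Hom.comp_apply, this]
    rw [hcomm, Set.image_comp, Set.image_preimage_eq _ hp]
  rw [himg]
  exact hq _ (fW.isOpenMap _ (hV.preimage p'.continuous))

/-- A surjective closed immersion is universally open. -/
theorem universallyOpen_of_surjective_closedImmersion {Z X : Scheme.{u}} (i : Z ⟶ X)
    [IsClosedImmersion i] [Surjective i] : UniversallyOpen i := by
  apply Groth.Agent.H13.universallyOpen_of_surjective_preimmersion i i
  have : IsIso (pullback.snd i i) := inferInstance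
  infer_instance

/-- every nonempty open subset of a scheme contains a maximal point -/
theorem exists_maximal_point_mem (P : Scheme.{u}) (U : Set P) (hU : IsOpen U) (y : P)
    (hy : y ∈ U) : ∃ w : P, closure {w} ∈ irreducibleComponents P ∧ w ∈ U := by
  have h1 : IsIrreducible (irreducibleComponent y) := isIrreducible_irreducibleComponent
  have h2 : IsClosed (irreducibleComponent y) := isClosed_irreducibleComponent
  obtain ⟨w, hw⟩ := QuasiSober.sober h1 h2
  refine ⟨w, ?_, ?_⟩
  · rw [hw.def]
    exact irreducibleComponent_mem_irreducibleComponents y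
  · have hyw : y ∈ closure {w} := by
      rw [hw.def]
      exact mem_irreducibleComponent
    have : w ⤳ y := specializes_iff_mem_closure.mpr hyw
    exact this.mem_open hU hy

section field

variable (K : Type u) [Field K] [PerfectField K]
  (G H : Over (Spec (CommRingCat.of K))) [GrpObj G] [GrpObj H]
  [LocallyOfFiniteType G.hom] [LocallyOfFiniteType H.hom]

/-- Over a perfect field, a homomorphism of group schemes locally of finite type whose image is
open is universally open. -/
theorem universallyOpen_of_isOpen_range (u : G ⟶ H) [IsMonHom u]
    (hu : IsOpen (Set.range u.left)) : UniversallyOpen u.left := by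
  obtain ⟨Gr, hGr, r, hr, hrci, hGred, hrs⟩ := Groth.Agent.H90.OrbitProper.exists_reduced_subgroup K G
  obtain ⟨Hr, hHr, s, hs, hsci, hHred, hss⟩ := Groth.Agent.H90.OrbitProper.exists_reduced_subgroup K H
  obtain ⟨v₀, hv₀⟩ := Groth.Agent.H90.exists_fac_of_isReduced s.left (r ≫ u).left
  let v : Gr ⟶ Hr := Over.homMk v₀ (by rw [← CategoryTheory.Over.w s, reassoc_of% hv₀, CategoryTheory.Over.w])
  have hv : v ≫ s = r ≫ u := Over.OverMorphism.ext hv₀
  have hsmono : Mono s :=
    (CategoryTheory.Over.forget _).mono_of_mono_map (inferInstanceAs (Mono s.left))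
  have hvmon : IsMonHom v := by
    constructor
    · rw [← cancel_mono s, Category.assoc, hv, IsMonHom.one_hom_assoc, IsMonHom.one_hom,
        IsMonHom.one_hom]
    · rw [← cancel_mono s, Category.assoc, hv, IsMonHom.mul_hom_assoc, IsMonHom.mul_hom,
        Category.assoc, IsMonHom.mul_hom, tensorHom_comp_tensorHom_assoc,
        tensorHom_comp_tensorHom_assoc, hv]
  -- the image of `v` is open
  have hrange : Set.range v.left = s.left ⁻¹' Set.range u.left := by
    ext y
    constructor
    · rintro ⟨x, rfl⟩
      refine ⟨r.left x, ?_⟩
      rw [← Scheme.Hom.comp_apply, ← Scheme.Hom.comp_apply, ← Over.comp_left, ← Over.comp_left, hv]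
    · rintro ⟨x, hx⟩
      obtain ⟨x', rfl⟩ := hrs.surj x
      refine ⟨x', ?_⟩
      apply s.left.isClosedEmbedding.injective
      rw [← hx, ← Scheme.Hom.comp_apply, ← Scheme.Hom.comp_apply, ← Over.comp_left,
        ← Over.comp_left, hv]
  have hopen : IsOpen (Set.range v.left) := by
    rw [hrange]
    exact hu.preimage s.left.continuous
  obtain ⟨w, hw, ξ, hξ⟩ := exists_maximal_point_mem Hr.left _ hopen
    (v.left (η[Gr].left (IsLocalRing.closedPoint K))) ⟨_, rfl⟩
  have hflat : Flat v.left := by
    refine Groth.Agent.H90.flat_of_flatAt K Gr Hr v ξ ?_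
    apply Groth.Agent.H90.flatAt_of_maximal_of_isReduced
    rwa [hξ]
  have hGrft : LocallyOfFiniteType Gr.hom := by
    rw [← CategoryTheory.Over.w r]
    infer_instance
  have hHrft : LocallyOfFiniteType Hr.hom := by
    rw [← CategoryTheory.Over.w s]
    infer_instance
  have hvft : LocallyOfFiniteType v.left := by
    have : LocallyOfFiniteType (v.left ≫ Hr.hom) := by
      rw [CategoryTheory.Over.w v]
      exact hGrft
    exact locallyOfFiniteType_of_comp v.left Hr.hom
  have hHrN : IsLocallyNoetherian Hr.left := LocallyOfFiniteType.isLocallyNoetherian Hr.hom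
  have hvfp : LocallyOfFinitePresentation v.left :=
    LocallyOfFinitePresentation.iff_locallyOfFiniteType.mpr hvft
  have hvo : UniversallyOpen v.left := inferInstance
  have hso : UniversallyOpen s.left := universallyOpen_of_surjective_closedImmersion s.left
  have hcomp : UniversallyOpen (r.left ≫ u.left) := by
    rw [← Over.comp_left, ← hv, Over.comp_left]
    infer_instance
  exact Groth.Agent.H50.univOpen_of_comp_surjective r.left u.left hcomp

end field

section artin

open Groth.Agent.H38.HomogDimArtin

variable (A : Type u) [CommRing A] [IsArtinianRing A] [IsLocalRing A]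

/-- the geometric point of the spectrum of a local artinian ring -/
noncomputable abbrev geomPt :
    Spec (CommRingCat.of (AlgebraicClosure (IsLocalRing.ResidueField A))) ⟶
      Spec (CommRingCat.of A) :=
  Spec.map (CommRingCat.ofHom (algebraMap (IsLocalRing.ResidueField A)
    (AlgebraicClosure (IsLocalRing.ResidueField A)))) ≫ clPt A

instance : UniversallyOpen (geomPt A) := by
  have h1 : UniversallyOpen (clPt A) := universallyOpen_of_surjective_closedImmersion _
  have h2 : UniversallyOpen (Spec.map (CommRingCat.ofHom (algebraMap (IsLocalRing.ResidueField A)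
    (AlgebraicClosure (IsLocalRing.ResidueField A))))) := inferInstance
  infer_instance

instance : Surjective (geomPt A) := by
  constructor
  intro y
  have : Subsingleton ↥(Spec (CommRingCat.of A)) := subsingleton_spec A
  obtain ⟨z⟩ : Nonempty ↥(Spec (CommRingCat.of (AlgebraicClosure (IsLocalRing.ResidueField A)))) :=
    inferInstance
  exact ⟨z, Subsingleton.elim _ _⟩

variable (G H : Over (Spec (CommRingCat.of A))) [GrpObj G] [GrpObj H]
  [LocallyOfFiniteType G.hom] [LocallyOfFiniteType H.hom]

/-- An open homomorphism of group schemes locally of finite type over a local artinian ring is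
universally open. -/
theorem universallyOpen_of_isOpenMap (u : G ⟶ H) [IsMonHom u] (hu : IsOpenMap u.left) :
    UniversallyOpen u.left := by
  let ψ := geomPt A
  let ub : Red.bc ψ G ⟶ Red.bc ψ H := (Over.pullback ψ).map u
  have hub : IsMonHom ub := Functor.map.instIsMonHom (F := Over.pullback ψ) _ _ u
  have hsnd : ub.left ≫ pullback.snd H.hom ψ = pullback.snd G.hom ψ := by
    simp only [ub, CategoryTheory.Over.pullback_map_left]
    exact pullback.lift_snd _ _ _
  have hfst : ub.left ≫ pullback.fst H.hom ψ = pullback.fst G.hom ψ ≫ u.left := by
    simp only [ub, CategoryTheory.Over.pullback_map_left]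
    exact pullback.lift_fst _ _ _
  have hbig : IsPullback (ub.left ≫ pullback.snd H.hom ψ) (pullback.fst G.hom ψ) ψ
      (u.left ≫ H.hom) := by
    rw [hsnd, CategoryTheory.Over.w u]
    exact (IsPullback.of_hasPullback G.hom ψ).flip
  have hsq : IsPullback ub.left (pullback.fst G.hom ψ) (pullback.fst H.hom ψ) u.left :=
    IsPullback.of_right hbig hfst (IsPullback.of_hasPullback H.hom ψ).flip
  have hrange : Set.range ub.left = (pullback.fst H.hom ψ) ⁻¹' Set.range u.left := by
    have := Scheme.image_preimage_eq_of_isPullback hsq.flip Set.univ
    rw [Set.preimage_univ, Set.image_univ, Set.image_univ] at this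
    exact this
  have hopen : IsOpen (Set.range ub.left) := by
    rw [hrange]
    exact hu.isOpen_range.preimage (pullback.fst H.hom ψ).continuous
  have hGb : LocallyOfFiniteType (Red.bc ψ G).hom :=
    inferInstanceAs (LocallyOfFiniteType (pullback.snd G.hom ψ))
  have hHb : LocallyOfFiniteType (Red.bc ψ H).hom :=
    inferInstanceAs (LocallyOfFiniteType (pullback.snd H.hom ψ))
  have hubo : UniversallyOpen ub.left :=
    universallyOpen_of_isOpen_range (AlgebraicClosure (IsLocalRing.ResidueField A))
      (Red.bc ψ G) (Red.bc ψ H) ub hopen
  exact universallyOpen_of_isPullback_surjective hsq.flip hubo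

end artin

end Groth.Agent.H38.UnivOpenGrp
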